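import Mathlib
import Groth.Agent.Lib.Helper1.HFlat9
import Groth.Agent.Lib.Lead.Flat3

/-!
# Incomparability for the henselization, and ascent of `(S_k)` along flat maps with
zero-dimensional fibres
-/

set_option autoImplicit false
set_option linter.style.haveILetI false
universe u
open IsLocalRing LocCoh

namespace Groth.Agent.Helper4.HensINC

/-- Incomparability for a ring homomorphism: two comparable primes with the same contraction
are equal. -/
def INC {A B : Type*} [CommRing A] [CommRing B] (f : A →+* B) : Prop :=
  ∀ (q q' : Ideal B) [q.IsPrime] [q'.IsPrime], q' ≤ q → q'.comap f = q.comap f → q' = q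

theorem INC.id (A : Type*) [CommRing A] : INC (RingHom.id A) := by
  intro q q' _ _ _ h
  simpa using h

theorem INC.comp {A B C : Type*} [CommRing A] [CommRing B] [CommRing C] {f : A →+* B}
    {g : B →+* C} (hf : INC f) (hg : INC g) : INC (g.comp f) := by
  intro q q' _ _ hle h
  rw [← Ideal.comap_comap, ← Ideal.comap_comap] at h
  exact hg q q' hle (hf (q.comap g) (q'.comap g) (Ideal.comap_mono hle) h)

theorem INC.of_isIntegral (A B : Type*) [CommRing A] [CommRing B] [Algebra A B]
    [Algebra.IsIntegral A B] : INC (algebraMap A B) := by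
  intro q q' _ _ hle h
  by_contra hne
  have hlt : q' < q := lt_of_le_of_ne hle hne
  obtain ⟨x, hxq, hxq'⟩ := Set.exists_of_ssubset hlt
  have := Ideal.comap_lt_comap_of_integral_mem_sdiff hle ⟨hxq, hxq'⟩
    (Algebra.IsIntegral.isIntegral (R := A) x)
  rw [h] at this
  exact lt_irrefl _ this

theorem INC.of_isLocalization {A : Type*} [CommRing A] (M : Submonoid A) (B : Type*)
    [CommRing B] [Algebra A B] [IsLocalization M B] : INC (algebraMap A B) := by
  intro q q' _ _ _ h
  have h' : Ideal.under A q' = Ideal.under A q := h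
  rw [← IsLocalization.map_comap M B q, ← IsLocalization.map_comap M B q', h']

open Groth.Agent.Helper1.HFlat in
theorem INC.dnext {B : Type u} [CommRing B] [IsLocalRing B] {Λ : Type u} (d : Λ → HData B) :
    INC (A := B) (B := DNext d) (algebraMap B (DNext d)) := by
  have h1 : INC (algebraMap B (Q (dpoly d))) := by
    haveI := isIntegral_Q (dpoly d) (dpoly_monic d)
    exact INC.of_isIntegral _ _
  have h2 : INC (A := Q (dpoly d)) (B := DNext d) (algebraMap (Q (dpoly d)) (DNext d)) :=
    INC.of_isLocalization (RingHom.ker (dφ d)).primeCompl _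
  have := h1.comp h2
  rwa [← IsScalarTower.algebraMap_eq] at this

section Good

open Groth.Agent.Helper1.HFlat

variable {R S : Type u} [CommRing R] [IsLocalRing R] [CommRing S] [HenselianLocalRing S]
  {ψ : R →+* S}

theorem GoodMap.exists_INC {E : LocRing.{u}} {φ : E.A →+* S} (hg : GoodMap ψ E φ) :
    ∃ ι : R →+* E.A, φ.comp ι = ψ ∧ INC ι := by
  induction hg with
  | base => exact ⟨RingHom.id R, RingHom.comp_id _, INC.id R⟩
  | step E φ δ h ih =>
    obtain ⟨ι, hι, hinc⟩ := ih
    refine ⟨(algebraMap E.A (Ext1 δ)).comp ι, ?_, hinc.comp (INC.dnext _)⟩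
    rw [← hι]
    ext r
    exact liftDNext_algebraMap _ φ (ι r)

theorem INC.of_isHensHom (hψ : IsHensHom ψ) : INC ψ := by
  intro q q' _ _ hle h
  haveI := hψ.isLocalHom
  refine le_antisymm hle fun x hx => ?_
  obtain ⟨E, φ, hg, e, rfl⟩ := exists_good hψ x
  obtain ⟨ι, hι, hinc⟩ := GoodMap.exists_INC hg
  have h' : (q'.comap φ).comap ι = (q.comap φ).comap ι := by
    rw [Ideal.comap_comap, Ideal.comap_comap, hι, h]
  have := hinc (q.comap φ) (q'.comap φ) (Ideal.comap_mono hle) h'
  have he : e ∈ q.comap φ := hx
  rw [← this] at he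
  exact he

end Good

theorem INC.of_isHenselization (R S : Type u) [CommRing R] [IsLocalRing R] [CommRing S]
    [IsLocalRing S] [Algebra R S] [IsLocalHom (algebraMap R S)] [Hensel.IsHenselization R S] :
    INC (algebraMap R S) := by
  haveI hS : HenselianLocalRing S := Hensel.IsHenselization.henselian (R := R)
  exact INC.of_isHensHom (Groth.Agent.Helper1.HFlat.IsHensHom.of_isHenselization R S)

theorem INC.mem_minimalPrimes {A B : Type*} [CommRing A] [CommRing B] {f : A →+* B}
    (hf : INC f) (q : Ideal B) [q.IsPrime] : q ∈ ((q.comap f).map f).minimalPrimes := by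
  refine ⟨⟨inferInstance, Ideal.map_comap_le⟩, fun q' ⟨hq', hle⟩ hq'q => ?_⟩
  haveI := hq'
  have h1 : q.comap f ≤ q'.comap f := Ideal.map_le_iff_le_comap.mp hle
  have h2 : q'.comap f ≤ q.comap f := Ideal.comap_mono hq'q
  exact (hf q q' hq'q (le_antisymm h2 h1)).ge

open Groth.Agent.Lead.Depth in
/-- Ascent of `(S_k)` along a flat map with incomparability (zero-dimensional fibres). -/
theorem hasSk_of_flat_of_INC (R : Type u) [CommRing R] (S : Type u) [CommRing S] [Algebra R S]
    [Module.Flat R S] [IsNoetherianRing R] [IsNoetherianRing S] (hinc : INC (algebraMap R S))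
    (k : ℕ) (hR : LocCoh.HasSk k R R) : LocCoh.HasSk k S S := by
  rw [hasSk_self_iff] at hR ⊢
  intro q hq
  set p := q.comap (algebraMap R S) with hp
  have hqmin := hinc.mem_minimalPrimes q
  have hflat : (algebraMap R S).Flat := RingHom.flat_algebraMap_iff.mpr inferInstance
  have h1 := hflat.localRingHom q p hp
  haveI := Localization.isLocalHom_localRingHom p q (algebraMap R S) hp
  have hmin : maximalIdeal (Localization.AtPrime q) ∈
      (Ideal.map (Localization.localRingHom p q (algebraMap R S) hp)
        (maximalIdeal (Localization.AtPrime p))).minimalPrimes := by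
    rw [← Localization.AtPrime.map_eq_maximalIdeal, Ideal.map_map]
    have hcomp : (Localization.localRingHom p q (algebraMap R S) hp).comp
        (algebraMap R (Localization.AtPrime p)) =
        (algebraMap S (Localization.AtPrime q)).comp (algebraMap R S) := by
      ext x
      simp
    rw [hcomp, ← Ideal.map_map, IsLocalization.minimalPrimes_map q.primeCompl]
    rw [Set.mem_preimage, Localization.AtPrime.comap_maximalIdeal]
    exact hqmin
  obtain ⟨hdepth, hdim⟩ := depth_and_dim_eq_of_flat_ringHom (Localization.AtPrime p)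
    (Localization.AtPrime q) _ h1 hmin
  rw [hdepth, hdim]
  exact hR p

end Groth.Agent.Helper4.HensINC
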