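import Mathlib
import Groth.Agent.Lib.Helper4.HensINC
import Groth.Agent.Lib.Helper14.EtaleReg

/-!
# The henselization is unramified at every prime; ascent/descent of `(R_k)`
-/

set_option autoImplicit false
set_option linter.style.haveILetI false
universe u
open IsLocalRing LocCoh

namespace Groth.Agent.Helper4.HensINC

/-- Elementwise form of "`f` is unramified at every prime (ignoring residue fields)":
`q B_q = (q ∩ A) B_q` for every prime `q` of `B`. -/
def UNR {A B : Type*} [CommRing A] [CommRing B] (f : A →+* B) : Prop :=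
  ∀ (q : Ideal B) [q.IsPrime], ∀ x ∈ q, ∃ t, t ∉ q ∧ t * x ∈ (q.comap f).map f

theorem UNR.id (A : Type*) [CommRing A] : UNR (RingHom.id A) := by
  intro q _ x hx
  exact ⟨1, (Ideal.ne_top_iff_one q).mp (Ideal.IsPrime.ne_top'), by simpa using hx⟩

theorem UNR.comp {A B C : Type*} [CommRing A] [CommRing B] [CommRing C] {f : A →+* B}
    {g : B →+* C} (hf : UNR f) (hg : UNR g) : UNR (g.comp f) := by
  intro r _ x hx
  obtain ⟨t, ht, htx⟩ := hg r x hx
  have key : ∀ z ∈ (r.comap g).map g, ∃ u, u ∉ r ∧
      u * z ∈ (r.comap (g.comp f)).map (g.comp f) := by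
    intro z hz
    unfold Ideal.map at hz
    induction hz using Submodule.span_induction with
    | mem z hz =>
      obtain ⟨y, hy, rfl⟩ := hz
      obtain ⟨s, hs, hsy⟩ := hf (r.comap g) y hy
      refine ⟨g s, hs, ?_⟩
      rw [← map_mul, ← Ideal.map_map, ← Ideal.comap_comap]
      exact Ideal.mem_map_of_mem g hsy
    | zero => exact ⟨1, (Ideal.ne_top_iff_one r).mp (Ideal.IsPrime.ne_top'), by simp⟩
    | add z w _ _ hz hw =>
      obtain ⟨u, hu, huz⟩ := hz
      obtain ⟨v, hv, hvw⟩ := hw
      refine ⟨u * v, fun h => (Ideal.IsPrime.mem_or_mem ‹_› h).elim hu hv, ?_⟩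
      have : u * v * (z + w) = v * (u * z) + u * (v * w) := by ring
      rw [this]
      exact Ideal.add_mem _ (Ideal.mul_mem_left _ _ huz) (Ideal.mul_mem_left _ _ hvw)
    | smul c z _ hz =>
      obtain ⟨u, hu, huz⟩ := hz
      refine ⟨u, hu, ?_⟩
      have : u * (c • z) = c * (u * z) := by rw [smul_eq_mul]; ring
      rw [this]
      exact Ideal.mul_mem_left _ _ huz
  obtain ⟨u, hu, huz⟩ := key _ htx
  refine ⟨u * t, fun h => (Ideal.IsPrime.mem_or_mem ‹_› h).elim hu ht, ?_⟩
  rw [mul_assoc]
  exact huz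

/-- If `A → B` is essentially of finite type and formally unramified, it is `UNR`. -/
theorem UNR.of_formallyUnramified (A B : Type u) [CommRing A] [CommRing B] [Algebra A B]
    [Algebra.EssFiniteType A B] [Algebra.FormallyUnramified A B] : UNR (algebraMap A B) := by
  intro q _ x hx
  set p := q.comap (algebraMap A B) with hp
  haveI : q.LiesOver p := ⟨rfl⟩
  letI : Algebra (Localization.AtPrime p) (Localization.AtPrime q) :=
    Localization.AtPrime.algebraOfLiesOver p q
  haveI : Algebra.IsUnramifiedAt A q :=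
    Algebra.FormallyUnramified.comp A B (Localization.AtPrime q)
  have hmap := ((Algebra.isUnramifiedAt_iff_map_eq A p q).mp inferInstance).2
  have hx' : algebraMap B (Localization.AtPrime q) x ∈
      (p.map (algebraMap A B)).map (algebraMap B (Localization.AtPrime q)) := by
    rw [Ideal.map_map, ← IsScalarTower.algebraMap_eq, hmap]
    exact (IsLocalization.AtPrime.to_map_mem_maximal_iff _ q x).mpr hx
  obtain ⟨m, hm, hmx⟩ :=
    (IsLocalization.algebraMap_mem_map_algebraMap_iff q.primeCompl _ _ x).mp hx'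
  exact ⟨m, hm, hmx⟩

section Generic

open Polynomial

theorem isUnit_aeval_of_sub_mem {B T : Type*} [CommRing B] [CommRing T] [IsLocalRing T]
    [Algebra B T] (P : B[X]) (r : T) (a : B) (hr : r - algebraMap B T a ∈ maximalIdeal T)
    (hu : IsUnit (P.eval a)) : IsUnit (aeval r P) := by
  have h1 : IsUnit (algebraMap B T (P.eval a)) := hu.map _
  have h2 : aeval r P - algebraMap B T (P.eval a) ∈ maximalIdeal T := by
    have e1 : aeval r P = (P.map (algebraMap B T)).eval r := by
      rw [eval_map_algebraMap]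
    have e2 : algebraMap B T (P.eval a) = (P.map (algebraMap B T)).eval (algebraMap B T a) := by
      rw [eval_map_algebraMap, aeval_algebraMap_apply]
      rfl
    rw [e1, e2]
    exact Ideal.mem_of_dvd _ (sub_dvd_eval_sub _ _ _) hr
  by_contra hnu
  have h3 : aeval r P ∈ maximalIdeal T := (IsLocalRing.mem_maximalIdeal _).mpr hnu
  have h4 := Ideal.sub_mem _ h3 h2
  rw [sub_sub_cancel] at h4
  exact (IsLocalRing.mem_maximalIdeal _).mp h4 h1

theorem formallyUnramified_of_roots (B Q T : Type*) [CommRing B] [CommRing Q] [CommRing T]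
    [Algebra B Q] [Algebra Q T] [Algebra B T] [IsScalarTower B Q T] (M : Submonoid Q)
    [IsLocalization M T] (s : Set Q) (hs : Algebra.adjoin B s = ⊤)
    (h : ∀ x ∈ s, ∃ P : B[X], aeval x P = 0 ∧
      IsUnit (aeval (algebraMap Q T x) (derivative P))) :
    Algebra.FormallyUnramified B T := by
  refine ⟨?_⟩
  have hroot : ∀ x ∈ s, KaehlerDifferential.D B T (algebraMap Q T x) = 0 := by
    intro x hx
    obtain ⟨P, h0, hu⟩ := h x hx
    have h0' : aeval (algebraMap Q T x) P = 0 := by
      rw [aeval_algebraMap_apply, h0, map_zero]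
    have h1 := Derivation.map_aeval (KaehlerDifferential.D B T) P (algebraMap Q T x)
    rw [h0', map_zero] at h1
    exact hu.smul_eq_zero.mp h1.symm
  let D1 : Derivation B Q (Ω[T⁄B]) := (KaehlerDifferential.D B T).compAlgebraMap Q
  have hD1 : ∀ x, D1 x = 0 := by
    intro x
    have hx : x ∈ Algebra.adjoin B s := by
      rw [hs]; trivial
    have := Derivation.eqOn_adjoin (D1 := D1) (D2 := 0) (s := s) (by
      intro y hy
      exact hroot y hy) hx
    simpa using this
  have hspan := KaehlerDifferential.span_range_map_derivation_of_isLocalization B Q T M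
  have hzero : Set.range (KaehlerDifferential.map B B Q T ∘ KaehlerDifferential.D B Q) ⊆ {0} := by
    rintro _ ⟨x, rfl⟩
    simp only [Function.comp_apply, KaehlerDifferential.map_D, Set.mem_singleton_iff]
    exact hD1 x
  have htop : (⊤ : Submodule T (Ω[T⁄B])) = ⊥ := by
    rw [← hspan, Submodule.span_eq_bot]
    intro x hx
    exact hzero hx
  exact (Submodule.subsingleton_iff T).mp (subsingleton_of_bot_eq_top htop.symm)

end Generic

section OneStep

open Groth.Agent.Helper1.HFlat Polynomial

variable {B : Type u} [CommRing B] [IsLocalRing B] {Λ : Type u} (d : Λ → HData B)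

theorem adjoin_range_qX : Algebra.adjoin B (Set.range (qX (dpoly d))) = ⊤ := by
  have h := MvPolynomial.adjoin_range_X (R := B) (σ := Λ)
  have hsurj : Function.Surjective (Ideal.Quotient.mkₐ B (relIdeal (dpoly d))) :=
    Ideal.Quotient.mkₐ_surjective _ _
  have := congrArg (Subalgebra.map (Ideal.Quotient.mkₐ B (relIdeal (dpoly d)))) h
  rw [Algebra.map_top, (AlgHom.range_eq_top _).mpr hsurj, AlgHom.map_adjoin,
    ← Set.range_comp] at this
  exact this

theorem formallyUnramified_DNext : Algebra.FormallyUnramified B (DNext d) := by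
  refine formallyUnramified_of_roots B (Q (dpoly d)) (DNext d)
    (RingHom.ker (dφ d)).primeCompl (Set.range (qX (dpoly d))) (adjoin_range_qX d) ?_
  rintro _ ⟨l, rfl⟩
  refine ⟨dpoly d l, aeval_qX _ l, ?_⟩
  exact isUnit_aeval_of_sub_mem (T := DNext d) _ _ (dapx d l) (droot_sub_mem d l) ((d l).2.2.2)

theorem UNR.ext1 (δ : HData B) : UNR (A := B) (B := Ext1 δ) (algebraMap B (Ext1 δ)) := by
  haveI : Algebra.FiniteType B (Q (dpoly (fun _ : PUnit.{u + 1} => δ))) :=
    Algebra.FiniteType.of_surjective (Ideal.Quotient.mkₐ B _)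
      (Ideal.Quotient.mkₐ_surjective _ _)
  haveI : Algebra.EssFiniteType (Q (dpoly (fun _ : PUnit.{u + 1} => δ))) (Ext1 δ) :=
    Algebra.EssFiniteType.of_isLocalization _
      (RingHom.ker (dφ (fun _ : PUnit.{u + 1} => δ))).primeCompl
  haveI : Algebra.EssFiniteType B (Ext1 δ) :=
    Algebra.EssFiniteType.comp B (Q (dpoly (fun _ : PUnit.{u + 1} => δ))) (Ext1 δ)
  haveI : Algebra.FormallyUnramified B (Ext1 δ) := formallyUnramified_DNext _
  exact UNR.of_formallyUnramified B (Ext1 δ)

end OneStep

section Good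

open Groth.Agent.Helper1.HFlat

variable {R S : Type u} [CommRing R] [IsLocalRing R] [CommRing S] [HenselianLocalRing S]
  {ψ : R →+* S}

theorem GoodMap.exists_UNR {E : LocRing.{u}} {φ : E.A →+* S} (hg : GoodMap ψ E φ) :
    ∃ ι : R →+* E.A, φ.comp ι = ψ ∧ UNR ι := by
  induction hg with
  | base => exact ⟨RingHom.id R, RingHom.comp_id _, UNR.id R⟩
  | step E φ δ h ih =>
    obtain ⟨ι, hι, hunr⟩ := ih
    refine ⟨(algebraMap E.A (Ext1 δ)).comp ι, ?_, hunr.comp (UNR.ext1 _)⟩
    rw [← hι]
    ext r
    exact liftDNext_algebraMap _ φ (ι r)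

theorem UNR.of_isHensHom (hψ : IsHensHom ψ) : UNR ψ := by
  intro q _ x hx
  haveI := hψ.isLocalHom
  obtain ⟨E, φ, hg, e, rfl⟩ := exists_good hψ x
  obtain ⟨ι, hι, hunr⟩ := GoodMap.exists_UNR hg
  obtain ⟨t, ht, hte⟩ := hunr (q.comap φ) e hx
  refine ⟨φ t, ht, ?_⟩
  rw [← map_mul]
  have := Ideal.mem_map_of_mem φ hte
  rwa [Ideal.map_map, Ideal.comap_comap, hι] at this

end Good

theorem UNR.of_isHenselization (R S : Type u) [CommRing R] [IsLocalRing R] [CommRing S]
    [IsLocalRing S] [Algebra R S] [IsLocalHom (algebraMap R S)] [Hensel.IsHenselization R S] :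
    UNR (algebraMap R S) := by
  haveI hS : HenselianLocalRing S := Hensel.IsHenselization.henselian (R := R)
  exact UNR.of_isHensHom (Groth.Agent.Helper1.HFlat.IsHensHom.of_isHenselization R S)

end Groth.Agent.Helper4.HensINC
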