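import Mathlib
import Groth.Agent.Lib.Helper4.HensUNR
import Groth.Agent.Lib.Lead.Hom14

/-!
# Ascent/descent of `(R_k)` along flat maps with zero-dimensional unramified fibres
-/

set_option autoImplicit false
set_option linter.style.haveILetI false
universe u
open IsLocalRing LocCoh

namespace Groth.Agent.Helper4.HensINC

open Groth.Agent.Lead.Depth

section

variable (R : Type u) [CommRing R] (S : Type u) [CommRing S] [Algebra R S]
  (q : Ideal S) [q.IsPrime] (p : Ideal R) [p.IsPrime] (hp : p = q.comap (algebraMap R S))

include hp in
theorem maximalIdeal_mem_minimalPrimes_localRingHom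
    (hq : q ∈ (p.map (algebraMap R S)).minimalPrimes) :
    maximalIdeal (Localization.AtPrime q) ∈
      (Ideal.map (Localization.localRingHom p q (algebraMap R S) hp)
        (maximalIdeal (Localization.AtPrime p))).minimalPrimes := by
  rw [← Localization.AtPrime.map_eq_maximalIdeal, Ideal.map_map]
  have hcomp : (Localization.localRingHom p q (algebraMap R S) hp).comp
      (algebraMap R (Localization.AtPrime p)) =
      (algebraMap S (Localization.AtPrime q)).comp (algebraMap R S) := by
    ext x
    simp
  rw [hcomp, ← Ideal.map_map, IsLocalization.minimalPrimes_map q.primeCompl]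
  rw [Set.mem_preimage, Localization.AtPrime.comap_maximalIdeal]
  exact hq

include hp in
theorem height_eq_of_mem_minimalPrimes [Module.Flat R S] [IsNoetherianRing R]
    [IsNoetherianRing S] (hq : q ∈ (p.map (algebraMap R S)).minimalPrimes) :
    q.height = p.height := by
  have hflat : (algebraMap R S).Flat := RingHom.flat_algebraMap_iff.mpr inferInstance
  have h1 := hflat.localRingHom q p hp
  haveI := Localization.isLocalHom_localRingHom p q (algebraMap R S) hp
  obtain ⟨-, hdim⟩ := depth_and_dim_eq_of_flat_ringHom (Localization.AtPrime p)
    (Localization.AtPrime q) _ h1 (maximalIdeal_mem_minimalPrimes_localRingHom R S q p hp hq)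
  rw [IsLocalization.AtPrime.ringKrullDim_eq_height q,
    IsLocalization.AtPrime.ringKrullDim_eq_height p] at hdim
  exact_mod_cast hdim

include hp in
theorem map_maximalIdeal_localRingHom_of_UNR (hunr : UNR (algebraMap R S)) :
    (maximalIdeal (Localization.AtPrime p)).map
      (Localization.localRingHom p q (algebraMap R S) hp) =
      maximalIdeal (Localization.AtPrime q) := by
  haveI := Localization.isLocalHom_localRingHom p q (algebraMap R S) hp
  apply le_antisymm
  · exact ((IsLocalRing.local_hom_TFAE
      (Localization.localRingHom p q (algebraMap R S) hp)).out 0 2).mp ‹_›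
  · rw [← Localization.AtPrime.map_eq_maximalIdeal (I := q), Ideal.map_le_iff_le_comap]
    intro x hx
    obtain ⟨t, ht, htx⟩ := hunr q x hx
    rw [Ideal.mem_comap]
    have hunit : IsUnit (algebraMap S (Localization.AtPrime q) t) :=
      IsLocalization.map_units (Localization.AtPrime q) (⟨t, ht⟩ : q.primeCompl)
    rw [← Ideal.unit_mul_mem_iff_mem _ hunit, ← map_mul]
    have hcomp : (Localization.localRingHom p q (algebraMap R S) hp).comp
        (algebraMap R (Localization.AtPrime p)) =
        (algebraMap S (Localization.AtPrime q)).comp (algebraMap R S) := by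
      ext x
      simp
    rw [← Localization.AtPrime.map_eq_maximalIdeal (I := p), Ideal.map_map, hcomp,
      ← Ideal.map_map]
    rw [← hp] at htx
    exact Ideal.mem_map_of_mem _ htx

include hp in
theorem isRegularLocalRing_atPrime_of_UNR [Module.Flat R S] [IsNoetherianRing R]
    [IsNoetherianRing S] (hunr : UNR (algebraMap R S))
    [IsRegularLocalRing (Localization.AtPrime p)] :
    IsRegularLocalRing (Localization.AtPrime q) := by
  have hflat : (algebraMap R S).Flat := RingHom.flat_algebraMap_iff.mpr inferInstance
  have h1 := hflat.localRingHom q p hp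
  have hloc := Localization.isLocalHom_localRingHom p q (algebraMap R S) hp
  letI : Algebra (Localization.AtPrime p) (Localization.AtPrime q) :=
    (Localization.localRingHom p q (algebraMap R S) hp).toAlgebra
  haveI : IsLocalHom (algebraMap (Localization.AtPrime p) (Localization.AtPrime q)) := hloc
  haveI : Module.Flat (Localization.AtPrime p) (Localization.AtPrime q) := h1
  apply Groth.Agent.Helper14.RegAscent.isRegularLocalRing_of_flat_of_fibre
    (Localization.AtPrime p) (Localization.AtPrime q)
  have hmap : (maximalIdeal (Localization.AtPrime p)).map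
      (algebraMap (Localization.AtPrime p) (Localization.AtPrime q)) =
      maximalIdeal (Localization.AtPrime q) :=
    map_maximalIdeal_localRingHom_of_UNR R S q p hp hunr
  rw [hmap]
  change IsRegularLocalRing (ResidueField (Localization.AtPrime q))
  infer_instance

end

/-- `(R_k)` ascends along a flat map with incomparability and unramified local rings. -/
theorem hasRk_of_flat_of_INC_of_UNR (R : Type u) [CommRing R] (S : Type u) [CommRing S]
    [Algebra R S] [Module.Flat R S] [IsNoetherianRing R] [IsNoetherianRing S]
    (hinc : INC (algebraMap R S)) (hunr : UNR (algebraMap R S)) (k : ℕ)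
    (hR : LocCoh.HasRk k R) : LocCoh.HasRk k S := by
  intro q hq hk
  have hh := height_eq_of_mem_minimalPrimes R S q (q.comap (algebraMap R S)) rfl
    (hinc.mem_minimalPrimes q)
  haveI := hR (q.comap (algebraMap R S)) (hh ▸ hk)
  exact isRegularLocalRing_atPrime_of_UNR R S q (q.comap (algebraMap R S)) rfl hunr

/-- `(R_k)` descends along a faithfully flat map of Noetherian rings. -/
theorem hasRk_of_faithfullyFlat (R : Type u) [CommRing R] (S : Type u) [CommRing S]
    [Algebra R S] [Module.FaithfullyFlat R S] [IsNoetherianRing R] [IsNoetherianRing S] (k : ℕ)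
    (hS : LocCoh.HasRk k S) : LocCoh.HasRk k R := by
  intro p hp hk
  obtain ⟨q, hq, hqp⟩ := exists_minimalPrimes_comap_eq R S p
  haveI : q.IsPrime := hq.1.1
  have hh := height_eq_of_mem_minimalPrimes R S q p hqp.symm hq
  haveI := hS q (hh ▸ hk)
  have hflat : (algebraMap R S).Flat := RingHom.flat_algebraMap_iff.mpr inferInstance
  have h1 := hflat.localRingHom q p hqp.symm
  haveI := Localization.isLocalHom_localRingHom p q (algebraMap R S) hqp.symm
  exact Groth.Agent.Lead.Hom.isRegularLocalRing_of_flat_ringHom (Localization.AtPrime p)
    (Localization.AtPrime q) _ h1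

end Groth.Agent.Helper4.HensINC
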