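import Mathlib

/-!
# Support of a base change of a finite module
-/

set_option autoImplicit false
universe u
open TensorProduct

namespace Groth.Agent.Helper4.SuppBC

theorem nontrivial_tensor_field_iff {A : Type*} [CommRing A] {M : Type*} [AddCommGroup M]
    [Module A M] [Module.Finite A M] (L : Type*) [Field L] [Algebra A L] (p : PrimeSpectrum A)
    (hp : p.asIdeal = RingHom.ker (algebraMap A L)) :
    Nontrivial (L ⊗[A] M) ↔ p ∈ Module.support A M := by
  rw [Module.mem_support_iff_nontrivial_residueField_tensorProduct]
  have hunit : p.asIdeal.primeCompl ≤ (IsUnit.submonoid L).comap (algebraMap A L) := by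
    intro x hx
    show IsUnit (algebraMap A L x)
    rw [isUnit_iff_ne_zero, Ne, ← RingHom.mem_ker, ← hp]
    exact hx
  let f : p.asIdeal.ResidueField →+* L :=
    Ideal.ResidueField.lift p.asIdeal (algebraMap A L) hp.le hunit
  letI : Algebra p.asIdeal.ResidueField L := f.toAlgebra
  haveI : IsScalarTower A p.asIdeal.ResidueField L := IsScalarTower.of_algebraMap_eq (fun x =>
    (Ideal.ResidueField.lift_algebraMap p.asIdeal (algebraMap A L) hp.le hunit x).symm)
  let e := AlgebraTensorModule.cancelBaseChange A p.asIdeal.ResidueField L L M
  rw [← e.nontrivial_congr]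
  exact Module.FaithfullyFlat.nontrivial_tensorProduct_iff_right _ _

theorem support_baseChange (A B M : Type*) [CommRing A] [CommRing B] [Algebra A B]
    [AddCommGroup M] [Module A M] [Module.Finite A M] :
    Module.support B (B ⊗[A] M) =
      PrimeSpectrum.comap (algebraMap A B) ⁻¹' Module.support A M := by
  ext q
  rw [Module.mem_support_iff_nontrivial_residueField_tensorProduct, Set.mem_preimage]
  let e := AlgebraTensorModule.cancelBaseChange A B q.asIdeal.ResidueField
    q.asIdeal.ResidueField M
  rw [e.nontrivial_congr]
  apply nontrivial_tensor_field_iff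
  rw [IsScalarTower.algebraMap_eq A B q.asIdeal.ResidueField, ← RingHom.comap_ker,
    Ideal.ker_algebraMap_residueField]
  rfl

theorem support_baseChange_eq_univ (A B M : Type*) [CommRing A] [CommRing B] [Algebra A B]
    [AddCommGroup M] [Module A M] [Module.Finite A M] (h : Module.support A M = Set.univ) :
    Module.support B (B ⊗[A] M) = Set.univ := by
  rw [support_baseChange, h, Set.preimage_univ]

theorem supportDim_eq_ringKrullDim_of_support_eq_univ (A M : Type*) [CommRing A]
    [AddCommGroup M] [Module A M] (h : Module.support A M = Set.univ) :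
    Module.supportDim A M = ringKrullDim A := by
  rw [Module.supportDim, ringKrullDim, h]
  exact Order.krullDim_eq_of_orderIso OrderIso.Set.univ

end Groth.Agent.Helper4.SuppBC
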