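import Mathlib
import Groth.Prelude.Def_EGA4b

/-!
# The (R_n) locus: characterisation through primes of the base ring, and openness criteria
-/

set_option autoImplicit false

universe u

namespace Groth.Agent.Helper4.RkLocus

variable {A : Type u} [CommRing A]

lemma isRegular_congr {q q' : Ideal A} [q.IsPrime] [q'.IsPrime] (h : q = q')
    (hr : IsRegularLocalRing (Localization.AtPrime q)) :
    IsRegularLocalRing (Localization.AtPrime q') := by
  subst h; exact hr

/-- `(R_n)` at `p` means: `A_q` is regular for every prime `q ⊆ p` of height `≤ n`. -/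
theorem hasRkAt_iff (n : ℕ) (p : Ideal A) [p.IsPrime] :
    EGA4.HasRkAt n A p ↔ ∀ (q : Ideal A) [q.IsPrime], q ≤ p → q.height ≤ n →
      IsRegularLocalRing (Localization.AtPrime q) := by
  constructor
  · intro h q _ hqp hht
    have hdisj : Disjoint (p.primeCompl : Set A) (q : Set A) := by
      rw [Set.disjoint_left]
      intro x hx hxq
      exact hx (hqp hxq)
    haveI hP : (q.map (algebraMap A (Localization.AtPrime p))).IsPrime :=
      IsLocalization.isPrime_of_isPrime_disjoint p.primeCompl _ q ‹_› hdisj
    have hcomap : (q.map (algebraMap A (Localization.AtPrime p))).comap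
        (algebraMap A (Localization.AtPrime p)) = q :=
      IsLocalization.under_map_of_isPrime_disjoint p.primeCompl _ ‹_› hdisj
    have hheight : (q.map (algebraMap A (Localization.AtPrime p))).height = q.height :=
      IsLocalization.height_map_of_disjoint p.primeCompl q hdisj
    haveI hreg : IsRegularLocalRing
        (Localization.AtPrime (q.map (algebraMap A (Localization.AtPrime p)))) :=
      h _ (by rw [hheight]; exact hht)
    have e := IsLocalization.localizationLocalizationAtPrimeIsoLocalization p.primeCompl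
      (q.map (algebraMap A (Localization.AtPrime p)))
    have hreg' := IsRegularLocalRing.of_ringEquiv e.symm.toRingEquiv
    exact isRegular_congr hcomap hreg'
  · intro h P _ hht
    have hprime := (IsLocalization.isPrime_iff_isPrime_disjoint p.primeCompl
      (Localization.AtPrime p) P).1 ‹_›
    haveI := hprime.1
    have hle : P.comap (algebraMap A (Localization.AtPrime p)) ≤ p := by
      intro x hx
      by_contra hxp
      exact Set.disjoint_left.1 hprime.2 hxp hx
    have hheight : (P.comap (algebraMap A (Localization.AtPrime p))).height = P.height :=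
      IsLocalization.height_under p.primeCompl P
    haveI hreg := h (P.comap (algebraMap A (Localization.AtPrime p))) hle
      (by rw [hheight]; exact hht)
    have e := IsLocalization.localizationLocalizationAtPrimeIsoLocalization p.primeCompl P
    exact IsRegularLocalRing.of_ringEquiv e.toRingEquiv

/-- If the failure of `(R_n)` at `p` is detected by a finite set of "bad" primes below `p`,
the `(R_n)` locus is open. -/
theorem isOpen_hasRkAt_of_finite (n : ℕ) (Bad : Set (PrimeSpectrum A)) (hfin : Bad.Finite)
    (hchar : ∀ p : PrimeSpectrum A, ¬ EGA4.HasRkAt n A p.asIdeal ↔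
      ∃ q ∈ Bad, q.asIdeal ≤ p.asIdeal) :
    IsOpen {p : PrimeSpectrum A | EGA4.HasRkAt n A p.asIdeal} := by
  rw [← isClosed_compl_iff]
  have hset : {p : PrimeSpectrum A | EGA4.HasRkAt n A p.asIdeal}ᶜ =
      ⋃ q ∈ Bad, PrimeSpectrum.zeroLocus (q.asIdeal : Set A) := by
    ext p
    simp only [Set.mem_compl_iff, Set.mem_setOf_eq, Set.mem_iUnion, PrimeSpectrum.mem_zeroLocus,
      exists_prop]
    rw [hchar p]
    rfl
  rw [hset]
  exact hfin.isClosed_biUnion fun q _ => PrimeSpectrum.isClosed_zeroLocus _

/-- The `(R_0)` locus of a Noetherian ring is open. -/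
theorem isOpen_hasRkAt_zero [IsNoetherianRing A] :
    IsOpen {p : PrimeSpectrum A | EGA4.HasRkAt 0 A p.asIdeal} := by
  refine isOpen_hasRkAt_of_finite 0
    {q | q.asIdeal ∈ minimalPrimes A ∧ ¬ IsRegularLocalRing (Localization.AtPrime q.asIdeal)}
    ?_ ?_
  · refine Set.Finite.subset ((minimalPrimes.finite_of_isNoetherianRing A).preimage
      (f := PrimeSpectrum.asIdeal) ?_) (fun q hq => hq.1)
    intro a _ b _ hab
    exact PrimeSpectrum.ext hab
  · intro p
    constructor
    · intro hnot
      by_contra hno
      apply hnot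
      rw [hasRkAt_iff]
      intro q _ hqp hht
      by_contra hnr
      refine hno ⟨⟨q, ‹_›⟩, ⟨?_, hnr⟩, hqp⟩
      exact Ideal.height_eq_zero_iff.1 (le_antisymm (by simpa using hht) bot_le)
    · rintro ⟨q, ⟨hmin, hnr⟩, hle⟩ h
      rw [hasRkAt_iff] at h
      exact hnr (h q.asIdeal hle (by rw [Ideal.height_eq_zero_iff.2 hmin]; exact bot_le))

/-- If the regular locus of a Noetherian ring is open, so is each `(R_n)` locus. -/
theorem isOpen_hasRkAt_of_isOpen_regLocus [IsNoetherianRing A] (h : IsOpen (EGA4.regLocus A))
    (n : ℕ) : IsOpen {p : PrimeSpectrum A | EGA4.HasRkAt n A p.asIdeal} := by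
  have hclosed : IsClosed (EGA4.regLocus A)ᶜ := isClosed_compl_iff.2 h
  set J := PrimeSpectrum.vanishingIdeal (EGA4.regLocus A)ᶜ with hJ
  have hzl : PrimeSpectrum.zeroLocus (J : Set A) = (EGA4.regLocus A)ᶜ := by
    rw [hJ, PrimeSpectrum.zeroLocus_vanishingIdeal_eq_closure, hclosed.closure_eq]
  refine isOpen_hasRkAt_of_finite n
    {q | q.asIdeal ∈ J.minimalPrimes ∧ q.asIdeal.height ≤ n} ?_ ?_
  · refine Set.Finite.subset ((Ideal.finite_minimalPrimes_of_isNoetherianRing A J).preimage
      (f := PrimeSpectrum.asIdeal) ?_) (fun q hq => hq.1)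
    intro a _ b _ hab
    exact PrimeSpectrum.ext hab
  · intro p
    constructor
    · intro hnot
      by_contra hno
      apply hnot
      rw [hasRkAt_iff]
      intro q _ hqp hht
      by_contra hnr
      have hqS : (⟨q, ‹_›⟩ : PrimeSpectrum A) ∈ PrimeSpectrum.zeroLocus (J : Set A) := by
        rw [hzl]; exact hnr
      rw [PrimeSpectrum.mem_zeroLocus] at hqS
      obtain ⟨q', hq'min, hq'le⟩ := Ideal.exists_minimalPrimes_le (show J ≤ q from hqS)
      exact hno ⟨⟨q', hq'min.1.1⟩, ⟨hq'min, (Ideal.height_mono hq'le).trans hht⟩, hq'le.trans hqp⟩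
    · rintro ⟨q, ⟨hmin, hht⟩, hle⟩ hrk
      rw [hasRkAt_iff] at hrk
      have hreg := hrk q.asIdeal hle hht
      have hqS : q ∈ PrimeSpectrum.zeroLocus (J : Set A) := by
        rw [PrimeSpectrum.mem_zeroLocus]; exact hmin.1.2
      rw [hzl] at hqS
      exact hqS hreg

end Groth.Agent.Helper4.RkLocus
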