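import Mathlib

set_option autoImplicit false
universe u v
open Topology TopologicalSpace Set

namespace Groth.Agent.Helper4.Constr

variable {X : Type u} [TopologicalSpace X]

/-- trace dichotomy on an irreducible subset. -/
theorem trace_dichotomy {Y : Set X} (hY : IsIrreducible Y) {E : Set X} (hE : IsConstructible E) :
    (∃ U : Set X, IsOpen U ∧ (U ∩ Y).Nonempty ∧ U ∩ Y ⊆ E) ∨
      (∃ U : Set X, IsOpen U ∧ (U ∩ Y).Nonempty ∧ U ∩ Y ⊆ Eᶜ) := by
  induction hE using IsConstructible.empty_union_induction with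
  | open_retrocompact W hWo hWc =>
    by_cases hne : (W ∩ Y).Nonempty
    · exact Or.inl ⟨W, hWo, hne, inter_subset_left⟩
    · refine Or.inr ⟨univ, isOpen_univ, by simpa using hY.nonempty, ?_⟩
      rintro y ⟨-, hyY⟩ hyW
      exact hne ⟨y, hyW, hyY⟩
  | union s hs t ht ihs iht =>
    rcases ihs with ⟨U, hU, hne, hsub⟩ | ⟨U, hU, hne, hsub⟩
    · exact Or.inl ⟨U, hU, hne, hsub.trans subset_union_left⟩
    · rcases iht with ⟨V, hV, hneV, hsubV⟩ | ⟨V, hV, hneV, hsubV⟩
      · exact Or.inl ⟨V, hV, hneV, hsubV.trans subset_union_right⟩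
      · refine Or.inr ⟨U ∩ V, hU.inter hV, ?_, ?_⟩
        · have := hY.isPreirreducible U V hU hV (by rwa [inter_comm]) (by rwa [inter_comm])
          rwa [inter_comm] at this
        · rintro y ⟨⟨hyU, hyV⟩, hyY⟩
          rw [compl_union]
          exact ⟨hsub ⟨hyU, hyY⟩, hsubV ⟨hyV, hyY⟩⟩
  | compl s hs ih =>
    rcases ih with h | h
    · right; rwa [compl_compl]
    · left; exact h

/-- if a nonempty relatively open part of `Y` misses `E`, the trace of `E` on irreducible `Y`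
is nowhere dense. -/
theorem nowhereDense_of_compl {Y : Set X} (hY : IsIrreducible Y) {E : Set X}
    (h : ∃ U : Set X, IsOpen U ∧ (U ∩ Y).Nonempty ∧ U ∩ Y ⊆ Eᶜ) :
    IsNowhereDense (Subtype.val ⁻¹' E : Set Y) := by
  obtain ⟨U, hU, ⟨y, hyU, hyY⟩, hsub⟩ := h
  have : PreirreducibleSpace Y := Subtype.preirreducibleSpace hY.isPreirreducible
  let V : Set Y := Subtype.val ⁻¹' U
  have hVo : IsOpen V := hU.preimage continuous_subtype_val
  have hVne : V.Nonempty := ⟨⟨y, hyY⟩, hyU⟩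
  have hdisj : (Subtype.val ⁻¹' E : Set Y) ⊆ Vᶜ := by
    intro z hzE hzV
    exact hsub ⟨hzV, z.2⟩ hzE
  have hcl : closure (Subtype.val ⁻¹' E : Set Y) ⊆ Vᶜ :=
    closure_minimal hdisj hVo.isClosed_compl
  unfold IsNowhereDense
  by_contra hne
  have hne' : (interior (closure (Subtype.val ⁻¹' E : Set Y))).Nonempty :=
    nonempty_iff_ne_empty.mpr hne
  obtain ⟨z, hz1, hz2⟩ := nonempty_preirreducible_inter isOpen_interior hVo hne' hVne
  exact hcl (interior_subset hz1) hz2

theorem dense_of_sub {Y : Set X} (hY : IsIrreducible Y) {E : Set X}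
    (h : ∃ U : Set X, IsOpen U ∧ (U ∩ Y).Nonempty ∧ U ∩ Y ⊆ E) :
    Dense (Subtype.val ⁻¹' E : Set Y) := by
  obtain ⟨U, hU, ⟨y, hyU, hyY⟩, hsub⟩ := h
  have : PreirreducibleSpace Y := Subtype.preirreducibleSpace hY.isPreirreducible
  let V : Set Y := Subtype.val ⁻¹' U
  have hVo : IsOpen V := hU.preimage continuous_subtype_val
  have hVne : V.Nonempty := ⟨⟨y, hyY⟩, hyU⟩
  exact (hVo.dense hVne).mono (fun z hz => hsub ⟨hz, z.2⟩)

theorem sub_of_dense {Y : Set X} (hY : IsIrreducible Y) {E : Set X} (hE : IsConstructible E)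
    (hd : Dense (Subtype.val ⁻¹' E : Set Y)) :
    ∃ U : Set X, IsOpen U ∧ (U ∩ Y).Nonempty ∧ U ∩ Y ⊆ E := by
  rcases trace_dichotomy hY hE with h | ⟨U, hU, ⟨y, hyU, hyY⟩, hsub⟩
  · exact h
  · exfalso
    let V : Set Y := Subtype.val ⁻¹' U
    have hVo : IsOpen V := hU.preimage continuous_subtype_val
    obtain ⟨z, hzV, hzE⟩ := hd.inter_open_nonempty V hVo ⟨⟨y, hyY⟩, hyU⟩
    exact hsub ⟨hzV, z.2⟩ hzE

theorem sub_of_subset_closure {Y : Set X} (hY : IsIrreducible Y) {E : Set X}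
    (hE : IsConstructible E) (hd : Y ⊆ closure (E ∩ Y)) :
    ∃ U : Set X, IsOpen U ∧ (U ∩ Y).Nonempty ∧ U ∩ Y ⊆ E := by
  rcases trace_dichotomy hY hE with h | ⟨U, hU, ⟨y, hyU, hyY⟩, hsub⟩
  · exact h
  · exfalso
    have := hd hyY
    rw [mem_closure_iff] at this
    obtain ⟨z, hzU, hzE, hzY⟩ := this U hU hyU
    exact hsub ⟨hzU, hzY⟩ hzE

/-- dense and nowhere dense is impossible in a nonempty space -/
theorem not_dense_of_nowhereDense {Z : Type u} [TopologicalSpace Z] [Nonempty Z] {s : Set Z}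
    (h1 : IsNowhereDense s) (h2 : Dense s) : False := by
  unfold IsNowhereDense at h1
  rw [h2.closure_eq, interior_univ] at h1
  exact (univ_nonempty (α := Z)).ne_empty h1

section Noeth
variable [NoetherianSpace X]

theorem isConstructible_of_isOpen {U : Set X} (hU : IsOpen U) : IsConstructible U :=
  IsRetrocompact.isConstructible hU (fun _ _ _ => NoetherianSpace.isCompact _)

theorem isConstructible_of_isClosed {Z : Set X} (hZ : IsClosed Z) : IsConstructible Z := by
  rw [← compl_compl Z]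
  exact (isConstructible_of_isOpen hZ.isOpen_compl).compl

/-- Noetherian induction on closed sets. -/
theorem noeth_induction (Q : Set X → Prop)
    (hirr : ∀ Z, IsClosed Z → IsIrreducible Z → (∀ Z', IsClosed Z' → Z' ⊂ Z → Q Z') → Q Z)
    (hred : ∀ S : Set (Set X), S.Finite → (∀ t ∈ S, IsClosed t) → (∀ t ∈ S, Q t) → Q (⋃₀ S)) :
    ∀ Z, IsClosed Z → Q Z := by
  suffices h : ∀ Z : Closeds X, Q (Z : Set X) from fun Z hZ => h ⟨Z, hZ⟩
  intro Z
  refine wellFounded_lt.induction (C := fun Z : Closeds X => Q (Z : Set X)) Z ?_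
  intro Z ih
  by_cases hZ : IsIrreducible (Z : Set X)
  · apply hirr _ Z.isClosed hZ
    intro Z' hZ' hlt
    exact ih ⟨Z', hZ'⟩ (by exact_mod_cast hlt)
  · obtain ⟨S, hSf, hSc, hSi, hSU⟩ :=
      NoetherianSpace.exists_finite_set_isClosed_irreducible Z.isClosed
    rw [hSU]
    apply hred S hSf hSc
    intro t ht
    have hsub : t ⊆ (Z : Set X) := by rw [hSU]; exact subset_sUnion_of_mem ht
    have hne : t ≠ (Z : Set X) := fun h => hZ (h ▸ hSi t ht)
    exact ih ⟨t, hSc t ht⟩ (by exact_mod_cast hsub.ssubset_of_ne hne)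

end Noeth

end Groth.Agent.Helper4.Constr
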