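import Groth.Prelude.Def_Models
import Mathlib

set_option autoImplicit false
open Finset

namespace Groth.Agent.Helper4

open Models

variable {n : ℕ} (T : Models.NumericalType n)

theorem NT_row_sum (i : Fin n) : ∑ j, T.a i j * T.m j = 0 := by
  have := congrFun T.mulVec_m i
  simpa [Matrix.mulVec, dotProduct] using this

theorem NT_split (i : Fin n) :
    ∑ j, T.a i j * T.m j = T.a i i * T.m i + ∑ j ∈ univ.erase i, T.a i j * T.m j := by
  rw [Finset.add_sum_erase univ (fun j => T.a i j * T.m j) (mem_univ i)]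

theorem NT_diag_mul (i : Fin n) :
    T.a i i * T.m i = -∑ j ∈ univ.erase i, T.a i j * T.m j := by
  have h1 := NT_row_sum T i
  rw [NT_split] at h1
  linarith

theorem NT_offdiag_term_nonneg (i j : Fin n) (hj : j ∈ univ.erase i) : 0 ≤ T.a i j * T.m j := by
  have hne : i ≠ j := fun h => (Finset.mem_erase.mp hj).1 h.symm
  exact mul_nonneg (T.offDiag_nonneg i j hne) (T.m_pos j).le

theorem NT_ne_of_pos {i j : Fin n} (hij : 0 < T.a i j) : i ≠ j := by
  rintro rfl
  have h1 := NT_diag_mul T i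
  have h2 : 0 ≤ ∑ j ∈ univ.erase i, T.a i j * T.m j :=
    Finset.sum_nonneg fun j hj => NT_offdiag_term_nonneg T i j hj
  have h3 : 0 < T.a i i * T.m i := mul_pos hij (T.m_pos i)
  linarith

/-- `a i j * m j ≤ - a i i * m i` for `i ≠ j`. -/
theorem NT_term_le (i j : Fin n) (hij : i ≠ j) : T.a i j * T.m j ≤ -(T.a i i * T.m i) := by
  rw [NT_diag_mul, neg_neg]
  have hj : j ∈ univ.erase i := Finset.mem_erase.mpr ⟨hij.symm, mem_univ j⟩
  exact Finset.single_le_sum (f := fun j => T.a i j * T.m j)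
    (fun k hk => NT_offdiag_term_nonneg T i k hk) hj

theorem NT_diag_nonpos (i : Fin n) : T.a i i ≤ 0 := by
  have h1 := NT_diag_mul T i
  have h2 : 0 ≤ ∑ j ∈ univ.erase i, T.a i j * T.m j :=
    Finset.sum_nonneg fun j hj => NT_offdiag_term_nonneg T i j hj
  have h3 : T.a i i * T.m i ≤ 0 := by linarith
  by_contra h
  push Not at h
  have := mul_pos h (T.m_pos i)
  linarith

theorem NT_exists_nbr (hn : 1 < n) (i : Fin n) : ∃ j, j ≠ i ∧ 0 < T.a i j := by
  have hne : ({i} : Finset (Fin n)).Nonempty := ⟨i, mem_singleton_self i⟩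
  have hu : ({i} : Finset (Fin n)) ≠ univ := by
    intro h
    have : (univ : Finset (Fin n)).card = 1 := by rw [← h]; simp
    simp at this
    omega
  obtain ⟨i', hi', j, hj, hne0⟩ := T.connected {i} hne hu
  rw [mem_singleton] at hi'
  subst hi'
  rw [mem_singleton] at hj
  refine ⟨j, hj, lt_of_le_of_ne (T.offDiag_nonneg _ _ (fun h => hj h.symm)) hne0.symm⟩

theorem NT_diag_neg (hn : 1 < n) (i : Fin n) : T.a i i < 0 := by
  obtain ⟨j, hji, hpos⟩ := NT_exists_nbr T hn i
  have h1 := NT_term_le T i j hji.symm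
  have h2 : 0 < T.a i j * T.m j := mul_pos hpos (T.m_pos j)
  have h3 : T.a i i * T.m i < 0 := by linarith
  by_contra h
  push Not at h
  have := mul_nonneg h (T.m_pos i).le
  linarith

theorem NT_even : (2 : ℤ) ∣ ∑ i, T.m i * T.a i i := by
  have hiff := ZMod.intCast_zmod_eq_zero_iff_dvd (∑ i, T.m i * T.a i i) 2
  rw [Nat.cast_ofNat] at hiff
  rw [← hiff]
  push_cast
  -- total sum zero
  have h0 : ∑ i, ∑ j, T.m i * (T.a i j * T.m j) = 0 := by
    apply Finset.sum_eq_zero
    intro i _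
    rw [← Finset.mul_sum, NT_row_sum, mul_zero]
  have h0' : ∑ p ∈ (univ : Finset (Fin n)) ×ˢ (univ : Finset (Fin n)),
      ((T.m p.1 : ZMod 2) * ((T.a p.1 p.2 : ZMod 2) * (T.m p.2 : ZMod 2))) = 0 := by
    rw [Finset.sum_product]
    have := congrArg (Int.cast : ℤ → ZMod 2) h0
    push_cast at this
    exact this
  rw [← Finset.diag_union_offDiag, Finset.sum_union (Finset.disjoint_diag_offDiag _),
    Finset.sum_diag] at h0'
  have hoff : ∑ p ∈ (univ : Finset (Fin n)).offDiag,
      ((T.m p.1 : ZMod 2) * ((T.a p.1 p.2 : ZMod 2) * (T.m p.2 : ZMod 2))) = 0 := by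
    apply Finset.sum_involution (fun p _ => (p.2, p.1))
    · intro p _
      have hs : T.a p.2 p.1 = T.a p.1 p.2 := T.symm.apply p.1 p.2
      simp only [hs]
      have : ∀ x : ZMod 2, x + x = 0 := by decide
      rw [show (T.m p.2 : ZMod 2) * ((T.a p.1 p.2 : ZMod 2) * (T.m p.1 : ZMod 2)) =
        (T.m p.1 : ZMod 2) * ((T.a p.1 p.2 : ZMod 2) * (T.m p.2 : ZMod 2)) by ring]
      exact this _
    · intro p hp _ h
      have := (Finset.mem_offDiag.mp hp).2.2
      exact this (congrArg Prod.fst h).symm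
    · intro p hp
      rw [Finset.mem_offDiag] at hp ⊢
      exact ⟨hp.2.1, hp.1, hp.2.2.symm⟩
    · intro p _
      rfl
  rw [hoff, add_zero] at h0'
  rw [← h0']
  apply Finset.sum_congr rfl
  intro i _
  have : ∀ x y : ZMod 2, x * y = x * (y * x) := by decide
  exact this _ _

theorem NT_two_genus :
    2 * T.genus - 2 = ∑ i, T.m i * (2 * T.w i * (T.g i - 1) - T.a i i) := by
  obtain ⟨k, hk⟩ := NT_even T
  unfold Models.NumericalType.genus
  rw [hk, Int.mul_ediv_cancel_left _ (two_ne_zero)]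
  have : ∑ i, T.m i * (2 * T.w i * (T.g i - 1) - T.a i i) =
      2 * ∑ i, T.m i * T.w i * (T.g i - 1) - ∑ i, T.m i * T.a i i := by
    rw [Finset.mul_sum, ← Finset.sum_sub_distrib]
    apply Finset.sum_congr rfl
    intro i _
    ring
  rw [this, hk]
  ring

end Groth.Agent.Helper4
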