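import Mathlib

set_option autoImplicit false
open Finset

namespace Groth.Agent.Helper4

variable {n : ℕ}

theorem quad_identity (A : Matrix (Fin n) (Fin n) ℝ) (m y : Fin n → ℝ) (hsymm : A.IsSymm) :
    dotProduct (fun i => m i * y i) (A.mulVec (fun i => m i * y i)) =
      ∑ i, (∑ j, A i j * m j) * m i * (y i) ^ 2 -
        (1 / 2) * ∑ i, ∑ j, A i j * m i * m j * (y i - y j) ^ 2 := by
  have hS2 : ∑ i, ∑ j, A i j * m i * m j * (y j) ^ 2 = ∑ i, ∑ j, A i j * m i * m j * (y i) ^ 2 := by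
    rw [Finset.sum_comm]
    refine Finset.sum_congr rfl fun i _ => Finset.sum_congr rfl fun j _ => ?_
    have := hsymm.apply i j
    rw [this]
    ring
  have hexp : ∑ i, ∑ j, A i j * m i * m j * (y i - y j) ^ 2 =
      ∑ i, ∑ j, A i j * m i * m j * (y i) ^ 2 + ∑ i, ∑ j, A i j * m i * m j * (y j) ^ 2 -
        2 * ∑ i, ∑ j, A i j * m i * m j * (y i * y j) := by
    simp only [Finset.mul_sum, ← Finset.sum_add_distrib, ← Finset.sum_sub_distrib]
    refine Finset.sum_congr rfl fun i _ => Finset.sum_congr rfl fun j _ => ?_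
    ring
  have hP : dotProduct (fun i => m i * y i) (A.mulVec (fun i => m i * y i)) =
      ∑ i, ∑ j, A i j * m i * m j * (y i * y j) := by
    simp only [dotProduct, Matrix.mulVec, Finset.mul_sum]
    refine Finset.sum_congr rfl fun i _ => Finset.sum_congr rfl fun j _ => ?_
    ring
  have hS1 : ∑ i, (∑ j, A i j * m j) * m i * (y i) ^ 2 =
      ∑ i, ∑ j, A i j * m i * m j * (y i) ^ 2 := by
    refine Finset.sum_congr rfl fun i _ => ?_
    rw [Finset.sum_mul, Finset.sum_mul]
    refine Finset.sum_congr rfl fun j _ => ?_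
    ring
  rw [hP, hexp, hS2, hS1]
  ring

theorem term_nonneg (A : Matrix (Fin n) (Fin n) ℝ) (m y : Fin n → ℝ)
    (hA : ∀ i j, i ≠ j → 0 ≤ A i j) (hm : ∀ i, 0 < m i) (i j : Fin n) :
    0 ≤ A i j * m i * m j * (y i - y j) ^ 2 := by
  by_cases hij : i = j
  · subst hij; simp
  · have h1 := hA i j hij
    have h2 := (hm i).le
    have h3 := (hm j).le
    positivity

theorem eq_of_term_zero (A : Matrix (Fin n) (Fin n) ℝ) (m y : Fin n → ℝ)
    (hm : ∀ i, 0 < m i) (i j : Fin n) (h : A i j * m i * m j * (y i - y j) ^ 2 = 0)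
    (hij : A i j ≠ 0) : y i = y j := by
  have hmi := (hm i).ne'
  have hmj := (hm j).ne'
  have h1 : A i j * m i * m j ≠ 0 := mul_ne_zero (mul_ne_zero hij hmi) hmj
  have h2 : (y i - y j) ^ 2 = 0 := (mul_eq_zero.mp h).resolve_left h1
  exact sub_eq_zero.mp ((pow_eq_zero_iff (two_ne_zero)).mp h2)

end Groth.Agent.Helper4
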