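import Mathlib

/-!
# Schemes whose local rings are domains: irreducible components are disjoint (helper4)
-/

set_option autoImplicit false
universe u
open AlgebraicGeometry CategoryTheory CategoryTheory.Limits TopologicalSpace
open scoped Function

namespace Groth.Agent.Helper4.NormalDecomp

/-- a point whose local ring is a domain lies on a unique irreducible component -/
theorem eq_of_mem_irreducibleComponents (X : Scheme.{u}) (x : X) [IsDomain (X.presheaf.stalk x)]
    {Z₁ Z₂ : Set X} (h₁ : Z₁ ∈ irreducibleComponents X) (h₂ : Z₂ ∈ irreducibleComponents X)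
    (hx₁ : x ∈ Z₁) (hx₂ : x ∈ Z₂) : Z₁ = Z₂ := by
  have key : ∀ Z : Set X, Z ∈ irreducibleComponents X → x ∈ Z →
      Z = closure {X.fromSpecStalk x ⟨⊥, Ideal.isPrime_bot⟩} := by
    intro Z hZ hxZ
    have hcl : IsClosed Z := isClosed_of_mem_irreducibleComponents Z hZ
    have hgen : IsGenericPoint hZ.1.genericPoint Z := hZ.1.isGenericPoint_genericPoint hcl
    have hsp : hZ.1.genericPoint ⤳ x := hgen.specializes hxZ
    have hmem : hZ.1.genericPoint ∈ Set.range (X.fromSpecStalk x) := by
      rw [Scheme.range_fromSpecStalk]; exact hsp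
    obtain ⟨p, hp⟩ := hmem
    have h1 : (⟨⊥, Ideal.isPrime_bot⟩ : PrimeSpectrum (X.presheaf.stalk x)) ⤳ p :=
      (PrimeSpectrum.le_iff_specializes _ p).mp (bot_le (a := p.asIdeal))
    have h2 : X.fromSpecStalk x ⟨⊥, Ideal.isPrime_bot⟩ ⤳ hZ.1.genericPoint := by
      rw [← hp]
      exact h1.map (X.fromSpecStalk x).continuous
    have h3 : Z ⊆ closure {X.fromSpecStalk x ⟨⊥, Ideal.isPrime_bot⟩} := by
      rw [← hgen.def]
      exact closure_minimal (Set.singleton_subset_iff.mpr (specializes_iff_mem_closure.mp h2))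
        isClosed_closure
    exact h3.antisymm (hZ.2 isIrreducible_singleton.closure h3)
  rw [key Z₁ h₁ hx₁, key Z₂ h₂ hx₂]

/-- on a Noetherian scheme whose local rings are domains, irreducible components are open -/
theorem isOpen_of_mem_irreducibleComponents (X : Scheme.{u}) [NoetherianSpace X]
    (hdom : ∀ x : X, IsDomain (X.presheaf.stalk x)) {Z : Set X}
    (hZ : Z ∈ irreducibleComponents X) : IsOpen Z := by
  have h : Zᶜ = ⋃₀ (irreducibleComponents X \ {Z}) := by
    ext y
    simp only [Set.mem_compl_iff, Set.mem_sUnion, Set.mem_diff, Set.mem_singleton_iff]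
    constructor
    · intro hy
      have hy' : y ∈ ⋃₀ irreducibleComponents X := by
        rw [sUnion_irreducibleComponents]; trivial
      obtain ⟨Z', hZ', hyZ'⟩ := hy'
      exact ⟨Z', ⟨hZ', fun h => hy (h ▸ hyZ')⟩, hyZ'⟩
    · rintro ⟨Z', ⟨hZ', hne⟩, hyZ'⟩ hyZ
      haveI := hdom y
      exact hne (eq_of_mem_irreducibleComponents X y hZ' hZ hyZ' hyZ)
  rw [← isClosed_compl_iff, h, Set.sUnion_eq_biUnion]
  exact (NoetherianSpace.finite_irreducibleComponents.subset Set.diff_subset).isClosed_biUnion
    fun s hs => isClosed_of_mem_irreducibleComponents s hs.1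


variable (X : Scheme.{u}) [NoetherianSpace X] (hdom : ∀ x : X, IsDomain (X.presheaf.stalk x))

/-- the open subscheme carried by an irreducible component -/
def comp (Z : irreducibleComponents X) : X.Opens :=
  ⟨Z.1, isOpen_of_mem_irreducibleComponents X hdom Z.2⟩

theorem isIntegral_comp (Z : irreducibleComponents X) :
    IsIntegral (comp X hdom Z : Scheme.{u}) := by
  haveI : ∀ x : X, _root_.IsReduced (X.presheaf.stalk x) := fun x => by
    haveI := hdom x
    infer_instance
  haveI : IsReduced X := isReduced_of_isReduced_stalk X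
  haveI : IrreducibleSpace ↥(comp X hdom Z : Scheme.{u}) := Subtype.irreducibleSpace Z.2.1
  exact isIntegral_of_irreducibleSpace_of_isReduced _

theorem iSup_comp : ⨆ Z : irreducibleComponents X, comp X hdom Z = ⊤ := by
  rw [eq_top_iff]
  intro y _
  have hy' : y ∈ ⋃₀ irreducibleComponents X := by
    rw [sUnion_irreducibleComponents]; trivial
  obtain ⟨Z', hZ', hyZ'⟩ := hy'
  exact Opens.mem_iSup.mpr ⟨⟨Z', hZ'⟩, hyZ'⟩

theorem disjoint_comp : Pairwise (Disjoint on (comp X hdom)) := by
  intro Z₁ Z₂ hne
  rw [Function.onFun_apply, disjoint_iff, eq_bot_iff]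
  rintro y ⟨h1, h2⟩
  haveI := hdom y
  exact hne (Subtype.ext (eq_of_mem_irreducibleComponents X y Z₁.2 Z₂.2 h1 h2))

instance finite_comps : Finite (irreducibleComponents X) :=
  NoetherianSpace.finite_irreducibleComponents.to_subtype

end Groth.Agent.Helper4.NormalDecomp
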