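import Mathlib
import Groth.Agent.Lib.Helper3.TorsFreeDim1
import Groth.Agent.Lib.Helper3.IrrLocFin

/-!
# Flatness over a regular base of dimension ≤ 1 (helper4)

A reduced scheme all of whose maximal points map to the generic point of an irreducible scheme `Y`
with regular local rings of dimension `≤ 1` is flat over `Y`.  Consequence (EGA IV 14.3.13-type):
an open neighbourhood of a fibre is universally open when all irreducible components meeting the
fibre dominate.
-/

set_option autoImplicit false
set_option linter.style.haveILetI false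
universe u
open CategoryTheory CategoryTheory.Limits AlgebraicGeometry TopologicalSpace

namespace Groth.Agent.Helper4.DedFlat

section Top
variable {α : Type*} [TopologicalSpace α]

/-- the closure of a point without proper generizations is an irreducible component -/
theorem closure_mem_irreducibleComponents [QuasiSober α] (ζ : α) (h : ∀ ξ : α, ξ ⤳ ζ → ξ = ζ) :
    closure {ζ} ∈ irreducibleComponents α := by
  refine ⟨isIrreducible_singleton.closure, fun Z hZ hle => ?_⟩
  have hZc : IsIrreducible (closure Z) := hZ.closure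
  obtain ⟨ξ, hξ⟩ := QuasiSober.sober hZc isClosed_closure
  have h1 : ξ ⤳ ζ := by
    rw [specializes_iff_mem_closure, hξ.def]
    exact subset_closure (hle (subset_closure rfl))
  have h2 := h ξ h1
  subst h2
  calc Z ⊆ closure Z := subset_closure
    _ = closure {ξ} := hξ.def.symm

end Top

/-- the point of `W` corresponding to a minimal prime of a stalk has no proper generization -/
theorem maximal_of_minimalPrimes {W : Scheme.{u}} (x : W) (P : PrimeSpectrum (W.presheaf.stalk x))
    (hP : P.asIdeal ∈ minimalPrimes (W.presheaf.stalk x)) (ξ : W)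
    (hξ : ξ ⤳ (W.fromSpecStalk x).base P) : ξ = (W.fromSpecStalk x).base P := by
  have hζx : (W.fromSpecStalk x).base P ⤳ x := by
    have : (W.fromSpecStalk x).base P ∈ Set.range (W.fromSpecStalk x).base := ⟨P, rfl⟩
    rw [Scheme.range_fromSpecStalk] at this
    exact this
  have hξx : ξ ∈ Set.range (W.fromSpecStalk x).base := by
    rw [Scheme.range_fromSpecStalk]
    exact hξ.trans hζx
  obtain ⟨P', rfl⟩ := hξx
  have hemb : Topology.IsEmbedding (W.fromSpecStalk x).base := (W.fromSpecStalk x).isEmbedding
  have h1 : P' ⤳ P := hemb.toIsInducing.specializes_iff.mp hξ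
  have h2 : P'.asIdeal ≤ P.asIdeal :=
    (PrimeSpectrum.le_iff_specializes (R := W.presheaf.stalk x) P' P).mpr h1
  have h3 : P.asIdeal ≤ P'.asIdeal := hP.2 ⟨P'.isPrime, bot_le⟩ h2
  have h4 : P' = P := PrimeSpectrum.ext (le_antisymm h2 h3)
  rw [h4]

variable {W Y : Scheme.{u}}

/-- flatness of the stalk map at `x` when all maximal points above `x` go to the generic point -/
theorem flat_stalkMap [IsReduced W] [IrreducibleSpace Y]
    (hY : ∀ y : Y, IsRegularLocalRing (Y.presheaf.stalk y) ∧ ringKrullDim (Y.presheaf.stalk y) ≤ 1)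
    (g : W ⟶ Y) (x : W)
    (h : ∀ ζ : W, ζ ⤳ x → (∀ ξ : W, ξ ⤳ ζ → ξ = ζ) → g.base ζ = genericPoint Y) :
    (g.stalkMap x).hom.Flat := by
  haveI := (hY (g.base x)).1
  obtain ⟨hdom, hpid⟩ :=
    Groth.Agent.Helper3.TorsFreeDim1.isPrincipalIdealRing_of_regular (Y.presheaf.stalk (g.base x))
      (hY (g.base x)).2
  algebraize [(g.stalkMap x).hom]
  change Module.Flat (Y.presheaf.stalk (g.base x)) (W.presheaf.stalk x)
  rw [Module.Flat.flat_iff_torsion_eq_bot_of_isBezout, Submodule.eq_bot_iff]
  intro b hb
  rw [Submodule.mem_torsion_iff] at hb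
  obtain ⟨a, hab⟩ := hb
  have hab' : (g.stalkMap x).hom a.1 * b = 0 := by
    have := hab
    rwa [Submonoid.smul_def, Algebra.smul_def] at this
  have ha0 : (a : Y.presheaf.stalk (g.base x)) ≠ 0 := nonZeroDivisors.coe_ne_zero a
  have hnil : b ∈ nilradical (W.presheaf.stalk x) := by
    rw [nilradical_eq_sInf, Ideal.mem_sInf]
    intro Q hQ
    haveI : Q.IsPrime := hQ
    obtain ⟨P, hP, hPQ⟩ := Ideal.exists_minimalPrimes_le (I := ⊥) (J := Q) bot_le
    apply hPQ
    haveI hPprime : P.IsPrime := hP.1.1
    let P' : PrimeSpectrum (W.presheaf.stalk x) := ⟨P, hPprime⟩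
    have hmax := maximal_of_minimalPrimes x P' hP
    have hζx : (W.fromSpecStalk x).base P' ⤳ x := by
      have : (W.fromSpecStalk x).base P' ∈ Set.range (W.fromSpecStalk x).base := ⟨P', rfl⟩
      rw [Scheme.range_fromSpecStalk] at this
      exact this
    have hgen := h _ hζx hmax
    -- the image of `a` is not in `P`
    have haP : (g.stalkMap x).hom a.1 ∉ P := by
      intro haP
      let q : PrimeSpectrum (Y.presheaf.stalk (g.base x)) :=
        (Spec.map (g.stalkMap x)).base P'
      have haq : (a : Y.presheaf.stalk (g.base x)) ∈ q.asIdeal := haP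
      have hq : (Y.fromSpecStalk (g.base x)).base q = genericPoint Y := by
        rw [← hgen]
        change (Y.fromSpecStalk (g.base x)).base ((Spec.map (g.stalkMap x)).base P') = _
        rw [← Scheme.Hom.comp_apply, Scheme.SpecMap_stalkMap_fromSpecStalk,
          Scheme.Hom.comp_apply]
      let q0 : PrimeSpectrum (Y.presheaf.stalk (g.base x)) := ⟨⊥, Ideal.isPrime_bot⟩
      have h1 : q0 ⤳ q := (PrimeSpectrum.le_iff_specializes q0 q).mp bot_le
      have h2 : (Y.fromSpecStalk (g.base x)).base q0 ⤳ genericPoint Y := by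
        rw [← hq]
        exact h1.map (Y.fromSpecStalk (g.base x)).continuous
      have h3 : (Y.fromSpecStalk (g.base x)).base q0 = genericPoint Y :=
        (h2.antisymm (genericPoint_specializes _)).eq
      have hemb : Topology.IsEmbedding (Y.fromSpecStalk (g.base x)).base :=
        (Y.fromSpecStalk (g.base x)).isEmbedding
      have h4 : q0 = q := hemb.injective (h3.trans hq.symm)
      rw [← h4] at haq
      exact ha0 haq
    have : (g.stalkMap x).hom a.1 * b ∈ P := by rw [hab']; exact P.zero_mem
    exact (hPprime.mem_or_mem this).resolve_left haP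
  have hred : nilradical (W.presheaf.stalk x) = ⊥ := nilradical_eq_bot_iff.mpr inferInstance
  rw [hred] at hnil
  exact hnil

/-- a reduced scheme whose maximal points all map to the generic point of `Y` is flat over `Y` -/
theorem flat_of_maximal_points [IsReduced W] [IrreducibleSpace Y]
    (hY : ∀ y : Y, IsRegularLocalRing (Y.presheaf.stalk y) ∧ ringKrullDim (Y.presheaf.stalk y) ≤ 1)
    (g : W ⟶ Y)
    (h : ∀ ζ : W, (∀ ξ : W, ξ ⤳ ζ → ξ = ζ) → g.base ζ = genericPoint Y) : Flat g :=
  Flat.of_stalkMap g fun x => flat_stalkMap hY g x fun ζ _ hζ => h ζ hζ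

/-- a point whose closure has dense image maps to the generic point -/
theorem eq_genericPoint_of_dense {X Y : Scheme.{u}} [IrreducibleSpace Y] (f : X ⟶ Y) (ζ : X)
    (h : Dense (f.base '' closure {ζ})) : f.base ζ = genericPoint Y := by
  have h1 : closure {f.base ζ} = Set.univ := by
    rw [← Set.univ_subset_iff, ← h.closure_eq]
    apply closure_minimal _ isClosed_closure
    exact (image_closure_subset_closure_image f.continuous).trans (by rw [Set.image_singleton])
  have h2 : IsGenericPoint (f.base ζ) (Set.univ : Set Y) := h1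
  exact ((genericPoint_spec Y).eq h2).symm

end Groth.Agent.Helper4.DedFlat

namespace Groth.Agent.Helper4.DedFlat

theorem isOpenMap_of_comp_surjective {α β γ : Type*} [TopologicalSpace α] [TopologicalSpace β]
    [TopologicalSpace γ] {f : α → β} {g : β → γ} (hf : Function.Surjective f) (hf' : Continuous f)
    (hfg : IsOpenMap (g ∘ f)) : IsOpenMap g := by
  intro V hV
  have h1 : g '' V = (g ∘ f) '' (f ⁻¹' V) := by
    rw [Set.image_comp, Set.image_preimage_eq _ hf]
  rw [h1]
  exact hfg _ (hV.preimage hf')

/-- if `f ≫ g` is universally open with `f` surjective then `g` is universally open -/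
theorem universallyOpen_of_comp_surjective {X Y Z : Scheme.{u}} (f : X ⟶ Y) (g : Y ⟶ Z)
    [UniversallyOpen (f ≫ g)] [Surjective f] : UniversallyOpen g := by
  constructor
  intro X' Y' i₁ i₂ f' H
  have := UniversallyOpen.universally_isOpenMap _ _ _
    ((IsPullback.of_hasPullback i₁ f).paste_horiz H)
  exact isOpenMap_of_comp_surjective
    (MorphismProperty.pullback_fst (P := @Surjective) _ _ ‹_›).1
    (Scheme.Hom.continuous _) this

/-- union of a family of irreducible components of a locally Noetherian scheme is closed -/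
theorem isClosed_sUnion_irreducibleComponents (X : Scheme.{u}) [IsLocallyNoetherian X]
    (S : Set (Set X)) (hS : S ⊆ irreducibleComponents (X : Type u)) : IsClosed (⋃₀ S) := by
  rw [Set.sUnion_eq_iUnion]
  apply LocallyFinite.isClosed_iUnion
  · intro x
    obtain ⟨_, ⟨U, hU, rfl⟩, hxU, -⟩ :=
      X.isBasis_affineOpens.exists_subset_of_mem_open (Set.mem_univ x) isOpen_univ
    have hU' : IsAffineOpen U := hU
    refine ⟨U, U.2.mem_nhds hxU, ?_⟩
    haveI : IsNoetherianRing Γ(X, U) := IsLocallyNoetherian.component_noetherian ⟨U, hU'⟩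
    haveI hN : NoetherianSpace ((U : Set X) : Type u) := noetherianSpace_of_isAffineOpen U hU'
    have hfin := Groth.Agent.Helper3.IrrLocFin.finite_irreducibleComponents_meeting
      (U : Set X) U.2
    refine (hfin.preimage Subtype.val_injective.injOn).subset ?_
    intro T hT
    exact ⟨hS T.2, hT⟩
  · intro T
    exact isClosed_of_mem_irreducibleComponents _ (hS T.2)

/-- **EGA IV 14.3.13-type statement**: over an irreducible locally Noetherian base with regular
local rings of dimension `≤ 1`, if all irreducible components of `X` meeting the fibre over `y`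
dominate, then a neighbourhood of the fibre is universally open over the base. -/
theorem exists_open_universallyOpen {X Y : Scheme.{u}} [IsLocallyNoetherian Y]
    [IrreducibleSpace Y]
    (hY : ∀ y : Y, IsRegularLocalRing (Y.presheaf.stalk y) ∧ ringKrullDim (Y.presheaf.stalk y) ≤ 1)
    (f : X ⟶ Y) [LocallyOfFiniteType f] (y : Y)
    (h : ∀ Z ∈ irreducibleComponents (X : Type u), (Z ∩ f.base ⁻¹' {y}).Nonempty →
      Dense (f.base '' Z)) :
    ∃ U : X.Opens, f.base ⁻¹' {y} ⊆ (U : Set X) ∧ UniversallyOpen (U.ι ≫ f) := by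
  haveI : IsLocallyNoetherian X := LocallyOfFiniteType.isLocallyNoetherian f
  let S : Set (Set X) := {Z | Z ∈ irreducibleComponents (X : Type u) ∧ ¬ (Z ∩ f.base ⁻¹' {y}).Nonempty}
  have hScl : IsClosed (⋃₀ S) := isClosed_sUnion_irreducibleComponents X S fun Z hZ => hZ.1
  let U : X.Opens := ⟨(⋃₀ S)ᶜ, hScl.isOpen_compl⟩
  refine ⟨U, ?_, ?_⟩
  · intro x hx
    change x ∈ (⋃₀ S)ᶜ
    rintro ⟨Z, hZ, hxZ⟩
    exact hZ.2 ⟨x, hxZ, hx⟩
  · obtain ⟨T, i, hi, hTred, hrange⟩ :
        ∃ (T : Scheme.{u}) (i : T ⟶ (U : Scheme.{u})), IsClosedImmersion i ∧ IsReduced T ∧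
          Set.range i.base = Set.univ := by
      let I := Scheme.IdealSheafData.vanishingIdeal (X := (U : Scheme.{u})) ⊤
      have hr : Set.range I.subschemeι.base = Set.univ := by
        rw [Scheme.IdealSheafData.range_subschemeι,
          Scheme.IdealSheafData.coe_support_vanishingIdeal]
        rfl
      have hred : IsReduced I.subscheme := by
        rw [IsReduced.iff_of_openCover (X := I.subscheme) I.subschemeCover.openCover]
        intro (V : (U : Scheme.{u}).affineOpens)
        have h3 : (I.ideal V).IsRadical := by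
          rw [Scheme.IdealSheafData.vanishingIdeal_ideal]
          exact PrimeSpectrum.isRadical_vanishingIdeal _
        have h2 : _root_.IsReduced (Γ((U : Scheme.{u}), V) ⧸ I.ideal V) :=
          (Ideal.isRadical_iff_quotient_reduced _).mp h3
        exact (affine_isReduced_iff (.of (Γ((U : Scheme.{u}), V) ⧸ I.ideal V))).mpr h2
      exact ⟨I.subscheme, I.subschemeι, inferInstance, hred, hr⟩
    haveI : Surjective i := ⟨Set.range_eq_univ.mp hrange⟩
    have hemb : Topology.IsEmbedding (i ≫ U.ι).base := (i ≫ U.ι).isEmbedding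
    haveI : Flat (i ≫ U.ι ≫ f) := by
      apply flat_of_maximal_points hY
      intro ζ hζ
      -- the image of `ζ` in `X` has no proper generization
      have hmax : ∀ ξ : X, ξ ⤳ (i ≫ U.ι).base ζ → ξ = (i ≫ U.ι).base ζ := by
        intro ξ hξ
        have hζU : (i ≫ U.ι).base ζ ∈ U := by
          rw [Scheme.Hom.comp_apply]
          exact (i.base ζ).2
        have hξU : ξ ∈ U := hξ.mem_open U.2 hζU
        obtain ⟨ξ', hξ'⟩ := Set.range_eq_univ.mp hrange ⟨ξ, hξU⟩
        have hξ'' : (i ≫ U.ι).base ξ' = ξ := by
          rw [Scheme.Hom.comp_apply, hξ']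
          rfl
        rw [← hξ''] at hξ ⊢
        have := hζ ξ' (hemb.toIsInducing.specializes_iff.mp hξ)
        rw [this]
      have hZ := closure_mem_irreducibleComponents _ hmax
      have hZS : closure {(i ≫ U.ι).base ζ} ∉ S := by
        intro hmem
        have h1 : (i ≫ U.ι).base ζ ∈ ⋃₀ S := ⟨_, hmem, subset_closure rfl⟩
        have hζU : (i ≫ U.ι).base ζ ∈ (⋃₀ S)ᶜ := by
          rw [Scheme.Hom.comp_apply]
          exact (i.base ζ).2
        exact hζU h1
      have hne : (closure {(i ≫ U.ι).base ζ} ∩ f.base ⁻¹' {y}).Nonempty := by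
        by_contra hcon
        exact hZS ⟨hZ, hcon⟩
      have hd := h _ hZ hne
      have := eq_genericPoint_of_dense f _ hd
      rw [← this, ← Category.assoc, Scheme.Hom.comp_apply]
    haveI : LocallyOfFiniteType (i ≫ U.ι ≫ f) := inferInstance
    haveI : LocallyOfFinitePresentation (i ≫ U.ι ≫ f) :=
      LocallyOfFinitePresentation.iff_locallyOfFiniteType.mpr inferInstance
    haveI : UniversallyOpen (i ≫ U.ι ≫ f) := inferInstance
    exact universallyOpen_of_comp_surjective i (U.ι ≫ f)

end Groth.Agent.Helper4.DedFlat
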