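import Mathlib
import Groth.Prelude.Def_FDesc
import Groth.Agent.Lib.Helper14.SepClosedIn
import Groth.Agent.Lib.Helper7.Geom

/-!
# Geometric irreducibility via the generic point (helper4)
-/

set_option autoImplicit false
set_option linter.style.haveILetI false
universe u
open AlgebraicGeometry CategoryTheory CategoryTheory.Limits TensorProduct

namespace Groth.Agent.Helper4.GeomIrrSep

theorem geometricallyIrreducible_Spec_of_sepClosedIn {k K : Type u} [Field k] [Field K]
    [Algebra k K] (hK : ∀ α : K, IsSeparable k α → α ∈ Set.range (algebraMap k K)) :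
    GeometricallyIrreducible (Spec.map (CommRingCat.ofHom (algebraMap k K))) := by
  constructor
  intro L _ y Z fst snd hpb
  obtain ⟨ψ, rfl⟩ : ∃ ψ : CommRingCat.of k ⟶ CommRingCat.of L, Spec.map ψ = y :=
    ⟨Spec.preimage y, Spec.map_preimage y⟩
  letI : Algebra k L := ψ.hom.toAlgebra
  have hψ : ψ = CommRingCat.ofHom (algebraMap k L) := rfl
  rw [hψ] at hpb
  have hprime : (nilradical (L ⊗[k] K)).IsPrime :=
    Groth.Agent.Helper14.SepClosedIn.isPrime_nilradical_of_sepClosedIn hK L
  haveI : IrreducibleSpace (PrimeSpectrum (L ⊗[k] K)) :=
    PrimeSpectrum.irreducibleSpace_iff_isPrime_nilradical.mpr hprime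
  haveI : IrreducibleSpace (PrimeSpectrum (K ⊗[k] L)) :=
    (PrimeSpectrum.homeomorphOfRingEquiv
      (Algebra.TensorProduct.comm k K L).toRingEquiv).irreducibleSpace_iff.mpr ‹_›
  haveI : IrreducibleSpace ↥(Spec (CommRingCat.of (K ⊗[k] L))) :=
    (inferInstance : IrreducibleSpace (PrimeSpectrum (K ⊗[k] L)))
  have e : Z ≅ Spec (CommRingCat.of (K ⊗[k] L)) := hpb.isoPullback ≪≫ pullbackSpecIso k K L
  exact (e.hom.homeomorph.irreducibleSpace_iff).2 inferInstance

variable {k : Type u} [Field k] {X : Scheme.{u}} (f : X ⟶ Spec (CommRingCat.of k))

/-- the preimage in `X_K` of the range of a morphism from a geometrically irreducible `k`-scheme is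
irreducible -/
theorem isIrreducible_preimage_range (K : Type u) [Field K] [Algebra k K] {Y : Scheme.{u}}
    (g : Y ⟶ X) [GeometricallyIrreducible (g ≫ f)] :
    IsIrreducible ((FBase.bcπ f K).base ⁻¹' Set.range g.base) := by
  unfold FBase.bcπ
  set y := Spec.map (CommRingCat.ofHom (algebraMap k K)) with hy
  set p := pullback.fst f y with hp
  have h1 : IrreducibleSpace ↥(pullback (g ≫ f) y) :=
    pullback_of_geometrically
      (GeometricallyIrreducible.geometrically_irreducibleSpace (f := g ≫ f)) K y
  have h2 : IrreducibleSpace ↥(pullback g p) :=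
    ((pullbackRightPullbackFstIso f y g).hom.homeomorph.irreducibleSpace_iff).2 h1
  rw [← Scheme.Pullback.range_snd, ← Set.image_univ]
  exact (@IrreducibleSpace.isIrreducible_univ _ _ h2).image _
    (pullback.snd g p).continuous.continuousOn

/-- an irreducible `k`-scheme is geometrically irreducible if `k` is separably closed in the
residue field of its generic point -/
theorem geometricallyIrreducible_of_genericPoint [IrreducibleSpace X]
    (φ : k →+* X.residueField (genericPoint X))
    (hφ : Spec.map (CommRingCat.ofHom φ) = X.fromSpecResidueField (genericPoint X) ≫ f)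
    (hx : ∀ α : X.residueField (genericPoint X),
      (letI := φ.toAlgebra; IsSeparable k α) → α ∈ φ.range) :
    GeometricallyIrreducible f := by
  letI : Algebra k (X.residueField (genericPoint X)) := φ.toAlgebra
  haveI hgi : GeometricallyIrreducible (X.fromSpecResidueField (genericPoint X) ≫ f) := by
    rw [← hφ]
    exact geometricallyIrreducible_Spec_of_sepClosedIn (k := k)
      (K := X.residueField (genericPoint X)) hx
  refine ⟨geometrically_iff_of_isClosedUnderIsomorphisms.mpr fun L _ y ↦ ?_⟩
  obtain ⟨ψ, rfl⟩ : ∃ ψ : CommRingCat.of k ⟶ CommRingCat.of L, Spec.map ψ = y :=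
    ⟨Spec.preimage y, Spec.map_preimage y⟩
  letI : Algebra k L := ψ.hom.toAlgebra
  have hψ : ψ = CommRingCat.ofHom (algebraMap k L) := rfl
  rw [hψ]
  have hfib := isIrreducible_preimage_range f L (X.fromSpecResidueField (genericPoint X))
  rw [Scheme.range_fromSpecResidueField] at hfib
  set π := FBase.bcπ f L with hπ
  have ho : IsOpenMap π.base := by
    rw [hπ]
    unfold FBase.bcπ
    exact (pullback.fst f _).isOpenMap
  have hpre : IsPreirreducible (π.base ⁻¹' Set.univ) := by
    apply IsPreirreducible.preimage_of_dense_isPreirreducible_fiber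
      (IrreducibleSpace.isIrreducible_univ X).isPreirreducible π.base ho
    intro x _
    have h1 : genericPoint X ∈ Set.univ ∩ {x | IsPreirreducible (π.base ⁻¹' {x})} :=
      ⟨trivial, hfib.isPreirreducible⟩
    have h2 : closure {genericPoint X} ⊆
        closure (Set.univ ∩ {x | IsPreirreducible (π.base ⁻¹' {x})}) :=
      closure_mono (Set.singleton_subset_iff.mpr h1)
    apply h2
    rw [(genericPoint_spec X).def]
    trivial
  rw [Set.preimage_univ] at hpre
  obtain ⟨t, -⟩ := hfib.nonempty
  exact (irreducibleSpace_def _).mpr ⟨⟨t, trivial⟩, hpre⟩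

/-- over a separably closed field, irreducible schemes are geometrically irreducible -/
theorem geometricallyIrreducible_of_isSepClosed [IsSepClosed k] [IrreducibleSpace X] :
    GeometricallyIrreducible f := by
  obtain ⟨ψ, hψ⟩ := Spec.map_surjective (X.fromSpecResidueField (genericPoint X) ≫ f)
  refine geometricallyIrreducible_of_genericPoint f ψ.hom hψ ?_
  intro α hα
  letI : Algebra k (X.residueField (genericPoint X)) := ψ.hom.toAlgebra
  haveI : Algebra.IsSeparable k (IntermediateField.adjoin k {α}) :=
    (IntermediateField.isSeparable_adjoin_simple_iff_isSeparable k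
      (X.residueField (genericPoint X))).mpr hα
  have hbot := IntermediateField.eq_bot_of_isSepClosed_of_isSeparable
    (IntermediateField.adjoin k {α})
  have hmem : α ∈ IntermediateField.adjoin k {α} := IntermediateField.mem_adjoin_simple_self k α
  rw [hbot, IntermediateField.mem_bot] at hmem
  exact hmem

/-- geometric irreducibility descends along base field extension -/
theorem geometricallyIrreducible_of_bcStr (K : Type u) [Field K] [Algebra k K]
    (h : GeometricallyIrreducible (FBase.bcStr f K)) : GeometricallyIrreducible f := by
  haveI hsurj : Surjective (Spec.map (CommRingCat.ofHom (algebraMap k K))) :=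
    ⟨fun x => ⟨Nonempty.some inferInstance, by
      haveI : Subsingleton ↥(Spec (CommRingCat.of k)) :=
        inferInstanceAs (Subsingleton (PrimeSpectrum k))
      exact Subsingleton.elim _ _⟩⟩
  constructor
  refine Groth.Agent.Helper7.geometrically_of_pullback_snd_surjective
    (fun Z => IrreducibleSpace Z) ?_ f (Spec.map (CommRingCat.ofHom (algebraMap k K))) ?_
  · intro A B φ hφ hA
    exact φ.surjective.irreducibleSpace φ.continuous
  · exact h.geometrically_irreducibleSpace

/-- a `k`-scheme whose base change to a separably closed extension is irreducible is geometrically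
irreducible -/
theorem geometricallyIrreducible_of_irreducibleSpace_bc (K : Type u) [Field K] [Algebra k K]
    [IsSepClosed K] [IrreducibleSpace ↥(FBase.bc f K)] : GeometricallyIrreducible f :=
  geometricallyIrreducible_of_bcStr f K (geometricallyIrreducible_of_isSepClosed (FBase.bcStr f K))

end Groth.Agent.Helper4.GeomIrrSep

namespace Groth.Agent.Helper4.GeomIrrSep

/-- a subset of an irreducible space containing the generic point is irreducible -/
theorem isIrreducible_of_genericPoint_mem {W : Type*} [TopologicalSpace W] [QuasiSober W]
    [IrreducibleSpace W] (S : Set W) (h : genericPoint W ∈ S) : IsIrreducible S := by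
  refine ⟨⟨_, h⟩, ?_⟩
  rintro U V hU hV ⟨s, hsS, hsU⟩ ⟨t, htS, htV⟩
  have h1 : genericPoint W ∈ U := (genericPoint_specializes s).mem_open hU hsU
  have h2 : genericPoint W ∈ V := (genericPoint_specializes t).mem_open hV htV
  exact ⟨_, h, h1, h2⟩

/-- the image of the generic point under a surjective morphism of irreducible schemes -/
theorem map_genericPoint {W X : Scheme.{u}} [IrreducibleSpace W] [IrreducibleSpace X] (π : W ⟶ X)
    (hπ : Function.Surjective π.base) : π.base (genericPoint W) = genericPoint X := by
  have h1 : closure {π.base (genericPoint W)} = Set.univ := by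
    rw [← Set.univ_subset_iff]
    intro x _
    obtain ⟨w, rfl⟩ := hπ x
    exact specializes_iff_mem_closure.mp ((genericPoint_specializes w).map π.continuous)
  have h2 : IsGenericPoint (π.base (genericPoint W)) (Set.univ : Set X) := h1
  exact ((genericPoint_spec X).eq h2).symm

/-- the generic fibre of a surjective morphism of irreducible schemes is irreducible -/
theorem irreducibleSpace_generic_fibre {W X : Scheme.{u}} [IrreducibleSpace W] [IrreducibleSpace X]
    (π : W ⟶ X) (hπ : Function.Surjective π.base) :
    IrreducibleSpace ↥(pullback (X.fromSpecResidueField (genericPoint X)) π) := by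
  set j := X.fromSpecResidueField (genericPoint X) with hj
  have hemb : Topology.IsEmbedding (pullback.snd j π).base := (pullback.snd j π).isEmbedding
  have hrange : Set.range (pullback.snd j π).base = π.base ⁻¹' {genericPoint X} := by
    rw [Scheme.Pullback.range_snd, hj, Scheme.range_fromSpecResidueField]
  have hmem : genericPoint W ∈ Set.range (pullback.snd j π).base := by
    rw [hrange]
    exact map_genericPoint π hπ
  have h3 : IrreducibleSpace (Set.range (pullback.snd j π).base) :=
    isIrreducible_iff_irreducibleSpace.mp (isIrreducible_of_genericPoint_mem _ hmem)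
  exact (hemb.toHomeomorph.irreducibleSpace_iff).mpr h3

variable {k : Type u} [Field k] {X : Scheme.{u}} (f : X ⟶ Spec (CommRingCat.of k))

/-- **(H)**: if `X` and `X_E` are irreducible, then `κ(ξ) ⊗_k E` has irreducible spectrum. -/
theorem irreducibleSpace_tensor_of_irreducibleSpace_bc [IrreducibleSpace X]
    (φ : k →+* X.residueField (genericPoint X))
    (hφ : Spec.map (CommRingCat.ofHom φ) = X.fromSpecResidueField (genericPoint X) ≫ f)
    (E : Type u) [Field E] [Algebra k E]
    [IrreducibleSpace ↥(pullback f (Spec.map (CommRingCat.ofHom (algebraMap k E))))] :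
    letI := φ.toAlgebra
    IrreducibleSpace (PrimeSpectrum (X.residueField (genericPoint X) ⊗[k] E)) := by
  letI : Algebra k (X.residueField (genericPoint X)) := φ.toAlgebra
  set y := Spec.map (CommRingCat.ofHom (algebraMap k E)) with hy
  set j := X.fromSpecResidueField (genericPoint X) with hj
  have hsurj : Function.Surjective (pullback.fst f y).base := by
    haveI : Surjective y :=
      ⟨fun x => ⟨Nonempty.some inferInstance, by
        haveI : Subsingleton ↥(Spec (CommRingCat.of k)) :=
          inferInstanceAs (Subsingleton (PrimeSpectrum k))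
        exact Subsingleton.elim _ _⟩⟩
    exact (pullback.fst f y).surjective
  have h1 : IrreducibleSpace ↥(pullback j (pullback.fst f y)) :=
    irreducibleSpace_generic_fibre (pullback.fst f y) hsurj
  have h2 : IrreducibleSpace ↥(pullback (j ≫ f) y) :=
    ((pullbackRightPullbackFstIso f y j).hom.homeomorph.irreducibleSpace_iff).1 h1
  have hφ' : j ≫ f = Spec.map (CommRingCat.ofHom (algebraMap k (X.residueField (genericPoint X)))) :=
    hφ.symm
  rw [hφ'] at h2
  have h3 : IrreducibleSpace ↥(Spec (CommRingCat.of (X.residueField (genericPoint X) ⊗[k] E))) :=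
    ((pullbackSpecIso k (X.residueField (genericPoint X)) E).hom.homeomorph.irreducibleSpace_iff).1
      h2
  exact h3

/-- **S1540 (⇒)** -/
theorem mem_range_of_geometricallyIrreducible [IrreducibleSpace X]
    (φ : k →+* X.residueField (genericPoint X))
    (hφ : Spec.map (CommRingCat.ofHom φ) = X.fromSpecResidueField (genericPoint X) ≫ f)
    (hirr : ∀ (E : Type u) [Field E] [Algebra k E] [FiniteDimensional k E]
      [Algebra.IsSeparable k E],
      IrreducibleSpace ↥(pullback f (Spec.map (CommRingCat.ofHom (algebraMap k E)))))
    (α : X.residueField (genericPoint X)) (hα : letI := φ.toAlgebra; IsSeparable k α) :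
    α ∈ φ.range := by
  letI : Algebra k (X.residueField (genericPoint X)) := φ.toAlgebra
  let E : IntermediateField k (X.residueField (genericPoint X)) := IntermediateField.adjoin k {α}
  haveI hfd : FiniteDimensional k E := IntermediateField.adjoin.finiteDimensional hα.isIntegral
  haveI hsep : Algebra.IsSeparable k E :=
    (IntermediateField.isSeparable_adjoin_simple_iff_isSeparable k
      (X.residueField (genericPoint X))).mpr hα
  haveI := hirr E
  have h1 := irreducibleSpace_tensor_of_irreducibleSpace_bc f φ hφ E
  have h2 : IrreducibleSpace (PrimeSpectrum (E ⊗[k] X.residueField (genericPoint X))) :=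
    (PrimeSpectrum.homeomorphOfRingEquiv
      (Algebra.TensorProduct.comm k (X.residueField (genericPoint X)) E).toRingEquiv
      ).irreducibleSpace_iff.mp h1
  exact Groth.Agent.Helper14.SepClosedIn.mem_range_of_isSeparable_of_irreducible α hα h2

end Groth.Agent.Helper4.GeomIrrSep
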