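import Mathlib
import Groth.Agent.Lib.Helper4.GeomIrrSep
import Groth.Agent.Lib.Helper4.DedFlat

/-!
# Towers of base field extensions and irreducible components (helper4)
-/

set_option autoImplicit false
set_option linter.style.haveILetI false
universe u
open AlgebraicGeometry CategoryTheory CategoryTheory.Limits TensorProduct

namespace Groth.Agent.Helper4.BCTower

section Top

variable {W' W V X : Type*} [TopologicalSpace W'] [TopologicalSpace W] [TopologicalSpace V]
  [TopologicalSpace X]

/-- the generic point of an irreducible component is a maximal point -/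
theorem maximal_of_isGenericPoint [T0Space W] {T : Set W} (hT : T ∈ irreducibleComponents W)
    {τ : W} (hτ : IsGenericPoint τ T) (ξ : W) (h : ξ ⤳ τ) : ξ = τ := by
  have h1 : T ⊆ closure {ξ} := by
    rw [← hτ.def]
    exact closure_minimal (Set.singleton_subset_iff.mpr h.mem_closure) isClosed_closure
  have h2 : closure {ξ} ⊆ T := hT.2 isIrreducible_singleton.closure h1
  have h3 : τ ⤳ ξ := by
    rw [specializes_iff_mem_closure, hτ.def]
    exact h2 (subset_closure rfl)
  exact (h.antisymm h3).eq

/-- generizing maps send irreducible components into dense subsets of irreducible components -/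
theorem closure_image_mem_irreducibleComponents [QuasiSober W] [T0Space W] [QuasiSober X]
    [T0Space X] {π : W → X} (hc : Continuous π) (hg : GeneralizingMap π) {T : Set W}
    (hT : T ∈ irreducibleComponents W) : closure (π '' T) ∈ irreducibleComponents X := by
  obtain ⟨τ, hτ⟩ := QuasiSober.sober hT.1 (isClosed_of_mem_irreducibleComponents T hT)
  have hmax : ∀ ξ : X, ξ ⤳ π τ → ξ = π τ := by
    intro ξ hξ
    obtain ⟨τ', hτ', rfl⟩ := hg hξ
    rw [maximal_of_isGenericPoint hT hτ τ' hτ']
  have h1 : closure (π '' T) = closure {π τ} := by
    apply subset_antisymm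
    · apply closure_minimal _ isClosed_closure
      rw [← hτ.def]
      exact (image_closure_subset_closure_image hc).trans (by rw [Set.image_singleton])
    · apply closure_mono
      rw [Set.singleton_subset_iff]
      exact ⟨τ, hτ.mem, rfl⟩
  rw [h1]
  exact Groth.Agent.Helper4.DedFlat.closure_mem_irreducibleComponents _ hmax

/-- open map with irreducible fibres followed by a closed generizing map: images of irreducible
components are irreducible components -/
theorem image_comp_mem_irreducibleComponents [QuasiSober V] [T0Space V] [QuasiSober X]
    [T0Space X] {r : W' → V} {s : V → X} (hr : Continuous r) (hro : IsOpenMap r)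
    (hrf : ∀ x, IsPreirreducible (r ⁻¹' {x})) (hrs : Function.Surjective r)
    (hs : Continuous s) (hsc : IsClosedMap s) (hsg : GeneralizingMap s)
    {T' : Set W'} (hT' : T' ∈ irreducibleComponents W') :
    s '' (r '' T') ∈ irreducibleComponents X := by
  have h1 : r '' T' ∈ irreducibleComponents V :=
    image_mem_irreducibleComponents_of_isPreirreducible_fiber r hr hro hrf hrs hT'
  have h2 := closure_image_mem_irreducibleComponents hs hsg h1
  rwa [(hsc _ (isClosed_of_mem_irreducibleComponents _ h1)).closure_eq] at h2

/-- descent of "images of irreducible components are irreducible components" along a surjective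
generizing map -/
theorem image_mem_irreducibleComponents_of_comp [QuasiSober W'] [QuasiSober W] [T0Space W]
    [QuasiSober X] [T0Space X] {q : W' → W} {π : W → X} (hq : Continuous q)
    (hqs : Function.Surjective q) (hπ : Continuous π) (hπg : GeneralizingMap π)
    (H : ∀ T' ∈ irreducibleComponents W', π '' (q '' T') ∈ irreducibleComponents X)
    {T : Set W} (hT : T ∈ irreducibleComponents W) : π '' T ∈ irreducibleComponents X := by
  obtain ⟨τ, hτ⟩ := QuasiSober.sober hT.1 (isClosed_of_mem_irreducibleComponents T hT)
  obtain ⟨t', ht'⟩ := hqs τ
  have hT' := irreducibleComponent_mem_irreducibleComponents t'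
  obtain ⟨τ', hτ'⟩ := QuasiSober.sober hT'.1 (isClosed_of_mem_irreducibleComponents _ hT')
  have h1 : τ' ⤳ t' := by
    rw [specializes_iff_mem_closure, hτ'.def]
    exact mem_irreducibleComponent
  have h2 : q τ' = τ := by
    apply maximal_of_isGenericPoint hT hτ
    rw [← ht']
    exact h1.map hq
  have h3 : q '' irreducibleComponent t' ⊆ T := by
    rw [← hτ'.def, ← hτ.def]
    refine (image_closure_subset_closure_image hq).trans ?_
    rw [Set.image_singleton, h2]
  have h4 := H _ hT'
  have h5 := closure_image_mem_irreducibleComponents hπ hπg hT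
  have h6 : π '' (q '' irreducibleComponent t') ⊆ π '' T := Set.image_mono h3
  have h7 : closure (π '' T) ⊆ π '' (q '' irreducibleComponent t') :=
    h4.2 h5.1 (h6.trans subset_closure)
  have h8 : π '' T = closure (π '' T) :=
    subset_antisymm subset_closure (h7.trans h6)
  rw [h8]
  exact h5

/-- every irreducible component downstairs is the image of one upstairs -/
theorem exists_image_eq [QuasiSober W] [T0Space W] [QuasiSober X] [T0Space X] {π : W → X}
    (hπ : Continuous π) (hπs : Function.Surjective π)
    (H : ∀ T ∈ irreducibleComponents W, π '' T ∈ irreducibleComponents X)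
    {Z : Set X} (hZ : Z ∈ irreducibleComponents X) :
    ∃ T ∈ irreducibleComponents W, π '' T = Z := by
  obtain ⟨ξ, hξ⟩ := QuasiSober.sober hZ.1 (isClosed_of_mem_irreducibleComponents Z hZ)
  obtain ⟨t, ht⟩ := hπs ξ
  have hT := irreducibleComponent_mem_irreducibleComponents t
  refine ⟨_, hT, ?_⟩
  have h1 := H _ hT
  have h2 : Z ⊆ π '' irreducibleComponent t := by
    rw [← hξ.def]
    apply closure_minimal _ (isClosed_of_mem_irreducibleComponents _ h1)
    rw [Set.singleton_subset_iff]
    exact ⟨t, mem_irreducibleComponent, ht⟩
  exact subset_antisymm (hZ.2 h1.1 h2) h2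

end Top

section Sch

variable {k : Type u} [Field k] (E K : Type u) [Field E] [Field K] [Algebra k E] [Algebra E K]
  [Algebra k K] [IsScalarTower k E K] {X : Scheme.{u}} (f : X ⟶ Spec (CommRingCat.of k))

/-- `Spec K ⟶ Spec k` -/
noncomputable abbrev yK (K : Type u) [Field K] [Algebra k K] :
    Spec (CommRingCat.of K) ⟶ Spec (CommRingCat.of k) :=
  Spec.map (CommRingCat.ofHom (algebraMap k K))

/-- `Spec K ⟶ Spec E` -/
noncomputable abbrev ιT : Spec (CommRingCat.of K) ⟶ Spec (CommRingCat.of E) :=
  Spec.map (CommRingCat.ofHom (algebraMap E K))

theorem ιT_yK : ιT E K ≫ yK (k := k) E = yK K := by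
  rw [← Spec.map_comp, ← CommRingCat.ofHom_comp, ← IsScalarTower.algebraMap_eq]

/-- the projection `X_K ⟶ X_E` -/
noncomputable def pT : pullback f (yK K) ⟶ pullback f (yK E) :=
  pullback.map f (yK K) f (yK E) (𝟙 X) (ιT E K) (𝟙 _) (by simp)
    (by rw [Category.comp_id, ιT_yK])

@[reassoc (attr := simp)]
theorem pT_fst : pT E K f ≫ pullback.fst f (yK E) = pullback.fst f (yK K) :=
  (pullback.lift_fst _ _ _).trans (Category.comp_id _)

@[reassoc (attr := simp)]
theorem pT_snd : pT E K f ≫ pullback.snd f (yK E) = pullback.snd f (yK K) ≫ ιT E K :=
  pullback.lift_snd _ _ _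

theorem isPullback_pT :
    IsPullback (pT E K f) (pullback.snd f (yK K)) (pullback.snd f (yK E)) (ιT E K) := by
  refine IsPullback.of_right ?_ (pT_snd E K f) (IsPullback.of_hasPullback f (yK E))
  rw [pT_fst, ιT_yK]
  exact IsPullback.of_hasPullback f (yK K)

instance subsingleton_spec_field (F : Type u) [Field F] :
    Subsingleton ↥(Spec (CommRingCat.of F)) :=
  inferInstanceAs (Subsingleton (PrimeSpectrum F))

theorem surjective_ιT : Surjective (ιT E K) :=
  ⟨fun _ => ⟨Nonempty.some inferInstance, Subsingleton.elim _ _⟩⟩

theorem pT_surjective : Function.Surjective (pT E K f).base := by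
  have h : Surjective (pT E K f) :=
    MorphismProperty.of_isPullback (P := @Surjective) (isPullback_pT E K f).flip
      (surjective_ιT E K)
  exact h.surj

theorem pT_isOpenMap : IsOpenMap (pT E K f).base := by
  haveI h : UniversallyOpen (pT E K f) :=
    MorphismProperty.of_isPullback (P := @UniversallyOpen) (isPullback_pT E K f).flip
      inferInstance
  exact (pT E K f).isOpenMap

theorem pT_generalizingMap : GeneralizingMap (pT E K f).base := by
  haveI h : Flat (pT E K f) :=
    MorphismProperty.of_isPullback (P := @Flat) (isPullback_pT E K f).flip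
      inferInstance
  exact Flat.generalizingMap (pT E K f)

theorem pT_isClosedMap [Algebra.IsAlgebraic E K] : IsClosedMap (pT E K f).base := by
  haveI hint : IsIntegralHom (ιT E K) := by
    rw [IsIntegralHom.SpecMap_iff]
    exact algebraMap_isIntegral_iff.2 inferInstance
  haveI h : IsIntegralHom (pT E K f) :=
    MorphismProperty.of_isPullback (P := @IsIntegralHom) (isPullback_pT E K f).flip hint
  exact (pT E K f).isClosedMap

theorem pT_geometricallyIrreducible [IsSepClosed E] : GeometricallyIrreducible (pT E K f) := by
  haveI : IrreducibleSpace ↥(Spec (CommRingCat.of K)) :=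
    inferInstanceAs (IrreducibleSpace (PrimeSpectrum K))
  haveI hgi : GeometricallyIrreducible (ιT E K) :=
    Groth.Agent.Helper4.GeomIrrSep.geometricallyIrreducible_of_isSepClosed _
  exact MorphismProperty.of_isPullback (P := @GeometricallyIrreducible)
    (isPullback_pT E K f).flip hgi

end Sch

section Main

variable {k : Type u} [Field k] {X : Scheme.{u}} (f : X ⟶ Spec (CommRingCat.of k))

theorem fst_surjective (K : Type u) [Field K] [Algebra k K] :
    Function.Surjective (pullback.fst f (yK K)).base := by
  haveI : Surjective (yK (k := k) K) :=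
    ⟨fun _ => ⟨Nonempty.some inferInstance, Subsingleton.elim _ _⟩⟩
  exact (pullback.fst f (yK K)).surjective

theorem fst_isClosedMap (K : Type u) [Field K] [Algebra k K] [Algebra.IsAlgebraic k K] :
    IsClosedMap (pullback.fst f (yK K)).base := by
  haveI hint : IsIntegralHom (yK (k := k) K) := by
    rw [IsIntegralHom.SpecMap_iff]
    exact algebraMap_isIntegral_iff.2 inferInstance
  exact (pullback.fst f (yK K)).isClosedMap

/-- the image in `X` of an irreducible component of `X_K` is an irreducible component -/
theorem image_fst_mem_irreducibleComponents (K : Type u) [Field K] [Algebra k K]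
    {T : Set ↥(pullback f (yK K))} (hT : T ∈ irreducibleComponents ↥(pullback f (yK K))) :
    (pullback.fst f (yK K)).base '' T ∈ irreducibleComponents ↥X := by
  let φ : SeparableClosure k →ₐ[k] AlgebraicClosure K := IsSepClosed.lift
  letI : Algebra (SeparableClosure k) (AlgebraicClosure K) := φ.toRingHom.toAlgebra
  haveI : IsScalarTower k (SeparableClosure k) (AlgebraicClosure K) :=
    IsScalarTower.of_algebraMap_eq (fun x => (φ.commutes x).symm)
  refine image_mem_irreducibleComponents_of_comp
    (q := (pT K (AlgebraicClosure K) f).base)
    (pT K (AlgebraicClosure K) f).continuous (pT_surjective K (AlgebraicClosure K) f)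
    (pullback.fst f (yK K)).continuous (Flat.generalizingMap _) ?_ hT
  intro T' hT'
  have h1 := image_comp_mem_irreducibleComponents
    (r := (pT (SeparableClosure k) (AlgebraicClosure K) f).base)
    (s := (pullback.fst f (yK (SeparableClosure k))).base)
    (pT (SeparableClosure k) (AlgebraicClosure K) f).continuous
    (pT_isOpenMap (SeparableClosure k) (AlgebraicClosure K) f)
    (fun x => by
      haveI := pT_geometricallyIrreducible (SeparableClosure k) (AlgebraicClosure K) f
      exact ((pT (SeparableClosure k) (AlgebraicClosure K) f).isIrreducible_preimage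
        (pT_isOpenMap (SeparableClosure k) (AlgebraicClosure K) f)
        isIrreducible_singleton).isPreirreducible)
    (pT_surjective (SeparableClosure k) (AlgebraicClosure K) f)
    (pullback.fst f (yK (SeparableClosure k))).continuous
    (fst_isClosedMap f (SeparableClosure k)) (Flat.generalizingMap _) hT'
  have h2 : (pullback.fst f (yK K)).base '' ((pT K (AlgebraicClosure K) f).base '' T') =
      (pullback.fst f (yK (SeparableClosure k))).base ''
        ((pT (SeparableClosure k) (AlgebraicClosure K) f).base '' T') := by
    rw [← Set.image_comp, ← Set.image_comp]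
    have e1 : (pullback.fst f (yK K)).base ∘ (pT K (AlgebraicClosure K) f).base =
        (pullback.fst f (yK (AlgebraicClosure K))).base := by
      rw [← pT_fst K (AlgebraicClosure K) f]; rfl
    have e2 : (pullback.fst f (yK (SeparableClosure k))).base ∘
        (pT (SeparableClosure k) (AlgebraicClosure K) f).base =
        (pullback.fst f (yK (AlgebraicClosure K))).base := by
      rw [← pT_fst (SeparableClosure k) (AlgebraicClosure K) f]; rfl
    rw [e1, e2]
  rw [h2]
  exact h1

/-- every irreducible component of `X` is the image of an irreducible component of `X_K` -/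
theorem exists_image_fst_eq (K : Type u) [Field K] [Algebra k K]
    {Z : Set ↥X} (hZ : Z ∈ irreducibleComponents ↥X) :
    ∃ T ∈ irreducibleComponents ↥(pullback f (yK K)), (pullback.fst f (yK K)).base '' T = Z :=
  exists_image_eq (pullback.fst f (yK K)).continuous (fst_surjective f K)
    (fun _ hT => image_fst_mem_irreducibleComponents f K hT) hZ

end Main

end Groth.Agent.Helper4.BCTower
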