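import Mathlib

/-!
# Connected components of a "limit" of finite-level spaces (helper4)

Abstract topological core of: the image of a connected component of `X_K` in `X` is a connected
component (`K/k` algebraic).
-/

set_option autoImplicit false
set_option linter.style.haveILetI false

namespace Groth.Agent.Helper4.ConnLimTop

open Set Topology TopologicalSpace

section Sep

variable {S : Type*} [TopologicalSpace S] [CompactSpace S] [QuasiSeparatedSpace S]
  [PrespectralSpace S]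

/-- compact open neighbourhood of a closed set inside an open set -/
theorem exists_isCompact_isOpen_between {A O : Set S} (hA : IsClosed A) (hO : IsOpen O)
    (hAO : A ⊆ O) : ∃ V : Set S, IsOpen V ∧ IsCompact V ∧ A ⊆ V ∧ V ⊆ O := by
  have hAc : IsCompact A := hA.isCompact
  have hex : ∀ a, a ∈ A → ∃ v ∈ {U : Set S | IsOpen U ∧ IsCompact U}, a ∈ v ∧ v ⊆ O :=
    fun a ha => PrespectralSpace.isTopologicalBasis.exists_subset_of_mem_open (hAO ha) hO
  choose! V hV using hex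
  obtain ⟨T, hTA, hcov⟩ := hAc.elim_nhds_subcover V
    (fun a ha => (hV a ha).1.1.mem_nhds (hV a ha).2.1)
  exact ⟨⋃ a ∈ T, V a, isOpen_biUnion fun a ha => (hV a (hTA a ha)).1.1,
    T.isCompact_biUnion fun a ha => (hV a (hTA a ha)).1.2, hcov,
    iUnion₂_subset fun a ha => (hV a (hTA a ha)).2.2⟩

/-- in a spectral space, a decomposition of a directed intersection of clopens into two disjoint
closed sets is induced by a clopen of the ambient space -/
theorem exists_isClopen_separating {ι : Type*} [Preorder ι] [IsDirectedOrder ι] [Nonempty ι]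
    (C : ι → Set S) (hC : ∀ i, IsClopen (C i)) (hmono : ∀ i j, i ≤ j → C j ⊆ C i)
    {A B : Set S} (hA : IsClosed A) (hB : IsClosed B) (hAB : Disjoint A B)
    (hQ : A ∪ B = ⋂ i, C i) :
    ∃ U : Set S, IsClopen U ∧ A ⊆ U ∧ Disjoint U B := by
  obtain ⟨O₁, hO₁o, hO₁c, hAO₁, hO₁B⟩ :=
    exists_isCompact_isOpen_between hA hB.isOpen_compl (fun a ha hb => hAB.le_bot ⟨ha, hb⟩)
  obtain ⟨O₂, hO₂o, hO₂c, hBO₂, hO₂A⟩ :=
    exists_isCompact_isOpen_between hB hA.isOpen_compl (fun b hb ha => hAB.le_bot ⟨ha, hb⟩)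
  have hdir : Directed (· ⊇ ·) C := by
    intro i j
    obtain ⟨l, hil, hjl⟩ := exists_ge_ge i j
    exact ⟨l, hmono i l hil, hmono j l hjl⟩
  have hK₁ : IsCompact (O₁ ∪ O₂)ᶜ := (hO₁o.union hO₂o).isClosed_compl.isCompact
  have hK₂ : IsCompact (O₁ ∩ O₂) := hO₁c.inter_of_isOpen hO₂c hO₁o hO₂o
  have h1 : (O₁ ∪ O₂)ᶜ ∩ ⋂ i, C i = ∅ := by
    rw [← hQ]
    ext x
    simp only [mem_inter_iff, mem_compl_iff, mem_union, mem_empty_iff_false, iff_false, not_and]
    rintro hx (ha | hb)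
    · exact hx (Or.inl (hAO₁ ha))
    · exact hx (Or.inr (hBO₂ hb))
  have h2 : (O₁ ∩ O₂) ∩ ⋂ i, C i = ∅ := by
    rw [← hQ]
    ext x
    simp only [mem_inter_iff, mem_union, mem_empty_iff_false, iff_false, not_and]
    rintro ⟨hx1, hx2⟩ (ha | hb)
    · exact hO₂A hx2 ha
    · exact hO₁B hx1 hb
  obtain ⟨i₁, hi₁⟩ := hK₁.elim_directed_family_closed C (fun i => (hC i).1) h1 hdir
  obtain ⟨i₂, hi₂⟩ := hK₂.elim_directed_family_closed C (fun i => (hC i).1) h2 hdir
  obtain ⟨j, hj₁, hj₂⟩ := exists_ge_ge i₁ i₂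
  have heq : C j ∩ O₁ = C j ∩ O₂ᶜ := by
    ext x
    simp only [mem_inter_iff, mem_compl_iff]
    constructor
    · rintro ⟨hx, hx1⟩
      refine ⟨hx, fun hx2 => ?_⟩
      have : x ∈ (O₁ ∩ O₂) ∩ C i₂ := ⟨⟨hx1, hx2⟩, hmono i₂ j hj₂ hx⟩
      rw [hi₂] at this
      exact this
    · rintro ⟨hx, hx2⟩
      refine ⟨hx, ?_⟩
      by_contra hx1
      have : x ∈ (O₁ ∪ O₂)ᶜ ∩ C i₁ := ⟨fun h => h.elim hx1 hx2, hmono i₁ j hj₁ hx⟩
      rw [hi₁] at this
      exact this
  refine ⟨C j ∩ O₁, ⟨?_, (hC j).2.inter hO₁o⟩, ?_, ?_⟩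
  · rw [heq]
    exact (hC j).1.inter hO₂o.isClosed_compl
  · intro a ha
    refine ⟨?_, hAO₁ ha⟩
    have : a ∈ ⋂ i, C i := hQ ▸ Or.inl ha
    exact mem_iInter.mp this j
  · rw [Set.disjoint_left]
    rintro x ⟨-, hx1⟩ hb
    exact hO₁B hx1 hb

end Sep

section Fin

variable {X Y : Type*} [TopologicalSpace X] [TopologicalSpace Y]

/-- an open and closed map onto a connected space with one finite fibre has clopen connected
components in the source -/
theorem isClopen_connectedComponent_of_finite_fiber [ConnectedSpace Y] {f : X → Y}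
    (hf₁ : IsOpenMap f) (hf₂ : IsClosedMap f) {y : Y} (hy : (f ⁻¹' {y}).Finite) (x : X) :
    IsClopen (connectedComponent x) := by
  haveI : Finite (ConnectedComponents X) :=
    hf₁.finite_connectedComponents_of_finite_preimage_singleton_of_connectedSpace hf₂ hy
  rw [← connectedComponents_preimage_singleton]
  exact (isClopen_discrete _).preimage ConnectedComponents.continuous_coe

/-- nonempty clopen sets surject under open closed maps to connected spaces -/
theorem image_eq_univ_of_isClopen [PreconnectedSpace Y] {f : X → Y}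
    (hf₁ : IsOpenMap f) (hf₂ : IsClosedMap f) {U : Set X} (hU : IsClopen U) (hne : U.Nonempty) :
    f '' U = univ :=
  IsClopen.eq_univ ⟨hf₂ _ hU.1, hf₁ _ hU.2⟩ (hne.image f)

end Fin

section Main

variable {ι : Type*} [Preorder ι] [IsDirectedOrder ι] [Nonempty ι]
  {P X : Type*} [TopologicalSpace P] [TopologicalSpace X]
  {Xi : ι → Type*} [∀ i, TopologicalSpace (Xi i)]
  (s : P → X) (r : ∀ i, P → Xi i) (σ : ∀ i, Xi i → X)

/-- the hypotheses on a tower `P → Xi i → X` of finite levels -/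
structure Tower : Prop where
  hσr : ∀ i t, σ i (r i t) = s t
  hrc : ∀ i, Continuous (r i)
  hro : ∀ i, IsOpenMap (r i)
  hrcl : ∀ i, IsClosedMap (r i)
  hrk : ∀ i y, IsCompact (r i ⁻¹' {y})
  hsk : ∀ x, IsCompact (s ⁻¹' {x})
  hσo : ∀ i, IsOpenMap (σ i)
  hσcl : ∀ i, IsClosedMap (σ i)
  hσfin : ∀ i, ∃ x, (σ i ⁻¹' {x}).Finite
  hq : ∀ i j, i ≤ j → ∃ q : Xi j → Xi i, Continuous q ∧ ∀ t, q (r j t) = r i t

/-- local descent of relatively clopen subsets of "pro-clopen" subsets to a finite level -/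
def LocalDescent : Prop :=
  ∀ (D : ∀ i, Set (Xi i)), (∀ i, IsClopen (D i)) → (∀ i j, i ≤ j → r j ⁻¹' D j ⊆ r i ⁻¹' D i) →
    ∀ A B : Set P, IsClosed A → IsClosed B → Disjoint A B → A ∪ B = ⋂ i, r i ⁻¹' D i →
    ∀ a ∈ A, ∃ i, ∃ U : Set (Xi i), IsOpen U ∧ r i a ∈ U ∧ (⋂ i, r i ⁻¹' D i) ∩ r i ⁻¹' U ⊆ A

variable {s r σ}

/-- **Main topological theorem**: in a tower of finite levels over a connected base, the connected
component of a point of the limit is the intersection of the preimages of the connected components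
at the finite levels, and it surjects onto the base. -/
theorem connectedComponent_eq_iInter_and_image [ConnectedSpace X] (T : Tower s r σ)
    (hld : LocalDescent r) (t : P) :
    connectedComponent t = ⋂ i, r i ⁻¹' connectedComponent (r i t) ∧
      (∀ i, r i '' connectedComponent t = connectedComponent (r i t)) ∧
      s '' connectedComponent t = univ := by
  classical
  have hclopen : ∀ i (y : Xi i), IsClopen (connectedComponent y) := by
    intro i y
    obtain ⟨x, hx⟩ := T.hσfin i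
    exact isClopen_connectedComponent_of_finite_fiber (T.hσo i) (T.hσcl i) hx y
  set D : ∀ i, Set (Xi i) := fun i => connectedComponent (r i t) with hD
  have hDc : ∀ i, IsClopen (D i) := fun i => hclopen i _
  have hfac : ∀ i j, i ≤ j → ∀ t₁ t₂, r j t₁ = r j t₂ → r i t₁ = r i t₂ := by
    intro i j hij t₁ t₂ h
    obtain ⟨q, -, hq⟩ := T.hq i j hij
    rw [← hq t₁, ← hq t₂, h]
  have hsfac : ∀ i t₁ t₂, r i t₁ = r i t₂ → s t₁ = s t₂ := by
    intro i t₁ t₂ h
    rw [← T.hσr i t₁, ← T.hσr i t₂, h]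
  have hsopen : IsOpenMap s := by
    obtain ⟨i⟩ := ‹Nonempty ι›
    have : s = σ i ∘ r i := funext fun t => (T.hσr i t).symm
    rw [this]
    exact (T.hσo i).comp (T.hro i)
  have hsclosed : IsClosedMap s := by
    obtain ⟨i⟩ := ‹Nonempty ι›
    have : s = σ i ∘ r i := funext fun t => (T.hσr i t).symm
    rw [this]
    exact (T.hσcl i).comp (T.hrcl i)
  have h3a : ∀ i j, i ≤ j → ∀ t', r j t' ∈ D j → r i t' ∈ D i := by
    intro i j hij t' ht'
    obtain ⟨q, hqc, hq⟩ := T.hq i j hij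
    have h1 : q '' D j ⊆ D i := by
      have hconn : IsPreconnected (q '' D j) :=
        isPreconnected_connectedComponent.image q hqc.continuousOn
      have hmem : r i t ∈ q '' D j := ⟨r j t, mem_connectedComponent, hq t⟩
      exact hconn.subset_connectedComponent hmem
    rw [← hq t']
    exact h1 ⟨_, ht', rfl⟩
  have h3b : ∀ i j, i ≤ j → ∀ y ∈ D i, ∃ t', r i t' = y ∧ r j t' ∈ D j := by
    intro i j hij y hy
    have hcl : IsClopen (r i '' (r j ⁻¹' D j)) :=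
      ⟨T.hrcl i _ ((hDc j).1.preimage (T.hrc j)), T.hro i _ ((hDc j).2.preimage (T.hrc j))⟩
    have hmem : r i t ∈ r i '' (r j ⁻¹' D j) := ⟨t, mem_connectedComponent, rfl⟩
    obtain ⟨t', ht', rfl⟩ := hcl.connectedComponent_subset hmem hy
    exact ⟨t', rfl, ht'⟩
  set Y : Set P := ⋂ i, r i ⁻¹' D i with hY
  have hYcl : IsClosed Y := isClosed_iInter fun i => (hDc i).1.preimage (T.hrc i)
  have hmonoD : ∀ i j, i ≤ j → r j ⁻¹' D j ⊆ r i ⁻¹' D i :=
    fun i j hij t' ht' => h3a i j hij t' ht'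
  have h5 : ∀ i, ∀ y ∈ D i, ∃ t' ∈ Y, r i t' = y := by
    intro i y hy
    have := (T.hrk i y).inter_iInter_nonempty (fun j => r j ⁻¹' D j)
      (fun j => (hDc j).1.preimage (T.hrc j)) ?_
    · obtain ⟨t', ht'y, ht'Y⟩ := this
      exact ⟨t', ht'Y, ht'y⟩
    intro u
    obtain ⟨l, hl⟩ := Finset.exists_le (insert i u)
    obtain ⟨t', ht', ht'l⟩ := h3b i l (hl i (Finset.mem_insert_self i u)) y hy
    refine ⟨t', ht', ?_⟩
    simp only [mem_iInter]
    intro j hj
    exact h3a j l (hl j (Finset.mem_insert_of_mem hj)) t' ht'l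
  -- the key local statement
  have key : ∀ (A B : Set P), IsClosed A → IsClosed B → Disjoint A B → A ∪ B = Y →
      ∀ i, ∀ a ∈ A, ∀ b ∈ B, r i a = r i b →
      ∃ O : Set X, IsOpen O ∧ s a ∈ O ∧ O ⊆ s '' (Y ∩ r i ⁻¹' (r i '' A ∩ r i '' B)) := by
    intro A B hAcl hBcl hABd hABY i a ha b hb hab
    obtain ⟨ja, Ua, hUao, haUa, hUaA⟩ := hld D hDc hmonoD A B hAcl hBcl hABd hABY a ha
    obtain ⟨jb, Ub, hUbo, hbUb, hUbB⟩ := hld D hDc hmonoD B A hBcl hAcl hABd.symm
      (by rw [union_comm]; exact hABY) b hb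
    obtain ⟨j, hij, hja, hjb⟩ : ∃ j, i ≤ j ∧ ja ≤ j ∧ jb ≤ j := by
      obtain ⟨l, h1, h2⟩ := exists_ge_ge ja jb
      obtain ⟨j, h3, h4⟩ := exists_ge_ge i l
      exact ⟨j, h3, h1.trans h4, h2.trans h4⟩
    set Ga : Set P := r ja ⁻¹' Ua ∩ r j ⁻¹' D j with hGa
    set Gb : Set P := r jb ⁻¹' Ub ∩ r j ⁻¹' D j with hGb
    have hGao : IsOpen Ga := (hUao.preimage (T.hrc ja)).inter ((hDc j).2.preimage (T.hrc j))
    have hGbo : IsOpen Gb := (hUbo.preimage (T.hrc jb)).inter ((hDc j).2.preimage (T.hrc j))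
    have haY : a ∈ Y := hABY ▸ Or.inl ha
    have hbY : b ∈ Y := hABY ▸ Or.inr hb
    have haGa : a ∈ Ga := ⟨haUa, mem_iInter.mp haY j⟩
    have hbGb : b ∈ Gb := ⟨hbUb, mem_iInter.mp hbY j⟩
    set Oi : Set (Xi i) := r i '' Ga ∩ r i '' Gb with hOi
    have hOio : IsOpen Oi := (T.hro i _ hGao).inter (T.hro i _ hGbo)
    have hzOi : r i a ∈ Oi := ⟨⟨a, haGa, rfl⟩, ⟨b, hbGb, hab.symm⟩⟩
    set N : Set P := Ga ∩ r i ⁻¹' Oi with hN
    have hNo : IsOpen N := hGao.inter (hOio.preimage (T.hrc i))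
    refine ⟨s '' N, hsopen _ hNo, ⟨a, ⟨haGa, hzOi⟩, rfl⟩, ?_⟩
    rintro _ ⟨t₁, ⟨⟨ht₁Ua, ht₁D⟩, ht₁O⟩, rfl⟩
    obtain ⟨t₂, ht₂Y, ht₂⟩ := h5 j (r j t₁) ht₁D
    have ht₂A : t₂ ∈ A := hUaA ⟨ht₂Y, by
      show r ja t₂ ∈ Ua
      rw [hfac ja j hja t₂ t₁ ht₂]
      exact ht₁Ua⟩
    have hri : r i t₂ = r i t₁ := hfac i j hij t₂ t₁ ht₂
    obtain ⟨t₃, ⟨ht₃Ub, ht₃D⟩, ht₃⟩ := ht₁O.2
    obtain ⟨t₄, ht₄Y, ht₄⟩ := h5 j (r j t₃) ht₃D
    have ht₄B : t₄ ∈ B := hUbB ⟨ht₄Y, by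
      show r jb t₄ ∈ Ub
      rw [hfac jb j hjb t₄ t₃ ht₄]
      exact ht₃Ub⟩
    have hri4 : r i t₄ = r i t₁ := (hfac i j hij t₄ t₃ ht₄).trans ht₃
    exact ⟨t₂, ⟨ht₂Y, ⟨t₂, ht₂A, rfl⟩, ⟨t₄, ht₄B, by rw [hri4, hri]⟩⟩, hsfac j t₂ t₁ ht₂⟩
  have hYpre : IsPreconnected Y := by
    rw [isPreconnected_iff_subset_of_fully_disjoint_closed hYcl]
    intro u v hu hv hYuv huv
    set A := Y ∩ u with hA
    set B := Y ∩ v with hB
    have hAcl : IsClosed A := hYcl.inter hu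
    have hBcl : IsClosed B := hYcl.inter hv
    have hABd : Disjoint A B := huv.mono inter_subset_right inter_subset_right
    have hABY : A ∪ B = Y := by
      rw [hA, hB, ← inter_union_distrib_left]
      exact inter_eq_left.mpr hYuv
    have hAY : A ⊆ Y := inter_subset_left
    have hBY : B ⊆ Y := inter_subset_left
    suffices h : A = ∅ ∨ B = ∅ by
      rcases h with h | h
      · right
        intro y hy
        have : y ∈ A ∪ B := hABY ▸ hy
        rw [h, empty_union] at this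
        exact this.2
      · left
        intro y hy
        have : y ∈ A ∪ B := hABY ▸ hy
        rw [h, union_empty] at this
        exact this.2
    -- the sets `M i`
    have hMop : ∀ i, IsOpen (s '' (Y ∩ r i ⁻¹' (r i '' A ∩ r i '' B))) := by
      intro i
      rw [isOpen_iff_forall_mem_open]
      rintro _ ⟨a, ⟨haY, ⟨a', ha'A, ha'⟩, ⟨b', hb'B, hb'⟩⟩, rfl⟩
      have haAB : a ∈ A ∪ B := hABY ▸ haY
      rcases haAB with haA | haB
      · obtain ⟨O, hO, haO, hOsub⟩ := key A B hAcl hBcl hABd hABY i a haA b' hb'B hb'.symm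
        exact ⟨O, hOsub, hO, haO⟩
      · obtain ⟨O, hO, haO, hOsub⟩ := key A B hAcl hBcl hABd hABY i a' ha'A a haB ha'
        refine ⟨O, hOsub, hO, ?_⟩
        rw [← hsfac i a' a ha']
        exact haO
    have hMcl : ∀ i, IsClosed (s '' (Y ∩ r i ⁻¹' (r i '' A ∩ r i '' B))) := by
      intro i
      apply hsclosed
      exact hYcl.inter (((T.hrcl i _ hAcl).inter (T.hrcl i _ hBcl)).preimage (T.hrc i))
    obtain ⟨x⟩ : Nonempty X := inferInstance
    have hYx : IsCompact (Y ∩ s ⁻¹' {x}) := (T.hsk x).inter_left hYcl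
    have hex : ∀ y, y ∈ Y → ∃ (j : ι) (U : Set (Xi j)), IsOpen U ∧ r j y ∈ U ∧
        ((Y ∩ r j ⁻¹' U ⊆ A) ∨ (Y ∩ r j ⁻¹' U ⊆ B)) := by
      intro y hy
      have hyAB : y ∈ A ∪ B := hABY ▸ hy
      rcases hyAB with hyA | hyB
      · obtain ⟨j, U, hU, hyU, hsub⟩ := hld D hDc hmonoD A B hAcl hBcl hABd hABY y hyA
        exact ⟨j, U, hU, hyU, Or.inl hsub⟩
      · obtain ⟨j, U, hU, hyU, hsub⟩ := hld D hDc hmonoD B A hBcl hAcl hABd.symm
          (by rw [union_comm]; exact hABY) y hyB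
        exact ⟨j, U, hU, hyU, Or.inr hsub⟩
    choose! jy Uy hUy using hex
    obtain ⟨T', hT'sub, hcov⟩ := hYx.elim_nhds_subcover (fun y => r (jy y) ⁻¹' Uy y)
      (fun y hy => ((hUy y hy.1).1.preimage (T.hrc (jy y))).mem_nhds (hUy y hy.1).2.1)
    obtain ⟨i, hi⟩ := Finset.exists_le (T'.image jy)
    have hxM : x ∉ s '' (Y ∩ r i ⁻¹' (r i '' A ∩ r i '' B)) := by
      rintro ⟨a, ⟨haY, ⟨a₁, ha₁A, ha₁⟩, ⟨b₁, hb₁B, hb₁⟩⟩, hax⟩
      have ha₁x : a₁ ∈ Y ∩ s ⁻¹' {x} := ⟨hAY ha₁A, by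
        show s a₁ = x
        rw [hsfac i a₁ a ha₁, hax]⟩
      obtain ⟨y, hyT', ha₁N⟩ := mem_iUnion₂.mp (hcov ha₁x)
      have hjy : jy y ≤ i := hi _ (Finset.mem_image_of_mem _ hyT')
      have hyY : y ∈ Y := (hT'sub y hyT').1
      have hb₁N : b₁ ∈ r (jy y) ⁻¹' Uy y := by
        show r (jy y) b₁ ∈ Uy y
        rw [hfac (jy y) i hjy b₁ a₁ (hb₁.trans ha₁.symm)]
        exact ha₁N
      rcases (hUy y hyY).2.2 with hsub | hsub
      · exact hABd.le_bot ⟨hsub ⟨hBY hb₁B, hb₁N⟩, hb₁B⟩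
      · exact hABd.le_bot ⟨ha₁A, hsub ⟨hAY ha₁A, ha₁N⟩⟩
    have hMempty : Y ∩ r i ⁻¹' (r i '' A ∩ r i '' B) = ∅ := by
      have hclopen : IsClopen (s '' (Y ∩ r i ⁻¹' (r i '' A ∩ r i '' B))) := ⟨hMcl i, hMop i⟩
      rcases isClopen_iff.mp hclopen with h | h
      · exact image_eq_empty.mp h
      · exact absurd (h ▸ mem_univ x) hxM
    have hdisj : Disjoint (r i '' A) (r i '' B) := by
      rw [Set.disjoint_left]
      rintro z ⟨a, haA, rfl⟩ hzB
      have : a ∈ Y ∩ r i ⁻¹' (r i '' A ∩ r i '' B) := ⟨hAY haA, ⟨a, haA, rfl⟩, hzB⟩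
      rw [hMempty] at this
      exact this
    have hDsub : D i ⊆ r i '' A ∪ r i '' B := by
      intro y hy
      obtain ⟨t', ht'Y, rfl⟩ := h5 i y hy
      have : t' ∈ A ∪ B := hABY ▸ ht'Y
      rcases this with h | h
      · exact Or.inl ⟨t', h, rfl⟩
      · exact Or.inr ⟨t', h, rfl⟩
    have hDpre : IsPreconnected (D i) := isPreconnected_connectedComponent
    rcases (isPreconnected_iff_subset_of_fully_disjoint_closed (hDc i).1).mp hDpre _ _
      (T.hrcl i _ hAcl) (T.hrcl i _ hBcl) hDsub hdisj with h | h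
    · right
      rw [Set.eq_empty_iff_forall_notMem]
      intro b hbB
      have h1 : r i b ∈ D i := mem_iInter.mp (hBY hbB) i
      exact hdisj.le_bot ⟨h h1, ⟨b, hbB, rfl⟩⟩
    · left
      rw [Set.eq_empty_iff_forall_notMem]
      intro a haA
      have h1 : r i a ∈ D i := mem_iInter.mp (hAY haA) i
      exact hdisj.le_bot ⟨⟨a, haA, rfl⟩, h h1⟩
  have htY : t ∈ Y := mem_iInter.mpr fun i => mem_connectedComponent
  have hYsub : Y ⊆ connectedComponent t := hYpre.subset_connectedComponent htY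
  have hsubY : connectedComponent t ⊆ Y := by
    intro t' ht'
    rw [hY, mem_iInter]
    intro i
    exact (T.hrc i).image_connectedComponent_subset t ⟨t', ht', rfl⟩
  have heq : connectedComponent t = Y := subset_antisymm hsubY hYsub
  refine ⟨heq, ?_, ?_⟩
  · intro i
    apply subset_antisymm ((T.hrc i).image_connectedComponent_subset t)
    intro y hy
    obtain ⟨t', ht'Y, rfl⟩ := h5 i y hy
    exact ⟨t', hYsub ht'Y, rfl⟩
  · rw [eq_univ_iff_forall]
    intro x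
    obtain ⟨i⟩ := ‹Nonempty ι›
    have h1 : σ i '' D i = univ :=
      image_eq_univ_of_isClopen (T.hσo i) (T.hσcl i) (hDc i) ⟨r i t, mem_connectedComponent⟩
    obtain ⟨y, hy, hyx⟩ : x ∈ σ i '' D i := h1 ▸ mem_univ x
    obtain ⟨t', ht'Y, ht'⟩ := h5 i y hy
    exact ⟨t', hYsub ht'Y, by rw [← T.hσr i t', ht', hyx]⟩

end Main

end Groth.Agent.Helper4.ConnLimTop
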