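import Mathlib
import Groth.Agent.Lib.Helper14.SepClosedIn

/-!
# A field extension in which the base is separably closed is geometrically connected (helper4)
-/

set_option autoImplicit false
universe u
open AlgebraicGeometry CategoryTheory CategoryTheory.Limits TensorProduct

namespace Groth.Agent.Helper4.SepClosedGeomConn

theorem geometricallyConnected_Spec_of_sepClosedIn {k K : Type u} [Field k] [Field K] [Algebra k K]
    (hK : ∀ α : K, IsSeparable k α → α ∈ Set.range (algebraMap k K)) :
    GeometricallyConnected (Spec.map (CommRingCat.ofHom (algebraMap k K))) := by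
  constructor
  intro L _ y Z fst snd hpb
  obtain ⟨ψ, rfl⟩ : ∃ ψ : CommRingCat.of k ⟶ CommRingCat.of L, Spec.map ψ = y :=
    ⟨Spec.preimage y, Spec.map_preimage y⟩
  letI : Algebra k L := ψ.hom.toAlgebra
  have hψ : ψ = CommRingCat.ofHom (algebraMap k L) := rfl
  rw [hψ] at hpb
  have hprime : (nilradical (L ⊗[k] K)).IsPrime :=
    Groth.Agent.Helper14.SepClosedIn.isPrime_nilradical_of_sepClosedIn hK L
  haveI : IrreducibleSpace (PrimeSpectrum (L ⊗[k] K)) :=
    PrimeSpectrum.irreducibleSpace_iff_isPrime_nilradical.mpr hprime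
  haveI : ConnectedSpace (PrimeSpectrum (L ⊗[k] K)) := inferInstance
  haveI : ConnectedSpace (PrimeSpectrum (K ⊗[k] L)) :=
    (PrimeSpectrum.homeomorphOfRingEquiv
      (Algebra.TensorProduct.comm k K L).toRingEquiv).connectedSpace_iff.mpr ‹_›
  haveI : ConnectedSpace ↥(Spec (CommRingCat.of (K ⊗[k] L))) :=
    (inferInstance : ConnectedSpace (PrimeSpectrum (K ⊗[k] L)))
  have e : Z ≅ Spec (CommRingCat.of (K ⊗[k] L)) := hpb.isoPullback ≪≫ pullbackSpecIso k K L
  exact (e.hom.homeomorph.connectedSpace_iff).2 inferInstance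

end Groth.Agent.Helper4.SepClosedGeomConn
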