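import Mathlib
import Groth.Agent.Lib.Helper14.AlgClosedTensor

/-!
# Field extensions of an algebraically closed field are geometrically irreducible / connected
(helper4).  Built on helper14's `AlgClosedTensor`.
-/

set_option autoImplicit false
universe u
open AlgebraicGeometry CategoryTheory CategoryTheory.Limits TensorProduct

namespace Groth.Agent.Helper4.AlgClosedGeom

variable {k : Type u} [Field k] [IsAlgClosed k] {K : Type u} [Field K]

theorem geometricallyIrreducible_of_isAlgClosed
    (y : Spec (CommRingCat.of K) ⟶ Spec (CommRingCat.of k)) : GeometricallyIrreducible y := by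
  constructor
  intro L _ z Z fst snd hpb
  obtain ⟨φ, rfl⟩ := Spec.map_surjective y
  obtain ⟨ψ, rfl⟩ := Spec.map_surjective z
  algebraize [φ.hom, ψ.hom]
  have e1 : φ = CommRingCat.ofHom (algebraMap k K) := rfl
  have e2 : ψ = CommRingCat.ofHom (algebraMap k L) := rfl
  rw [e1, e2] at hpb
  have h1 : IrreducibleSpace (PrimeSpectrum (K ⊗[k] L)) :=
    Groth.Agent.Helper14.AlgClosedTensor.irreducibleSpace_tensor L K
  have h2 : IrreducibleSpace (Spec (CommRingCat.of (K ⊗[k] L))) := h1
  exact ((hpb.isoPullback ≪≫ pullbackSpecIso k K L).hom.homeomorph.irreducibleSpace_iff).2 h2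

theorem geometricallyConnected_of_isAlgClosed
    (y : Spec (CommRingCat.of K) ⟶ Spec (CommRingCat.of k)) : GeometricallyConnected y := by
  constructor
  intro L _ z Z fst snd hpb
  obtain ⟨φ, rfl⟩ := Spec.map_surjective y
  obtain ⟨ψ, rfl⟩ := Spec.map_surjective z
  algebraize [φ.hom, ψ.hom]
  have e1 : φ = CommRingCat.ofHom (algebraMap k K) := rfl
  have e2 : ψ = CommRingCat.ofHom (algebraMap k L) := rfl
  rw [e1, e2] at hpb
  have h1 : ConnectedSpace (PrimeSpectrum (K ⊗[k] L)) :=
    Groth.Agent.Helper14.AlgClosedTensor.connectedSpace_tensor L K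
  have h2 : ConnectedSpace (Spec (CommRingCat.of (K ⊗[k] L))) := h1
  exact ((hpb.isoPullback ≪≫ pullbackSpecIso k K L).hom.homeomorph.connectedSpace_iff).2 h2

omit [IsAlgClosed k] in
theorem subsingleton_spec_field : Subsingleton (Spec (CommRingCat.of k)) :=
  inferInstanceAs (Subsingleton (PrimeSpectrum k))

/-- A continuous open map with connected fibres pulls back connected sets to connected sets. -/
theorem isConnected_preimage_of_isOpenMap {W X : Type*} [TopologicalSpace W] [TopologicalSpace X]
    {p : W → X} (hc : Continuous p) (ho : IsOpenMap p)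
    (hfib : ∀ x, IsConnected (p ⁻¹' {x})) {Z : Set X} (hZ : IsConnected Z) :
    IsConnected (p ⁻¹' Z) := by
  set q := Z.restrictPreimage p with hq
  have hqc : Continuous q := hc.restrictPreimage
  have hqo : IsOpenMap q := ho.restrictPreimage Z
  have hfibq : ∀ t : Z, IsConnected (q ⁻¹' {t}) := by
    rintro ⟨z, hz⟩
    have hset : q ⁻¹' {⟨z, hz⟩} = (Subtype.val : p ⁻¹' Z → W) ⁻¹' (p ⁻¹' {z}) := by
      ext ⟨w, hw⟩
      simp [hq, Subtype.ext_iff]
    have hsub : p ⁻¹' {z} ⊆ p ⁻¹' Z := Set.preimage_mono (Set.singleton_subset_iff.2 hz)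
    rw [hset]
    refine ⟨?_, ?_⟩
    · obtain ⟨w, hw⟩ := (hfib z).nonempty
      exact ⟨⟨w, hsub hw⟩, hw⟩
    · rw [← Topology.IsInducing.subtypeVal.isPreconnected_image, Subtype.image_preimage_coe,
        Set.inter_eq_right.2 hsub]
      exact (hfib z).isPreconnected
  have hqs : Function.Surjective q := fun t => by
    obtain ⟨w, hw⟩ := (hfibq t).nonempty
    exact ⟨w, hw⟩
  have hco : Topology.IsCoinducing q := (hqo.isQuotientMap hqc hqs).isCoinducing
  haveI : ConnectedSpace Z := isConnected_iff_connectedSpace.1 hZ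
  have h1 : IsConnected (q ⁻¹' Set.univ) :=
    hco.isConnected_preimage_of_isClosed hfibq isClosed_univ isConnected_univ
  rw [Set.preimage_univ] at h1
  exact isConnected_iff_connectedSpace.2 (connectedSpace_iff_univ.2 h1)

end Groth.Agent.Helper4.AlgClosedGeom
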