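import Mathlib
import Groth.Prelude.Def_FDesc
import Groth.Agent.Lib.Helper4.SepClosedGeomConn
import Groth.Agent.S2502
import Groth.Agent.S4625

/-!
# Geometric connectedness over separably closed fields and via separably closed residue points
(helper4)
-/

set_option autoImplicit false
set_option linter.style.haveILetI false
universe u
open AlgebraicGeometry CategoryTheory CategoryTheory.Limits TensorProduct

namespace Groth.Agent.Helper4.GeomConnSep

variable {k : Type u} [Field k] {X : Scheme.{u}}

/-- a connected `k`-scheme with a point in whose residue field `k` is separably closed is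
geometrically connected -/
theorem geometricallyConnected_of_point [ConnectedSpace X] (f : X ⟶ Spec (CommRingCat.of k)) (x : X)
    (φ : k →+* X.residueField x)
    (hφ : Spec.map (CommRingCat.ofHom φ) = X.fromSpecResidueField x ≫ f)
    (hx : ∀ α : X.residueField x, (letI := φ.toAlgebra; IsSeparable k α) → α ∈ φ.range) :
    GeometricallyConnected f := by
  letI : Algebra k (X.residueField x) := φ.toAlgebra
  haveI : GeometricallyConnected (X.fromSpecResidueField x ≫ f) := by
    rw [← hφ]
    exact SepClosedGeomConn.geometricallyConnected_Spec_of_sepClosedIn (k := k)
      (K := X.residueField x) hx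
  haveI : Nonempty ↥(Spec (X.residueField x)) := inferInstance
  exact Groth.Agent.S2502.result (X.fromSpecResidueField x) f

/-- over a separably closed field, connected schemes are geometrically connected -/
theorem geometricallyConnected_of_isSepClosed [IsSepClosed k] [ConnectedSpace X]
    (f : X ⟶ Spec (CommRingCat.of k)) : GeometricallyConnected f := by
  obtain ⟨x⟩ : Nonempty X := inferInstance
  obtain ⟨ψ, hψ⟩ := Spec.map_surjective (X.fromSpecResidueField x ≫ f)
  refine geometricallyConnected_of_point f x ψ.hom hψ ?_
  intro α hα
  letI : Algebra k (X.residueField x) := ψ.hom.toAlgebra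
  haveI : Algebra.IsSeparable k (IntermediateField.adjoin k {α}) :=
    (IntermediateField.isSeparable_adjoin_simple_iff_isSeparable k (X.residueField x)).mpr hα
  have hbot := IntermediateField.eq_bot_of_isSepClosed_of_isSeparable
    (IntermediateField.adjoin k {α})
  have hmem : α ∈ IntermediateField.adjoin k {α} := IntermediateField.mem_adjoin_simple_self k α
  rw [hbot, IntermediateField.mem_bot] at hmem
  exact hmem

/-- a `k`-scheme whose base change to a separably closed extension is connected is geometrically
connected -/
theorem geometricallyConnected_of_connectedSpace_bc (K : Type u) [Field K] [Algebra k K]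
    [IsSepClosed K] (f : X ⟶ Spec (CommRingCat.of k)) [ConnectedSpace ↥(FBase.bc f K)] :
    GeometricallyConnected f := by
  rw [Groth.Agent.S4625.result (K := K) f]
  exact geometricallyConnected_of_isSepClosed (FBase.bcStr f K)

end Groth.Agent.Helper4.GeomConnSep
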