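import Mathlib
import Groth.Agent.Lib.Helper4.GeomConnSep

/-!
# Geometric connectedness is detected by finite separable extensions (helper4)
-/

set_option autoImplicit false
set_option linter.style.haveILetI false
universe u
open AlgebraicGeometry CategoryTheory CategoryTheory.Limits TensorProduct

namespace Groth.Agent.Helper4.GeomConnFin

section Ring

variable {k : Type u} [Field k] (A : Type u) [CommRing A] [Algebra k A] (K : Type u) [Field K]
  [Algebra k K]

/-- the canonical map `A ⊗ E → A ⊗ K` for an intermediate field `E` -/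
noncomputable abbrev tmap (E : IntermediateField k K) : A ⊗[k] E →ₐ[k] A ⊗[k] K :=
  Algebra.TensorProduct.map (AlgHom.id k A) E.val

theorem tmap_injective (E : IntermediateField k K) : Function.Injective (tmap A K E) := by
  have h1 : Function.Injective (LinearMap.lTensor A E.val.toLinearMap) :=
    Module.Flat.lTensor_preserves_injective_linearMap _ E.val.injective
  have h2 : ⇑(tmap A K E) = ⇑(LinearMap.lTensor A E.val.toLinearMap) := by
    ext t
    induction t using TensorProduct.induction_on with
    | zero => simp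
    | tmul a c => simp
    | add x y hx hy => simp only [map_add, hx, hy]
  rw [h2]
  exact h1

theorem exists_mem_range_tmap [Algebra.IsAlgebraic k K] (t : A ⊗[k] K) :
    ∃ E : IntermediateField k K, FiniteDimensional k E ∧ t ∈ Set.range (tmap A K E) := by
  induction t using TensorProduct.induction_on with
  | zero => exact ⟨⊥, inferInstance, 0, map_zero _⟩
  | tmul a c =>
    refine ⟨IntermediateField.adjoin k {c},
      IntermediateField.adjoin.finiteDimensional (Algebra.IsIntegral.isIntegral c),
      a ⊗ₜ ⟨c, IntermediateField.mem_adjoin_simple_self k c⟩, ?_⟩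
    simp
  | add x y hx hy =>
    obtain ⟨E₁, hE₁, x', hx'⟩ := hx
    obtain ⟨E₂, hE₂, y', hy'⟩ := hy
    haveI := hE₁
    haveI := hE₂
    refine ⟨E₁ ⊔ E₂, IntermediateField.finiteDimensional_sup E₁ E₂, ?_⟩
    let i₁ : E₁ →ₐ[k] ↥(E₁ ⊔ E₂) := IntermediateField.inclusion le_sup_left
    let i₂ : E₂ →ₐ[k] ↥(E₁ ⊔ E₂) := IntermediateField.inclusion le_sup_right
    refine ⟨Algebra.TensorProduct.map (AlgHom.id k A) i₁ x' +
      Algebra.TensorProduct.map (AlgHom.id k A) i₂ y', ?_⟩
    rw [map_add, ← hx', ← hy']
    congr 1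
    · have : (tmap A K (E₁ ⊔ E₂)).comp (Algebra.TensorProduct.map (AlgHom.id k A) i₁) =
          tmap A K E₁ := by
        ext <;> simp [i₁]
      exact congrArg (fun φ : A ⊗[k] E₁ →ₐ[k] A ⊗[k] K => φ x') this
    · have : (tmap A K (E₁ ⊔ E₂)).comp (Algebra.TensorProduct.map (AlgHom.id k A) i₂) =
          tmap A K E₂ := by
        ext <;> simp [i₂]
      exact congrArg (fun φ : A ⊗[k] E₂ →ₐ[k] A ⊗[k] K => φ y') this

/-- idempotents of `A ⊗ K` descend to a finite subextension -/
theorem exists_idempotent_descent [Algebra.IsAlgebraic k K] (e : A ⊗[k] K)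
    (he : IsIdempotentElem e) :
    ∃ E : IntermediateField k K, FiniteDimensional k E ∧
      ∃ e' : A ⊗[k] E, IsIdempotentElem e' ∧ tmap A K E e' = e := by
  obtain ⟨E, hE, e', he'⟩ := exists_mem_range_tmap A K e
  refine ⟨E, hE, e', ?_, he'⟩
  apply tmap_injective A K E
  rw [map_mul, he']
  exact he

end Ring

section Sch

variable {k : Type u} [Field k] (K : Type u) [Field K] [Algebra k K] {X : Scheme.{u}}
  (f : X ⟶ Spec (CommRingCat.of k))

/-- `Spec K ⟶ Spec k` -/
noncomputable abbrev yK : Spec (CommRingCat.of K) ⟶ Spec (CommRingCat.of k) :=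
  Spec.map (CommRingCat.ofHom (algebraMap k K))

/-- `Spec E ⟶ Spec k` -/
noncomputable abbrev yE (E : IntermediateField k K) :
    Spec (CommRingCat.of E) ⟶ Spec (CommRingCat.of k) :=
  Spec.map (CommRingCat.ofHom (algebraMap k E))

/-- `Spec K ⟶ Spec E` -/
noncomputable abbrev ιE (E : IntermediateField k K) :
    Spec (CommRingCat.of K) ⟶ Spec (CommRingCat.of E) :=
  Spec.map (CommRingCat.ofHom (algebraMap E K))

theorem ιE_yE (E : IntermediateField k K) : ιE K E ≫ yE K E = yK K := by
  rw [← Spec.map_comp]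
  rfl

/-- the projection `X_K ⟶ X_E` -/
noncomputable def pE (E : IntermediateField k K) :
    pullback f (yK K) ⟶ pullback f (yE K E) :=
  pullback.map f (yK K) f (yE K E) (𝟙 X) (ιE K E) (𝟙 _) (by simp)
    (by rw [Category.comp_id, ιE_yE])

@[reassoc (attr := simp)]
theorem pE_fst (E : IntermediateField k K) :
    pE K f E ≫ pullback.fst f (yE K E) = pullback.fst f (yK K) :=
  (pullback.lift_fst _ _ _).trans (Category.comp_id _)

@[reassoc (attr := simp)]
theorem pE_snd (E : IntermediateField k K) :
    pE K f E ≫ pullback.snd f (yE K E) = pullback.snd f (yK K) ≫ ιE K E :=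
  pullback.lift_snd _ _ _

theorem isPullback_pE (E : IntermediateField k K) :
    IsPullback (pE K f E) (pullback.snd f (yK K)) (pullback.snd f (yE K E)) (ιE K E) := by
  refine IsPullback.of_right ?_ (pE_snd K f E) (IsPullback.of_hasPullback f (yE K E))
  rw [pE_fst, ιE_yE]
  exact IsPullback.of_hasPullback f (yK K)

instance subsingleton_spec_field (F : Type u) [Field F] : Subsingleton ↥(Spec (CommRingCat.of F)) :=
  inferInstanceAs (Subsingleton (PrimeSpectrum F))

theorem surjective_ιE (E : IntermediateField k K) : Surjective (ιE K E) :=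
  ⟨fun _ => ⟨Nonempty.some inferInstance, Subsingleton.elim _ _⟩⟩

theorem pE_surjective (E : IntermediateField k K) : Function.Surjective (pE K f E).base := by
  have h : Surjective (pE K f E) :=
    MorphismProperty.of_isPullback (P := @Surjective) (isPullback_pE K f E).flip
      (surjective_ιE K E)
  exact h.surj

theorem pE_isOpenMap (E : IntermediateField k K) : IsOpenMap (pE K f E).base := by
  haveI h : UniversallyOpen (pE K f E) :=
    MorphismProperty.of_isPullback (P := @UniversallyOpen) (isPullback_pE K f E).flip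
      inferInstance
  exact (pE K f E).isOpenMap

theorem pE_isClosedMap [Algebra.IsAlgebraic k K] (E : IntermediateField k K) :
    IsClosedMap (pE K f E).base := by
  haveI : Algebra.IsAlgebraic E K := Algebra.IsAlgebraic.tower_top (K := k) E
  haveI hint : IsIntegralHom (ιE K E) := by
    rw [IsIntegralHom.SpecMap_iff]
    exact algebraMap_isIntegral_iff.2 inferInstance
  haveI h : IsIntegralHom (pE K f E) :=
    MorphismProperty.of_isPullback (P := @IsIntegralHom) (isPullback_pE K f E).flip hint
  exact (pE K f E).isClosedMap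

section Loc

variable {A : Type u} [CommRing A] [Algebra k A] (j : Spec (CommRingCat.of A) ⟶ X)
  (hj : Spec.map (CommRingCat.ofHom (algebraMap k A)) = j ≫ f)

/-- the open immersion `(Spec A)_K ⟶ X_K` -/
noncomputable def qK :
    pullback (Spec.map (CommRingCat.ofHom (algebraMap k A))) (yK K) ⟶ pullback f (yK K) :=
  pullback.map _ (yK K) f (yK K) j (𝟙 _) (𝟙 _) (by rw [Category.comp_id, hj])
    (by rw [Category.comp_id, Category.id_comp])

/-- the open immersion `(Spec A)_E ⟶ X_E` -/
noncomputable def qE (E : IntermediateField k K) :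
    pullback (Spec.map (CommRingCat.ofHom (algebraMap k A))) (yE K E) ⟶ pullback f (yE K E) :=
  pullback.map _ (yE K E) f (yE K E) j (𝟙 _) (𝟙 _) (by rw [Category.comp_id, hj])
    (by rw [Category.comp_id, Category.id_comp])

theorem qK_pE (E : IntermediateField k K) :
    qK K f j hj ≫ pE K f E =
      pE K (Spec.map (CommRingCat.ofHom (algebraMap k A))) E ≫ qE K f j hj E := by
  apply pullback.hom_ext
  · rw [Category.assoc, pE_fst, Category.assoc]
    erw [pullback.lift_fst, pullback.lift_fst]
    rw [pE_fst_assoc]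
  · rw [Category.assoc, pE_snd, Category.assoc]
    erw [pullback.lift_snd, pullback.lift_snd_assoc]
    rw [Category.comp_id, Category.comp_id, pE_snd]

theorem spec_tmap_comp (E : IntermediateField k K) :
    (pullbackSpecIso k A K).inv ≫ pE K (Spec.map (CommRingCat.ofHom (algebraMap k A))) E =
      Spec.map (CommRingCat.ofHom (tmap A K E).toRingHom) ≫ (pullbackSpecIso k A E).inv := by
  apply pullback.hom_ext
  · rw [Category.assoc, pE_fst, Category.assoc, pullbackSpecIso_inv_fst, pullbackSpecIso_inv_fst,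
      ← Spec.map_comp]
    congr 1
  · rw [Category.assoc, pE_snd, Category.assoc, pullbackSpecIso_inv_snd_assoc,
      pullbackSpecIso_inv_snd, ← Spec.map_comp, ← Spec.map_comp]
    congr 1

include hj in
/-- local descent: membership in a clopen of `X_K` near `t` is decided at a finite level -/
theorem exists_fiber_subset_aux [Algebra.IsAlgebraic k K] [IsOpenImmersion j]
    (U : Set ↥(pullback f (yK K))) (hU : IsClopen U) (t : ↥(pullback f (yK K))) (ht : t ∈ U)
    (hxj : (pullback.fst f (yK K)).base t ∈ Set.range j.base) :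
    ∃ E : IntermediateField k K, FiniteDimensional k E ∧
      ∀ t' : ↥(pullback f (yK K)), (pE K f E).base t' = (pE K f E).base t → t' ∈ U := by
  let a := Spec.map (CommRingCat.ofHom (algebraMap k A))
  let cK := pullbackSpecIso k A K
  -- range of `qK`
  have hrange : ∀ s : ↥(pullback f (yK K)), (pullback.fst f (yK K)).base s ∈ Set.range j.base →
      s ∈ Set.range (qK K f j hj).base := by
    intro s hs
    have := Scheme.Pullback.range_map a (yK K) f (yK K) j (𝟙 _) (𝟙 _)
      (by rw [Category.comp_id]; exact hj) (by rw [Category.comp_id, Category.id_comp])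
    have h2 : Set.range (qK K f j hj).base =
        (pullback.fst f (yK K)).base ⁻¹' Set.range j.base ∩
          (pullback.snd f (yK K)).base ⁻¹' Set.range (𝟙 (Spec (CommRingCat.of K)) :).base := this
    rw [h2]
    exact ⟨hs, ⟨_, rfl⟩⟩
  obtain ⟨t₀, ht₀⟩ := hrange t hxj
  let U₀ : Set ↥(Spec (CommRingCat.of (A ⊗[k] K))) := (cK.inv ≫ qK K f j hj).base ⁻¹' U
  have hU₀ : IsClopen U₀ := hU.preimage (cK.inv ≫ qK K f j hj).continuous
  obtain ⟨e, he, hUe⟩ := (PrimeSpectrum.isClopen_iff (R := A ⊗[k] K) (s := U₀)).mp hU₀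
  obtain ⟨E, hE, e', he', hee'⟩ := exists_idempotent_descent A K e he
  refine ⟨E, hE, fun t' ht' => ?_⟩
  let cE := pullbackSpecIso k A E
  have hfst : (pullback.fst f (yK K)).base t' = (pullback.fst f (yK K)).base t := by
    rw [← pE_fst K f E, Scheme.Hom.comp_apply, Scheme.Hom.comp_apply, ht']
  obtain ⟨t₀', ht₀'⟩ := hrange t' (hfst ▸ hxj)
  haveI : IsOpenImmersion (qE K f j hj E) := by
    unfold qE
    infer_instance
  have hinj : Function.Injective (qE K f j hj E).base :=
    (qE K f j hj E).isOpenEmbedding.injective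
  have hr : (pE K a E).base t₀' = (pE K a E).base t₀ := by
    apply hinj
    rw [← Scheme.Hom.comp_apply, ← Scheme.Hom.comp_apply, ← qK_pE, Scheme.Hom.comp_apply,
      Scheme.Hom.comp_apply, ht₀, ht₀', ht']
  let s₀ : ↥(Spec (CommRingCat.of (A ⊗[k] K))) := cK.hom.base t₀
  let s₀' : ↥(Spec (CommRingCat.of (A ⊗[k] K))) := cK.hom.base t₀'
  have hs₀ : cK.inv.base s₀ = t₀ := by
    change cK.inv.base (cK.hom.base t₀) = t₀
    rw [← Scheme.Hom.comp_apply, cK.hom_inv_id]
    rfl
  have hs₀' : cK.inv.base s₀' = t₀' := by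
    change cK.inv.base (cK.hom.base t₀') = t₀'
    rw [← Scheme.Hom.comp_apply, cK.hom_inv_id]
    rfl
  let τ : Spec (CommRingCat.of (A ⊗[k] K)) ⟶ Spec (CommRingCat.of (A ⊗[k] E)) :=
    Spec.map (CommRingCat.ofHom (tmap A K E).toRingHom)
  have hτ : cK.inv ≫ pE K a E = τ ≫ cE.inv := spec_tmap_comp K E
  have hcomap : ∀ s : ↥(Spec (CommRingCat.of (A ⊗[k] K))),
      (pE K a E).base (cK.inv.base s) = cE.inv.base (τ.base s) := by
    intro s
    rw [← Scheme.Hom.comp_apply, ← Scheme.Hom.comp_apply, hτ]
  have hcs : τ.base s₀' = τ.base s₀ := by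
    have h1 := hcomap s₀
    have h1' := hcomap s₀'
    rw [hs₀] at h1
    rw [hs₀'] at h1'
    have h2 : cE.inv.base (τ.base s₀') = cE.inv.base (τ.base s₀) := by
      rw [← h1, ← h1', hr]
    have hinj2 : Function.Injective cE.inv.base := cE.inv.homeomorph.injective
    exact hinj2 h2
  -- membership
  have hmem₀ : s₀ ∈ U₀ := by
    change (cK.inv ≫ qK K f j hj).base s₀ ∈ U
    rw [Scheme.Hom.comp_apply, hs₀, ht₀]
    exact ht
  rw [hUe] at hmem₀
  have hne : e ∉ s₀.asIdeal := hmem₀
  have hne' : e ∉ s₀'.asIdeal := by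
    intro hcon
    apply hne
    rw [← hee'] at hcon ⊢
    have h3 : e' ∈ (τ.base s₀').asIdeal := hcon
    rw [hcs] at h3
    exact h3
  have hmem₀' : s₀' ∈ U₀ := by
    rw [hUe]
    exact hne'
  have : (cK.inv ≫ qK K f j hj).base s₀' ∈ U := hmem₀'
  rw [Scheme.Hom.comp_apply, hs₀', ht₀'] at this
  exact this

end Loc

/-- membership in a clopen of `X_K` near `t` is decided at a finite level -/
theorem exists_fiber_subset [Algebra.IsAlgebraic k K]
    (U : Set ↥(pullback f (yK K))) (hU : IsClopen U) (t : ↥(pullback f (yK K))) (ht : t ∈ U) :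
    ∃ E : IntermediateField k K, FiniteDimensional k E ∧
      ∀ t' : ↥(pullback f (yK K)), (pE K f E).base t' = (pE K f E).base t → t' ∈ U := by
  obtain ⟨_, ⟨W, hW, rfl⟩, hxW, -⟩ :=
    X.isBasis_affineOpens.exists_subset_of_mem_open
      (Set.mem_univ ((pullback.fst f (yK K)).base t)) isOpen_univ
  have hW' : IsAffineOpen W := hW
  let j : Spec (CommRingCat.of ↑Γ(X, W)) ⟶ X := hW'.fromSpec
  haveI : IsOpenImmersion j := inferInstanceAs (IsOpenImmersion hW'.fromSpec)
  obtain ⟨φ, hφ⟩ := Spec.map_surjective (j ≫ f)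
  letI : Algebra k ↑Γ(X, W) := φ.hom.toAlgebra
  have hj : Spec.map (CommRingCat.ofHom (algebraMap k ↑Γ(X, W))) = j ≫ f := hφ
  refine exists_fiber_subset_aux K f j hj U hU t ht ?_
  change _ ∈ Set.range hW'.fromSpec.base
  rw [hW'.range_fromSpec]
  exact hxW

/-- **Stacks 0389 (⇐)**: if all finite separable base changes of `X` are connected, so is the base
change to any separable algebraic extension. -/
theorem connectedSpace_of_forall_finite [Algebra.IsSeparable k K]
    (h : ∀ (K' : Type u) [Field K'] [Algebra k K'] [FiniteDimensional k K']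
      [Algebra.IsSeparable k K'],
      ConnectedSpace ↥(pullback f (Spec.map (CommRingCat.ofHom (algebraMap k K'))))) :
    ConnectedSpace ↥(pullback f (yK K)) := by
  haveI : Algebra.IsAlgebraic k K := Algebra.IsSeparable.isAlgebraic k K
  have hE : ∀ E : IntermediateField k K, FiniteDimensional k E →
      ConnectedSpace ↥(pullback f (yE K E)) := by
    intro E hE
    haveI := hE
    haveI : Algebra.IsSeparable k E := Algebra.isSeparable_tower_bot_of_isSeparable k E K
    exact h E
  haveI : Nonempty ↥(pullback f (yK K)) := by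
    haveI := hE ⊥ inferInstance
    obtain ⟨z⟩ : Nonempty ↥(pullback f (yE K ⊥)) := inferInstance
    obtain ⟨t, -⟩ := pE_surjective K f ⊥ z
    exact ⟨t⟩
  haveI : PreconnectedSpace ↥(pullback f (yK K)) := by
    rw [preconnectedSpace_iff_clopen]
    intro U hU
    by_contra hcon
    push Not at hcon
    obtain ⟨hU0, hU1⟩ := hcon
    obtain ⟨t, ht⟩ : U.Nonempty := hU0
    have hUcne : Uᶜ.Nonempty := Set.nonempty_compl.2 hU1
    obtain ⟨E, hEfin, hEU⟩ := exists_fiber_subset K f U hU t ht
    haveI := hE E hEfin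
    have himUc : (pE K f E).base '' Uᶜ = Set.univ := by
      have hcl : IsClopen ((pE K f E).base '' Uᶜ) :=
        ⟨pE_isClosedMap K f E _ hU.compl.1, pE_isOpenMap K f E _ hU.compl.2⟩
      exact (isClopen_iff.1 hcl).resolve_left (hUcne.image _).ne_empty
    have hmem : (pE K f E).base t ∈ (pE K f E).base '' Uᶜ := himUc ▸ Set.mem_univ _
    obtain ⟨t', ht'U, ht'⟩ := hmem
    exact ht'U (hEU t' ht')
  exact ⟨‹Nonempty _›⟩

end Sch

end Groth.Agent.Helper4.GeomConnFin
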