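import Mathlib
import Groth.Agent.Lib.Helper4.GeomConnFin
import Groth.Agent.Lib.Helper4.ConnLimTop

/-!
# Connected components of `X_K` for algebraic `K/k` (helper4)
-/

set_option autoImplicit false
set_option linter.style.haveILetI false
universe u
open AlgebraicGeometry CategoryTheory CategoryTheory.Limits TensorProduct

namespace Groth.Agent.Helper4.ConnLimSch

open Groth.Agent.Helper4.GeomConnFin Groth.Agent.Helper4.ConnLimTop

variable {k : Type u} [Field k] (K : Type u) [Field K] [Algebra k K] {X : Scheme.{u}}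
  (f : X ⟶ Spec (CommRingCat.of k))

section Loc

variable {A : Type u} [CommRing A] [Algebra k A] (j : Spec (CommRingCat.of A) ⟶ X)
  (hj : Spec.map (CommRingCat.ofHom (algebraMap k A)) = j ≫ f)

/-- the open immersion `Spec (A ⊗ K) ⟶ X_K` -/
noncomputable def eK : Spec (CommRingCat.of (A ⊗[k] K)) ⟶ pullback f (yK K) :=
  (pullbackSpecIso k A K).inv ≫ qK K f j hj

/-- the open immersion `Spec (A ⊗ E) ⟶ X_E` -/
noncomputable def eE (E : IntermediateField k K) :
    Spec (CommRingCat.of (A ⊗[k] E)) ⟶ pullback f (yE K E) :=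
  (pullbackSpecIso k A E).inv ≫ qE K f j hj E

theorem eK_pE (E : IntermediateField k K) :
    eK K f j hj ≫ pE K f E =
      Spec.map (CommRingCat.ofHom (tmap A K E).toRingHom) ≫ eE K f j hj E := by
  unfold eK eE
  rw [Category.assoc, qK_pE, ← Category.assoc, spec_tmap_comp, Category.assoc]

instance [IsOpenImmersion j] : IsOpenImmersion (eK K f j hj) := by
  haveI : IsOpenImmersion (qK K f j hj) := by
    unfold qK
    infer_instance
  unfold eK
  infer_instance

instance [IsOpenImmersion j] (E : IntermediateField k K) :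
    IsOpenImmersion (eE K f j hj E) := by
  haveI : IsOpenImmersion (qE K f j hj E) := by
    unfold qE
    infer_instance
  unfold eE
  infer_instance

theorem range_eK : Set.range (eK K f j hj).base =
    (pullback.fst f (yK K)).base ⁻¹' Set.range j.base := by
  have h1 : Set.range (eK K f j hj).base = Set.range (qK K f j hj).base := by
    unfold eK
    rw [Scheme.Hom.comp_base, TopCat.coe_comp, Set.range_comp]
    have : Set.range (pullbackSpecIso k A K).inv.base = Set.univ :=
      Set.range_eq_univ.mpr (pullbackSpecIso k A K).inv.homeomorph.surjective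
    rw [this, Set.image_univ]
  rw [h1]
  have := Scheme.Pullback.range_map (Spec.map (CommRingCat.ofHom (algebraMap k A))) (yK K) f (yK K)
    j (𝟙 _) (𝟙 _)
    (by rw [Category.comp_id]; exact hj) (by rw [Category.comp_id, Category.id_comp])
  have h2 : Set.range (qK K f j hj).base =
      (pullback.fst f (yK K)).base ⁻¹' Set.range j.base ∩
        (pullback.snd f (yK K)).base ⁻¹' Set.range (𝟙 (Spec (CommRingCat.of K)) :).base := this
  rw [h2]
  ext t
  simp only [Set.mem_inter_iff, Set.mem_preimage, and_iff_left_iff_imp]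
  intro _
  exact ⟨_, rfl⟩

theorem range_eE (E : IntermediateField k K) : Set.range (eE K f j hj E).base =
    (pullback.fst f (yE K E)).base ⁻¹' Set.range j.base := by
  have h1 : Set.range (eE K f j hj E).base = Set.range (qE K f j hj E).base := by
    unfold eE
    rw [Scheme.Hom.comp_base, TopCat.coe_comp, Set.range_comp]
    have : Set.range (pullbackSpecIso k A E).inv.base = Set.univ :=
      Set.range_eq_univ.mpr (pullbackSpecIso k A E).inv.homeomorph.surjective
    rw [this, Set.image_univ]
  rw [h1]
  have := Scheme.Pullback.range_map (Spec.map (CommRingCat.ofHom (algebraMap k A))) (yE K E) f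
    (yE K E) j (𝟙 _) (𝟙 _)
    (by rw [Category.comp_id]; exact hj) (by rw [Category.comp_id, Category.id_comp])
  have h2 : Set.range (qE K f j hj E).base =
      (pullback.fst f (yE K E)).base ⁻¹' Set.range j.base ∩
        (pullback.snd f (yE K E)).base ⁻¹' Set.range (𝟙 (Spec (CommRingCat.of E)) :).base := this
  rw [h2]
  ext t
  simp only [Set.mem_inter_iff, Set.mem_preimage, and_iff_left_iff_imp]
  intro _
  exact ⟨_, rfl⟩

/-- clopen subsets of `Spec (A ⊗ K)` are pulled back from an open subset of a finite level -/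
theorem exists_open_descent [Algebra.IsAlgebraic k K] [IsOpenImmersion j]
    (U₀ : Set ↥(Spec (CommRingCat.of (A ⊗[k] K)))) (hU₀ : IsClopen U₀) :
    ∃ E : IntermediateField k K, FiniteDimensional k E ∧
      ∃ V : Set ↥(pullback f (yE K E)), IsOpen V ∧ V ⊆ Set.range (eE K f j hj E).base ∧
        ∀ s₀ : ↥(Spec (CommRingCat.of (A ⊗[k] K))),
          s₀ ∈ U₀ ↔ (pE K f E).base ((eK K f j hj).base s₀) ∈ V := by
  obtain ⟨e, he, hUe⟩ := (PrimeSpectrum.isClopen_iff (R := A ⊗[k] K) (s := U₀)).mp hU₀
  obtain ⟨E, hE, e', he', hee'⟩ := exists_idempotent_descent A K e he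
  let τ : Spec (CommRingCat.of (A ⊗[k] K)) ⟶ Spec (CommRingCat.of (A ⊗[k] E)) :=
    Spec.map (CommRingCat.ofHom (tmap A K E).toRingHom)
  let B₀ : Set ↥(Spec (CommRingCat.of (A ⊗[k] E))) :=
    {s' | e' ∉ (show PrimeSpectrum (A ⊗[k] E) from s').asIdeal}
  have hB₀ : IsOpen B₀ := (PrimeSpectrum.basicOpen e').2
  refine ⟨E, hE, (eE K f j hj E).base '' B₀, (eE K f j hj E).isOpenEmbedding.isOpenMap _ hB₀,
    Set.image_subset_range _ _, fun s₀ => ?_⟩
  have hcomm : (pE K f E).base ((eK K f j hj).base s₀) = (eE K f j hj E).base (τ.base s₀) := by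
    rw [← Scheme.Hom.comp_apply, ← Scheme.Hom.comp_apply, eK_pE]
  rw [hcomm, (eE K f j hj E).isOpenEmbedding.injective.mem_set_image, hUe]
  change e ∉ (show PrimeSpectrum (A ⊗[k] K) from s₀).asIdeal ↔
    e' ∉ (show PrimeSpectrum (A ⊗[k] E) from τ.base s₀).asIdeal
  rw [← hee']
  rfl

end Loc

section TowerSec

/-- index type: finite subextensions -/
abbrev FinSub (k K : Type u) [Field k] [Field K] [Algebra k K] : Type u :=
  {E : IntermediateField k K // FiniteDimensional k E}

instance : Nonempty (FinSub k K) := ⟨⟨⊥, inferInstance⟩⟩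

instance : IsDirectedOrder (FinSub k K) := ⟨fun a b => by
  haveI := a.2
  haveI := b.2
  exact ⟨⟨a.1 ⊔ b.1, IntermediateField.finiteDimensional_sup a.1 b.1⟩,
    show a.1 ≤ a.1 ⊔ b.1 from le_sup_left, show b.1 ≤ a.1 ⊔ b.1 from le_sup_right⟩⟩

variable {K}

/-- transition maps `X_{E'} ⟶ X_E` -/
noncomputable def qEE {E E' : IntermediateField k K} (h : E ≤ E') :
    pullback f (yE K E') ⟶ pullback f (yE K E) :=
  pullback.map f (yE K E') f (yE K E) (𝟙 X)
    (Spec.map (CommRingCat.ofHom (IntermediateField.inclusion h).toRingHom)) (𝟙 _) (by simp)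
    (by
      rw [Category.comp_id, ← Spec.map_comp]
      rfl)

theorem pE_qEE {E E' : IntermediateField k K} (h : E ≤ E') :
    pE K f E' ≫ qEE f h = pE K f E := by
  apply pullback.hom_ext
  · rw [Category.assoc, pE_fst]
    unfold qEE
    erw [pullback.lift_fst]
    rw [Category.comp_id, pE_fst]
  · rw [Category.assoc, pE_snd]
    unfold qEE
    erw [pullback.lift_snd]
    rw [pE_snd_assoc]
    congr 1
    rw [← Spec.map_comp]
    rfl

variable (K)

theorem tower [Algebra.IsAlgebraic k K] [Nonempty X] :
    Tower (fun t => (pullback.fst f (yK K)).base t)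
      (fun (i : FinSub k K) t => (pE K f i.1).base t)
      (fun (i : FinSub k K) y => (pullback.fst f (yE K i.1)).base y) where
  hσr := fun i t => by
    show (pullback.fst f (yE K i.1)).base ((pE K f i.1).base t) = _
    rw [← Scheme.Hom.comp_apply, pE_fst]
  hrc := fun i => (pE K f i.1).continuous
  hro := fun i => pE_isOpenMap K f i.1
  hrcl := fun i => pE_isClosedMap K f i.1
  hrk := fun i y => by
    haveI : Algebra.IsAlgebraic i.1 K := Algebra.IsAlgebraic.tower_top (K := k) i.1
    haveI hint : IsIntegralHom (ιE K i.1) := by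
      rw [IsIntegralHom.SpecMap_iff]
      exact algebraMap_isIntegral_iff.2 inferInstance
    haveI h : IsIntegralHom (pE K f i.1) :=
      MorphismProperty.of_isPullback (P := @IsIntegralHom) (isPullback_pE K f i.1).flip hint
    exact (pE K f i.1).isCompact_preimage_singleton y
  hsk := fun x => (pullback.fst f (yK K)).isCompact_preimage_singleton x
  hσo := fun i => (pullback.fst f (yE K i.1)).isOpenMap
  hσcl := fun i => by
    haveI := i.2
    haveI hint : IsIntegralHom (yE K i.1) := by
      rw [IsIntegralHom.SpecMap_iff]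
      exact algebraMap_isIntegral_iff.2 inferInstance
    exact (pullback.fst f (yE K i.1)).isClosedMap
  hσfin := fun i => by
    haveI := i.2
    obtain ⟨x⟩ := ‹Nonempty X›
    haveI hfin : IsFinite (yE K i.1) := by
      rw [IsFinite.SpecMap_iff]
      exact RingHom.finite_algebraMap.mpr inferInstance
    exact ⟨x, (pullback.fst f (yE K i.1)).finite_preimage_singleton x⟩
  hq := fun i j hij => ⟨fun y => (qEE f hij).base y, (qEE f hij).continuous, fun t => by
    show (qEE f hij).base ((pE K f j.1).base t) = (pE K f i.1).base t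
    rw [← Scheme.Hom.comp_apply, pE_qEE]⟩

end TowerSec

section Descent

theorem localDescent [Algebra.IsAlgebraic k K] :
    LocalDescent (fun (i : FinSub k K) (t : ↥(pullback f (yK K))) => (pE K f i.1).base t) := by
  intro D hDc hmono A B hAcl hBcl hABd hABY a ha
  obtain ⟨_, ⟨W, hW, rfl⟩, hxW, -⟩ :=
    X.isBasis_affineOpens.exists_subset_of_mem_open
      (Set.mem_univ ((pullback.fst f (yK K)).base a)) isOpen_univ
  have hW' : IsAffineOpen W := hW
  let j : Spec (CommRingCat.of ↑Γ(X, W)) ⟶ X := hW'.fromSpec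
  haveI : IsOpenImmersion j := inferInstanceAs (IsOpenImmersion hW'.fromSpec)
  obtain ⟨φ, hφ⟩ := Spec.map_surjective (j ≫ f)
  letI : Algebra k ↑Γ(X, W) := φ.hom.toAlgebra
  have hj : Spec.map (CommRingCat.ofHom (algebraMap k ↑Γ(X, W))) = j ≫ f := hφ
  have hrj : Set.range j.base = (W : Set X) := hW'.range_fromSpec
  have haR : a ∈ Set.range (eK K f j hj).base := by
    rw [range_eK, hrj]
    exact hxW
  obtain ⟨a₀, ha₀⟩ := haR
  let C : FinSub k K → Set ↥(Spec (CommRingCat.of (↑Γ(X, W) ⊗[k] K))) :=
    fun i => (eK K f j hj).base ⁻¹' ((pE K f i.1).base ⁻¹' D i)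
  have hC : ∀ i, IsClopen (C i) := fun i =>
    ((hDc i).preimage (pE K f i.1).continuous).preimage (eK K f j hj).continuous
  have hCmono : ∀ i j, i ≤ j → C j ⊆ C i := fun i j hij => Set.preimage_mono (hmono i j hij)
  have hA₀ : IsClosed ((eK K f j hj).base ⁻¹' A) := hAcl.preimage (eK K f j hj).continuous
  have hB₀ : IsClosed ((eK K f j hj).base ⁻¹' B) := hBcl.preimage (eK K f j hj).continuous
  have hAB₀ : Disjoint ((eK K f j hj).base ⁻¹' A) ((eK K f j hj).base ⁻¹' B) :=
    hABd.preimage _
  have hQ₀ : (eK K f j hj).base ⁻¹' A ∪ (eK K f j hj).base ⁻¹' B = ⋂ i, C i := by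
    rw [← Set.preimage_union, hABY, Set.preimage_iInter]
  obtain ⟨U₀, hU₀, hAU₀, hU₀B⟩ := exists_isClopen_separating C hC hCmono hA₀ hB₀ hAB₀ hQ₀
  obtain ⟨E, hE, V, hVo, hVr, hV⟩ := exists_open_descent K f j hj U₀ hU₀
  refine ⟨⟨E, hE⟩, V, hVo, ?_, ?_⟩
  · show (pE K f E).base a ∈ V
    rw [← ha₀]
    exact (hV a₀).mp (hAU₀ (show (eK K f j hj).base a₀ ∈ A by rw [ha₀]; exact ha))
  · rintro t ⟨htY, htV⟩
    have htV' : (pE K f E).base t ∈ V := htV
    have h1 : (pE K f E).base t ∈ Set.range (eE K f j hj E).base := hVr htV'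
    rw [range_eE] at h1
    have h2 : (pullback.fst f (yK K)).base t ∈ Set.range j.base := by
      have : (pullback.fst f (yE K E)).base ((pE K f E).base t) =
          (pullback.fst f (yK K)).base t := by
        rw [← Scheme.Hom.comp_apply, pE_fst]
      rw [← this]
      exact h1
    have h3 : t ∈ Set.range (eK K f j hj).base := by
      rw [range_eK]
      exact h2
    obtain ⟨t₀, rfl⟩ := h3
    have ht₀U : t₀ ∈ U₀ := (hV t₀).mpr htV'
    have : (eK K f j hj).base t₀ ∈ A ∪ B := hABY ▸ htY
    rcases this with h | h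
    · exact h
    · exact absurd h (fun hB' => hU₀B.le_bot ⟨ht₀U, hB'⟩)

/-- **algebraic connected case**: for `K/k` algebraic and `X` connected, every connected component of
`X_K` surjects onto `X`, and is the intersection of the preimages of the connected components at
finite levels. -/
theorem image_connectedComponent_eq_univ [Algebra.IsAlgebraic k K] [ConnectedSpace X]
    (t : ↥(pullback f (yK K))) :
    (pullback.fst f (yK K)).base '' connectedComponent t = Set.univ :=
  (connectedComponent_eq_iInter_and_image (tower K f) (localDescent K f) t).2.2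

end Descent

end Groth.Agent.Helper4.ConnLimSch
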