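import Mathlib
import Groth.Agent.Lib.Helper4.ConnLimSch
import Groth.Agent.Lib.Helper4.BCTower
import Groth.Agent.Lib.Helper4.GeomConnSep

/-!
# Images of connected components of `X_K` in `X` (helper4)
-/

set_option autoImplicit false
set_option linter.style.haveILetI false
universe u
open AlgebraicGeometry CategoryTheory CategoryTheory.Limits TensorProduct

namespace Groth.Agent.Helper4.ConnCompImage

open Groth.Agent.Helper4.BCTower

variable {k : Type u} [Field k] {X : Scheme.{u}} (f : X ⟶ Spec (CommRingCat.of k))
  (K : Type u) [Field K] [Algebra k K]

/-- **connected case**: for `X` connected and `K/k` arbitrary, every connected component of `X_K`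
surjects onto `X`. -/
theorem image_connectedComponent_eq_univ [ConnectedSpace X] (x' : ↥(pullback f (yK K))) :
    (pullback.fst f (yK K)).base '' connectedComponent x' = Set.univ := by
  let φ : SeparableClosure k →ₐ[k] AlgebraicClosure K := IsSepClosed.lift
  letI : Algebra (SeparableClosure k) (AlgebraicClosure K) := φ.toRingHom.toAlgebra
  haveI : IsScalarTower k (SeparableClosure k) (AlgebraicClosure K) :=
    IsScalarTower.of_algebraMap_eq (fun x => (φ.commutes x).symm)
  set q := pT K (AlgebraicClosure K) f with hq
  set r := pT (SeparableClosure k) (AlgebraicClosure K) f with hr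
  obtain ⟨x'', hx''⟩ := pT_surjective K (AlgebraicClosure K) f x'
  haveI : ConnectedSpace ↥(Spec (CommRingCat.of (AlgebraicClosure K))) :=
    inferInstanceAs (ConnectedSpace (PrimeSpectrum (AlgebraicClosure K)))
  haveI hgc : GeometricallyConnected (ιT (SeparableClosure k) (AlgebraicClosure K)) :=
    Groth.Agent.Helper4.GeomConnSep.geometricallyConnected_of_isSepClosed _
  haveI : GeometricallyConnected r :=
    MorphismProperty.of_isPullback (P := @GeometricallyConnected)
      (isPullback_pT (SeparableClosure k) (AlgebraicClosure K) f).flip hgc
  have hro : IsOpenMap r.base := pT_isOpenMap (SeparableClosure k) (AlgebraicClosure K) f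
  have h1 : _root_.IsConnected (r.base ⁻¹' connectedComponent (r.base x'')) :=
    r.isConnected_preimage hro isConnected_connectedComponent isClosed_connectedComponent
  have h2 : r.base ⁻¹' connectedComponent (r.base x'') ⊆ connectedComponent x'' :=
    h1.isPreconnected.subset_connectedComponent (show r.base x'' ∈ _ from mem_connectedComponent)
  haveI : Algebra.IsAlgebraic k (SeparableClosure k) :=
    Algebra.IsSeparable.isAlgebraic k (SeparableClosure k)
  have h3 : (pullback.fst f (yK (SeparableClosure k))).base '' connectedComponent (r.base x'') =
      Set.univ :=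
    Groth.Agent.Helper4.ConnLimSch.image_connectedComponent_eq_univ (SeparableClosure k) f
      (r.base x'')
  rw [Set.eq_univ_iff_forall]
  intro x
  obtain ⟨z, hz, hzx⟩ : x ∈ (pullback.fst f (yK (SeparableClosure k))).base ''
      connectedComponent (r.base x'') := h3 ▸ Set.mem_univ x
  obtain ⟨w, hw⟩ := pT_surjective (SeparableClosure k) (AlgebraicClosure K) f z
  have hw' : w ∈ connectedComponent x'' := h2 (show r.base w ∈ _ by rw [hw]; exact hz)
  refine ⟨q.base w, ?_, ?_⟩
  · rw [← hx'']
    exact q.continuous.image_connectedComponent_subset x'' ⟨w, hw', rfl⟩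
  · have e1 : (pullback.fst f (yK K)).base (q.base w) =
        (pullback.fst f (yK (AlgebraicClosure K))).base w := by
      rw [← Scheme.Hom.comp_apply, hq, pT_fst]
    have e2 : (pullback.fst f (yK (SeparableClosure k))).base (r.base w) =
        (pullback.fst f (yK (AlgebraicClosure K))).base w := by
      rw [← Scheme.Hom.comp_apply, hr, pT_fst]
    rw [e1, ← e2, hw, hzx]

/-- **Images of connected components**: for any field extension `K/k` and any `k`-scheme `X`, the
image in `X` of the connected component of a point `x'` of `X_K` is the connected component of the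
image of `x'`. -/
theorem image_connectedComponent (x' : ↥(pullback f (yK K))) :
    (pullback.fst f (yK K)).base '' connectedComponent x' =
      connectedComponent ((pullback.fst f (yK K)).base x') := by
  set p := pullback.fst f (yK K) with hp
  set C := connectedComponent (p.base x') with hC
  have hCcl : IsClosed C := isClosed_connectedComponent
  obtain ⟨Z, i, hi, hrange⟩ :
      ∃ (Z : Scheme.{u}) (i : Z ⟶ X), IsClosedImmersion i ∧ Set.range i.base = C := by
    let I := Scheme.IdealSheafData.vanishingIdeal ⟨C, hCcl⟩
    have hr : Set.range I.subschemeι.base = C := by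
      rw [Scheme.IdealSheafData.range_subschemeι,
        Scheme.IdealSheafData.coe_support_vanishingIdeal]
      rfl
    exact ⟨I.subscheme, I.subschemeι, inferInstance, hr⟩
  haveI := hi
  -- `Z` is connected
  haveI hZ : ConnectedSpace ↥Z := by
    have h3 : ConnectedSpace (Set.range i.base) := by
      rw [hrange]
      exact isConnected_iff_connectedSpace.mp isConnected_connectedComponent
    exact (i.isEmbedding.toHomeomorph.connectedSpace_iff).mpr h3
  -- the closed embedding `W = Z ×_X X_K → X_K`
  set e := pullback.snd i p with he
  have hemb : Topology.IsEmbedding e.base := e.isEmbedding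
  have hrange2 : Set.range e.base = p.base ⁻¹' C := by
    rw [Scheme.Pullback.range_snd, hrange]
  have hx'R : x' ∈ Set.range e.base := by
    rw [hrange2]
    exact mem_connectedComponent
  obtain ⟨w', hw'⟩ := hx'R
  have hsubR : connectedComponent x' ⊆ Set.range e.base := by
    rw [hrange2]
    intro t ht
    exact p.continuous.image_connectedComponent_subset x' ⟨t, ht, rfl⟩
  -- `e '' C(w') = C(x')`
  have himg : e.base '' connectedComponent w' = connectedComponent x' := by
    apply subset_antisymm
    · rw [← hw']
      exact e.continuous.image_connectedComponent_subset w'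
    · have hpre : _root_.IsPreconnected (e.base ⁻¹' connectedComponent x') := by
        rw [← hemb.toIsInducing.isPreconnected_image, Set.image_preimage_eq_inter_range,
          Set.inter_eq_left.mpr hsubR]
        exact isPreconnected_connectedComponent
      have hsub : e.base ⁻¹' connectedComponent x' ⊆ connectedComponent w' :=
        hpre.subset_connectedComponent (show e.base w' ∈ _ by rw [hw']; exact mem_connectedComponent)
      intro t ht
      obtain ⟨t₀, rfl⟩ := hsubR ht
      exact ⟨t₀, hsub ht, rfl⟩
  -- the connected case on `Z`
  let Φ := pullbackRightPullbackFstIso f (yK K) i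
  have hΦ : Φ.hom ≫ pullback.fst (i ≫ f) (yK K) = pullback.fst i p :=
    pullbackRightPullbackFstIso_hom_fst f (yK K) i
  have hcomp : Φ.hom.base '' connectedComponent w' = connectedComponent (Φ.hom.base w') := by
    apply subset_antisymm (Φ.hom.continuous.image_connectedComponent_subset w')
    intro y hy
    refine ⟨Φ.inv.base y, ?_, ?_⟩
    · have h1 : Φ.inv.base (Φ.hom.base w') = w' := by
        rw [← Scheme.Hom.comp_apply, Φ.hom_inv_id]
        rfl
      have h2 := Φ.inv.continuous.image_connectedComponent_subset (Φ.hom.base w')
        ⟨y, hy, rfl⟩
      rw [h1] at h2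
      exact h2
    · rw [← Scheme.Hom.comp_apply, Φ.inv_hom_id]
      rfl
  have hZK := image_connectedComponent_eq_univ (i ≫ f) K (Φ.hom.base w')
  have hfstW : (pullback.fst i p).base '' connectedComponent w' = Set.univ := by
    rw [← hΦ, Scheme.Hom.comp_base, TopCat.coe_comp, Set.image_comp, hcomp]
    exact hZK
  -- conclude
  rw [← himg, ← Set.image_comp]
  have hcomm : p.base ∘ e.base = i.base ∘ (pullback.fst i p).base := by
    funext t
    show p.base (e.base t) = i.base ((pullback.fst i p).base t)
    rw [← Scheme.Hom.comp_apply, ← Scheme.Hom.comp_apply, he, pullback.condition]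
  rw [hcomm, Set.image_comp, hfstW, Set.image_univ, hrange]

end Groth.Agent.Helper4.ConnCompImage
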