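import Mathlib
import Groth.Agent.Lib.Helper4.BCTower

/-!
# The Galois action on `X_K` (helper4)
-/

set_option autoImplicit false
set_option linter.style.haveILetI false
universe u
open AlgebraicGeometry CategoryTheory CategoryTheory.Limits TensorProduct

namespace Groth.Agent.Helper4.GalAct

open Groth.Agent.Helper4.BCTower

variable {k : Type u} [Field k] {X : Scheme.{u}} (f : X ⟶ Spec (CommRingCat.of k))
  (K : Type u) [Field K] [Algebra k K]

/-- the action of a `k`-automorphism of `K` on `X_K` -/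
noncomputable def gA (σ : K ≃ₐ[k] K) : pullback f (yK K) ⟶ pullback f (yK K) :=
  pullback.map _ _ _ _ (𝟙 X) (Spec.map (CommRingCat.ofHom (σ : K →ₐ[k] K).toRingHom)) (𝟙 _)
    (by simp) (by rw [Category.comp_id, ← Spec.map_comp, ← CommRingCat.ofHom_comp,
      AlgHom.toRingHom_eq_coe, AlgHom.comp_algebraMap])

@[reassoc (attr := simp)]
theorem gA_fst (σ : K ≃ₐ[k] K) :
    gA f K σ ≫ pullback.fst f (yK K) = pullback.fst f (yK K) :=
  (pullback.lift_fst _ _ _).trans (Category.comp_id _)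

@[reassoc (attr := simp)]
theorem gA_snd (σ : K ≃ₐ[k] K) :
    gA f K σ ≫ pullback.snd f (yK K) =
      pullback.snd f (yK K) ≫ Spec.map (CommRingCat.ofHom (σ : K →ₐ[k] K).toRingHom) :=
  pullback.lift_snd _ _ _

theorem gA_symm_comp (σ : K ≃ₐ[k] K) : gA f K σ.symm ≫ gA f K σ = 𝟙 _ := by
  apply pullback.hom_ext
  · rw [Category.assoc, gA_fst, gA_fst, Category.id_comp]
  · rw [Category.assoc, gA_snd, gA_snd_assoc, Category.id_comp, ← Spec.map_comp,
      ← CommRingCat.ofHom_comp]
    have : ((σ.symm : K →ₐ[k] K).toRingHom).comp ((σ : K →ₐ[k] K).toRingHom) =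
        RingHom.id K := by
      ext x
      simp
    rw [this]
    simp

theorem gA_comp_symm (σ : K ≃ₐ[k] K) : gA f K σ ≫ gA f K σ.symm = 𝟙 _ := by
  have := gA_symm_comp f K σ.symm
  rwa [AlgEquiv.symm_symm] at this

/-- the action as an isomorphism -/
noncomputable def gAIso (σ : K ≃ₐ[k] K) : pullback f (yK K) ≅ pullback f (yK K) where
  hom := gA f K σ
  inv := gA f K σ.symm
  hom_inv_id := gA_comp_symm f K σ
  inv_hom_id := gA_symm_comp f K σ

theorem gA_symm_apply (σ : K ≃ₐ[k] K) (t : ↥(pullback f (yK K))) :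
    (gA f K σ.symm).base ((gA f K σ).base t) = t := by
  rw [← Scheme.Hom.comp_apply, gA_comp_symm]
  rfl

theorem gA_apply_symm (σ : K ≃ₐ[k] K) (t : ↥(pullback f (yK K))) :
    (gA f K σ).base ((gA f K σ.symm).base t) = t := by
  rw [← Scheme.Hom.comp_apply, gA_symm_comp]
  rfl

theorem fst_gA_apply (σ : K ≃ₐ[k] K) (t : ↥(pullback f (yK K))) :
    (pullback.fst f (yK K)).base ((gA f K σ).base t) = (pullback.fst f (yK K)).base t := by
  rw [← Scheme.Hom.comp_apply, gA_fst]

/-- the Galois action preserves preimages of subsets of `X` -/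
theorem image_preimage (σ : K ≃ₐ[k] K) (S : Set ↥X) :
    (gA f K σ).base '' ((pullback.fst f (yK K)).base ⁻¹' S) =
      (pullback.fst f (yK K)).base ⁻¹' S := by
  ext t
  constructor
  · rintro ⟨t₀, ht₀, rfl⟩
    show (pullback.fst f (yK K)).base ((gA f K σ).base t₀) ∈ S
    rw [fst_gA_apply]
    exact ht₀
  · intro ht
    refine ⟨(gA f K σ.symm).base t, ?_, gA_apply_symm f K σ t⟩
    show (pullback.fst f (yK K)).base ((gA f K σ.symm).base t) ∈ S
    rw [fst_gA_apply]
    exact ht

theorem isClosedMap_gA (σ : K ≃ₐ[k] K) : IsClosedMap (gA f K σ).base :=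
  (gAIso f K σ).hom.homeomorph.isClosedMap

/-- **transitivity on fibres**: for `K/k` normal, two points of `X_K` with the same image in `X` are
conjugate under `Aut(K/k)` -/
theorem exists_gA_eq [Normal k K] (u t' : ↥(pullback f (yK K)))
    (h : (pullback.fst f (yK K)).base u = (pullback.fst f (yK K)).base t') :
    ∃ σ : K ≃ₐ[k] K, (gA f K σ).base u = t' := by
  set π := pullback.fst f (yK K) with hπ
  let a₁ := (pullback f (yK K)).fromSpecResidueField u
  let a₂ := (pullback f (yK K)).fromSpecResidueField t'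
  obtain ⟨p₁⟩ : Nonempty ↥(Spec ((pullback f (yK K)).residueField u)) := inferInstance
  obtain ⟨p₂⟩ : Nonempty ↥(Spec ((pullback f (yK K)).residueField t')) := inferInstance
  have hp : (a₁ ≫ π).base p₁ = (a₂ ≫ π).base p₂ := by
    rw [Scheme.Hom.comp_apply, Scheme.Hom.comp_apply, Scheme.fromSpecResidueField_apply,
      Scheme.fromSpecResidueField_apply]
    exact h
  obtain ⟨z, -, -⟩ := Scheme.Pullback.exists_preimage_pullback (f := a₁ ≫ π) (g := a₂ ≫ π)
    p₁ p₂ hp
  set P := pullback (a₁ ≫ π) (a₂ ≫ π) with hP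
  let b := P.fromSpecResidueField z
  obtain ⟨b₁, hb₁⟩ : ∃ b₁ : Spec (P.residueField z) ⟶ pullback f (yK K),
      b₁ = b ≫ pullback.fst _ _ ≫ a₁ := ⟨_, rfl⟩
  obtain ⟨b₂, hb₂⟩ : ∃ b₂ : Spec (P.residueField z) ⟶ pullback f (yK K),
      b₂ = b ≫ pullback.snd _ _ ≫ a₂ := ⟨_, rfl⟩
  have hb : b₁ ≫ π = b₂ ≫ π := by
    rw [hb₁, hb₂]
    simp only [Category.assoc]
    rw [pullback.condition]
  obtain ⟨ψ₁, hψ₁⟩ := Spec.map_surjective (b₁ ≫ pullback.snd f (yK K))
  obtain ⟨ψ₂, hψ₂⟩ := Spec.map_surjective (b₂ ≫ pullback.snd f (yK K))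
  have hcomm : CommRingCat.ofHom (algebraMap k K) ≫ ψ₁ =
      CommRingCat.ofHom (algebraMap k K) ≫ ψ₂ := by
    apply Spec.map_injective
    rw [Spec.map_comp, Spec.map_comp, hψ₁, hψ₂]
    have e1 : pullback.snd f (yK K) ≫ Spec.map (CommRingCat.ofHom (algebraMap k K)) =
        π ≫ f := pullback.condition.symm
    calc (b₁ ≫ pullback.snd f (yK K)) ≫ Spec.map (CommRingCat.ofHom (algebraMap k K))
        = b₁ ≫ (π ≫ f) := by rw [Category.assoc, e1]
      _ = (b₁ ≫ π) ≫ f := (Category.assoc _ _ _).symm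
      _ = (b₂ ≫ π) ≫ f := by rw [hb]
      _ = b₂ ≫ (π ≫ f) := Category.assoc _ _ _
      _ = (b₂ ≫ pullback.snd f (yK K)) ≫ Spec.map (CommRingCat.ofHom (algebraMap k K)) := by
          rw [Category.assoc, e1]
  letI : Algebra K (P.residueField z) := ψ₁.hom.toAlgebra
  letI : Algebra k (P.residueField z) := (ψ₁.hom.comp (algebraMap k K)).toAlgebra
  haveI : IsScalarTower k K (P.residueField z) :=
    IsScalarTower.of_algebraMap_eq (fun x => rfl)
  let ι₂ : K →ₐ[k] (P.residueField z) :=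
    { ψ₂.hom with
      commutes' := fun x => by
        have := congrArg (fun φ => φ.hom x) hcomm
        exact this.symm }
  let σ := Normal.algHomEquivAut k (P.residueField z) K ι₂
  have hσ : ∀ x : K, ψ₁.hom (σ x) = ψ₂.hom x := by
    intro x
    have h1 := (Normal.algHomEquivAut k (P.residueField z) K).left_inv ι₂
    have h2 := congrArg (fun φ : K →ₐ[k] (P.residueField z) => φ x) h1
    exact h2
  have key : b₁ ≫ gA f K σ = b₂ := by
    apply pullback.hom_ext
    · rw [Category.assoc, gA_fst]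
      exact hb
    · rw [Category.assoc, gA_snd, ← Category.assoc, ← hψ₁, ← hψ₂, ← Spec.map_comp]
      congr 1
      ext x
      exact hσ x
  obtain ⟨q⟩ : Nonempty ↥(Spec (P.residueField z)) := inferInstance
  have h1 : b₁.base q = u := by
    rw [hb₁, Scheme.Hom.comp_apply, Scheme.Hom.comp_apply, Scheme.fromSpecResidueField_apply]
  have h2 : b₂.base q = t' := by
    rw [hb₂, Scheme.Hom.comp_apply, Scheme.Hom.comp_apply, Scheme.fromSpecResidueField_apply]
  refine ⟨σ, ?_⟩
  rw [← h1, ← Scheme.Hom.comp_apply, key, h2]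

end Groth.Agent.Helper4.GalAct
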