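import Mathlib
import Groth.Agent.Lib.Helper4.GeomConnSep
import Groth.Agent.Lib.Helper4.AlgClosedGeom
import Groth.Agent.S2501

/-!
# Preimages of connected subsets under base field extension (helper4)
-/

set_option autoImplicit false
set_option linter.style.haveILetI false
universe u
open AlgebraicGeometry CategoryTheory CategoryTheory.Limits TensorProduct

namespace Groth.Agent.Helper4.GeomConnSet

variable {k : Type u} [Field k] {X : Scheme.{u}} (f : X ⟶ Spec (CommRingCat.of k))
  (K : Type u) [Field K] [Algebra k K]

/-- the preimage in `X_K` of the range of a morphism from a geometrically connected `k`-scheme is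
connected -/
theorem isConnected_preimage_range {Y : Scheme.{u}} (g : Y ⟶ X)
    [GeometricallyConnected (g ≫ f)] :
    _root_.IsConnected ((FBase.bcπ f K).base ⁻¹' Set.range g.base) := by
  unfold FBase.bcπ
  set y := Spec.map (CommRingCat.ofHom (algebraMap k K)) with hy
  set p := pullback.fst f y with hp
  have h1 : ConnectedSpace ↥(pullback (g ≫ f) y) :=
    pullback_of_geometrically
      (GeometricallyConnected.geometrically_connectedSpace (f := g ≫ f)) K y
  have h2 : ConnectedSpace ↥(pullback g p) :=
    ((pullbackRightPullbackFstIso f y g).hom.homeomorph.connectedSpace_iff).2 h1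
  rw [← Scheme.Pullback.range_snd, ← Set.image_univ]
  exact (@isConnected_univ _ _ h2).image _ (pullback.snd g p).continuous.continuousOn

/-- over a separably closed field, fibres of `X_K ⟶ X` are connected -/
theorem isConnected_fiber [IsSepClosed k] (x : X) :
    _root_.IsConnected ((FBase.bcπ f K).base ⁻¹' {x}) := by
  haveI : GeometricallyConnected (X.fromSpecResidueField x ≫ f) :=
    GeomConnSep.geometricallyConnected_of_isSepClosed _
  have := isConnected_preimage_range f K (X.fromSpecResidueField x)
  rwa [Scheme.range_fromSpecResidueField] at this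

/-- over a separably closed field, preimages of connected sets in `X_K` are connected -/
theorem isConnected_preimage [IsSepClosed k] {Z : Set X} (hZ : _root_.IsConnected Z) :
    _root_.IsConnected ((FBase.bcπ f K).base ⁻¹' Z) := by
  have ho : IsOpenMap (FBase.bcπ f K).base := by
    unfold FBase.bcπ
    exact (pullback.fst f _).isOpenMap
  exact AlgClosedGeom.isConnected_preimage_of_isOpenMap (FBase.bcπ f K).continuous ho
    (isConnected_fiber f K) hZ

/-- over a separably closed field, `X_K ⟶ X` induces a bijection on connected components -/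
theorem connectedComponentsMap_bijective [IsSepClosed k] :
    Function.Bijective (Continuous.connectedComponentsMap (FBase.bcπ f K).continuous) := by
  have hsurj : Function.Surjective (FBase.bcπ f K).base := by
    intro x
    obtain ⟨t, ht⟩ := (isConnected_fiber f K x).nonempty
    exact ⟨t, ht⟩
  have ho : IsOpenMap (FBase.bcπ f K).base := by
    unfold FBase.bcπ
    exact (pullback.fst f _).isOpenMap
  have hq : Topology.IsCoinducing (FBase.bcπ f K).base :=
    (ho.isQuotientMap (FBase.bcπ f K).continuous hsurj).isCoinducing
  exact hq.connectedComponentsMap_bijective (isConnected_fiber f K)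

section Top

/-- a continuous open closed surjection onto a connected space, with a nonempty connected saturated
subset, has connected source -/
theorem connectedSpace_of_saturated {P C : Type*} [TopologicalSpace P] [TopologicalSpace C]
    [ConnectedSpace C] (q : P → C) (hqo : IsOpenMap q) (hqc : IsClosedMap q)
    (T : Set P) (hT : _root_.IsConnected T) (hsat : ∀ t ∈ T, ∀ u : P, q u = q t → u ∈ T) :
    ConnectedSpace P := by
  obtain ⟨t, ht⟩ := hT.nonempty
  haveI : Nonempty P := ⟨t⟩
  haveI : PreconnectedSpace P := by
    rw [preconnectedSpace_iff_clopen]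
    intro U hU
    by_contra hcon
    push Not at hcon
    obtain ⟨hU0, hU1⟩ := hcon
    have hUne : U.Nonempty := hU0
    have hUcne : Uᶜ.Nonempty := Set.nonempty_compl.2 hU1
    have himU : q '' U = Set.univ := by
      have hcl : IsClopen (q '' U) := ⟨hqc _ hU.1, hqo _ hU.2⟩
      exact (isClopen_iff.1 hcl).resolve_left (hUne.image _).ne_empty
    have himUc : q '' Uᶜ = Set.univ := by
      have hcl : IsClopen (q '' Uᶜ) := ⟨hqc _ hU.compl.1, hqo _ hU.compl.2⟩
      exact (isClopen_iff.1 hcl).resolve_left (hUcne.image _).ne_empty
    by_cases htU : t ∈ U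
    · have hsubT : T ⊆ U := hT.isPreconnected.subset_isClopen hU ⟨t, ht, htU⟩
      have hmem : q t ∈ q '' Uᶜ := himUc ▸ Set.mem_univ _
      obtain ⟨u', hu', hpu'⟩ := hmem
      exact hu' (hsubT (hsat t ht u' hpu'))
    · have hsubT : T ⊆ Uᶜ := hT.isPreconnected.subset_isClopen hU.compl ⟨t, ht, htU⟩
      have hmem : q t ∈ q '' U := himU ▸ Set.mem_univ _
      obtain ⟨u', hu', hpu'⟩ := hmem
      exact hsubT (hsat t ht u' hpu') hu'
  exact ⟨‹Nonempty P›⟩

/-- set version -/
theorem isConnected_preimage_of_saturated {W X : Type*} [TopologicalSpace W] [TopologicalSpace X]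
    (p : W → X) (hpc : Continuous p) (hpo : IsOpenMap p) (hpcl : IsClosedMap p)
    (C D : Set X) (hC : _root_.IsConnected C) (hDC : D ⊆ C)
    (hD : _root_.IsConnected (p ⁻¹' D)) : _root_.IsConnected (p ⁻¹' C) := by
  haveI : ConnectedSpace C := isConnected_iff_connectedSpace.mp hC
  let q : p ⁻¹' C → C := C.restrictPreimage p
  have hqo : IsOpenMap q := hpo.restrictPreimage C
  have hqc : IsClosedMap q := hpcl.restrictPreimage C
  let T : Set (p ⁻¹' C) := Subtype.val ⁻¹' (p ⁻¹' D)
  have hsub : p ⁻¹' D ⊆ p ⁻¹' C := Set.preimage_mono hDC
  have hT : _root_.IsConnected T := by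
    have h1 : Subtype.val '' T = p ⁻¹' D := by
      rw [Subtype.image_preimage_coe, Set.inter_eq_right.2 hsub]
    refine ⟨?_, ?_⟩
    · obtain ⟨w, hw⟩ := hD.nonempty
      exact ⟨⟨w, hsub hw⟩, hw⟩
    · rw [← Topology.IsInducing.subtypeVal.isPreconnected_image, h1]
      exact hD.isPreconnected
  have hsat : ∀ t ∈ T, ∀ u : p ⁻¹' C, q u = q t → u ∈ T := by
    intro t ht u hu
    have h2 : p u.1 = p t.1 := congrArg Subtype.val hu
    change p u.1 ∈ D
    rw [h2]
    exact ht
  have := connectedSpace_of_saturated q hqo hqc T hT hsat
  exact isConnected_iff_connectedSpace.mpr this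

end Top

/-- **(P)**: if a closed connected subset `C` of a `k`-scheme contains a nonempty subset `D` all of
whose preimages under base field extensions are connected, the same holds for `C`. -/
theorem isConnected_preimage_of_subset (C D : Set X) (hC : _root_.IsConnected C) (hCcl : IsClosed C)
    (hDC : D ⊆ C)
    (hD : ∀ (L : Type u) [Field L] [Algebra k L],
      _root_.IsConnected ((FBase.bcπ f L).base ⁻¹' D)) :
    _root_.IsConnected ((FBase.bcπ f K).base ⁻¹' C) := by
  obtain ⟨Z, i, hi, hrange⟩ :
      ∃ (Z : Scheme.{u}) (i : Z ⟶ X), IsClosedImmersion i ∧ Set.range i.base = C := by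
    let I := Scheme.IdealSheafData.vanishingIdeal ⟨C, hCcl⟩
    have hr : Set.range I.subschemeι.base = C := by
      rw [Scheme.IdealSheafData.range_subschemeι,
        Scheme.IdealSheafData.coe_support_vanishingIdeal]
      rfl
    exact ⟨I.subscheme, I.subschemeι, inferInstance, hr⟩
  suffices hgc : GeometricallyConnected (i ≫ f) by
    have := isConnected_preimage_range f K i
    rwa [hrange] at this
  haveI : IsAlgClosed (AlgebraicClosure k) := inferInstance
  rw [Groth.Agent.S4625.result (K := AlgebraicClosure k) (i ≫ f)]
  suffices hconn : ConnectedSpace ↥(FBase.bc (i ≫ f) (AlgebraicClosure k)) from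
    Groth.Agent.S2501.result (FBase.bcStr (i ≫ f) (AlgebraicClosure k))
  unfold FBase.bc
  set y := Spec.map (CommRingCat.ofHom (algebraMap k (AlgebraicClosure k))) with hy
  set p := pullback.fst f y with hp
  haveI hint : IsIntegralHom y := by
    rw [hy, IsIntegralHom.SpecMap_iff]
    exact algebraMap_isIntegral_iff.2 inferInstance
  have hpo : IsOpenMap p.base := p.isOpenMap
  have hpc : IsClosedMap p.base := p.isClosedMap
  have hP : _root_.IsConnected (p.base ⁻¹' C) :=
    isConnected_preimage_of_saturated p.base p.continuous hpo hpc C D hC hDC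
      (hD (AlgebraicClosure k))
  have hemb : Topology.IsEmbedding (pullback.snd i p).base := (pullback.snd i p).isEmbedding
  have hrange2 : Set.range (pullback.snd i p).base = p.base ⁻¹' C := by
    rw [Scheme.Pullback.range_snd, hrange]
  have h2 : ConnectedSpace ↥(pullback i p) := by
    have h3 : ConnectedSpace (Set.range (pullback.snd i p).base) := by
      rw [hrange2]
      exact isConnected_iff_connectedSpace.mp hP
    exact (hemb.toHomeomorph.connectedSpace_iff).mpr h3
  exact ((pullbackRightPullbackFstIso f y i).hom.homeomorph.connectedSpace_iff).1 h2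

end Groth.Agent.Helper4.GeomConnSet
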