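import Mathlib
import Groth.Agent.Lib.Helper4.GalAct
import Groth.Agent.Lib.Helper4.ConnCompImage
import Groth.Agent.Lib.Helper4.GeomConnSet
import Groth.Agent.Lib.Helper4.GeomIrrSep

/-!
# Galois orbits of connected / irreducible components of `X_{k̄}` (helper4)
-/

set_option autoImplicit false
set_option linter.style.haveILetI false
universe u
open AlgebraicGeometry CategoryTheory CategoryTheory.Limits TensorProduct

namespace Groth.Agent.Helper4.GalOrbit

open Groth.Agent.Helper4.BCTower Groth.Agent.Helper4.GalAct

variable {k : Type u} [Field k] {X : Scheme.{u}} (f : X ⟶ Spec (CommRingCat.of k))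
  (L : Type u) [Field L] [Algebra k L]

/-- the closed subscheme on a closed subset -/
theorem exists_closedImmersion (T : Set ↥X) (hT : IsClosed T) :
    ∃ (Z : Scheme.{u}) (i : Z ⟶ X), IsClosedImmersion i ∧ Set.range i.base = T := by
  let I := Scheme.IdealSheafData.vanishingIdeal ⟨T, hT⟩
  have hr : Set.range I.subschemeι.base = T := by
    rw [Scheme.IdealSheafData.range_subschemeι,
      Scheme.IdealSheafData.coe_support_vanishingIdeal]
    rfl
  exact ⟨I.subscheme, I.subschemeι, inferInstance, hr⟩

/-- if the preimage of a closed subset `T` in `X_L` (`L` separably closed) is irreducible, so is its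
preimage in `X_K` for every `K` -/
theorem isIrreducible_preimage_of_bc [IsSepClosed L] (T : Set ↥X) (hTcl : IsClosed T)
    (hT : IsIrreducible ((pullback.fst f (yK L)).base ⁻¹' T))
    (K : Type u) [Field K] [Algebra k K] :
    IsIrreducible ((pullback.fst f (yK K)).base ⁻¹' T) := by
  obtain ⟨Z, i, hi, hrange⟩ := exists_closedImmersion T hTcl
  haveI := hi
  set p := pullback.fst f (yK L) with hp
  have hemb : Topology.IsEmbedding (pullback.snd i p).base := (pullback.snd i p).isEmbedding
  have hrange2 : Set.range (pullback.snd i p).base = p.base ⁻¹' T := by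
    rw [Scheme.Pullback.range_snd, hrange]
  have h2 : IrreducibleSpace ↥(pullback i p) := by
    have h3 : IrreducibleSpace (Set.range (pullback.snd i p).base) := by
      rw [hrange2]
      exact (isIrreducible_iff_irreducibleSpace).mp hT
    exact (hemb.toHomeomorph.irreducibleSpace_iff).mpr h3
  haveI h1 : IrreducibleSpace ↥(FBase.bc (i ≫ f) L) :=
    ((pullbackRightPullbackFstIso f (yK L) i).hom.homeomorph.irreducibleSpace_iff).1 h2
  haveI : GeometricallyIrreducible (i ≫ f) :=
    Groth.Agent.Helper4.GeomIrrSep.geometricallyIrreducible_of_irreducibleSpace_bc (i ≫ f) L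
  have := Groth.Agent.Helper4.GeomIrrSep.isIrreducible_preimage_range f K i
  rwa [hrange] at this

/-- if the preimage of a closed subset `T` in `X_L` (`L` separably closed) is connected, so is its
preimage in `X_K` for every `K` -/
theorem isConnected_preimage_of_bc [IsSepClosed L] (T : Set ↥X) (hTcl : IsClosed T)
    (hT : _root_.IsConnected ((pullback.fst f (yK L)).base ⁻¹' T))
    (K : Type u) [Field K] [Algebra k K] :
    _root_.IsConnected ((pullback.fst f (yK K)).base ⁻¹' T) := by
  obtain ⟨Z, i, hi, hrange⟩ := exists_closedImmersion T hTcl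
  haveI := hi
  set p := pullback.fst f (yK L) with hp
  have hemb : Topology.IsEmbedding (pullback.snd i p).base := (pullback.snd i p).isEmbedding
  have hrange2 : Set.range (pullback.snd i p).base = p.base ⁻¹' T := by
    rw [Scheme.Pullback.range_snd, hrange]
  have h2 : ConnectedSpace ↥(pullback i p) := by
    have h3 : ConnectedSpace (Set.range (pullback.snd i p).base) := by
      rw [hrange2]
      exact isConnected_iff_connectedSpace.mp hT
    exact (hemb.toHomeomorph.connectedSpace_iff).mpr h3
  haveI h1 : ConnectedSpace ↥(FBase.bc (i ≫ f) L) :=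
    ((pullbackRightPullbackFstIso f (yK L) i).hom.homeomorph.connectedSpace_iff).1 h2
  haveI : GeometricallyConnected (i ≫ f) :=
    Groth.Agent.Helper4.GeomConnSep.geometricallyConnected_of_connectedSpace_bc L (i ≫ f)
  have := Groth.Agent.Helper4.GeomConnSet.isConnected_preimage_range f K i
  rwa [hrange] at this

variable [Normal k L]

/-- a Galois-stable subset of `X_L` containing a point `t'` contains the whole fibre through `t'` -/
theorem mem_of_stable {S : Set ↥(pullback f (yK L))}
    (hS : ∀ σ : L ≃ₐ[k] L, (gA f L σ).base '' S = S) {t' u : ↥(pullback f (yK L))} (ht' : t' ∈ S)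
    (h : (pullback.fst f (yK L)).base t' = (pullback.fst f (yK L)).base u) : u ∈ S := by
  obtain ⟨σ, hσ⟩ := exists_gA_eq f L t' u h
  rw [← hS σ]
  exact ⟨t', ht', hσ⟩

/-- a Galois-stable subset of `X_L` is the preimage of its image -/
theorem preimage_image_of_stable {S : Set ↥(pullback f (yK L))}
    (hS : ∀ σ : L ≃ₐ[k] L, (gA f L σ).base '' S = S) :
    (pullback.fst f (yK L)).base ⁻¹' ((pullback.fst f (yK L)).base '' S) = S := by
  apply subset_antisymm
  · rintro u ⟨t', ht', h⟩
    exact mem_of_stable f L hS ht' h
  · exact Set.subset_preimage_image _ _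

/-- **Galois-stable connected components** -/
theorem connectedComponent_stable_iff [IsSepClosed L] [Algebra.IsAlgebraic k L]
    (t : ↥(pullback f (yK L))) :
    (∀ σ : L ≃ₐ[k] L, (gA f L σ).base '' connectedComponent t = connectedComponent t) ↔
      ((pullback.fst f (yK L)).base ⁻¹' connectedComponent ((pullback.fst f (yK L)).base t) =
          connectedComponent t ∧
        ∀ (K : Type u) [Field K] [Algebra k K],
          _root_.IsConnected ((pullback.fst f (yK K)).base ⁻¹'
            connectedComponent ((pullback.fst f (yK L)).base t))) := by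
  constructor
  · intro hS
    have h1 : (pullback.fst f (yK L)).base ⁻¹'
        connectedComponent ((pullback.fst f (yK L)).base t) = connectedComponent t := by
      rw [← Groth.Agent.Helper4.ConnCompImage.image_connectedComponent f L t]
      exact preimage_image_of_stable f L hS
    refine ⟨h1, fun K _ _ => ?_⟩
    apply isConnected_preimage_of_bc f L _ isClosed_connectedComponent
    rw [h1]
    exact isConnected_connectedComponent
  · rintro ⟨h1, -⟩ σ
    rw [← h1]
    exact image_preimage f L σ _

/-- **Galois orbits of irreducible components** -/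
theorem image_eq_iff_exists_gA [Algebra.IsAlgebraic k L]
    {Z' Z'' : Set ↥(pullback f (yK L))} (hZ' : Z' ∈ irreducibleComponents ↥(pullback f (yK L)))
    (hZ'' : Z'' ∈ irreducibleComponents ↥(pullback f (yK L))) :
    (pullback.fst f (yK L)).base '' Z' = (pullback.fst f (yK L)).base '' Z'' ↔
      ∃ σ : L ≃ₐ[k] L, (gA f L σ).base '' Z' = Z'' := by
  set π := pullback.fst f (yK L) with hπ
  constructor
  · intro h
    obtain ⟨ζ', hζ'⟩ := QuasiSober.sober hZ'.1 (isClosed_of_mem_irreducibleComponents Z' hZ')
    obtain ⟨ζ'', hζ''⟩ := QuasiSober.sober hZ''.1 (isClosed_of_mem_irreducibleComponents Z'' hZ'')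
    have hcl : IsClosedMap π.base := fst_isClosedMap f L
    have e1 : π.base '' Z' = closure {π.base ζ'} := by
      rw [← hζ'.def, ← hcl.closure_image_eq_of_continuous π.continuous, Set.image_singleton]
    have e2 : π.base '' Z'' = closure {π.base ζ''} := by
      rw [← hζ''.def, ← hcl.closure_image_eq_of_continuous π.continuous, Set.image_singleton]
    have e3 : closure {π.base ζ'} = closure {π.base ζ''} := by rw [← e1, ← e2, h]
    have e4 : π.base ζ' = π.base ζ'' :=
      ((specializes_iff_closure_subset.mpr e3.ge).antisymm
        (specializes_iff_closure_subset.mpr e3.le)).eq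
    obtain ⟨σ, hσ⟩ := exists_gA_eq f L ζ' ζ'' e4
    refine ⟨σ, ?_⟩
    rw [← hζ'.def, ← hζ''.def,
      ← (isClosedMap_gA f L σ).closure_image_eq_of_continuous (gA f L σ).continuous,
      Set.image_singleton, hσ]
  · rintro ⟨σ, rfl⟩
    rw [← Set.image_comp]
    congr 1
    funext t
    exact (fst_gA_apply f L σ t).symm

/-- **Galois-stable irreducible components** -/
theorem irreducibleComponent_stable_iff [IsSepClosed L] [Algebra.IsAlgebraic k L]
    {Z : Set ↥(pullback f (yK L))} (hZ : Z ∈ irreducibleComponents ↥(pullback f (yK L))) :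
    (∀ σ : L ≃ₐ[k] L, (gA f L σ).base '' Z = Z) ↔
      ∃ T ∈ irreducibleComponents ↥X, (pullback.fst f (yK L)).base ⁻¹' T = Z ∧
        ∀ (K : Type u) [Field K] [Algebra k K],
          IsIrreducible ((pullback.fst f (yK K)).base ⁻¹' T) := by
  constructor
  · intro hS
    have hT := image_fst_mem_irreducibleComponents f L hZ
    have h1 := preimage_image_of_stable f L hS
    refine ⟨_, hT, h1, fun K _ _ => ?_⟩
    apply isIrreducible_preimage_of_bc f L _ (isClosed_of_mem_irreducibleComponents _ hT)
    rw [h1]
    exact hZ.1
  · rintro ⟨T, -, h1, -⟩ σ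
    rw [← h1]
    exact image_preimage f L σ _

end Groth.Agent.Helper4.GalOrbit
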