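import Mathlib
import Groth.Agent.Lib.Helper16.Sch.GrpIrr6
import Groth.Agent.Lib.Helper16.Sch.GrpUV4
import Groth.Agent.Lib.Helper16.Sch.GrpUV3
import Groth.Agent.Lib.Helper4.GalOrbit
import Groth.Agent.Lib.Helper12.GrpSchSep
import Groth.Agent.Lib.Helper4.ConnCompImage

/-!
# The identity component of a group scheme over a field is irreducible and quasi-compact (helper4)

Uses helper16's `GrpIrr` / `GrpUV` libraries (uniqueness of the irreducible component through a
point, shear maps).
-/

set_option autoImplicit false
set_option linter.style.haveILetI false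
set_option linter.unusedSectionVars false
universe u v
open CategoryTheory CategoryTheory.Limits AlgebraicGeometry MonoidalCategory CartesianMonoidalCategory
  MonObj GrpObj

namespace Groth.Agent.Helper4.GrpConn

open Groth.Agent.Helper16.GrpIrr Groth.Agent.Helper16.GrpUV

section Cat

variable {C : Type u} [Category.{v} C] [CartesianMonoidalCategory C] (G : C) [GrpObj G]

/-- the map `(a, b) ↦ (a b, b)` -/
def phi : G ⊗ G ≅ G ⊗ G where
  hom := lift (fst G G * snd G G) (snd G G)
  inv := lift (fst G G * (snd G G)⁻¹) (snd G G)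
  hom_inv_id := by
    apply CartesianMonoidalCategory.hom_ext
    · rw [Category.assoc, lift_fst, MonObj.comp_mul, GrpObj.comp_inv, lift_fst, lift_snd,
        Category.id_comp, mul_inv_cancel_right]
    · rw [Category.assoc, lift_snd, lift_snd, Category.id_comp]
  inv_hom_id := by
    apply CartesianMonoidalCategory.hom_ext
    · rw [Category.assoc, lift_fst, MonObj.comp_mul, lift_fst, lift_snd,
        Category.id_comp, inv_mul_cancel_right]
    · rw [Category.assoc, lift_snd, lift_snd, Category.id_comp]

theorem phi_hom_fst : (phi G).hom ≫ fst G G = μ[G] := by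
  rw [phi, lift_fst, ← MonObj.mul_eq_mul]

theorem phi_hom_snd : (phi G).hom ≫ snd G G = snd G G := by
  rw [phi, lift_snd]

theorem phi_inv_snd : (phi G).inv ≫ snd G G = snd G G := by
  rw [phi, lift_snd]

theorem diag_div : lift (𝟙 G) (𝟙 G) ≫ ((fst G G)⁻¹ * snd G G) = toUnit G ≫ η[G] := by
  rw [MonObj.comp_mul, GrpObj.comp_inv, lift_fst, lift_snd, ← Hom.one_def]
  exact inv_mul_cancel _

end Cat

section Pts

variable {k : Type u} [Field k] (G : Over (Spec (CommRingCat.of k))) [GrpObj G]

/-- the unit point -/
noncomputable abbrev ept : G.left := η[G].left (IsLocalRing.closedPoint k)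

theorem fst_sec1 (g : G.left) :
    (fst G G).left ((lift (𝟙 G) (toUnit G ≫ η[G])).left g) = g := by
  rw [← Scheme.Hom.comp_apply, ← Over.comp_left, lift_fst]
  rfl

theorem snd_sec1 (g : G.left) :
    (snd G G).left ((lift (𝟙 G) (toUnit G ≫ η[G])).left g) = ept G := by
  rw [← Scheme.Hom.comp_apply, ← Over.comp_left, lift_snd, Over.comp_left,
    Scheme.Hom.comp_apply]
  rw [show (toUnit G).left g = G.hom g from rfl, unit_apply]

theorem mul_sec1 (g : G.left) :
    μ[G].left ((lift (𝟙 G) (toUnit G ≫ η[G])).left g) = g := by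
  rw [← Scheme.Hom.comp_apply, ← Over.comp_left, lift_id_one_mul]
  rfl

theorem fst_sec2 (g : G.left) :
    (fst G G).left ((lift (toUnit G ≫ η[G]) (𝟙 G)).left g) = ept G := by
  rw [← Scheme.Hom.comp_apply, ← Over.comp_left, lift_fst, Over.comp_left,
    Scheme.Hom.comp_apply]
  rw [show (toUnit G).left g = G.hom g from rfl, unit_apply]

theorem snd_sec2 (g : G.left) :
    (snd G G).left ((lift (toUnit G ≫ η[G]) (𝟙 G)).left g) = g := by
  rw [← Scheme.Hom.comp_apply, ← Over.comp_left, lift_snd]
  rfl

theorem fst_diag (g : G.left) : (fst G G).left ((lift (𝟙 G) (𝟙 G)).left g) = g := by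
  rw [← Scheme.Hom.comp_apply, ← Over.comp_left, lift_fst]
  rfl

theorem snd_diag (g : G.left) : (snd G G).left ((lift (𝟙 G) (𝟙 G)).left g) = g := by
  rw [← Scheme.Hom.comp_apply, ← Over.comp_left, lift_snd]
  rfl

theorem div_diag (g : G.left) :
    ((fst G G)⁻¹ * snd G G).left ((lift (𝟙 G) (𝟙 G)).left g) = ept G := by
  rw [← Scheme.Hom.comp_apply, ← Over.comp_left, diag_div, Over.comp_left,
    Scheme.Hom.comp_apply]
  rw [show (toUnit G).left g = G.hom g from rfl, unit_apply]

theorem fst_shear (q : (G ⊗ G).left) : (fst G G).left ((shear G).hom.left q) = (fst G G).left q := by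
  rw [← Scheme.Hom.comp_apply, ← Over.comp_left, shear_hom_fst]

theorem snd_shear (q : (G ⊗ G).left) :
    (snd G G).left ((shear G).hom.left q) = ((fst G G)⁻¹ * snd G G).left q := by
  rw [← Scheme.Hom.comp_apply, ← Over.comp_left, shear, lift_snd]

theorem mul_shear (q : (G ⊗ G).left) : μ[G].left ((shear G).hom.left q) = (snd G G).left q := by
  rw [← shear_inv_snd, ← Scheme.Hom.comp_apply, ← Over.comp_left, Iso.hom_inv_id_assoc]

theorem fst_phi (q : (G ⊗ G).left) : (fst G G).left ((phi G).hom.left q) = μ[G].left q := by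
  rw [← Scheme.Hom.comp_apply, ← Over.comp_left, phi_hom_fst]

theorem snd_phi (q : (G ⊗ G).left) : (snd G G).left ((phi G).hom.left q) = (snd G G).left q := by
  rw [← Scheme.Hom.comp_apply, ← Over.comp_left, phi_hom_snd]

theorem snd_phi_inv (q : (G ⊗ G).left) :
    (snd G G).left ((phi G).inv.left q) = (snd G G).left q := by
  rw [← Scheme.Hom.comp_apply, ← Over.comp_left, phi_inv_snd]

theorem phi_hom_inv (q : (G ⊗ G).left) : (phi G).hom.left ((phi G).inv.left q) = q := by
  rw [← Scheme.Hom.comp_apply, ← Over.comp_left, Iso.inv_hom_id]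
  rfl

theorem phi_inv_hom (q : (G ⊗ G).left) : (phi G).inv.left ((phi G).hom.left q) = q := by
  rw [← Scheme.Hom.comp_apply, ← Over.comp_left, Iso.hom_inv_id]
  rfl

/-- a point of `G × G` over a given pair of points -/
theorem exists_pair (a b : G.left) :
    ∃ p : (G ⊗ G).left, (fst G G).left p = a ∧ (snd G G).left p = b := by
  have h : G.hom a = G.hom b := Subsingleton.elim (α := PrimeSpectrum k) _ _
  obtain ⟨z, hz1, hz2⟩ := Scheme.Pullback.exists_preimage_pullback a b h
  exact ⟨z, hz1, hz2⟩

end Pts

section Open

variable {k : Type u} [Field k] (G : Over (Spec (CommRingCat.of k))) [GrpObj G]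

/-- `U · Z` is open, for `U` open and `Z` closed -/
theorem isOpen_mul (U Zs : Set G.left) (hU : IsOpen U) (hZs : IsClosed Zs) :
    IsOpen (μ[G].left '' ((fst G G).left ⁻¹' U ∩ (snd G G).left ⁻¹' Zs)) := by
  obtain ⟨T, i, hi, hrange⟩ := Groth.Agent.Helper4.GalOrbit.exists_closedImmersion Zs hZs
  haveI := hi
  let j : pullback G.hom (i ≫ G.hom) ⟶ pullback G.hom G.hom :=
    pullback.map G.hom (i ≫ G.hom) G.hom G.hom (𝟙 _) i (𝟙 _) (by simp) (by simp)
  have hrj : Set.range j = (pullback.snd G.hom G.hom) ⁻¹' Zs := by
    have h := Scheme.Pullback.range_map G.hom (i ≫ G.hom) G.hom G.hom (𝟙 _) i (𝟙 _)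
      (by simp) (by simp)
    have h2 : Set.range j = (pullback.fst G.hom G.hom) ⁻¹' Set.range (𝟙 G.left :) ∩
        (pullback.snd G.hom G.hom) ⁻¹' Set.range i := h
    rw [h2, hrange]
    ext t
    simp only [Set.mem_inter_iff, Set.mem_preimage, and_iff_right_iff_imp]
    intro _
    exact ⟨_, rfl⟩
  have hjf : j ≫ pullback.fst G.hom G.hom = pullback.fst G.hom (i ≫ G.hom) :=
    (pullback.lift_fst _ _ _).trans (Category.comp_id _)
  haveI : UniversallyOpen (i ≫ G.hom) := inferInstance
  have hopen : IsOpenMap (pullback.fst G.hom (i ≫ G.hom)) :=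
    (pullback.fst G.hom (i ≫ G.hom)).isOpenMap
  have hO : IsOpen ((phi G).inv.left ⁻¹' ((fst G G).left ⁻¹' U)) :=
    (hU.preimage (fst G G).left.continuous).preimage (phi G).inv.left.continuous
  have key : μ[G].left '' ((fst G G).left ⁻¹' U ∩ (snd G G).left ⁻¹' Zs) =
      pullback.fst G.hom (i ≫ G.hom) '' (j ⁻¹' ((phi G).inv.left ⁻¹' ((fst G G).left ⁻¹' U))) := by
    ext x
    constructor
    · rintro ⟨p, ⟨hp1, hp2⟩, rfl⟩
      have hmem : (phi G).hom.left p ∈ Set.range j := by
        rw [hrj]
        show (snd G G).left _ ∈ Zs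
        rw [snd_phi]
        exact hp2
      obtain ⟨t, ht⟩ := hmem
      refine ⟨t, ?_, ?_⟩
      · show (fst G G).left ((phi G).inv.left (j t)) ∈ U
        rw [ht, phi_inv_hom]
        exact hp1
      · rw [← hjf, Scheme.Hom.comp_apply, ht]
        exact fst_phi G p
    · rintro ⟨t, ht, rfl⟩
      refine ⟨(phi G).inv.left (j t), ⟨ht, ?_⟩, ?_⟩
      · show (snd G G).left _ ∈ Zs
        rw [snd_phi_inv]
        have h3 : j t ∈ Set.range j := ⟨t, rfl⟩
        rw [hrj] at h3
        exact h3
      · rw [← fst_phi, phi_hom_inv, ← hjf, Scheme.Hom.comp_apply]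
        rfl
  rw [key]
  exact hopen _ (hO.preimage j.continuous)

end Open

section AlgClosed

variable {k : Type u} [Field k] [IsAlgClosed k] (G : Over (Spec (CommRingCat.of k))) [GrpObj G]

theorem isIrreducible_image (ν : G ⊗ G ⟶ G) (A B : Set G.left) (hA : IsIrreducible A)
    (hAc : IsClosed A) (hB : IsIrreducible B) (hBc : IsClosed B) :
    IsIrreducible (ν.left '' ((fst G G).left ⁻¹' A ∩ (snd G G).left ⁻¹' B)) :=
  (isIrreducible_inter_preimage G.hom G.hom A B hA hAc hB hBc).image _
    ν.left.continuous.continuousOn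

theorem mul_subset {C : Set G.left} (hC : C ∈ irreducibleComponents G.left) :
    μ[G].left '' ((fst G G).left ⁻¹' C ∩
      (snd G G).left ⁻¹' irreducibleComponent (ept G)) ⊆ C := by
  apply hC.2 (isIrreducible_image G μ[G] C _ hC.1 (isClosed_of_mem_irreducibleComponents _ hC)
    isIrreducible_irreducibleComponent isClosed_irreducibleComponent)
  intro c hc
  refine ⟨(lift (𝟙 G) (toUnit G ≫ η[G])).left c, ⟨?_, ?_⟩, mul_sec1 G c⟩
  · rw [Set.mem_preimage, fst_sec1]
    exact hc
  · rw [Set.mem_preimage, snd_sec1]
    exact mem_irreducibleComponent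

theorem div_subset {C : Set G.left} (hC : C ∈ irreducibleComponents G.left) :
    ((fst G G)⁻¹ * snd G G).left '' ((fst G G).left ⁻¹' C ∩ (snd G G).left ⁻¹' C) ⊆
      irreducibleComponent (ept G) := by
  obtain ⟨c, hc⟩ := hC.1.nonempty
  refine subset_of_unique_irreducibleComponent (ept G) (irreducibleComponent_unit_unique G) _
    (irreducibleComponent_mem_irreducibleComponents _) mem_irreducibleComponent _
    (isIrreducible_image G _ C C hC.1 (isClosed_of_mem_irreducibleComponents _ hC) hC.1
      (isClosed_of_mem_irreducibleComponents _ hC)) ?_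
  refine ⟨(lift (𝟙 G) (𝟙 G)).left c, ⟨?_, ?_⟩, div_diag G c⟩
  · rw [Set.mem_preimage, fst_diag]
    exact hc
  · rw [Set.mem_preimage, snd_diag]
    exact hc

/-- two points of the same irreducible component differ by an element of the identity component -/
theorem exists_mul_eq {C : Set G.left} (hC : C ∈ irreducibleComponents G.left) {a b : G.left}
    (ha : a ∈ C) (hb : b ∈ C) :
    ∃ p : (G ⊗ G).left, (fst G G).left p = a ∧
      (snd G G).left p ∈ irreducibleComponent (ept G) ∧ μ[G].left p = b := by
  obtain ⟨p₀, h1, h2⟩ := exists_pair G a b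
  refine ⟨(shear G).hom.left p₀, by rw [fst_shear, h1], ?_, by rw [mul_shear, h2]⟩
  rw [snd_shear]
  refine div_subset G hC ⟨p₀, ⟨?_, ?_⟩, rfl⟩
  · rw [Set.mem_preimage, h1]
    exact ha
  · rw [Set.mem_preimage, h2]
    exact hb

/-- the identity irreducible component is quasi-compact -/
theorem isCompact_irreducibleComponent_unit : IsCompact (irreducibleComponent (ept G)) := by
  obtain ⟨_, ⟨U, hU, rfl⟩, heU, -⟩ :=
    G.left.isBasis_affineOpens.exists_subset_of_mem_open (Set.mem_univ (ept G)) isOpen_univ
  have hZ := irreducibleComponent_mem_irreducibleComponents (ept G)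
  have hZc : IsClosed (irreducibleComponent (ept G)) := isClosed_irreducibleComponent
  obtain ⟨C₀, hC₀def⟩ : ∃ C₀ : Set (G ⊗ G).left, C₀ =
      ((fst G G).left ⁻¹' (U : Set G.left) ∩ (snd G G).left ⁻¹' (U : Set G.left)) ∩
        ((fst G G).left ⁻¹' irreducibleComponent (ept G) ∩
          (snd G G).left ⁻¹' irreducibleComponent (ept G)) := ⟨_, rfl⟩
  have hC₀ : IsCompact C₀ := by
    rw [hC₀def]
    exact (isCompact_inter_preimage k G U U hU hU).inter_right
      ((hZc.preimage (fst G G).left.continuous).inter (hZc.preimage (snd G G).left.continuous))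
  have hsup : μ[G].left '' C₀ ⊆ irreducibleComponent (ept G) := by
    refine (Set.image_mono ?_).trans (mul_subset G hZ)
    rw [hC₀def]
    exact Set.inter_subset_right
  have hsub : irreducibleComponent (ept G) ⊆ μ[G].left '' C₀ := by
    intro g hg
    have hΓZ : closure {g} ⊆ irreducibleComponent (ept G) :=
      closure_minimal (Set.singleton_subset_iff.mpr hg) hZc
    have hP : IsIrreducible ((fst G G).left ⁻¹' irreducibleComponent (ept G) ∩
        (snd G G).left ⁻¹' closure {g}) :=
      isIrreducible_inter_preimage G.hom G.hom _ _ hZ.1 hZc isIrreducible_singleton.closure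
        isClosed_closure
    have hPc : IsClosed ((fst G G).left ⁻¹' irreducibleComponent (ept G) ∩
        (snd G G).left ⁻¹' closure {g}) :=
      (hZc.preimage (fst G G).left.continuous).inter
        (isClosed_closure.preimage (snd G G).left.continuous)
    obtain ⟨q, hq⟩ := QuasiSober.sober hP hPc
    have hqP := hq.mem
    -- the two special points of `P`
    have hs2 : (lift (toUnit G ≫ η[G]) (𝟙 G)).left g ∈
        (fst G G).left ⁻¹' irreducibleComponent (ept G) ∩ (snd G G).left ⁻¹' closure {g} := by
      refine ⟨?_, ?_⟩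
      · rw [Set.mem_preimage, fst_sec2]
        exact mem_irreducibleComponent
      · rw [Set.mem_preimage, snd_sec2]
        exact subset_closure rfl
    have hdg : (lift (𝟙 G) (𝟙 G)).left g ∈
        (fst G G).left ⁻¹' irreducibleComponent (ept G) ∩ (snd G G).left ⁻¹' closure {g} := by
      refine ⟨?_, ?_⟩
      · rw [Set.mem_preimage, fst_diag]
        exact hg
      · rw [Set.mem_preimage, snd_diag]
        exact subset_closure rfl
    have hq2 : q ⤳ (lift (toUnit G ≫ η[G]) (𝟙 G)).left g := hq.specializes hs2
    have hqd : q ⤳ (lift (𝟙 G) (𝟙 G)).left g := hq.specializes hdg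
    have hsnd : (snd G G).left q = g := by
      have h1 : (snd G G).left q ⤳ g := by
        have := hq2.map (snd G G).left.continuous
        rwa [snd_sec2] at this
      have h2 : g ⤳ (snd G G).left q := specializes_iff_mem_closure.mpr hqP.2
      exact (h1.antisymm h2).eq
    have hfstU : (fst G G).left q ∈ (U : Set G.left) := by
      have h1 : (lift (toUnit G ≫ η[G]) (𝟙 G)).left g ∈ (fst G G).left ⁻¹' (U : Set G.left) := by
        rw [Set.mem_preimage, fst_sec2]
        exact heU
      exact hq2.mem_open (U.2.preimage (fst G G).left.continuous) h1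
    have hdU : ((fst G G)⁻¹ * snd G G).left q ∈ (U : Set G.left) := by
      have h1 : (lift (𝟙 G) (𝟙 G)).left g ∈
          ((fst G G)⁻¹ * snd G G).left ⁻¹' (U : Set G.left) := by
        rw [Set.mem_preimage, div_diag]
        exact heU
      exact hqd.mem_open (U.2.preimage ((fst G G)⁻¹ * snd G G).left.continuous) h1
    have hqZZ : q ∈ (fst G G).left ⁻¹' irreducibleComponent (ept G) ∩
        (snd G G).left ⁻¹' irreducibleComponent (ept G) := ⟨hqP.1, hΓZ hqP.2⟩
    have hdZ : ((fst G G)⁻¹ * snd G G).left q ∈ irreducibleComponent (ept G) :=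
      div_subset G hZ ⟨q, hqZZ, rfl⟩
    refine ⟨(shear G).hom.left q, ?_, by rw [mul_shear, hsnd]⟩
    rw [hC₀def]
    refine ⟨⟨?_, ?_⟩, ⟨?_, ?_⟩⟩
    · rw [Set.mem_preimage, fst_shear]
      exact hfstU
    · rw [Set.mem_preimage, snd_shear]
      exact hdU
    · rw [Set.mem_preimage, fst_shear]
      exact hqP.1
    · rw [Set.mem_preimage, snd_shear]
      exact hdZ
  rw [subset_antisymm hsub hsup]
  exact hC₀.image μ[G].left.continuous

/-- **over an algebraically closed field, the connected component of the identity is the identity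
irreducible component** -/
theorem connectedComponent_unit_eq :
    connectedComponent (ept G) = irreducibleComponent (ept G) := by
  have hZ := irreducibleComponent_mem_irreducibleComponents (ept G)
  have hZc : IsClosed (irreducibleComponent (ept G)) := isClosed_irreducibleComponent
  apply subset_antisymm
  · intro g hg
    by_contra hgZ
    have hZ' := irreducibleComponent_mem_irreducibleComponents g
    have hdisj : ∀ x, x ∈ irreducibleComponent (ept G) → x ∉ irreducibleComponent g := by
      intro x hx hx'
      have h1 := irreducibleComponent_unique G x _ _ hZ hZ' hx hx'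
      exact hgZ (h1 ▸ mem_irreducibleComponent)
    have hcomp := isCompact_irreducibleComponent_unit G
    have hex : ∀ z, z ∈ irreducibleComponent (ept G) → ∃ N : G.left.Opens, IsAffineOpen N ∧
        z ∈ N ∧ (N : Set G.left) ⊆ (irreducibleComponent g)ᶜ := by
      intro z hz
      obtain ⟨_, ⟨N, hN, rfl⟩, hzN, hsub⟩ :=
        G.left.isBasis_affineOpens.exists_subset_of_mem_open
          (show z ∈ (irreducibleComponent g)ᶜ from hdisj z hz)
          isClosed_irreducibleComponent.isOpen_compl
      exact ⟨N, hN, hzN, hsub⟩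
    choose! N hNaff hzN hNsub using hex
    obtain ⟨t, htZ, hcov⟩ := hcomp.elim_nhds_subcover (fun z => (N z : Set G.left))
      (fun z hz => (N z).2.mem_nhds (hzN z hz))
    obtain ⟨U₀, hU₀def⟩ : ∃ U₀ : Set G.left, U₀ = ⋃ x ∈ t, (N x : Set G.left) := ⟨_, rfl⟩
    have hU₀open : IsOpen U₀ := by
      rw [hU₀def]
      exact isOpen_biUnion (fun x _ => (N x).2)
    have hU₀Z' : U₀ ⊆ (irreducibleComponent g)ᶜ := by
      rw [hU₀def]
      exact Set.iUnion₂_subset (fun x hx => hNsub x (htZ x hx))
    have hZU₀ : irreducibleComponent (ept G) ⊆ U₀ := hU₀def ▸ hcov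
    -- compactness of `fst⁻¹ U₀ ∩ snd⁻¹ U₀`
    have hUUc : IsCompact ((fst G G).left ⁻¹' U₀ ∩ (snd G G).left ⁻¹' U₀) := by
      have h1 : (fst G G).left ⁻¹' U₀ ∩ (snd G G).left ⁻¹' U₀ =
          ⋃ x ∈ t, ⋃ y ∈ t, ((fst G G).left ⁻¹' (N x : Set G.left) ∩
            (snd G G).left ⁻¹' (N y : Set G.left)) := by
        rw [hU₀def]
        ext p
        simp only [Set.mem_inter_iff, Set.mem_preimage, Set.mem_iUnion, exists_prop]
        constructor
        · rintro ⟨⟨x, hx, hpx⟩, ⟨y, hy, hpy⟩⟩
          exact ⟨x, hx, y, hy, hpx, hpy⟩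
        · rintro ⟨x, hx, y, hy, hpx, hpy⟩
          exact ⟨⟨x, hx, hpx⟩, ⟨y, hy, hpy⟩⟩
      rw [h1]
      exact t.isCompact_biUnion (fun x hx => t.isCompact_biUnion (fun y hy =>
        isCompact_inter_preimage k G (N x) (N y) (hNaff x (htZ x hx)) (hNaff y (htZ y hy))))
    obtain ⟨W, hWdef⟩ : ∃ W : Set G.left, W = μ[G].left '' ((fst G G).left ⁻¹' U₀ ∩
        (snd G G).left ⁻¹' irreducibleComponent (ept G)) := ⟨_, rfl⟩
    have hWopen : IsOpen W := hWdef ▸ isOpen_mul G U₀ _ hU₀open hZc
    have hWcompact : IsCompact W := by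
      rw [hWdef]
      refine IsCompact.image ?_ μ[G].left.continuous
      have h1 : (fst G G).left ⁻¹' U₀ ∩ (snd G G).left ⁻¹' irreducibleComponent (ept G) =
          ((fst G G).left ⁻¹' U₀ ∩ (snd G G).left ⁻¹' U₀) ∩
            (snd G G).left ⁻¹' irreducibleComponent (ept G) := by
        ext p
        simp only [Set.mem_inter_iff, Set.mem_preimage]
        constructor
        · rintro ⟨h1, h2⟩
          exact ⟨⟨h1, hZU₀ h2⟩, h2⟩
        · rintro ⟨⟨h1, -⟩, h2⟩
          exact ⟨h1, h2⟩
      rw [h1]
      exact hUUc.inter_right (hZc.preimage (snd G G).left.continuous)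
    have hWchar : ∀ x, x ∈ W ↔ (irreducibleComponent x ∩ U₀).Nonempty := by
      intro x
      constructor
      · rw [hWdef]
        rintro ⟨p, ⟨hp1, hp2⟩, rfl⟩
        have hC := irreducibleComponent_mem_irreducibleComponents ((fst G G).left p)
        have hx : μ[G].left p ∈ irreducibleComponent ((fst G G).left p) :=
          mul_subset G hC ⟨p, ⟨mem_irreducibleComponent, hp2⟩, rfl⟩
        have heq : irreducibleComponent (μ[G].left p) = irreducibleComponent ((fst G G).left p) :=
          irreducibleComponent_unique G (μ[G].left p) _ _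
            (irreducibleComponent_mem_irreducibleComponents _) hC mem_irreducibleComponent hx
        exact ⟨(fst G G).left p, heq ▸ mem_irreducibleComponent, hp1⟩
      · rintro ⟨u, huC, huU⟩
        obtain ⟨p, hp1, hp2, hp3⟩ := exists_mul_eq G
          (irreducibleComponent_mem_irreducibleComponents x) huC mem_irreducibleComponent
        rw [hWdef]
        exact ⟨p, ⟨by rw [Set.mem_preimage, hp1]; exact huU, hp2⟩, hp3⟩
    have hU₀W : U₀ ⊆ W := fun u hu => (hWchar u).mpr ⟨u, mem_irreducibleComponent, hu⟩
    have hWdisj : ∀ x ∈ W, x ∉ irreducibleComponent g := by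
      intro x hxW hxg
      obtain ⟨u, huC, huU⟩ := (hWchar x).mp hxW
      have heq : irreducibleComponent x = irreducibleComponent g :=
        irreducibleComponent_unique G x _ _ (irreducibleComponent_mem_irreducibleComponents _) hZ'
          mem_irreducibleComponent hxg
      exact hU₀Z' huU (heq ▸ huC)
    -- `W` is closed
    have hWclosed : IsClosed W := by
      let W' : G.left.Opens := ⟨W, hWopen⟩
      haveI : CompactSpace ↥(W'.toScheme) := isCompact_iff_compactSpace.mp hWcompact
      haveI : IsSeparated G.hom := Groth.Agent.Helper12.isSeparated_of_grpObj G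
      haveI : QuasiSeparatedSpace G.left :=
        (quasiSeparated_iff_quasiSeparatedSpace G.hom).mp inferInstance
      haveI : QuasiCompact W'.ι := quasiCompact_of_compactSpace W'.ι
      have hspec : SpecializingMap W'.ι := by
        intro w y hwy
        have hwW : W'.ι w ∈ W := w.2
        have hy : y ∈ W := by
          obtain ⟨u, huC, huU⟩ := (hWchar _).mp hwW
          have hyC : y ∈ irreducibleComponent (W'.ι w) := by
            have h1 : closure {W'.ι w} ⊆ irreducibleComponent (W'.ι w) :=
              closure_minimal (Set.singleton_subset_iff.mpr mem_irreducibleComponent)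
                isClosed_irreducibleComponent
            exact h1 (specializes_iff_mem_closure.mp hwy)
          have heq : irreducibleComponent y = irreducibleComponent (W'.ι w) :=
            irreducibleComponent_unique G y _ _
              (irreducibleComponent_mem_irreducibleComponents _)
              (irreducibleComponent_mem_irreducibleComponents _) mem_irreducibleComponent hyC
          exact (hWchar y).mpr ⟨u, heq ▸ huC, huU⟩
        refine ⟨⟨y, hy⟩, ?_, rfl⟩
        exact (W'.ι.isOpenEmbedding.isInducing.specializes_iff).mp hwy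
      have h1 := ((isClosedMap_iff_specializingMap W'.ι).mpr hspec).isClosed_range
      rwa [Scheme.Opens.range_ι] at h1
    have hsub := (IsClopen.connectedComponent_subset ⟨hWclosed, hWopen⟩
      (hU₀W (hZU₀ mem_irreducibleComponent)))
    exact hWdisj g (hsub hg) mem_irreducibleComponent
  · exact isIrreducible_irreducibleComponent.isConnected.isPreconnected.subset_connectedComponent
      mem_irreducibleComponent

end AlgClosed

section General

open scoped CategoryTheory.Obj

variable {k : Type u} [Field k] (G : Over (Spec (CommRingCat.of k))) [GrpObj G]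

/-- **the connected component of the identity of a group scheme over a field is irreducible and
quasi-compact** -/
theorem connectedComponent_unit_irreducible_compact :
    IsIrreducible (connectedComponent (ept G)) ∧ IsCompact (connectedComponent (ept G)) := by
  have hπe : pullback.fst G.hom (BCTower.yK (k := k) (AlgebraicClosure k))
      (ept ((Over.pullback (BCTower.yK (k := k) (AlgebraicClosure k))).obj G)) = ept G :=
    fst_unit_baseChange G _
  have himg : pullback.fst G.hom (BCTower.yK (k := k) (AlgebraicClosure k)) ''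
      connectedComponent (ept ((Over.pullback (BCTower.yK (k := k) (AlgebraicClosure k))).obj G)) =
      connectedComponent (ept G) := by
    have h1 := Groth.Agent.Helper4.ConnCompImage.image_connectedComponent G.hom
      (AlgebraicClosure k) (ept ((Over.pullback (BCTower.yK (k := k) (AlgebraicClosure k))).obj G))
    rw [← hπe]
    exact h1
  rw [← himg, connectedComponent_unit_eq
    ((Over.pullback (BCTower.yK (k := k) (AlgebraicClosure k))).obj G)]
  exact ⟨isIrreducible_irreducibleComponent.image _
      (pullback.fst G.hom _).continuous.continuousOn,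
    (isCompact_irreducibleComponent_unit
      ((Over.pullback (BCTower.yK (k := k) (AlgebraicClosure k))).obj G)).image
      (pullback.fst G.hom _).continuous⟩

/-- a connected group scheme over a field is irreducible -/
theorem irreducibleSpace_of_connectedSpace [ConnectedSpace G.left] : IrreducibleSpace G.left := by
  have h := (connectedComponent_unit_irreducible_compact G).1
  rw [PreconnectedSpace.connectedComponent_eq_univ] at h
  exact (irreducibleSpace_def _).mpr h

end General

end Groth.Agent.Helper4.GrpConn
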