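import Mathlib
import Groth.Agent.Lib.Helper7.LimBC

/-!
# Morphisms over a cofiltered limit descend to a stage (helper4)
-/

set_option autoImplicit false
universe u
open AlgebraicGeometry CategoryTheory CategoryTheory.Limits

namespace Groth.Agent.Helper4.LimHom

open Groth.Agent.Helper7.LimBC

variable {I : Type u} [SmallCategory I] [IsCofiltered I] (D : I ⥤ Scheme.{u})
  [∀ {i j} (f : i ⟶ j), IsAffineHom (D.map f)] (c : Cone D) (hc : IsLimit c)

set_option backward.isDefEq.respectTransparency false in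
omit [IsCofiltered I] [∀ {i j} (f : i ⟶ j), IsAffineHom (D.map f)] in
/-- the structure maps of the base-changed diagram to the base stage -/
noncomputable def pbT (i : I) {Xi : Scheme.{u}} (xi : Xi ⟶ D.obj i) :
    pbDiagram D i xi ⟶ (Functor.const (Over i)).obj (D.obj i) where
  app j := pullback.snd (D.map j.hom) xi ≫ xi
  naturality j k f := by
    simp only [Functor.const_obj_obj, pbDiagram_obj, pbDiagram_map, Functor.const_obj_map,
      Category.comp_id]
    rw [← Category.assoc, pullback.lift_snd]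

set_option backward.isDefEq.respectTransparency false in
include hc in
theorem hom_eq_eventually (i : I) {Xi Yi : Scheme.{u}} (xi : Xi ⟶ D.obj i) (yi : Yi ⟶ D.obj i)
    [CompactSpace Xi] [LocallyOfFiniteType yi]
    {X : Scheme.{u}} (qX : X ⟶ Xi) (pX : X ⟶ c.pt) (hX : IsPullback qX pX xi (c.π.app i))
    (fi gi : Xi ⟶ Yi) (hfi : fi ≫ yi = xi) (hgi : gi ≫ yi = xi) (h : qX ≫ fi = qX ≫ gi) :
    ∃ (j : I) (φ : j ⟶ i), pullback.fst xi (D.map φ) ≫ fi = pullback.fst xi (D.map φ) ≫ gi := by
  let E := pbDiagram D i xi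
  let cE := pbCone D c i xi
  have hcE : IsLimit cE := isLimitPbCone D c hc i xi
  let k₀ : Over i := Over.mk (𝟙 i)
  let e : X ≅ pullback (c.π.app i) xi := hX.flip.isoPullback
  have he : e.hom ≫ pullback.snd (c.π.app i) xi = qX := hX.flip.isoPullback_hom_snd
  have hab : cE.π.app k₀ ≫ (pullback.snd (D.map k₀.hom) xi ≫ fi) =
      cE.π.app k₀ ≫ (pullback.snd (D.map k₀.hom) xi ≫ gi) := by
    have e1 : cE.π.app k₀ ≫ pullback.snd (D.map k₀.hom) xi = e.inv ≫ qX := by
      rw [← he]; simp [cE]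
    rw [← Category.assoc, ← Category.assoc, e1, Category.assoc, Category.assoc, h]
  obtain ⟨k, hik, hk⟩ := Scheme.exists_hom_comp_eq_comp_of_locallyOfFiniteType E (pbT D i xi) yi
    cE hcE (i := k₀) (pullback.snd (D.map k₀.hom) xi ≫ fi) (pullback.snd (D.map k₀.hom) xi ≫ gi)
    (by simp [pbT, hfi]) (by simp [pbT, hgi]) hab
  refine ⟨k.left, k.hom, ?_⟩
  have e2 : E.map hik ≫ pullback.snd (D.map k₀.hom) xi = pullback.snd (D.map k.hom) xi := by
    simp [E]
  rw [← Category.assoc, ← Category.assoc, e2] at hk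
  have e3 : pullback.fst xi (D.map k.hom) =
      (pullbackSymmetry xi (D.map k.hom)).hom ≫ pullback.snd (D.map k.hom) xi := by simp
  rw [e3, Category.assoc, Category.assoc, hk]

set_option backward.isDefEq.respectTransparency false in
include hc in
theorem exists_hom_descend (i : I) {Xi Yi : Scheme.{u}} (xi : Xi ⟶ D.obj i) (yi : Yi ⟶ D.obj i)
    [CompactSpace Xi] [QuasiSeparatedSpace Xi] [LocallyOfFinitePresentation yi]
    {X Y : Scheme.{u}} (qX : X ⟶ Xi) (pX : X ⟶ c.pt) (hX : IsPullback qX pX xi (c.π.app i))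
    (qY : Y ⟶ Yi) (pY : Y ⟶ c.pt) (hY : IsPullback qY pY yi (c.π.app i))
    (f : X ⟶ Y) (hf : f ≫ pY = pX) :
    ∃ (j : I) (φ : j ⟶ i) (fj : pullback xi (D.map φ) ⟶ pullback yi (D.map φ))
      (sX : X ⟶ pullback xi (D.map φ)) (sY : Y ⟶ pullback yi (D.map φ)),
      fj ≫ pullback.snd yi (D.map φ) = pullback.snd xi (D.map φ) ∧
      sX ≫ pullback.fst xi (D.map φ) = qX ∧ sX ≫ pullback.snd xi (D.map φ) = pX ≫ c.π.app j ∧
      sY ≫ pullback.fst yi (D.map φ) = qY ∧ sY ≫ pullback.snd yi (D.map φ) = pY ≫ c.π.app j ∧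
      sX ≫ fj = f ≫ sY := by
  let E := pbDiagram D i xi
  let cE := pbCone D c i xi
  have hcE : IsLimit cE := isLimitPbCone D c hc i xi
  haveI : ∀ j, QuasiSeparatedSpace (E.obj j) := fun j => by
    have : IsAffineHom (pullback.snd (D.map j.hom) xi) :=
      MorphismProperty.pullback_snd (P := @IsAffineHom) _ _ inferInstance
    exact quasiSeparatedSpace_of_quasiSeparated (pullback.snd (D.map j.hom) xi)
  let e : X ≅ pullback (c.π.app i) xi := hX.flip.isoPullback
  have he : e.hom ≫ pullback.snd (c.π.app i) xi = qX := hX.flip.isoPullback_hom_snd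
  have he' : e.hom ≫ pullback.fst (c.π.app i) xi = pX := hX.flip.isoPullback_hom_fst
  let a : cE.pt ⟶ Yi := e.inv ≫ f ≫ qY
  have ha : cE.π ≫ pbT D i xi = (Functor.const _).map (a ≫ yi) := by
    ext j : 2
    simp only [NatTrans.comp_app, Functor.const_obj_obj, Functor.const_map_app, pbT, cE,
      pbCone_π_app, pbCone_pt, a, Category.assoc]
    rw [← Category.assoc (pullback.lift _ _ _), pullback.lift_snd, hY.w, reassoc_of% hf,
      ← pullback.condition, ← he']
    simp only [Category.assoc, Iso.inv_hom_id_assoc]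
  obtain ⟨k, g, hg1, hg2⟩ := Scheme.exists_π_app_comp_eq_of_locallyOfFinitePresentation E
    (pbT D i xi) yi cE hcE a ha
  have hg2' : g ≫ yi = pullback.snd (D.map k.hom) xi ≫ xi := hg2
  have hcw : c.π.app k.left ≫ D.map k.hom = c.π.app i := c.w k.hom
  let fj : pullback xi (D.map k.hom) ⟶ pullback yi (D.map k.hom) :=
    pullback.lift ((pullbackSymmetry xi (D.map k.hom)).hom ≫ g) (pullback.snd xi (D.map k.hom))
      (by rw [Category.assoc, hg2', pullbackSymmetry_hom_comp_snd_assoc, pullback.condition])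
  let sX : X ⟶ pullback xi (D.map k.hom) :=
    pullback.lift qX (pX ≫ c.π.app k.left) (by rw [Category.assoc, hcw, hX.w])
  let sY : Y ⟶ pullback yi (D.map k.hom) :=
    pullback.lift qY (pY ≫ c.π.app k.left) (by rw [Category.assoc, hcw, hY.w])
  refine ⟨k.left, k.hom, fj, sX, sY, pullback.lift_snd _ _ _, pullback.lift_fst _ _ _,
    pullback.lift_snd _ _ _, pullback.lift_fst _ _ _, pullback.lift_snd _ _ _, ?_⟩
  have key : sX ≫ (pullbackSymmetry xi (D.map k.hom)).hom = e.hom ≫ cE.π.app k := by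
    apply pullback.hom_ext
    · simp [sX, cE, reassoc_of% he']
    · simp [sX, cE, he]
  apply pullback.hom_ext
  · simp only [Category.assoc, fj, sY, pullback.lift_fst]
    rw [reassoc_of% key, hg1]
    simp [a]
  · simp only [Category.assoc, fj, sX, sY, pullback.lift_snd]
    rw [reassoc_of% hf]

end Groth.Agent.Helper4.LimHom
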