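import Mathlib
import Groth.Agent.Lib.Helper7.LimDom2
import Groth.Agent.Lib.Helper7.LimIso2
import Groth.Agent.Lib.Helper7.LimSep
import Groth.Agent.S4805

/-!
# Descending properties of morphisms from a cofiltered limit to a stage (helper4)
-/

set_option autoImplicit false
universe u
open AlgebraicGeometry CategoryTheory CategoryTheory.Limits

namespace Groth.Agent.Helper4.LimStage

open Groth.Agent.Helper7.LimBC

variable {I : Type u} [SmallCategory I] [IsCofiltered I] (D : I ⥤ Scheme.{u})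
  [∀ {i j} (f : i ⟶ j), IsAffineHom (D.map f)] (c : Cone D) (hc : IsLimit c)

set_option backward.isDefEq.respectTransparency false in
include hc in
/-- a constructible subset of `Y₀` with empty preimage in the limit has empty preimage at a
stage -/
theorem exists_preimage_eq_empty_stage (i₀ : I) [CompactSpace (D.obj i₀)]
    {Y₀ : Scheme.{u}} (g₀ : Y₀ ⟶ D.obj i₀) [QuasiCompact g₀]
    {C₀ : Set Y₀} (hC₀ : Topology.IsConstructible C₀)
    {Y : Scheme.{u}} (g : Y ⟶ c.pt) (qY : Y ⟶ Y₀)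
    (hY : IsPullback qY g g₀ (c.π.app i₀)) (h1 : qY ⁻¹' C₀ = ∅) :
    ∃ (j : I) (φ : j ⟶ i₀), (pullback.snd (D.map φ) g₀) ⁻¹' C₀ = ∅ := by
  have : CompactSpace Y₀ := QuasiCompact.compactSpace_of_compactSpace g₀
  let k₀ : Over i₀ := Over.mk (𝟙 i₀)
  let B : Set ((pbDiagram D i₀ g₀).obj k₀) := (pullback.snd (D.map k₀.hom) g₀) ⁻¹' C₀
  have hB : Topology.IsConstructible B := Scheme.Hom.isConstructible_preimage _ hC₀
  let θ : pullback (c.π.app i₀) g₀ ⟶ Y := hY.lift (pullback.snd _ _) (pullback.fst _ _)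
    pullback.condition.symm
  have hθ : θ ≫ qY = pullback.snd _ _ := hY.lift_fst _ _ _
  obtain ⟨l, ψ, hl⟩ := exists_preimage_inter_eq_empty (pbDiagram D i₀ g₀) (pbCone D c i₀ g₀)
    (isLimitPbCone D c hc i₀ g₀) (k := k₀) hB Set.univ isOpen_univ isCompact_univ Set.univ
    isClosed_univ (by
      rw [Set.inter_univ, Set.inter_univ]
      have e : (pbCone D c i₀ g₀).π.app k₀ ≫ pullback.snd (D.map k₀.hom) g₀ = θ ≫ qY := by
        rw [hθ]; simp
      rw [Set.eq_empty_iff_forall_notMem]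
      intro x hx
      have hx' : (pullback.snd (D.map k₀.hom) g₀) ((pbCone D c i₀ g₀).π.app k₀ x) ∈ C₀ := hx
      have e' := congr($e x)
      rw [Scheme.Hom.comp_apply, Scheme.Hom.comp_apply] at e'
      have : θ x ∈ qY ⁻¹' C₀ := by
        exact (congrArg (fun z => z ∈ C₀) e').mp hx'
      rw [h1] at this
      exact this)
  have hl' := hl l (𝟙 l)
  rw [Set.inter_univ, Set.inter_univ, Category.id_comp] at hl'
  refine ⟨l.left, l.hom, ?_⟩
  have e : (pbDiagram D i₀ g₀).map ψ ≫ pullback.snd (D.map k₀.hom) g₀ =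
      pullback.snd (D.map l.hom) g₀ := by simp
  rw [Set.eq_empty_iff_forall_notMem]
  intro x hx
  have hx' : (pullback.snd (D.map l.hom) g₀) x ∈ C₀ := hx
  have e' := congr($e x)
  rw [Scheme.Hom.comp_apply] at e'
  have : x ∈ ((pbDiagram D i₀ g₀).map ψ) ⁻¹' B := by
    exact (congrArg (fun z => z ∈ C₀) e').mpr hx'
  rw [hl'] at this
  exact this

set_option backward.isDefEq.respectTransparency false in
include hc in
/-- surjectivity descends to a stage -/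
theorem exists_surjective_stage (i₀ : I) [CompactSpace (D.obj i₀)]
    [QuasiSeparatedSpace (D.obj i₀)]
    {X₀ Y₀ : Scheme.{u}} (f₀ : X₀ ⟶ Y₀) (g₀ : Y₀ ⟶ D.obj i₀)
    [QuasiCompact g₀] [QuasiSeparated g₀]
    [LocallyOfFinitePresentation f₀] [QuasiCompact f₀]
    {X Y : Scheme.{u}} (f : X ⟶ Y) (g : Y ⟶ c.pt) (qY : Y ⟶ Y₀) (qX : X ⟶ X₀)
    (hY : IsPullback qY g g₀ (c.π.app i₀)) (hX : IsPullback qX f f₀ qY) [Surjective f] :
    ∃ (j : I) (φ : j ⟶ i₀), Surjective (pullback.snd f₀ (pullback.snd (D.map φ) g₀)) := by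
  have : CompactSpace Y₀ := QuasiCompact.compactSpace_of_compactSpace g₀
  have : QuasiSeparatedSpace Y₀ := quasiSeparatedSpace_of_quasiSeparated g₀
  have hC : Topology.IsConstructible (Set.range f₀)ᶜ := by
    rw [← Set.image_univ]
    exact (f₀.isConstructible_image Topology.IsConstructible.univ).compl
  have h1 : qY ⁻¹' (Set.range f₀)ᶜ = ∅ := by
    rw [Set.eq_empty_iff_forall_notMem]
    intro y hy
    obtain ⟨x, rfl⟩ := f.surjective y
    apply hy
    refine ⟨qX x, ?_⟩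
    rw [← Scheme.Hom.comp_apply, hX.w, Scheme.Hom.comp_apply]
  obtain ⟨j, φ, hj⟩ := exists_preimage_eq_empty_stage D c hc i₀ g₀ hC g qY hY h1
  refine ⟨j, φ, ⟨?_⟩⟩
  rw [← Set.range_eq_univ, Scheme.Pullback.range_snd]
  rw [Set.preimage_compl, Set.compl_empty_iff] at hj
  exact hj

omit [IsCofiltered I] [∀ {i j} (f : i ⟶ j), IsAffineHom (D.map f)] in
/-- from the canonical pullbacks to the existential "stage" form -/
theorem stage_form (P : MorphismProperty Scheme.{u}) (i₀ : I)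
    {X₀ Y₀ : Scheme.{u}} (f₀ : X₀ ⟶ Y₀) (g₀ : Y₀ ⟶ D.obj i₀)
    (h : ∃ (j : I) (φ : j ⟶ i₀), P (pullback.snd f₀ (pullback.snd (D.map φ) g₀))) :
    ∃ (i : I) (φ : i ⟶ i₀) (Xi Yi : Scheme.{u}) (fi : Xi ⟶ Yi) (gi : Yi ⟶ D.obj i) (pY : Yi ⟶ Y₀)
      (pX : Xi ⟶ X₀), IsPullback pY gi g₀ (D.map φ) ∧ IsPullback pX fi f₀ pY ∧ P fi := by
  obtain ⟨j, φ, hj⟩ := h
  exact ⟨j, φ, _, _, pullback.snd f₀ (pullback.snd (D.map φ) g₀), pullback.fst (D.map φ) g₀,
    pullback.snd (D.map φ) g₀, pullback.fst f₀ _, (IsPullback.of_hasPullback (D.map φ) g₀).flip,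
    IsPullback.of_hasPullback f₀ _, hj⟩

/-- `f₀` is of finite presentation when source and target are so over the base -/
theorem fp_of_comp {X₀ Y₀ S₀ : Scheme.{u}} (f₀ : X₀ ⟶ Y₀) (g₀ : Y₀ ⟶ S₀)
    [LocallyOfFinitePresentation g₀] [QuasiSeparated g₀]
    [LocallyOfFinitePresentation (f₀ ≫ g₀)] [QuasiCompact (f₀ ≫ g₀)] :
    LocallyOfFinitePresentation f₀ ∧ QuasiCompact f₀ :=
  ⟨Groth.Agent.Helper7.LfpComp.locallyOfFinitePresentation_of_comp f₀ g₀ inferInstance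
    inferInstance, QuasiCompact.of_comp f₀ g₀⟩

open Groth.Agent.Helper7.LimSep

omit [IsCofiltered I] [∀ {i j} (f : i ⟶ j), IsAffineHom (D.map f)] in
/-- from the existential "stage" form to the canonical pullbacks -/
theorem canonical_of_stage (P : MorphismProperty Scheme.{u}) [P.RespectsIso] {i₀ j : I}
    (φ : j ⟶ i₀) {X₀ Y₀ : Scheme.{u}} (f₀ : X₀ ⟶ Y₀) (g₀ : Y₀ ⟶ D.obj i₀)
    {Xj Yj : Scheme.{u}} (fj : Xj ⟶ Yj) (gj : Yj ⟶ D.obj j) (pY : Yj ⟶ Y₀) (pX : Xj ⟶ X₀)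
    (hYj : IsPullback pY gj g₀ (D.map φ)) (hXj : IsPullback pX fj f₀ pY) (h : P fj) :
    P (pullback.snd f₀ (pullback.snd (D.map φ) g₀)) := by
  let e : Yj ≅ pullback (D.map φ) g₀ := hYj.flip.isoPullback
  have he : e.hom ≫ pullback.snd (D.map φ) g₀ = pY := hYj.flip.isoPullback_hom_snd
  have h1 : IsPullback pX (fj ≫ e.hom) f₀ (pullback.snd (D.map φ) g₀) := by
    refine IsPullback.of_iso hXj (Iso.refl _) (Iso.refl _) e (Iso.refl _) (by simp) (by simp)
      (by simp) (by simp [he])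
  exact (snd_iff_of_isPullback P h1).1 ((P.cancel_right_of_respectsIso fj e.hom).2 h)

set_option backward.isDefEq.respectTransparency false in
omit [IsCofiltered I] [∀ {i j} (f : i ⟶ j), IsAffineHom (D.map f)] in
/-- descent of a property of the diagonal to a stage, given descent of the property itself -/
theorem exists_diagonal_stage (P : MorphismProperty Scheme.{u}) [P.IsStableUnderBaseChange]
    [P.RespectsIso] (i₀ : I)
    {X₀ Y₀ : Scheme.{u}} (f₀ : X₀ ⟶ Y₀) (g₀ : Y₀ ⟶ D.obj i₀)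
    (H : P (pullback.snd (pullback.diagonal f₀)
        (pullback.snd (c.π.app i₀) (pullback.fst f₀ f₀ ≫ f₀ ≫ g₀))) →
      ∃ (j : I) (φ : j ⟶ i₀), P (pullback.snd (pullback.diagonal f₀)
        (pullback.snd (D.map φ) (pullback.fst f₀ f₀ ≫ f₀ ≫ g₀))))
    {X Y : Scheme.{u}} (f : X ⟶ Y) (g : Y ⟶ c.pt) (qY : Y ⟶ Y₀) (qX : X ⟶ X₀)
    (hY : IsPullback qY g g₀ (c.π.app i₀)) (hX : IsPullback qX f f₀ qY)
    (hP : P (pullback.diagonal f)) :
    ∃ (j : I) (φ : j ⟶ i₀),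
      P (pullback.diagonal (pullback.snd f₀ (pullback.snd (D.map φ) g₀))) := by
  let Z₀ := pullback f₀ f₀
  let Δ₀ : X₀ ⟶ Z₀ := pullback.diagonal f₀
  let h₀ : Z₀ ⟶ D.obj i₀ := pullback.fst f₀ f₀ ≫ f₀ ≫ g₀
  let ρ := pullback.map f f f₀ f₀ qX qX qY hX.w.symm hX.w.symm
  have hsq : IsPullback qX (pullback.diagonal f) Δ₀ ρ := isPullback_diagonal hX
  have hcl : P (pullback.snd Δ₀ ρ) := (snd_iff_of_isPullback P hsq).1 hP
  let y : pullback (c.π.app i₀) h₀ ⟶ Y :=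
    hY.lift (pullback.snd _ _ ≫ pullback.fst f₀ f₀ ≫ f₀) (pullback.fst _ _)
      (by rw [Category.assoc, Category.assoc]; exact pullback.condition.symm)
  let v₁ : pullback (c.π.app i₀) h₀ ⟶ X :=
    hX.lift (pullback.snd _ _ ≫ pullback.fst f₀ f₀) y (by simp [y])
  let v₂ : pullback (c.π.app i₀) h₀ ⟶ X :=
    hX.lift (pullback.snd _ _ ≫ pullback.snd f₀ f₀) y (by simp [y, pullback.condition])
  let ε : pullback (c.π.app i₀) h₀ ⟶ pullback f f := pullback.lift v₁ v₂ (by simp [v₁, v₂])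
  have hε : pullback.snd (c.π.app i₀) h₀ = ε ≫ ρ := by
    apply pullback.hom_ext <;> simp [ε, ρ, v₁, v₂]
  have hcl' : P (pullback.snd Δ₀ (pullback.snd (c.π.app i₀) h₀)) :=
    snd_comp P Δ₀ ρ ε _ hcl hε
  obtain ⟨j, φ, hj⟩ := H hcl'
  refine ⟨j, φ, ?_⟩
  let pY := pullback.snd (D.map φ) g₀
  let fk := pullback.snd f₀ pY
  have hXk : IsPullback (pullback.fst f₀ pY) fk f₀ pY := IsPullback.of_hasPullback _ _
  let ρk := pullback.map fk fk f₀ f₀ _ _ pY hXk.w.symm hXk.w.symm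
  have hsqk : IsPullback _ (pullback.diagonal fk) Δ₀ ρk := isPullback_diagonal hXk
  change P (pullback.diagonal fk)
  rw [snd_iff_of_isPullback P hsqk]
  let εk : pullback fk fk ⟶ pullback (D.map φ) h₀ :=
    pullback.lift (pullback.fst fk fk ≫ fk ≫ pullback.fst (D.map φ) g₀) ρk (by
      have e1 : ρk ≫ pullback.fst f₀ f₀ = pullback.fst fk fk ≫ pullback.fst f₀ pY :=
        pullback.lift_fst _ _ _
      have e2 : pullback.fst f₀ pY ≫ f₀ = fk ≫ pY := pullback.condition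
      have e3 : pullback.fst (D.map φ) g₀ ≫ D.map φ = pY ≫ g₀ := pullback.condition
      simp only [Category.assoc, h₀]
      rw [reassoc_of% e1, reassoc_of% e2, e3])
  exact snd_comp P Δ₀ _ εk _ hj (pullback.lift_snd _ _ _).symm

/-- finiteness properties of the diagonal and of the double fibre product -/
theorem diag_fp {X₀ Y₀ S₀ : Scheme.{u}} (f₀ : X₀ ⟶ Y₀) (g₀ : Y₀ ⟶ S₀)
    [LocallyOfFinitePresentation g₀] [QuasiCompact g₀] [QuasiSeparated g₀]
    [LocallyOfFinitePresentation (f₀ ≫ g₀)] [QuasiCompact (f₀ ≫ g₀)] [QuasiSeparated (f₀ ≫ g₀)] :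
    LocallyOfFinitePresentation (pullback.diagonal f₀) ∧ QuasiCompact (pullback.diagonal f₀) ∧
    LocallyOfFinitePresentation (pullback.fst f₀ f₀ ≫ f₀ ≫ g₀) ∧
    QuasiCompact (pullback.fst f₀ f₀ ≫ f₀ ≫ g₀) ∧
    QuasiSeparated (pullback.fst f₀ f₀ ≫ f₀ ≫ g₀) := by
  obtain ⟨h1, h2⟩ := fp_of_comp f₀ g₀
  have h3 : QuasiSeparated f₀ := QuasiSeparated.of_comp f₀ g₀
  have h4 : LocallyOfFinitePresentation (pullback.fst f₀ f₀) :=
    MorphismProperty.pullback_fst (P := @LocallyOfFinitePresentation) _ _ inferInstance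
  have h5 : QuasiCompact (pullback.fst f₀ f₀) :=
    MorphismProperty.pullback_fst (P := @QuasiCompact) _ _ inferInstance
  have h6 : QuasiSeparated (pullback.fst f₀ f₀) :=
    MorphismProperty.pullback_fst (P := @QuasiSeparated) _ _ inferInstance
  refine ⟨?_, inferInstance, inferInstance, inferInstance, inferInstance⟩
  exact Groth.Agent.Helper7.LfpComp.locallyOfFinitePresentation_of_comp (pullback.diagonal f₀)
    (pullback.fst f₀ f₀) inferInstance (by rw [pullback.diagonal_fst]; infer_instance)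

set_option backward.isDefEq.respectTransparency false in
include hc in
/-- universal injectivity descends to a stage -/
theorem exists_universallyInjective_stage (i₀ : I) [CompactSpace (D.obj i₀)]
    [QuasiSeparatedSpace (D.obj i₀)]
    {X₀ Y₀ : Scheme.{u}} (f₀ : X₀ ⟶ Y₀) (g₀ : Y₀ ⟶ D.obj i₀)
    [LocallyOfFinitePresentation g₀] [QuasiCompact g₀] [QuasiSeparated g₀]
    [LocallyOfFinitePresentation (f₀ ≫ g₀)] [QuasiCompact (f₀ ≫ g₀)] [QuasiSeparated (f₀ ≫ g₀)]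
    {X Y : Scheme.{u}} (f : X ⟶ Y) (g : Y ⟶ c.pt) (qY : Y ⟶ Y₀) (qX : X ⟶ X₀)
    (hY : IsPullback qY g g₀ (c.π.app i₀)) (hX : IsPullback qX f f₀ qY)
    [UniversallyInjective f] :
    ∃ (j : I) (φ : j ⟶ i₀),
      UniversallyInjective (pullback.snd f₀ (pullback.snd (D.map φ) g₀)) := by
  obtain ⟨h1, h2, h3, h4, h5⟩ := diag_fp f₀ g₀
  obtain ⟨j, φ, hj⟩ := exists_diagonal_stage D c @Surjective i₀ f₀ g₀ (fun h => by
    haveI : Surjective (pullback.snd (pullback.diagonal f₀)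
        (pullback.snd (c.π.app i₀) (pullback.fst f₀ f₀ ≫ f₀ ≫ g₀))) := h
    exact exists_surjective_stage D c hc i₀ (pullback.diagonal f₀)
      (pullback.fst f₀ f₀ ≫ f₀ ≫ g₀) (pullback.snd (pullback.diagonal f₀)
        (pullback.snd (c.π.app i₀) (pullback.fst f₀ f₀ ≫ f₀ ≫ g₀)))
      (pullback.fst (c.π.app i₀) (pullback.fst f₀ f₀ ≫ f₀ ≫ g₀))
      (pullback.snd (c.π.app i₀) (pullback.fst f₀ f₀ ≫ f₀ ≫ g₀))
      (pullback.fst (pullback.diagonal f₀) _)
      (IsPullback.of_hasPullback _ _).flip (IsPullback.of_hasPullback _ _)) f g qY qX hY hX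
    ((UniversallyInjective.iff_diagonal f).1 inferInstance)
  exact ⟨j, φ, (UniversallyInjective.iff_diagonal _).2 hj⟩

set_option backward.isDefEq.respectTransparency false in
include hc in
/-- being a monomorphism descends to a stage -/
theorem exists_mono_stage (i₀ : I) [CompactSpace (D.obj i₀)]
    [QuasiSeparatedSpace (D.obj i₀)]
    {X₀ Y₀ : Scheme.{u}} (f₀ : X₀ ⟶ Y₀) (g₀ : Y₀ ⟶ D.obj i₀)
    [LocallyOfFinitePresentation g₀] [QuasiCompact g₀] [QuasiSeparated g₀]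
    [LocallyOfFinitePresentation (f₀ ≫ g₀)] [QuasiCompact (f₀ ≫ g₀)] [QuasiSeparated (f₀ ≫ g₀)]
    {X Y : Scheme.{u}} (f : X ⟶ Y) (g : Y ⟶ c.pt) (qY : Y ⟶ Y₀) (qX : X ⟶ X₀)
    (hY : IsPullback qY g g₀ (c.π.app i₀)) (hX : IsPullback qX f f₀ qY) [Mono f] :
    ∃ (j : I) (φ : j ⟶ i₀), Mono (pullback.snd f₀ (pullback.snd (D.map φ) g₀)) := by
  obtain ⟨h1, h2, h3, h4, h5⟩ := diag_fp f₀ g₀
  haveI : ∀ (i j : I) (f : i ⟶ j), IsAffineHom (D.map f) := fun _ _ f => inferInstance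
  have e : pullback.diagonal f₀ ≫ pullback.fst f₀ f₀ ≫ f₀ ≫ g₀ = f₀ ≫ g₀ := by simp
  obtain ⟨j, φ, hj⟩ := exists_diagonal_stage D c (MorphismProperty.isomorphisms Scheme.{u})
    i₀ f₀ g₀ (fun h => by
    haveI : IsIso (pullback.snd (pullback.diagonal f₀)
        (pullback.snd (c.π.app i₀) (pullback.fst f₀ f₀ ≫ f₀ ≫ g₀))) := h
    haveI : LocallyOfFinitePresentation
        (pullback.diagonal f₀ ≫ pullback.fst f₀ f₀ ≫ f₀ ≫ g₀) := by rw [e]; infer_instance
    haveI : QuasiCompact (pullback.diagonal f₀ ≫ pullback.fst f₀ f₀ ≫ f₀ ≫ g₀) := by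
      rw [e]; infer_instance
    haveI : QuasiSeparated (pullback.diagonal f₀ ≫ pullback.fst f₀ f₀ ≫ f₀ ≫ g₀) := by
      rw [e]; infer_instance
    obtain ⟨j, φ, Xj, Yj, fj, gj, pY, pX, hYj, hXj, hfj⟩ :=
      Groth.Agent.S4805.result D c hc i₀ (pullback.diagonal f₀)
      (pullback.fst f₀ f₀ ≫ f₀ ≫ g₀) (pullback.snd (pullback.diagonal f₀)
        (pullback.snd (c.π.app i₀) (pullback.fst f₀ f₀ ≫ f₀ ≫ g₀)))
      (pullback.fst (c.π.app i₀) (pullback.fst f₀ f₀ ≫ f₀ ≫ g₀))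
      (pullback.snd (c.π.app i₀) (pullback.fst f₀ f₀ ≫ f₀ ≫ g₀))
      (pullback.fst (pullback.diagonal f₀) _)
      (IsPullback.of_hasPullback _ _).flip (IsPullback.of_hasPullback _ _)
    exact ⟨j, φ, canonical_of_stage D (MorphismProperty.isomorphisms Scheme.{u}) φ _ _ fj gj pY pX
      hYj hXj hfj⟩) f g qY qX hY hX
    ((pullback.isIso_diagonal_iff f).2 inferInstance)
  exact ⟨j, φ, (pullback.isIso_diagonal_iff _).1 hj⟩

end Groth.Agent.Helper4.LimStage
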