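import Mathlib
import Groth.Agent.Lib.Helper4.LimStage
import Groth.Agent.Lib.Helper7.LimOpen3

/-!
# Descending affineness of a morphism from a cofiltered limit to a stage (helper4)
-/

set_option autoImplicit false
universe u
open AlgebraicGeometry CategoryTheory CategoryTheory.Limits

namespace Groth.Agent.Helper4.LimAff

open Groth.Agent.Helper7.LimBC Groth.Agent.Helper4.LimStage Groth.Agent.Helper7.LimSep

section A

variable {J : Type u} [SmallCategory J] [IsCofiltered J] (E : J ⥤ Scheme.{u})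
  [∀ {i j} (f : i ⟶ j), IsAffineHom (E.map f)] (cE : Cone E) (hcE : IsLimit cE)

include hcE in
/-- a quasi-compact open of a stage whose preimage in the limit is affine has affine preimage at
some later stage -/
theorem exists_isAffineOpen_map_preimage [∀ j, QuasiSeparatedSpace (E.obj j)]
    (k : J) (U : (E.obj k).Opens) (hU : IsCompact (U : Set (E.obj k)))
    (hW : IsAffineOpen (cE.π.app k ⁻¹ᵁ U)) :
    ∃ (l : J) (ψ : l ⟶ k), IsAffineOpen (E.map ψ ⁻¹ᵁ U) := by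
  have (j : Over k) : CompactSpace ((opensDiagram E k U).obj j) :=
    isCompact_iff_compactSpace.mp (QuasiCompact.isCompact_preimage _ U.2 hU)
  have (j : Over k) : QuasiSeparatedSpace ((opensDiagram E k U).obj j) :=
    (isQuasiSeparated_iff_quasiSeparatedSpace _ (E.map _ ⁻¹ᵁ _).2).mp (.of_quasiSeparatedSpace _)
  have : IsAffine (opensCone E cE k U).pt := hW
  obtain ⟨j, hj⟩ := Scheme.exists_isAffine_of_isLimit _ _ (isLimitOpensCone E cE hcE k U)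
  exact ⟨j.left, j.hom, hj⟩

end A

/-- canonical form of a base change square over an arbitrary base map `u` -/
theorem canonical_of_isPullback (P : MorphismProperty Scheme.{u}) [P.RespectsIso]
    {T C : Scheme.{u}} (u : T ⟶ C) {X₀ Y₀ : Scheme.{u}} (f₀ : X₀ ⟶ Y₀) (g₀ : Y₀ ⟶ C)
    {X Y : Scheme.{u}} (f : X ⟶ Y) (g : Y ⟶ T) (qY : Y ⟶ Y₀) (qX : X ⟶ X₀)
    (hY : IsPullback qY g g₀ u) (hX : IsPullback qX f f₀ qY) (h : P f) :
    P (pbMap u f₀ g₀) := by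
  let e : Y ≅ pullback u g₀ := hY.flip.isoPullback
  have he : e.hom ≫ pullback.snd u g₀ = qY := hY.flip.isoPullback_hom_snd
  have h1 : IsPullback qX (f ≫ e.hom) f₀ (pullback.snd u g₀) := by
    refine IsPullback.of_iso hX (Iso.refl _) (Iso.refl _) e (Iso.refl _) (by simp) (by simp)
      (by simp) (by simp [he])
  have h2 := (snd_iff_of_isPullback P h1).1 ((P.cancel_right_of_respectsIso f e.hom).2 h)
  exact (snd_iff_of_isPullback P (isPullback_pbMap u f₀ g₀)).2 h2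

section B

variable {I : Type u} [SmallCategory I] [IsCofiltered I] (D : I ⥤ Scheme.{u})
  [∀ {i j} (f : i ⟶ j), IsAffineHom (D.map f)] (c : Cone D) (hc : IsLimit c)

set_option backward.isDefEq.respectTransparency false in
include hc in
theorem exists_isAffineHom_stage (i₀ : I) [CompactSpace (D.obj i₀)]
    [QuasiSeparatedSpace (D.obj i₀)]
    {X₀ Y₀ : Scheme.{u}} (f₀ : X₀ ⟶ Y₀) (g₀ : Y₀ ⟶ D.obj i₀)
    [QuasiCompact g₀] [QuasiSeparated g₀] [QuasiCompact (f₀ ≫ g₀)] [QuasiSeparated (f₀ ≫ g₀)]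
    {X Y : Scheme.{u}} (f : X ⟶ Y) (g : Y ⟶ c.pt) (qY : Y ⟶ Y₀) (qX : X ⟶ X₀)
    (hY : IsPullback qY g g₀ (c.π.app i₀)) (hX : IsPullback qX f f₀ qY) [IsAffineHom f] :
    ∃ (j : I) (φ : j ⟶ i₀), IsAffineHom (pbMap (D.map φ) f₀ g₀) := by
  classical
  let E := pbDiagram D i₀ (f₀ ≫ g₀)
  let cE := pbCone D c i₀ (f₀ ≫ g₀)
  have hcE : IsLimit cE := isLimitPbCone D c hc i₀ (f₀ ≫ g₀)
  have hf₀ : QuasiCompact f₀ := QuasiCompact.of_comp f₀ g₀
  have : CompactSpace Y₀ := QuasiCompact.compactSpace_of_compactSpace g₀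
  have : CompactSpace X₀ := QuasiCompact.compactSpace_of_compactSpace (f₀ ≫ g₀)
  have : QuasiSeparatedSpace X₀ := quasiSeparatedSpace_of_quasiSeparated (f₀ ≫ g₀)
  have hEq : ∀ k, QuasiSeparatedSpace (E.obj k) := fun k => by
    have : IsAffineHom (pullback.snd (D.map k.hom) (f₀ ≫ g₀)) :=
      MorphismProperty.pullback_snd (P := @IsAffineHom) _ _ inferInstance
    exact quasiSeparatedSpace_of_quasiSeparated (pullback.snd (D.map k.hom) (f₀ ≫ g₀))
  have haff : IsAffineHom (pbMap (c.π.app i₀) f₀ g₀) :=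
    canonical_of_isPullback @IsAffineHom (c.π.app i₀) f₀ g₀ f g qY qX hY hX inferInstance
  have hπ : IsAffineHom (c.π.app i₀) := isAffineHom_π_app D c hc i₀
  have haff2 : IsAffineHom (pullback.snd (c.π.app i₀) g₀) :=
    MorphismProperty.pullback_snd (P := @IsAffineHom) _ _ inferInstance
  let k₀ : Over i₀ := Over.mk (𝟙 i₀)
  have key : ∀ V : Y₀.Opens, IsAffineOpen V → ∃ (l : Over i₀), ∀ (l' : Over i₀) (χ : l' ⟶ l),
      IsAffineOpen ((pullback.snd (D.map l'.hom) (f₀ ≫ g₀) ≫ f₀) ⁻¹ᵁ V) := by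
    intro V hV
    have hs : IsAffineHom (pullback.snd (D.map k₀.hom) (f₀ ≫ g₀)) :=
      MorphismProperty.pullback_snd (P := @IsAffineHom) _ _ inferInstance
    let U : (E.obj k₀).Opens := (pullback.snd (D.map k₀.hom) (f₀ ≫ g₀) ≫ f₀) ⁻¹ᵁ V
    have hU : IsCompact (U : Set (E.obj k₀)) :=
      QuasiCompact.isCompact_preimage _ V.2 hV.isCompact
    have e1 : cE.π.app k₀ ≫ pullback.snd (D.map k₀.hom) (f₀ ≫ g₀) ≫ f₀ =
        pbMap (c.π.app i₀) f₀ g₀ ≫ pullback.snd (c.π.app i₀) g₀ := by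
      rw [pbMap_snd]; simp [cE]
    have hW : IsAffineOpen (cE.π.app k₀ ⁻¹ᵁ U) := by
      have : cE.π.app k₀ ⁻¹ᵁ U =
          (pbMap (c.π.app i₀) f₀ g₀ ≫ pullback.snd (c.π.app i₀) g₀) ⁻¹ᵁ V := by
        rw [← e1]; rfl
      rw [this]
      exact hV.preimage _
    obtain ⟨l, ψ, hl⟩ := exists_isAffineOpen_map_preimage E cE hcE k₀ U hU hW
    refine ⟨l, fun l' χ => ?_⟩
    have e2 : E.map (χ ≫ ψ) ≫ pullback.snd (D.map k₀.hom) (f₀ ≫ g₀) ≫ f₀ =
        pullback.snd (D.map l'.hom) (f₀ ≫ g₀) ≫ f₀ := by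
      simp [E]
    have : (pullback.snd (D.map l'.hom) (f₀ ≫ g₀) ≫ f₀) ⁻¹ᵁ V = E.map χ ⁻¹ᵁ (E.map ψ ⁻¹ᵁ U) := by
      rw [← e2, E.map_comp]; rfl
    rw [this]
    exact hl.preimage (E.map χ)
  -- finite affine cover of `Y₀`
  have hcov : ∀ y : Y₀, ∃ V : Y₀.Opens, IsAffineOpen V ∧ y ∈ V := by
    intro y
    obtain ⟨_, ⟨V, hV, rfl⟩, hyV, -⟩ := Y₀.isBasis_affineOpens.exists_subset_of_mem_open
      (Set.mem_univ y) isOpen_univ
    exact ⟨V, hV, hyV⟩
  choose V hV hyV using hcov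
  obtain ⟨t, ht⟩ := CompactSpace.elim_nhds_subcover (fun y => ((V y : Y₀.Opens) : Set Y₀))
    (fun y => (V y).2.mem_nhds (hyV y))
  choose l hl using fun y => key (V y) (hV y)
  obtain ⟨m, hm⟩ := IsCofiltered.inf_objs_exists (t.image l)
  refine ⟨m.left, m.hom, ?_⟩
  have hpY : IsAffineHom (pullback.snd (D.map m.hom) g₀) :=
    MorphismProperty.pullback_snd (P := @IsAffineHom) _ _ inferInstance
  apply isAffineHom_of_forall_exists_isAffineOpen
  intro y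
  have hy : (pullback.snd (D.map m.hom) g₀) y ∈ (⊤ : Set Y₀) := trivial
  rw [← ht] at hy
  obtain ⟨a, hat, hya⟩ := Set.mem_iUnion₂.1 hy
  refine ⟨pullback.snd (D.map m.hom) g₀ ⁻¹ᵁ V a, hya, (hV a).preimage _, ?_⟩
  obtain ⟨χ⟩ := hm (Finset.mem_image_of_mem l hat)
  have := hl a m χ
  have e3 : pbMap (D.map m.hom) f₀ g₀ ⁻¹ᵁ (pullback.snd (D.map m.hom) g₀ ⁻¹ᵁ V a) =
      (pullback.snd (D.map m.hom) (f₀ ≫ g₀) ≫ f₀) ⁻¹ᵁ V a := by
    rw [← pbMap_snd]; rfl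
  rw [e3]
  exact this

omit [IsCofiltered I] [∀ {i j} (f : i ⟶ j), IsAffineHom (D.map f)] in
/-- from the `pbMap` form to the existential "stage" form -/
theorem stage_form' (P : MorphismProperty Scheme.{u}) (i₀ : I)
    {X₀ Y₀ : Scheme.{u}} (f₀ : X₀ ⟶ Y₀) (g₀ : Y₀ ⟶ D.obj i₀)
    (h : ∃ (j : I) (φ : j ⟶ i₀), P (pbMap (D.map φ) f₀ g₀)) :
    ∃ (i : I) (φ : i ⟶ i₀) (Xi Yi : Scheme.{u}) (fi : Xi ⟶ Yi) (gi : Yi ⟶ D.obj i) (pY : Yi ⟶ Y₀)
      (pX : Xi ⟶ X₀), IsPullback pY gi g₀ (D.map φ) ∧ IsPullback pX fi f₀ pY ∧ P fi := by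
  obtain ⟨j, φ, hj⟩ := h
  exact ⟨j, φ, _, _, pbMap (D.map φ) f₀ g₀, pullback.fst (D.map φ) g₀,
    pullback.snd (D.map φ) g₀, pullback.snd (D.map φ) (f₀ ≫ g₀),
    (IsPullback.of_hasPullback (D.map φ) g₀).flip, isPullback_pbMap _ _ _, hj⟩

end B

end Groth.Agent.Helper4.LimAff
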