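import Mathlib
import Groth.Agent.Lib.Helper4.LimAff
import Groth.Agent.Lib.Helper7.LimIso3

/-!
# Descending open immersions from a cofiltered limit to a stage (helper4)
-/

set_option autoImplicit false
universe u
open AlgebraicGeometry CategoryTheory CategoryTheory.Limits TopologicalSpace

namespace Groth.Agent.Helper4.LimOImm

open Groth.Agent.Helper7.LimBC Groth.Agent.Helper4.LimStage Groth.Agent.Helper7.LimSep
  Groth.Agent.Helper4.LimAff

variable {I : Type u} [SmallCategory I] [IsCofiltered I] (D : I ⥤ Scheme.{u})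
  [∀ {i j} (f : i ⟶ j), IsAffineHom (D.map f)] (c : Cone D) (hc : IsLimit c)

set_option backward.isDefEq.respectTransparency false in
omit [IsCofiltered I] [∀ {i j} (f : i ⟶ j), IsAffineHom (D.map f)] in
/-- the stage maps `pbMap` are base changes of each other -/
theorem isPullback_pbMap_map (i₀ : I) {X₀ Y₀ : Scheme.{u}} (f₀ : X₀ ⟶ Y₀)
    (g₀ : Y₀ ⟶ D.obj i₀) {j k : Over i₀} (φ : j ⟶ k) :
    IsPullback ((pbDiagram D i₀ (f₀ ≫ g₀)).map φ) (pbMap (D.map j.hom) f₀ g₀)
      (pbMap (D.map k.hom) f₀ g₀) ((pbDiagram D i₀ g₀).map φ) := by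
  refine IsPullback.of_right ?_ ?_ (isPullback_pbMap (D.map k.hom) f₀ g₀)
  · have e1 : (pbDiagram D i₀ (f₀ ≫ g₀)).map φ ≫ pullback.snd (D.map k.hom) (f₀ ≫ g₀) =
        pullback.snd (D.map j.hom) (f₀ ≫ g₀) := by simp
    have e2 : (pbDiagram D i₀ g₀).map φ ≫ pullback.snd (D.map k.hom) g₀ =
        pullback.snd (D.map j.hom) g₀ := by simp
    rw [e1, e2]
    exact isPullback_pbMap (D.map j.hom) f₀ g₀
  · apply pullback.hom_ext
    · simp
    · simp

set_option backward.isDefEq.respectTransparency false in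
include hc in
theorem exists_isOpenImmersion_stage (i₀ : I) [CompactSpace (D.obj i₀)]
    [QuasiSeparatedSpace (D.obj i₀)]
    {X₀ Y₀ : Scheme.{u}} (f₀ : X₀ ⟶ Y₀) (g₀ : Y₀ ⟶ D.obj i₀)
    [LocallyOfFinitePresentation g₀] [QuasiCompact g₀] [QuasiSeparated g₀]
    [LocallyOfFinitePresentation (f₀ ≫ g₀)] [QuasiCompact (f₀ ≫ g₀)] [QuasiSeparated (f₀ ≫ g₀)]
    {X Y : Scheme.{u}} (f : X ⟶ Y) (g : Y ⟶ c.pt) (qY : Y ⟶ Y₀) (qX : X ⟶ X₀)
    (hY : IsPullback qY g g₀ (c.π.app i₀)) (hX : IsPullback qX f f₀ qY) [IsOpenImmersion f] :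
    ∃ (j : I) (φ : j ⟶ i₀), IsOpenImmersion (pbMap (D.map φ) f₀ g₀) := by
  let E := pbDiagram D i₀ g₀
  let cE := pbCone D c i₀ g₀
  have hcE : IsLimit cE := isLimitPbCone D c hc i₀ g₀
  obtain ⟨hf₀, hf₀'⟩ := fp_of_comp f₀ g₀
  have hf₀'' : QuasiSeparated f₀ := QuasiSeparated.of_comp f₀ g₀
  have : CompactSpace Y₀ := QuasiCompact.compactSpace_of_compactSpace g₀
  have : QuasiSeparatedSpace Y₀ := quasiSeparatedSpace_of_quasiSeparated g₀
  have : CompactSpace X₀ := QuasiCompact.compactSpace_of_compactSpace (f₀ ≫ g₀)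
  have hEq : ∀ k, QuasiSeparatedSpace (E.obj k) := fun k => by
    have : IsAffineHom (pullback.snd (D.map k.hom) g₀) :=
      MorphismProperty.pullback_snd (P := @IsAffineHom) _ _ inferInstance
    exact quasiSeparatedSpace_of_quasiSeparated (pullback.snd (D.map k.hom) g₀)
  have hEc : ∀ k, CompactSpace (E.obj k) := fun k => inferInstance
  have hπ : IsAffineHom (c.π.app i₀) := isAffineHom_π_app D c hc i₀
  -- the limit map
  let f' := pbMap (c.π.app i₀) f₀ g₀
  have hf' : IsOpenImmersion f' :=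
    canonical_of_isPullback @IsOpenImmersion (c.π.app i₀) f₀ g₀ f g qY qX hY hX inferInstance
  have hX'c : CompactSpace ↥(pullback (c.π.app i₀) (f₀ ≫ g₀)) := by
    have : IsAffineHom (pullback.snd (c.π.app i₀) (f₀ ≫ g₀)) :=
      MorphismProperty.pullback_snd (P := @IsAffineHom) _ _ inferInstance
    exact QuasiCompact.compactSpace_of_compactSpace (pullback.snd (c.π.app i₀) (f₀ ≫ g₀))
  let U : cE.pt.Opens := f'.opensRange
  have hUc : IsCompact (U : Set cE.pt) := isCompact_range f'.continuous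
  obtain ⟨k, Uk, hUk, hk⟩ := exists_preimage_eq E cE hcE U hUc
  -- the two schemes over `E.obj k`
  let a₀ := pbMap (D.map k.hom) f₀ g₀
  have ha₀1 : LocallyOfFinitePresentation a₀ :=
    (snd_iff_of_isPullback @LocallyOfFinitePresentation (isPullback_pbMap (D.map k.hom) f₀ g₀)).2
      (MorphismProperty.pullback_snd (P := @LocallyOfFinitePresentation) _ _ inferInstance)
  have ha₀2 : QuasiCompact a₀ :=
    (snd_iff_of_isPullback @QuasiCompact (isPullback_pbMap (D.map k.hom) f₀ g₀)).2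
      (MorphismProperty.pullback_snd (P := @QuasiCompact) _ _ inferInstance)
  have ha₀3 : QuasiSeparated a₀ :=
    (snd_iff_of_isPullback @QuasiSeparated (isPullback_pbMap (D.map k.hom) f₀ g₀)).2
      (MorphismProperty.pullback_snd (P := @QuasiSeparated) _ _ inferInstance)
  have hUkc : CompactSpace (Uk : Scheme.{u}) := isCompact_iff_compactSpace.mp hUk
  have hQk : QuasiSeparatedSpace (E.obj k) := hEq k
  have hb₀2 : QuasiCompact Uk.ι := inferInstance
  -- the pullback square for `f'`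
  let e0 : pullback (c.π.app i₀) (f₀ ≫ g₀) ≅ (cE.π.app k ⁻¹ᵁ Uk : Scheme.{u}) :=
    f'.isoOpensRange ≪≫ Scheme.isoOfEq _ hk.symm
  have he0 : e0.hom ≫ (cE.π.app k ⁻¹ᵁ Uk).ι = f' := by
    simp only [e0, Iso.trans_hom, Category.assoc]
    rw [Scheme.isoOfEq_hom_ι (pullback (c.π.app i₀) g₀) hk.symm]
    exact Scheme.Hom.isoOpensRange_hom_ι f'
  have hY' : IsPullback (e0.hom ≫ cE.π.app k ∣_ Uk) f' Uk.ι (cE.π.app k) :=
    IsPullback.of_iso (isPullback_morphismRestrict (cE.π.app k) Uk) e0.symm (Iso.refl _)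
      (Iso.refl _) (Iso.refl _) (by simp) (by simp [← he0]) (by simp) (by simp)
  have H : IsPullback f' ((pbCone D c i₀ (f₀ ≫ g₀)).π.app k) (cE.π.app k) a₀ :=
    (isPullback_pbCone_pbMap D c i₀ f₀ g₀ k).flip
  let e : pullback (cE.π.app k) a₀ ≅ pullback (c.π.app i₀) (f₀ ≫ g₀) :=
    (IsPullback.of_hasPullback (cE.π.app k) a₀).isoIsPullback _ _ H
  have he : e.hom ≫ f' = pullback.fst _ _ :=
    (IsPullback.of_hasPullback (cE.π.app k) a₀).isoIsPullback_hom_fst _ _ H
  obtain ⟨j, φ, Xj, Yj, aj, bj, pX, pY, hXj, hYj, ⟨ε, hε⟩⟩ :=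
    exists_stage_of_iso E cE hcE k a₀ Uk.ι f' (e0.hom ≫ cE.π.app k ∣_ Uk) hY' e he
  refine ⟨j.left, j.hom, ?_⟩
  have hbj : IsOpenImmersion bj :=
    (snd_iff_of_isPullback @IsOpenImmersion hYj).2
      (MorphismProperty.pullback_snd (P := @IsOpenImmersion) _ _ inferInstance)
  have haj : IsOpenImmersion aj := by rw [← hε]; infer_instance
  have h1 := (snd_iff_of_isPullback @IsOpenImmersion hXj).1 haj
  exact (snd_iff_of_isPullback @IsOpenImmersion (isPullback_pbMap_map D i₀ f₀ g₀ φ)).2 h1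

end Groth.Agent.Helper4.LimOImm
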