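import Mathlib
import Groth.Agent.Lib.Helper4.LimHom
import Groth.Agent.Lib.Helper4.LimOImm

/-!
# Models of schemes over a cofiltered limit at a finite stage (helper4)

Towards `Lim.exists_descend_finitePresentation` (S0591).
-/

set_option autoImplicit false
universe u
open AlgebraicGeometry CategoryTheory CategoryTheory.Limits TopologicalSpace

namespace Groth.Agent.Helper4.LimDesc

open Groth.Agent.Helper7.LimBC

variable {I : Type u} [SmallCategory I] (D : I ⥤ Scheme.{u}) (c : Cone D)

/-- A model at stage `i` of a scheme `V` over the cone point. -/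
structure Model {V : Scheme.{u}} (v : V ⟶ c.pt) (i : I) where
  M : Scheme.{u}
  m : M ⟶ D.obj i
  g : V ⟶ M
  lfp : LocallyOfFinitePresentation m
  cpt : CompactSpace M
  qs : QuasiSeparatedSpace M
  pb : IsPullback g v m (c.π.app i)

attribute [instance] Model.lfp Model.cpt Model.qs

variable {D c}

namespace Model

variable {V : Scheme.{u}} {v : V ⟶ c.pt} {i : I}

/-- change the structure morphism along an equality -/
def congr {v' : V ⟶ c.pt} (h : v = v') (M : Model D c v i) : Model D c v' i := h ▸ M

/-- transport along an isomorphism of the source -/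
def ofIso {V' : Scheme.{u}} (e : V' ≅ V) (M : Model D c v i) : Model D c (e.hom ≫ v) i where
  M := M.M
  m := M.m
  g := e.hom ≫ M.g
  lfp := M.lfp
  cpt := M.cpt
  qs := M.qs
  pb := by
    have h1 : IsPullback e.hom (e.hom ≫ v) v (𝟙 c.pt) :=
      IsPullback.of_horiz_isIso ⟨by simp⟩
    have h2 := h1.paste_horiz M.pb
    rwa [Category.id_comp] at h2


section reindex

variable [∀ {i j} (f : i ⟶ j), IsAffineHom (D.map f)]

set_option backward.isDefEq.respectTransparency false in
/-- base change of a model to a further stage -/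
noncomputable def reindex (M : Model D c v i) {j : I} (φ : j ⟶ i) : Model D c v j where
  M := pullback (D.map φ) M.m
  m := pullback.fst _ _
  g := pullback.lift (v ≫ c.π.app j) M.g (by rw [Category.assoc, c.w, M.pb.w])
  lfp := inferInstance
  cpt := by
    have : IsAffineHom (pullback.snd (D.map φ) M.m) :=
      MorphismProperty.pullback_snd (P := @IsAffineHom) _ _ inferInstance
    exact QuasiCompact.compactSpace_of_compactSpace (pullback.snd (D.map φ) M.m)
  qs := by
    have : IsAffineHom (pullback.snd (D.map φ) M.m) :=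
      MorphismProperty.pullback_snd (P := @IsAffineHom) _ _ inferInstance
    exact quasiSeparatedSpace_of_quasiSeparated (pullback.snd (D.map φ) M.m)
  pb := by
    have h1 : IsPullback (pullback.snd (D.map φ) M.m) (pullback.fst (D.map φ) M.m) M.m
        (D.map φ) := (IsPullback.of_hasPullback _ _).flip
    refine IsPullback.of_right ?_ ?_ h1
    · rw [pullback.lift_snd, c.w]
      exact M.pb
    · rw [pullback.lift_fst]

/-- the projection from the reindexed model -/
noncomputable abbrev reindexProj (M : Model D c v i) {j : I} (φ : j ⟶ i) :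
    (M.reindex φ).M ⟶ M.M := pullback.snd (D.map φ) M.m

set_option backward.isDefEq.respectTransparency false in
@[reassoc (attr := simp)]
theorem reindex_g_proj (M : Model D c v i) {j : I} (φ : j ⟶ i) :
    (M.reindex φ).g ≫ M.reindexProj φ = M.g := by
  simp [reindex, reindexProj]

set_option backward.isDefEq.respectTransparency false in
@[reassoc (attr := simp)]
theorem reindex_g_m (M : Model D c v i) {j : I} (φ : j ⟶ i) :
    (M.reindex φ).g ≫ (M.reindex φ).m = v ≫ c.π.app j := by
  simp [reindex]

set_option backward.isDefEq.respectTransparency false in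
theorem reindexProj_m (M : Model D c v i) {j : I} (φ : j ⟶ i) :
    M.reindexProj φ ≫ M.m = (M.reindex φ).m ≫ D.map φ := by
  simp [reindex, reindexProj, pullback.condition]

instance (M : Model D c v i) {j : I} (φ : j ⟶ i) : IsAffineHom (M.reindexProj φ) :=
  MorphismProperty.pullback_snd (P := @IsAffineHom) _ _ inferInstance

end reindex

/-- A morphism of models over a morphism `f` of schemes over the cone point. -/
structure Hom {X Y : Scheme.{u}} {x : X ⟶ c.pt} {y : Y ⟶ c.pt} (MX : Model D c x i)
    (MY : Model D c y i) (f : X ⟶ Y) where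
  f₀ : MX.M ⟶ MY.M
  w : f₀ ≫ MY.m = MX.m
  comm : MX.g ≫ f₀ = f ≫ MY.g

namespace Hom

variable {X Y : Scheme.{u}} {x : X ⟶ c.pt} {y : Y ⟶ c.pt} {MX : Model D c x i}
    {MY : Model D c y i} {f : X ⟶ Y}

/-- the square of a morphism of models is cartesian -/
theorem isPullback (h : Hom MX MY f) (hf : f ≫ y = x) : IsPullback MX.g f h.f₀ MY.g := by
  refine IsPullback.of_bot ?_ h.comm MY.pb
  rw [hf, h.w]
  exact MX.pb

variable [∀ {i j} (f : i ⟶ j), IsAffineHom (D.map f)]

set_option backward.isDefEq.respectTransparency false in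
/-- base change of a morphism of models -/
noncomputable def reindex (h : Hom MX MY f) (hf : f ≫ y = x) {j : I} (φ : j ⟶ i) :
    Hom (MX.reindex φ) (MY.reindex φ) f where
  f₀ := pullback.lift (pullback.fst _ _) (pullback.snd _ _ ≫ h.f₀)
    (by rw [Category.assoc, h.w, pullback.condition])
  w := by simp [Model.reindex]
  comm := by
    apply pullback.hom_ext
    · simp [Model.reindex, ← hf]
    · simp [Model.reindex, h.comm]

set_option backward.isDefEq.respectTransparency false in
theorem reindex_isPullback (h : Hom MX MY f) (hf : f ≫ y = x) {j : I} (φ : j ⟶ i) :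
    IsPullback (h.reindex hf φ).f₀ (MX.reindexProj φ) (MY.reindexProj φ) h.f₀ := by
  have h1 : IsPullback (pullback.snd (D.map φ) MY.m) (pullback.fst (D.map φ) MY.m) MY.m
      (D.map φ) := (IsPullback.of_hasPullback _ _).flip
  have h2 : IsPullback (pullback.snd (D.map φ) MX.m) (pullback.fst (D.map φ) MX.m) MX.m
      (D.map φ) := (IsPullback.of_hasPullback _ _).flip
  refine IsPullback.of_right ?_ ?_ h1.flip
  · have : (h.reindex hf φ).f₀ ≫ pullback.fst (D.map φ) MY.m = pullback.fst (D.map φ) MX.m := by
      simp [reindex]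
    rw [this, h.w]
    exact h2.flip
  · simp [reindex, Model.reindexProj]

instance (h : Hom MX MY f) (hf : f ≫ y = x) {j : I} (φ : j ⟶ i) [IsOpenImmersion h.f₀] :
    IsOpenImmersion (h.reindex hf φ).f₀ :=
  MorphismProperty.of_isPullback (P := @IsOpenImmersion) (h.reindex_isPullback hf φ).flip
    inferInstance

end Hom


/-- restriction of a model to a quasi-compact open of the model -/
noncomputable def restrict (M : Model D c v i) (O : M.M.Opens) (hO : IsCompact (O : Set M.M)) :
    Model D c ((M.g ⁻¹ᵁ O).ι ≫ v) i where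
  M := O
  m := O.ι ≫ M.m
  g := M.g ∣_ O
  lfp := inferInstance
  cpt := isCompact_iff_compactSpace.mp hO
  qs := quasiSeparatedSpace_of_quasiSeparated O.ι
  pb := (isPullback_morphismRestrict M.g O).paste_vert M.pb

/-- the inclusion of the restricted model -/
noncomputable def restrictHom (M : Model D c v i) (O : M.M.Opens) (hO : IsCompact (O : Set M.M)) :
    Hom (M.restrict O hO) M (M.g ⁻¹ᵁ O).ι where
  f₀ := O.ι
  w := rfl
  comm := morphismRestrict_ι M.g O

instance (M : Model D c v i) (O : M.M.Opens) (hO : IsCompact (O : Set M.M)) :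
    IsOpenImmersion (M.restrictHom O hO).f₀ :=
  inferInstanceAs (IsOpenImmersion O.ι)


section limit

variable [IsCofiltered I] [∀ {i j} (f : i ⟶ j), IsAffineHom (D.map f)] (hc : IsLimit c)

set_option backward.isDefEq.respectTransparency false in
include hc in
/-- quasi-compact opens descend to a model at a further stage -/
theorem exists_open (M : Model D c v i) (U : V.Opens) (hU : IsCompact (U : Set V)) :
    ∃ (j : I) (φ : j ⟶ i) (O : (M.reindex φ).M.Opens),
      IsCompact (O : Set (M.reindex φ).M) ∧ (M.reindex φ).g ⁻¹ᵁ O = U := by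
  let E := pbDiagram D i M.m
  let cE := pbCone D c i M.m
  have hcE : IsLimit cE := isLimitPbCone D c hc i M.m
  let e : V ≅ pullback (c.π.app i) M.m := M.pb.flip.isoPullback
  have he1 : e.hom ≫ pullback.fst _ _ = v := M.pb.flip.isoPullback_hom_fst
  have he2 : e.hom ≫ pullback.snd _ _ = M.g := M.pb.flip.isoPullback_hom_snd
  let U' : cE.pt.Opens := e.inv ⁻¹ᵁ U
  have hU' : IsCompact (U' : Set cE.pt) :=
    (Scheme.homeoOfIso e.symm).isCompact_preimage.mpr hU
  obtain ⟨j, O, hO, hjO⟩ := exists_preimage_eq E cE hcE U' hU'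
  refine ⟨j.left, j.hom, O, hO, ?_⟩
  have key : (M.reindex j.hom).g = e.hom ≫ cE.π.app j := by
    apply pullback.hom_ext
    · simp [reindex, cE, reassoc_of% he1]
    · simp [reindex, cE, he2]
  rw [key, Scheme.Hom.comp_preimage]
  erw [hjO]
  rw [← Scheme.Hom.comp_preimage, e.hom_inv_id]
  simp

set_option backward.isDefEq.respectTransparency false in
include hc in
/-- morphisms over the limit descend to morphisms of models at a further stage -/
theorem exists_hom {X Y : Scheme.{u}} {x : X ⟶ c.pt} {y : Y ⟶ c.pt} (MX : Model D c x i)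
    (MY : Model D c y i) (f : X ⟶ Y) (hf : f ≫ y = x) :
    ∃ (j : I) (φ : j ⟶ i), Nonempty (Hom (MX.reindex φ) (MY.reindex φ) f) := by
  obtain ⟨j, φ, fj, sX, sY, h1, h2, h3, h4, h5, h6⟩ :=
    Groth.Agent.Helper4.LimHom.exists_hom_descend D c hc i MX.m MY.m MX.g x MX.pb MY.g y MY.pb f hf
  have hsX : sX = (MX.reindex φ).g ≫ (pullbackSymmetry (D.map φ) MX.m).hom := by
    apply pullback.hom_ext
    · simp [reindex, h2]
    · simp [reindex, h3]
  have hsY : sY = (MY.reindex φ).g ≫ (pullbackSymmetry (D.map φ) MY.m).hom := by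
    apply pullback.hom_ext
    · simp [reindex, h4]
    · simp [reindex, h5]
  refine ⟨j, φ, ⟨⟨(pullbackSymmetry (D.map φ) MX.m).hom ≫ fj ≫
    (pullbackSymmetry MY.m (D.map φ)).hom, ?_, ?_⟩⟩⟩
  · show ((pullbackSymmetry (D.map φ) MX.m).hom ≫ fj ≫ (pullbackSymmetry MY.m (D.map φ)).hom) ≫
      pullback.fst (D.map φ) MY.m = pullback.fst (D.map φ) MX.m
    simp [h1]
  · rw [← Category.assoc, ← hsX, reassoc_of% h6, hsY]
    have : (pullbackSymmetry (D.map φ) MY.m).hom ≫ (pullbackSymmetry MY.m (D.map φ)).hom =
        𝟙 _ := by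
      apply pullback.hom_ext <;> simp
    simp only [Category.assoc]
    rw [this]
    show f ≫ (MY.reindex φ).g ≫ 𝟙 _ = _
    rw [Category.comp_id]


set_option backward.isDefEq.respectTransparency false in
include hc in
theorem exists_isOpenImmersion_aux [∀ i, CompactSpace (D.obj i)]
    [∀ i, QuasiSeparatedSpace (D.obj i)] {X Y X₀ Y₀ : Scheme.{u}} (f₀ : X₀ ⟶ Y₀)
    (g₀ : Y₀ ⟶ D.obj i) (x₀ : X₀ ⟶ D.obj i) (hx : f₀ ≫ g₀ = x₀)
    [LocallyOfFinitePresentation g₀] [CompactSpace Y₀] [QuasiSeparatedSpace Y₀]
    [LocallyOfFinitePresentation x₀] [CompactSpace X₀] [QuasiSeparatedSpace X₀]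
    (f : X ⟶ Y) (g : Y ⟶ c.pt) (qY : Y ⟶ Y₀) (qX : X ⟶ X₀)
    (hY : IsPullback qY g g₀ (c.π.app i)) (hX : IsPullback qX f f₀ qY) [IsOpenImmersion f] :
    ∃ (j : I) (φ : j ⟶ i), IsOpenImmersion
      (pullback.lift (pullback.fst (D.map φ) x₀) (pullback.snd (D.map φ) x₀ ≫ f₀)
        (by rw [Category.assoc, hx, pullback.condition]) :
        pullback (D.map φ) x₀ ⟶ pullback (D.map φ) g₀) := by
  subst hx
  have : QuasiSeparated g₀ := (quasiSeparated_iff_quasiSeparatedSpace g₀).mpr inferInstance
  have : QuasiSeparated (f₀ ≫ g₀) :=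
    (quasiSeparated_iff_quasiSeparatedSpace (f₀ ≫ g₀)).mpr inferInstance
  exact Groth.Agent.Helper4.LimOImm.exists_isOpenImmersion_stage D c hc i f₀ g₀ f g qY qX hY hX

include hc in
/-- open immersions descend to morphisms of models at a further stage -/
theorem Hom.exists_isOpenImmersion [∀ i, CompactSpace (D.obj i)]
    [∀ i, QuasiSeparatedSpace (D.obj i)] {X Y : Scheme.{u}} {x : X ⟶ c.pt} {y : Y ⟶ c.pt}
    {MX : Model D c x i} {MY : Model D c y i} {f : X ⟶ Y} (h : Hom MX MY f) (hf : f ≫ y = x)
    [IsOpenImmersion f] :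
    ∃ (j : I) (φ : j ⟶ i), IsOpenImmersion (h.reindex hf φ).f₀ :=
  exists_isOpenImmersion_aux hc h.f₀ MY.m MX.m h.w f y MY.g MX.g MY.pb (h.isPullback hf)

end limit

end Model

end Groth.Agent.Helper4.LimDesc
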