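import Mathlib
import Groth.Agent.Lib.Helper4.LimDesc1

/-!
# Gluing two models along a common open (helper4)
-/

set_option autoImplicit false
universe u
open AlgebraicGeometry CategoryTheory CategoryTheory.Limits TopologicalSpace

namespace Groth.Agent.Helper4.LimDesc

section PushOI

variable {O A B : Scheme.{u}} (α : O ⟶ A) (β : O ⟶ B) [IsOpenImmersion α] [IsOpenImmersion β]

instance isOpenImmersion_inl : IsOpenImmersion (pushout.inl α β) :=
  inferInstanceAs (IsOpenImmersion (colimit.ι (span α β) WalkingSpan.left))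

instance isOpenImmersion_inr : IsOpenImmersion (pushout.inr α β) :=
  inferInstanceAs (IsOpenImmersion (colimit.ι (span α β) WalkingSpan.right))

set_option backward.isDefEq.respectTransparency false in
theorem inl_eq_inr_iff {a : A} {b : B} :
    pushout.inl α β a = pushout.inr α β b ↔ ∃ o : O, α o = a ∧ β o = b := by
  constructor
  · intro h
    obtain ⟨k, fi, fj, x, h1, h2⟩ := (Scheme.IsLocallyDirected.ι_eq_ι_iff (F := span α β)
      (i := WalkingSpan.left) (j := WalkingSpan.right) (xi := a) (xj := b)).mp h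
    rcases k with _ | _ | _
    · obtain rfl : fi = WalkingSpan.Hom.fst := Subsingleton.elim _ _
      obtain rfl : fj = WalkingSpan.Hom.snd := Subsingleton.elim _ _
      exact ⟨x, h1, h2⟩
    · exfalso
      have : WidePushoutShape.Hom (some WalkingPair.left) (some WalkingPair.right) := fj
      cases this
    · exfalso
      have : WidePushoutShape.Hom (some WalkingPair.right) (some WalkingPair.left) := fi
      cases this
  · rintro ⟨o, rfl, rfl⟩
    rw [← Scheme.Hom.comp_apply, ← Scheme.Hom.comp_apply, pushout.condition]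

set_option backward.isDefEq.respectTransparency false in
theorem inl_or_inr (z : ↑(pushout α β)) :
    (∃ a, pushout.inl α β a = z) ∨ (∃ b, pushout.inr α β b = z) := by
  obtain ⟨k, x, hx⟩ := Scheme.IsLocallyDirected.ι_jointly_surjective (span α β) z
  rcases k with _ | _ | _
  · left
    refine ⟨α x, ?_⟩
    have hw : α ≫ pushout.inl α β = colimit.ι (span α β) WalkingSpan.zero :=
      colimit.w (span α β) WalkingSpan.Hom.fst
    rw [← hx, ← Scheme.Hom.comp_apply, hw]
    rfl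
  · left; exact ⟨x, hx⟩
  · right; exact ⟨x, hx⟩

end PushOI

/-- points of a general cartesian square of schemes -/
theorem exists_preimage_of_isPullback {P X Y Z : Scheme.{u}} {fst : P ⟶ X} {snd : P ⟶ Y}
    {f : X ⟶ Z} {g : Y ⟶ Z} (h : IsPullback fst snd f g) (x : X) (y : Y) (hxy : f x = g y) :
    ∃ p : P, fst p = x ∧ snd p = y := by
  obtain ⟨z, hz1, hz2⟩ := Scheme.Pullback.exists_preimage_pullback x y hxy
  refine ⟨h.isoPullback.inv z, ?_, ?_⟩
  · rw [← Scheme.Hom.comp_apply, h.isoPullback_inv_fst, hz1]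
  · rw [← Scheme.Hom.comp_apply, h.isoPullback_inv_snd, hz2]

section glue

variable {I : Type u} [SmallCategory I] {D : I ⥤ Scheme.{u}} {c : Cone D}

set_option backward.isDefEq.respectTransparency false in
set_option maxHeartbeats 1600000 in
/-- quasi-separatedness of a pushout of two quasi-separated schemes along a quasi-compact open -/
theorem quasiSeparatedSpace_pushout {O A B : Scheme.{u}} (α : O ⟶ A) (β : O ⟶ B)
    [IsOpenImmersion α] [IsOpenImmersion β] [CompactSpace O] [QuasiSeparatedSpace O]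
    [QuasiSeparatedSpace A] [QuasiSeparatedSpace B] :
    QuasiSeparatedSpace ↑(pushout α β) := by
  let inl := pushout.inl α β
  let inr := pushout.inr α β
  let U : A.affineOpens ⊕ B.affineOpens → (pushout α β).Opens :=
    Sum.elim (fun K => inl ''ᵁ K.1) (fun K => inr ''ᵁ K.1)
  have hU : IsOpenCover U := by
    rw [TopologicalSpace.IsOpenCover, eq_top_iff]
    intro z _
    rcases inl_or_inr α β z with ⟨a, rfl⟩ | ⟨b, rfl⟩
    · obtain ⟨_, ⟨W, hW, rfl⟩, h1, -⟩ :=
        A.isBasis_affineOpens.exists_subset_of_mem_open (Set.mem_univ a) isOpen_univ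
      exact TopologicalSpace.Opens.mem_iSup.mpr ⟨Sum.inl ⟨W, hW⟩, ⟨a, h1, rfl⟩⟩
    · obtain ⟨_, ⟨W, hW, rfl⟩, h1, -⟩ :=
        B.isBasis_affineOpens.exists_subset_of_mem_open (Set.mem_univ b) isOpen_univ
      exact TopologicalSpace.Opens.mem_iSup.mpr ⟨Sum.inr ⟨W, hW⟩, ⟨b, h1, rfl⟩⟩
  have hmix : ∀ (K₁ : A.affineOpens) (K₂ : B.affineOpens),
      IsCompact ((inl ''ᵁ K₁.1 : Set ↑(pushout α β)) ∩ (inr ''ᵁ K₂.1)) := by
    intro K₁ K₂
    have h1 : IsCompact ((α ⁻¹ᵁ K₁.1 : Set O)) :=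
      QuasiCompact.isCompact_preimage (f := α) _ K₁.1.2 K₁.2.isCompact
    have h2 : IsCompact ((β ⁻¹ᵁ K₂.1 : Set O)) :=
      QuasiCompact.isCompact_preimage (f := β) _ K₂.1.2 K₂.2.isCompact
    have h3 : IsCompact ((α ⁻¹ᵁ K₁.1 : Set O) ∩ (β ⁻¹ᵁ K₂.1)) :=
      QuasiSeparatedSpace.inter_isCompact _ _ (α ⁻¹ᵁ K₁.1).2 h1 (β ⁻¹ᵁ K₂.1).2 h2
    have heq : ((inl ''ᵁ K₁.1 : Set ↑(pushout α β)) ∩ (inr ''ᵁ K₂.1)) =
        (α ≫ inl) '' ((α ⁻¹ᵁ K₁.1 : Set O) ∩ (β ⁻¹ᵁ K₂.1)) := by
      ext z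
      constructor
      · rintro ⟨⟨a, ha, rfl⟩, ⟨b, hb, hab⟩⟩
        obtain ⟨o, rfl, rfl⟩ := (inl_eq_inr_iff α β).mp hab.symm
        exact ⟨o, ⟨ha, hb⟩, rfl⟩
      · rintro ⟨o, ⟨ha, hb⟩, rfl⟩
        refine ⟨⟨α o, ha, rfl⟩, ⟨β o, hb, ?_⟩⟩
        have hc := congrArg (fun f : O ⟶ pushout α β => f o)
          (pushout.condition (f := α) (g := β))
        exact hc.symm
    rw [heq]
    exact h3.image (α ≫ inl).continuous
  refine Scheme.quasiSeparatedSpace_of_isOpenCover U hU ?_ ?_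
  · rintro (K | K)
    · exact K.2.image_of_isOpenImmersion inl
    · exact K.2.image_of_isOpenImmersion inr
  · rintro (K₁ | K₁) (K₂ | K₂)
    · have : ((U (Sum.inl K₁) : Set ↑(pushout α β)) ∩ U (Sum.inl K₂)) =
          inl '' ((K₁.1 : Set A) ∩ K₂.1) := by
        show (inl '' _) ∩ (inl '' _) = _
        rw [Set.image_inter inl.isOpenEmbedding.injective]
      rw [this]
      exact (QuasiSeparatedSpace.inter_isCompact _ _ K₁.1.2 K₁.2.isCompact K₂.1.2
        K₂.2.isCompact).image inl.continuous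
    · exact hmix K₁ K₂
    · rw [Set.inter_comm]; exact hmix K₂ K₁
    · have : ((U (Sum.inr K₁) : Set ↑(pushout α β)) ∩ U (Sum.inr K₂)) =
          inr '' ((K₁.1 : Set B) ∩ K₂.1) := by
        show (inr '' _) ∩ (inr '' _) = _
        rw [Set.image_inter inr.isOpenEmbedding.injective]
      rw [this]
      exact (QuasiSeparatedSpace.inter_isCompact _ _ K₁.1.2 K₁.2.isCompact K₂.1.2
        K₂.2.isCompact).image inr.continuous


set_option backward.isDefEq.respectTransparency false in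
set_option maxHeartbeats 1600000 in
/-- Gluing two models at the same stage along a common open model. -/
theorem glue_same_index {Y A B : Scheme.{u}} (y : Y ⟶ c.pt) (a : A ⟶ Y) (b : B ⟶ Y)
    [IsOpenImmersion a] [IsOpenImmersion b]
    (hcov : ∀ z : Y, z ∈ Set.range a ∨ z ∈ Set.range b)
    {n : I} (MA : Model D c (a ≫ y) n) (MB : Model D c (b ≫ y) n)
    (W : B.Opens) (hW : W = b ⁻¹ᵁ a.opensRange)
    (pA : W.toScheme ⟶ A) (hpA : pA ≫ a = W.ι ≫ b)
    (MO : Model D c (W.ι ≫ b ≫ y) n)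
    (hα : Model.Hom MO MA pA) (hβ : Model.Hom MO MB W.ι)
    [IsOpenImmersion hα.f₀] [IsOpenImmersion hβ.f₀] :
    Nonempty (Model D c y n) := by
  let α := hα.f₀
  let β := hβ.f₀
  let G := pushout β α
  let inl : MB.M ⟶ G := pushout.inl β α
  let inr : MA.M ⟶ G := pushout.inr β α
  have hcond : β ≫ inl = α ≫ inr := pushout.condition
  have hγ : β ≫ MB.m = α ≫ MA.m := by rw [hβ.w, hα.w]
  let γ : G ⟶ D.obj n := pushout.desc MB.m MA.m hγ
  have hinlγ : inl ≫ γ = MB.m := pushout.inl_desc _ _ _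
  have hinrγ : inr ≫ γ = MA.m := pushout.inr_desc _ _ _
  have hfA : pA ≫ (a ≫ y) = W.ι ≫ b ≫ y := by rw [← Category.assoc, hpA, Category.assoc]
  have sqB : IsPullback MO.g W.ι β MB.g := hβ.isPullback rfl
  -- preimage of `range β` under `MB.g` is `W`
  have hWβ : ∀ t : B, MB.g t ∈ Set.range β → t ∈ W := by
    rintro t ⟨o, ho⟩
    obtain ⟨w, -, hw⟩ := exists_preimage_of_isPullback sqB o t ho
    rw [← hw]
    exact w.2
  -- compatibility on overlaps
  have key : ∀ {T : Scheme.{u}} (p₁ : T ⟶ A) (p₂ : T ⟶ B), p₁ ≫ a = p₂ ≫ b →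
      p₁ ≫ MA.g ≫ inr = p₂ ≫ MB.g ≫ inl := by
    intro T p₁ p₂ h12
    have hr : Set.range p₂ ⊆ Set.range W.ι := by
      rintro _ ⟨t, rfl⟩
      rw [Scheme.Opens.range_ι, hW]
      show b (p₂ t) ∈ Set.range a
      refine ⟨p₁ t, ?_⟩
      rw [← Scheme.Hom.comp_apply, h12, Scheme.Hom.comp_apply]
    let k : T ⟶ W.toScheme := IsOpenImmersion.lift W.ι p₂ hr
    have hk : k ≫ W.ι = p₂ := IsOpenImmersion.lift_fac _ _ _
    have hk1 : k ≫ pA = p₁ := by
      rw [← cancel_mono a, Category.assoc, hpA, ← Category.assoc, hk, h12]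
    rw [← hk1, ← hk, Category.assoc, Category.assoc, ← reassoc_of% hα.comm, ← hcond,
      reassoc_of% hβ.comm]
  -- the glued morphism
  let 𝒰 : Y.OpenCover := Scheme.Cover.mkOfCovers Bool (fun i => cond i A B)
    (fun i => Bool.rec (motive := fun i => cond i A B ⟶ Y) b a i)
    (fun z => by
      rcases hcov z with ⟨s, rfl⟩ | ⟨t, rfl⟩
      · exact ⟨true, s, rfl⟩
      · exact ⟨false, t, rfl⟩)
    (fun i => by cases i <;> infer_instance)
  let gs : ∀ i, 𝒰.X i ⟶ G :=
    fun i => Bool.rec (motive := fun i => cond i A B ⟶ G) (MB.g ≫ inl) (MA.g ≫ inr) i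
  have hgs : ∀ i j, pullback.fst (𝒰.f i) (𝒰.f j) ≫ gs i = pullback.snd _ _ ≫ gs j := by
    rintro (_ | _) (_ | _)
    · have : pullback.fst b b = pullback.snd b b := (cancel_mono b).mp pullback.condition
      show pullback.fst b b ≫ _ = pullback.snd b b ≫ _
      rw [this]
    · exact (key (pullback.snd b a) (pullback.fst b a) pullback.condition.symm).symm
    · exact key (pullback.fst a b) (pullback.snd a b) pullback.condition
    · have : pullback.fst a a = pullback.snd a a := (cancel_mono a).mp pullback.condition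
      show pullback.fst a a ≫ _ = pullback.snd a a ≫ _
      rw [this]
  let Φ : Y ⟶ G := 𝒰.glueMorphisms gs hgs
  have hΦa : a ≫ Φ = MA.g ≫ inr := 𝒰.ι_glueMorphisms gs hgs true
  have hΦb : b ≫ Φ = MB.g ≫ inl := 𝒰.ι_glueMorphisms gs hgs false
  have hΦγ : Φ ≫ γ = y ≫ c.π.app n := by
    refine 𝒰.hom_ext _ _ ?_
    rintro (_ | _)
    · show b ≫ Φ ≫ γ = b ≫ y ≫ c.π.app n
      rw [reassoc_of% hΦb, hinlγ, MB.pb.w, Category.assoc]
    · show a ≫ Φ ≫ γ = a ≫ y ≫ c.π.app n
      rw [reassoc_of% hΦa, hinrγ, MA.pb.w, Category.assoc]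
  -- comparison with the pullback
  let θ : Y ⟶ pullback γ (c.π.app n) := pullback.lift Φ y hΦγ
  have hθ1 : θ ≫ pullback.fst γ (c.π.app n) = Φ := pullback.lift_fst _ _ _
  have hθ2 : θ ≫ pullback.snd γ (c.π.app n) = y := pullback.lift_snd _ _ _
  have hR : IsPullback (pullback.snd γ (c.π.app n)) (pullback.fst γ (c.π.app n)) (c.π.app n) γ :=
    (IsPullback.of_hasPullback γ (c.π.app n)).flip
  have sqa : IsPullback (a ≫ θ) MA.g (pullback.fst γ (c.π.app n)) inr := by
    refine IsPullback.of_right ?_ ?_ hR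
    · rw [Category.assoc, hθ2, hinrγ]
      exact MA.pb.flip
    · rw [Category.assoc, hθ1, hΦa]
  have sqb : IsPullback (b ≫ θ) MB.g (pullback.fst γ (c.π.app n)) inl := by
    refine IsPullback.of_right ?_ ?_ hR
    · rw [Category.assoc, hθ2, hinlγ]
      exact MB.pb.flip
    · rw [Category.assoc, hθ1, hΦb]
  have hoa : IsOpenImmersion (a ≫ θ) :=
    MorphismProperty.of_isPullback (P := @IsOpenImmersion) sqa.flip inferInstance
  have hob : IsOpenImmersion (b ≫ θ) :=
    MorphismProperty.of_isPullback (P := @IsOpenImmersion) sqb.flip inferInstance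
  -- injectivity
  have hinjA : ∀ s₁ s₂ : A, θ (a s₁) = θ (a s₂) → a s₁ = a s₂ := by
    intro s₁ s₂ h
    have : (a ≫ θ) s₁ = (a ≫ θ) s₂ := h
    rw [(a ≫ θ).isOpenEmbedding.injective this]
  have hinjB : ∀ t₁ t₂ : B, θ (b t₁) = θ (b t₂) → b t₁ = b t₂ := by
    intro t₁ t₂ h
    have : (b ≫ θ) t₁ = (b ≫ θ) t₂ := h
    rw [(b ≫ θ).isOpenEmbedding.injective this]
  have hmixed : ∀ (s : A) (t : B), θ (a s) = θ (b t) → a s = b t := by
    intro s t h
    have h1 : Φ (a s) = Φ (b t) := by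
      have e : ∀ z : Y, Φ z = pullback.fst γ (c.π.app n) (θ z) := fun z => by
        rw [← Scheme.Hom.comp_apply, hθ1]
      rw [e, e, h]
    have h2 : inr (MA.g s) = inl (MB.g t) := by
      have e1 : Φ (a s) = inr (MA.g s) := by
        rw [← Scheme.Hom.comp_apply, hΦa, Scheme.Hom.comp_apply]
      have e2 : Φ (b t) = inl (MB.g t) := by
        rw [← Scheme.Hom.comp_apply, hΦb, Scheme.Hom.comp_apply]
      rw [← e1, ← e2, h1]
    obtain ⟨o, ho1, ho2⟩ := (inl_eq_inr_iff β α).mp h2.symm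
    have htW : t ∈ W := hWβ t ⟨o, ho1⟩
    have hbt : b t = a (pA ⟨t, htW⟩) := by
      rw [← Scheme.Hom.comp_apply, hpA, Scheme.Hom.comp_apply]
      rfl
    rw [hbt] at h ⊢
    exact hinjA _ _ h
  have hinj : Function.Injective θ := by
    intro z₁ z₂ h
    rcases hcov z₁ with ⟨s₁, rfl⟩ | ⟨t₁, rfl⟩ <;> rcases hcov z₂ with ⟨s₂, rfl⟩ | ⟨t₂, rfl⟩
    · exact hinjA _ _ h
    · exact hmixed _ _ h
    · exact (hmixed _ _ h.symm).symm
    · exact hinjB _ _ h
  have hoi : IsOpenImmersion θ := by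
    refine IsOpenImmersion.of_forall_source_exists θ hinj fun z => ?_
    rcases hcov z with ⟨s, rfl⟩ | ⟨t, rfl⟩
    · exact ⟨A, a, inferInstance, ⟨s, rfl⟩, hoa⟩
    · exact ⟨B, b, inferInstance, ⟨t, rfl⟩, hob⟩
  have hsurj : Surjective θ := by
    refine ⟨fun p => ?_⟩
    rcases inl_or_inr β α (pullback.fst γ (c.π.app n) p) with ⟨b', hb'⟩ | ⟨a', ha'⟩
    · obtain ⟨t, ht, -⟩ := exists_preimage_of_isPullback sqb p b' hb'.symm
      exact ⟨b t, ht⟩
    · obtain ⟨s, hs, -⟩ := exists_preimage_of_isPullback sqa p a' ha'.symm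
      exact ⟨a s, hs⟩
  have hiso : IsIso θ := (isIso_iff_isOpenImmersion_and_surjective θ).mpr ⟨hoi, hsurj⟩
  have hpb : IsPullback Φ y γ (c.π.app n) :=
    IsPullback.of_iso_pullback ⟨hΦγ⟩ (asIso θ) hθ1 hθ2
  -- properties of the glued model
  have hlfp : LocallyOfFinitePresentation γ := by
    rw [IsZariskiLocalAtSource.iff_of_openCover (P := @LocallyOfFinitePresentation)
      (Scheme.IsLocallyDirected.openCover (span β α))]
    intro k
    rcases k with _ | _ | _
    · have : colimit.ι (span β α) WalkingSpan.zero = β ≫ inl :=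
        (colimit.w (span β α) WalkingSpan.Hom.fst).symm
      show LocallyOfFinitePresentation (colimit.ι (span β α) WalkingSpan.zero ≫ γ)
      rw [this, Category.assoc, hinlγ]
      infer_instance
    · show LocallyOfFinitePresentation (inl ≫ γ)
      rw [hinlγ]; infer_instance
    · show LocallyOfFinitePresentation (inr ≫ γ)
      rw [hinrγ]; infer_instance
  have hcpt : CompactSpace G := by
    refine ⟨?_⟩
    have : (Set.univ : Set G) = Set.range inl ∪ Set.range inr := by
      ext z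
      simp only [Set.mem_univ, Set.mem_union, Set.mem_range, true_iff]
      exact inl_or_inr β α z
    rw [this]
    exact (isCompact_range inl.continuous).union (isCompact_range inr.continuous)
  have hqs : QuasiSeparatedSpace G := quasiSeparatedSpace_pushout β α
  exact ⟨⟨G, γ, Φ, hlfp, hcpt, hqs, hpb⟩⟩


set_option backward.isDefEq.respectTransparency false in
set_option maxHeartbeats 1600000 in
/-- Gluing two models (at arbitrary stages) of two opens covering `Y`. -/
theorem glue_models [IsCofiltered I] [∀ {i j} (f : i ⟶ j), IsAffineHom (D.map f)] (hc : IsLimit c)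
    [∀ i, CompactSpace (D.obj i)] [∀ i, QuasiSeparatedSpace (D.obj i)]
    {Y A B : Scheme.{u}} [QuasiSeparatedSpace Y] (y : Y ⟶ c.pt) (a : A ⟶ Y) (b : B ⟶ Y)
    [IsOpenImmersion a] [IsOpenImmersion b]
    (hcov : ∀ z : Y, z ∈ Set.range a ∨ z ∈ Set.range b)
    {iA iB : I} (MA : Model D c (a ≫ y) iA) (MB : Model D c (b ≫ y) iB) :
    ∃ n, Nonempty (Model D c y n) := by
  -- compactness of `A` and `B`
  have hAaff : IsAffineHom MA.g :=
    MorphismProperty.of_isPullback (P := @IsAffineHom) MA.pb.flip (isAffineHom_π_app D c hc iA)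
  have hBaff : IsAffineHom MB.g :=
    MorphismProperty.of_isPullback (P := @IsAffineHom) MB.pb.flip (isAffineHom_π_app D c hc iB)
  have hAc : CompactSpace A := QuasiCompact.compactSpace_of_compactSpace MA.g
  have hBc : CompactSpace B := QuasiCompact.compactSpace_of_compactSpace MB.g
  -- the overlap
  let W₀ : B.Opens := b ⁻¹ᵁ a.opensRange
  have hW₀c : IsCompact (W₀ : Set B) := by
    have h1 : IsCompact (Set.range a ∩ Set.range b) :=
      QuasiSeparatedSpace.inter_isCompact _ _ a.isOpenEmbedding.isOpen_range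
        (isCompact_range a.continuous) b.isOpenEmbedding.isOpen_range (isCompact_range b.continuous)
    have h2 : (W₀ : Set B) = b ⁻¹' (Set.range a ∩ Set.range b) := by
      ext t
      simp only [Set.mem_preimage, Set.mem_inter_iff, Set.mem_range, exists_apply_eq_apply, and_true]
      rfl
    rw [h2]
    exact (b.isOpenEmbedding.isInducing.isCompact_preimage_iff Set.inter_subset_right).mpr h1
  obtain ⟨j, φ, O, hO, hOW⟩ := Model.exists_open hc MB W₀ hW₀c
  -- common index
  let k := IsCofiltered.min j iA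
  let φ₁ : k ⟶ j := IsCofiltered.minToLeft j iA
  let φ₂ : k ⟶ iA := IsCofiltered.minToRight j iA
  let MB₁ := (MB.reindex φ).reindex φ₁
  let MA₁ := MA.reindex φ₂
  let O₁ : MB₁.M.Opens := ((MB.reindex φ).reindexProj φ₁) ⁻¹ᵁ O
  have hO₁ : IsCompact (O₁ : Set MB₁.M) :=
    QuasiCompact.isCompact_preimage (f := (MB.reindex φ).reindexProj φ₁) _ O.2 hO
  have hO₁W : MB₁.g ⁻¹ᵁ O₁ = W₀ := by
    rw [← Scheme.Hom.comp_preimage, Model.reindex_g_proj, hOW]
  let W : B.Opens := MB₁.g ⁻¹ᵁ O₁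
  have hW : W = b ⁻¹ᵁ a.opensRange := hO₁W
  let MO := MB₁.restrict O₁ hO₁
  let hβ₀ : Model.Hom MO MB₁ W.ι := MB₁.restrictHom O₁ hO₁
  have hr : Set.range (W.ι ≫ b) ⊆ Set.range a := by
    rintro _ ⟨w, rfl⟩
    have h1 : (W.ι w) ∈ W := w.2
    have h2 : (W.ι w) ∈ b ⁻¹ᵁ a.opensRange := hW ▸ h1
    exact h2
  let pA : W.toScheme ⟶ A := IsOpenImmersion.lift a (W.ι ≫ b) hr
  have hpA : pA ≫ a = W.ι ≫ b := IsOpenImmersion.lift_fac _ _ _
  have hfA : pA ≫ (a ≫ y) = W.ι ≫ b ≫ y := by rw [← Category.assoc, hpA, Category.assoc]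
  have hpAoi : IsOpenImmersion pA := by
    have : IsOpenImmersion (pA ≫ a) := by rw [hpA]; infer_instance
    exact IsOpenImmersion.of_comp pA a
  obtain ⟨l, ψ, ⟨hα₀⟩⟩ := Model.exists_hom hc MO MA₁ pA hfA
  obtain ⟨l', ψ', hoi⟩ := hα₀.exists_isOpenImmersion hc hfA
  exact ⟨l', glue_same_index y a b hcov ((MA₁.reindex ψ).reindex ψ')
    ((MB₁.reindex ψ).reindex ψ') W hW pA hpA ((MO.reindex ψ).reindex ψ')
    (hα₀.reindex hfA ψ') ((hβ₀.reindex rfl ψ).reindex rfl ψ')⟩

end glue

end Groth.Agent.Helper4.LimDesc
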