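import Mathlib
import Groth.Agent.Lib.Helper4.LimDesc2
import Groth.Agent.Lib.Helper3.FPDescent

/-!
# Descent of morphisms of finite presentation along cofiltered limits (helper4)

`Lim.exists_descend_finitePresentation` (S0591).
-/

set_option autoImplicit false
universe u
open AlgebraicGeometry CategoryTheory CategoryTheory.Limits TopologicalSpace TensorProduct

namespace Groth.Agent.Helper4.LimDesc

/-- Ring level: a finitely presented algebra descends to any ring containing finitely many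
coefficients. -/
theorem ring_descend (A B : Type u) [CommRing A] [CommRing B] [Algebra A B]
    [Algebra.FinitePresentation A B] :
    ∃ s : Set A, s.Finite ∧ ∀ (A₀ : Type u) [CommRing A₀] [Algebra A₀ A],
      s ⊆ Set.range (algebraMap A₀ A) →
      ∃ (B₀ : Type u) (_ : CommRing B₀) (_ : Algebra A₀ B₀) (ψ : B₀ →+* B)
        (e : A ⊗[A₀] B₀ ≃ₐ[A] B),
        Algebra.FinitePresentation A₀ B₀ ∧ ∀ y : B₀, e (1 ⊗ₜ y) = ψ y := by
  let P := Algebra.Presentation.ofFinitePresentation A B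
  refine ⟨P.coeffs, P.finite_coeffs, ?_⟩
  intro A₀ _ _ hs
  letI : Algebra A₀ B := ((algebraMap A B).comp (algebraMap A₀ A)).toAlgebra
  haveI : IsScalarTower A₀ A B := IsScalarTower.of_algebraMap_eq' rfl
  haveI : P.HasCoeffs A₀ := ⟨hs⟩
  refine ⟨P.ModelOfHasCoeffs A₀, inferInstance, inferInstance,
    (P.tensorModelOfHasCoeffsEquiv A₀).toAlgHom.toRingHom.comp
      (Algebra.TensorProduct.includeRight (R := A₀) (A := A)
        (B := P.ModelOfHasCoeffs A₀)).toRingHom,
    P.tensorModelOfHasCoeffsEquiv A₀, inferInstance, ?_⟩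
  intro y
  rfl


section affine

variable {J : Type u} [SmallCategory J] [IsCofiltered J] (E : J ⥤ Scheme.{u}) (cE : Cone E)
  (hcE : IsLimit cE)

include hcE in
/-- finitely many global sections of an affine limit come from a single stage -/
theorem exists_stage_of_finite [∀ j, IsAffine (E.obj j)] (s : Set Γ(cE.pt, ⊤)) (hs : s.Finite) :
    ∃ j : J, s ⊆ Set.range (cE.π.app j).appTop.hom := by
  induction s, hs using Set.Finite.induction_on with
  | empty =>
    obtain ⟨j⟩ := IsCofiltered.nonempty (C := J)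
    exact ⟨j, Set.empty_subset _⟩
  | @insert a s ha hs ih =>
    obtain ⟨j₁, h₁⟩ := ih
    obtain ⟨j₂, t, ht⟩ := exists_appTop_π_eq_of_isAffine_of_isLimit E cE hcE a
    refine ⟨IsCofiltered.min j₁ j₂, ?_⟩
    have key : ∀ (j j' : J) (φ : j' ⟶ j) (x : Γ(E.obj j, ⊤)),
        (cE.π.app j).appTop.hom x ∈ Set.range (cE.π.app j').appTop.hom := by
      intro j j' φ x
      refine ⟨(E.map φ).appTop.hom x, ?_⟩
      have := cE.w φ
      rw [← this, Scheme.Hom.comp_appTop]
      rfl
    rw [Set.insert_subset_iff]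
    constructor
    · rw [← ht]
      exact key _ _ (IsCofiltered.minToRight j₁ j₂) t
    · intro b hb
      obtain ⟨x, rfl⟩ := h₁ hb
      exact key _ _ (IsCofiltered.minToLeft j₁ j₂) x

include hcE in
/-- Affine base case: a morphism locally of finite presentation from an affine scheme to an
affine limit of affine schemes descends to some stage. -/
theorem exists_affine_model [∀ j, IsAffine (E.obj j)] [IsAffine cE.pt] {V : Scheme.{u}}
    [IsAffine V] (fV : V ⟶ cE.pt) [LocallyOfFinitePresentation fV] :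
    ∃ (j : J) (M : Scheme.{u}) (m : M ⟶ E.obj j) (g : V ⟶ M), IsAffine M ∧
      LocallyOfFinitePresentation m ∧ IsPullback g fV m (cE.π.app j) := by
  have hfp : RingHom.FinitePresentation fV.appTop.hom :=
    (HasRingHomProperty.iff_of_isAffine (P := @LocallyOfFinitePresentation)).mp inferInstance
  letI : Algebra Γ(cE.pt, ⊤) Γ(V, ⊤) := fV.appTop.hom.toAlgebra
  haveI hfp' : Algebra.FinitePresentation Γ(cE.pt, ⊤) Γ(V, ⊤) := hfp
  obtain ⟨s, hs, H⟩ := ring_descend Γ(cE.pt, ⊤) Γ(V, ⊤)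
  obtain ⟨j, hj⟩ := exists_stage_of_finite E cE hcE s hs
  letI : Algebra Γ(E.obj j, ⊤) Γ(cE.pt, ⊤) := (cE.π.app j).appTop.hom.toAlgebra
  obtain ⟨B₀, _, _, ψ, e, hB₀, he⟩ := H Γ(E.obj j, ⊤) hj
  have hpb := Groth.Agent.Helper3.FPDescent.scheme_level fV Γ(E.obj j, ⊤) B₀ rfl ψ e he
  have : IsAffine (((Functor.const J).obj cE.pt).obj j) := ‹IsAffine cE.pt›
  have hnat : cE.pt.isoSpec.hom ≫
      Spec.map (CommRingCat.ofHom (algebraMap Γ(E.obj j, ⊤) Γ(cE.pt, ⊤))) =
      cE.π.app j ≫ (E.obj j).isoSpec.hom :=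
    Scheme.isoSpec_hom_naturality (cE.π.app j)
  rw [hnat] at hpb
  refine ⟨j, Spec (CommRingCat.of B₀),
    Spec.map (CommRingCat.ofHom (algebraMap Γ(E.obj j, ⊤) B₀)) ≫ (E.obj j).isoSpec.inv,
    V.isoSpec.hom ≫ Spec.map (CommRingCat.ofHom ψ), inferInstance, ?_, ?_⟩
  · have : LocallyOfFinitePresentation
        (Spec.map (CommRingCat.ofHom (algebraMap Γ(E.obj j, ⊤) B₀))) := by
      rw [HasRingHomProperty.Spec_iff (P := @LocallyOfFinitePresentation)]
      exact RingHom.finitePresentation_algebraMap.mpr hB₀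
    infer_instance
  · refine IsPullback.of_iso hpb (Iso.refl _) (Iso.refl _) (Iso.refl _) (E.obj j).isoSpec.symm
      ?_ ?_ ?_ ?_
    · simp
    · simp
    · simp
    · simp

end affine


section base

variable {I : Type u} [SmallCategory I] [IsCofiltered I] {D : I ⥤ Scheme.{u}} {c : Cone D}
  [∀ {i j} (f : i ⟶ j), IsAffineHom (D.map f)]

set_option backward.isDefEq.respectTransparency false in
/-- Base case: an affine open of `X` mapping into the preimage of an affine open of some `D.obj i`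
has a model at some stage. -/
theorem exists_model_affineOpen (hc : IsLimit c) {X : Scheme.{u}} (f : X ⟶ c.pt)
    [LocallyOfFinitePresentation f] (i : I) (Ti : (D.obj i).Opens) (hTi : IsAffineOpen Ti)
    (V : X.Opens) (hV : IsAffineOpen V) (hle : V ≤ f ⁻¹ᵁ (c.π.app i ⁻¹ᵁ Ti)) :
    ∃ j : I, Nonempty (Model D c (V.ι ≫ f) j) := by
  have hE (j : Over i) : IsAffine ((opensDiagram D i Ti).obj j) := hTi.preimage (D.map _)
  have := isAffineHom_π_app D c hc i
  have hT : IsAffine (opensCone D c i Ti).pt := hTi.preimage (c.π.app i)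
  have hVa : IsAffine V.toScheme := hV
  obtain ⟨j, M, m, g, hM, hm, hpb⟩ := exists_affine_model (opensDiagram D i Ti)
    (opensCone D c i Ti) (isLimitOpensCone D c hc i Ti) (f.resLE (c.π.app i ⁻¹ᵁ Ti) V hle)
  have sq : IsPullback ((opensCone D c i Ti).π.app j) (c.π.app i ⁻¹ᵁ Ti).ι
      (D.map j.hom ⁻¹ᵁ Ti).ι (c.π.app j.left) :=
    IsOpenImmersion.isPullback _ _ _ _ (by simp) (by simp [← Scheme.Hom.comp_preimage])
  have hpb2 := hpb.paste_vert sq
  rw [Scheme.Hom.resLE_comp_ι] at hpb2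
  exact ⟨j.left, ⟨⟨M, m ≫ (D.map j.hom ⁻¹ᵁ Ti).ι, g, inferInstance, inferInstance, inferInstance,
    hpb2⟩⟩⟩

end base


section main

variable {I : Type u} [SmallCategory I] [IsCofiltered I] {D : I ⥤ Scheme.{u}} {c : Cone D}
  [∀ {i j} (f : i ⟶ j), IsAffineHom (D.map f)]
  [∀ i, CompactSpace (D.obj i)] [∀ i, QuasiSeparatedSpace (D.obj i)]

set_option backward.isDefEq.respectTransparency false in
/-- gluing step for opens of `X` -/
theorem exists_model_sup (hc : IsLimit c) {X : Scheme.{u}} [QuasiSeparatedSpace X] (f : X ⟶ c.pt)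
    (U V : X.Opens) {iU iV : I} (MU : Model D c (U.ι ≫ f) iU) (MV : Model D c (V.ι ≫ f) iV) :
    ∃ n : I, Nonempty (Model D c ((U ⊔ V).ι ≫ f) n) := by
  have hqs : QuasiSeparatedSpace (U ⊔ V).toScheme :=
    (U ⊔ V).ι.isOpenEmbedding.quasiSeparatedSpace
  refine glue_models hc ((U ⊔ V).ι ≫ f) (X.homOfLE le_sup_left) (X.homOfLE le_sup_right) ?_
    (MU.congr (by rw [Scheme.homOfLE_ι_assoc])) (MV.congr (by rw [Scheme.homOfLE_ι_assoc]))
  rintro ⟨z, hz⟩
  rcases hz with hz | hz
  · exact Or.inl ⟨⟨z, hz⟩, Scheme.homOfLE_apply' _ _ _⟩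
  · exact Or.inr ⟨⟨z, hz⟩, Scheme.homOfLE_apply' _ _ _⟩

set_option backward.isDefEq.respectTransparency false in
/-- **Descent of morphisms of finite presentation** (model form). -/
theorem exists_model_top (hc : IsLimit c) {X : Scheme.{u}} (f : X ⟶ c.pt)
    [LocallyOfFinitePresentation f] [QuasiCompact f] [QuasiSeparated f] :
    ∃ n : I, Nonempty (Model D c f n) := by
  classical
  obtain ⟨i₀⟩ := IsCofiltered.nonempty (C := I)
  have := isAffineHom_π_app D c hc i₀
  have hcpt : CompactSpace c.pt := Scheme.compactSpace_of_isLimit D c hc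
  have hqsc : QuasiSeparatedSpace c.pt := quasiSeparatedSpace_of_quasiSeparated (c.π.app i₀)
  have hXc : CompactSpace X := QuasiCompact.compactSpace_of_compactSpace f
  have hXq : QuasiSeparatedSpace X := quasiSeparatedSpace_of_quasiSeparated f
  -- good affine opens around every point
  have hgood : ∀ x : X, ∃ (V : X.Opens), IsAffineOpen V ∧ x ∈ V ∧
      ∃ n : I, Nonempty (Model D c (V.ι ≫ f) n) := by
    intro x
    obtain ⟨_, ⟨i, Ti, hTi, rfl⟩, hxT, -⟩ :=
      TopologicalSpace.Opens.isBasis_iff_nbhd.mp (isBasis_preimage_isAffineOpen D c hc)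
        (show f x ∈ (⊤ : c.pt.Opens) from trivial)
    obtain ⟨_, ⟨V, hV : IsAffineOpen V, rfl⟩, hxV, hVle⟩ :=
      X.isBasis_affineOpens.exists_subset_of_mem_open
        (show x ∈ ((f ⁻¹ᵁ (c.π.app i ⁻¹ᵁ Ti) : X.Opens) : Set X) from hxT)
        (f ⁻¹ᵁ (c.π.app i ⁻¹ᵁ Ti)).2
    exact ⟨V, hV, hxV, exists_model_affineOpen hc f i Ti hTi V hV hVle⟩
  choose V hVaff hxV hVm using hgood
  obtain ⟨σ, hσ⟩ := CompactSpace.elim_nhds_subcover (fun x ↦ (V x : Set X))
    (fun x ↦ (V x).2.mem_nhds (hxV x))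
  -- induction
  have hind : ∀ s : Finset X, ∃ n : I, Nonempty (Model D c ((s.sup V).ι ≫ f) n) := by
    intro s
    induction s using Finset.induction_on with
    | empty =>
      rw [Finset.sup_empty]
      exact exists_model_affineOpen hc f i₀ ⊥ (isAffineOpen_bot _) ⊥ (isAffineOpen_bot _) bot_le
    | insert a s ha ih =>
      rw [Finset.sup_insert]
      obtain ⟨n₁, ⟨M₁⟩⟩ := hVm a
      obtain ⟨n₂, ⟨M₂⟩⟩ := ih
      exact exists_model_sup hc f _ _ M₁ M₂
  obtain ⟨n, ⟨M⟩⟩ := hind σ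
  have htop : σ.sup V = ⊤ := by
    rw [eq_top_iff]
    intro x _
    have : x ∈ ⋃ y ∈ σ, (V y : Set X) := hσ.ge (Set.mem_univ x)
    simp only [Set.mem_iUnion] at this
    obtain ⟨y, hy, hxy⟩ := this
    exact (Finset.le_sup (f := V) hy) hxy
  rw [htop] at M
  have M' := M.ofIso (X.topIso).symm
  refine ⟨n, ⟨M'.congr ?_⟩⟩
  rw [Iso.symm_hom, ← Category.assoc, Scheme.toIso_inv_ι, Category.id_comp]

end main


/-- **Descent of morphisms of finite presentation** (statement form, S0591). -/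
theorem exists_descend_finitePresentation {I : Type u} [SmallCategory I] [IsCofiltered I]
    (D : I ⥤ Scheme.{u}) (c : Limits.Cone D) (hc : Limits.IsLimit c)
    [∀ (i j : I) (f : i ⟶ j), IsAffineHom (D.map f)] [∀ i, CompactSpace (D.obj i)]
    [∀ i, QuasiSeparatedSpace (D.obj i)] (X : Scheme.{u}) (f : X ⟶ c.pt)
    [LocallyOfFinitePresentation f] [QuasiCompact f] [QuasiSeparated f] :
    ∃ (i : I) (Xi : Scheme.{u}) (fi : Xi ⟶ D.obj i) (g : X ⟶ Xi),
      LocallyOfFinitePresentation fi ∧ QuasiCompact fi ∧ QuasiSeparated fi ∧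
      IsPullback g f fi (c.π.app i) := by
  obtain ⟨n, ⟨M⟩⟩ := exists_model_top hc f
  refine ⟨n, M.M, M.m, M.g, M.lfp, ?_, ?_, M.pb⟩
  · exact quasiCompact_of_compactSpace M.m
  · exact (quasiSeparated_iff_quasiSeparatedSpace M.m).mpr inferInstance

end Groth.Agent.Helper4.LimDesc
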