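import Mathlib
import Groth.Agent.Lib.Helper29.SmoothStage

/-!
# Descent of smooth / étale / unramified ring maps to a stage: base-free tensor form (helper4)

Bridges helper29's `B₀ ⊗[A₀] G i` formulation (with `B₀ := A₀`) to the form
`G i → G i ⊗[A₀] C₀`, and then to a form about filtered colimits and pushouts in `CommRingCat`.
-/

set_option autoImplicit false
universe u
open TensorProduct CategoryTheory CategoryTheory.Limits

namespace Groth.Agent.Helper4.LimSmRing

/-- a property of ring homomorphisms descends to a stage of a directed system (tensor form) -/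
def TensorDescends
    (Q : ∀ {R S : Type u} [CommRing R] [CommRing S], (R →+* S) → Prop) : Prop :=
  ∀ {ι : Type u} [Preorder ι] [IsDirected ι (· ≤ ·)] [Nonempty ι]
    (A₀ : Type u) [CommRing A₀] (G : ι → Type u) [∀ i, CommRing (G i)] [∀ i, Algebra A₀ (G i)]
    (f : ∀ i j, i ≤ j → (G i →ₐ[A₀] G j)) (A : Type u) [CommRing A] [Algebra A₀ A]
    (g : ∀ i, G i →ₐ[A₀] A) (_ : ∀ i j (h : i ≤ j), (g j).comp (f i j h) = g i)
    (_ : ∀ a : A, ∃ i, ∃ x : G i, g i x = a)
    (_ : ∀ i (x : G i), g i x = 0 → ∃ j, ∃ h : i ≤ j, f i j h x = 0)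
    (C₀ : Type u) [CommRing C₀] [Algebra A₀ C₀] [Algebra.FinitePresentation A₀ C₀],
    Q (algebraMap A (A ⊗[A₀] C₀)) → ∃ i, Q (algebraMap (G i) (G i ⊗[A₀] C₀))

theorem transport_iff
    {Q : ∀ {R S : Type u} [CommRing R] [CommRing S], (R →+* S) → Prop}
    (hQ : RingHom.RespectsIso @Q)
    {R S R' S' : Type u} [CommRing R] [CommRing S] [CommRing R'] [CommRing S']
    [Algebra R S] [Algebra R' S'] (e₁ : R ≃+* R') (e₂ : S ≃+* S')
    (h : ∀ x, e₂ (algebraMap R S x) = algebraMap R' S' (e₁ x)) :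
    Q (algebraMap R S) ↔ Q (algebraMap R' S') := by
  have key : (algebraMap R' S').comp e₁.toRingHom = e₂.toRingHom.comp (algebraMap R S) := by
    ext x
    exact (h x).symm
  constructor
  · intro h0
    have h1 := hQ.1 _ e₂ h0
    rw [← key] at h1
    have h2 := hQ.2 _ e₁.symm h1
    convert h2 using 1
    ext x
    simp
  · intro h0
    have h1 := hQ.2 _ e₁ h0
    rw [key] at h1
    have h2 := hQ.1 _ e₂.symm h1
    convert h2 using 1
    ext x
    simp

section transport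

variable (A₀ : Type u) [CommRing A₀] (G : Type u) [CommRing G] [Algebra A₀ G]
  (C₀ : Type u) [CommRing C₀] [Algebra A₀ C₀]

/-- `(A₀ ⊗ G) ⊗ C₀ ≃ G ⊗ C₀` -/
noncomputable def e₂ : (A₀ ⊗[A₀] G) ⊗[A₀] C₀ ≃ₐ[A₀] G ⊗[A₀] C₀ :=
  Algebra.TensorProduct.congr (Algebra.TensorProduct.lid A₀ G) AlgEquiv.refl

theorem iff_of_respectsIso
    {Q : ∀ {R S : Type u} [CommRing R] [CommRing S], (R →+* S) → Prop}
    (hQ : RingHom.RespectsIso @Q) :
    Q (algebraMap (A₀ ⊗[A₀] G) ((A₀ ⊗[A₀] G) ⊗[A₀] C₀)) ↔ Q (algebraMap G (G ⊗[A₀] C₀)) := by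
  refine transport_iff hQ
    (Algebra.TensorProduct.lid A₀ G).toRingEquiv (e₂ A₀ G C₀).toRingEquiv ?_
  intro x
  rw [Algebra.TensorProduct.algebraMap_apply, Algebra.TensorProduct.algebraMap_apply]
  simp [e₂]

end transport

theorem tensorDescends_smooth : TensorDescends @RingHom.Smooth := by
  intro ι _ _ _ A₀ _ G _ _ f A _ _ g hg hsurj hker C₀ _ _ _ h
  have h' := (iff_of_respectsIso A₀ A C₀ RingHom.Smooth.respectsIso).2 h
  rw [RingHom.smooth_algebraMap] at h'
  obtain ⟨i, hi⟩ := Groth.Agent.Helper29.SmoothStage.smooth_descends f hg hsurj hker A₀ C₀ h'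
  rw [← RingHom.smooth_algebraMap] at hi
  exact ⟨i, (iff_of_respectsIso A₀ (G i) C₀ RingHom.Smooth.respectsIso).1 hi⟩

theorem tensorDescends_etale : TensorDescends @RingHom.Etale := by
  intro ι _ _ _ A₀ _ G _ _ f A _ _ g hg hsurj hker C₀ _ _ _ h
  have h' := (iff_of_respectsIso A₀ A C₀ RingHom.Etale.respectsIso).2 h
  rw [RingHom.etale_algebraMap] at h'
  obtain ⟨i, hi⟩ := Groth.Agent.Helper29.SmoothStage.etale_descends f hg hsurj hker A₀ C₀ h'
  rw [← RingHom.etale_algebraMap] at hi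
  exact ⟨i, (iff_of_respectsIso A₀ (G i) C₀ RingHom.Etale.respectsIso).1 hi⟩

theorem tensorDescends_formallyUnramified : TensorDescends @RingHom.FormallyUnramified := by
  intro ι _ _ _ A₀ _ G _ _ f A _ _ g hg hsurj hker C₀ _ _ _ h
  have h' := (iff_of_respectsIso A₀ A C₀ RingHom.FormallyUnramified.respectsIso).2 h
  rw [RingHom.formallyUnramified_algebraMap] at h'
  obtain ⟨i, hi⟩ := Groth.Agent.Helper29.ColimTensor.unramified_stage f hg hsurj hker A₀ C₀ h'
  have hi' := hi i (AlgHom.id A₀ (G i)) (Groth.Agent.Helper29.ColimTensor.Adm.refl i)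
  rw [← RingHom.formallyUnramified_algebraMap] at hi'
  exact ⟨i, (iff_of_respectsIso A₀ (G i) C₀ RingHom.FormallyUnramified.respectsIso).1 hi'⟩

section cat

variable {Q : ∀ {R S : Type u} [CommRing R] [CommRing S], (R →+* S) → Prop}

/-- two pushouts of the same span have `inr`s that agree up to an isomorphism -/
theorem inr_iff_of_isPushout (hQ : RingHom.RespectsIso @Q) {R S R' P₁ P₂ : CommRingCat.{u}}
    {a : R ⟶ S} {b : R ⟶ R'} {c₁ : S ⟶ P₁} {d₁ : R' ⟶ P₁} {c₂ : S ⟶ P₂} {d₂ : R' ⟶ P₂}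
    (h₁ : IsPushout a b c₁ d₁) (h₂ : IsPushout a b c₂ d₂) : Q d₁.hom ↔ Q d₂.hom := by
  have e : d₂ = d₁ ≫ (h₁.isoIsPushout _ _ h₂).hom := by simp
  rw [e, CommRingCat.hom_comp, hQ.cancel_right_isIso]

/-- the tensor product pushout, with the structure map of the left factor as `inr` -/
theorem isPushout_tensor (R A B : Type u) [CommRing R] [CommRing A] [CommRing B]
    [Algebra R A] [Algebra R B] :
    IsPushout (CommRingCat.ofHom (algebraMap R B)) (CommRingCat.ofHom (algebraMap R A))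
      (CommRingCat.ofHom (Algebra.TensorProduct.includeRight (R := R) (A := A) (B := B)).toRingHom)
      (CommRingCat.ofHom (algebraMap A (A ⊗[R] B))) := by
  have h := (CommRingCat.isPushout_tensorProduct R A B).flip
  convert h using 2

set_option maxHeartbeats 1000000 in
/-- descent to a stage, in terms of a filtered colimit of commutative rings and pushouts -/
theorem exists_stage_of_tensorDescends (hQ : RingHom.RespectsIso @Q) (hD : TensorDescends @Q)
    {J : Type u} [SmallCategory J] [IsFiltered J] (Φ : J ⥤ CommRingCat.{u}) (t : Cocone Φ)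
    (ht : IsColimit t) {R₀ C₀ : CommRingCat.{u}} (γ : R₀ ⟶ C₀) (hγ : γ.hom.FinitePresentation)
    (ρ : ∀ j, R₀ ⟶ Φ.obj j) (hρ : ∀ {j j' : J} (f : j ⟶ j'), ρ j ≫ Φ.map f = ρ j')
    (ρ' : R₀ ⟶ t.pt) (hρ' : ∀ j, ρ j ≫ t.ι.app j = ρ')
    {P : CommRingCat.{u}} {c : C₀ ⟶ P} {d : t.pt ⟶ P} (hP : IsPushout γ ρ' c d) (hd : Q d.hom) :
    ∃ j, Q (pushout.inr γ (ρ j)).hom := by
  obtain ⟨α, _, _, _, F, hF⟩ := IsFiltered.exists_directed J
  letI : Algebra R₀ C₀ := γ.hom.toAlgebra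
  letI instG : ∀ a : α, Algebra R₀ (Φ.obj (F.obj a)) := fun a => (ρ (F.obj a)).hom.toAlgebra
  letI : Algebra R₀ t.pt := ρ'.hom.toAlgebra
  haveI : Algebra.FinitePresentation R₀ C₀ := hγ
  let G : α → Type u := fun a => Φ.obj (F.obj a)
  let f : ∀ a b, a ≤ b → (G a →ₐ[R₀] G b) := fun a b h =>
    { (Φ.map (F.map (homOfLE h))).hom with
      commutes' := fun r => congr($(hρ (F.map (homOfLE h))).hom r) }
  let g : ∀ a, G a →ₐ[R₀] t.pt := fun a =>
    { (t.ι.app (F.obj a)).hom with commutes' := fun r => congr($(hρ' (F.obj a)).hom r) }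
  have hg : ∀ a b (h : a ≤ b), (g b).comp (f a b h) = g a := by
    intro a b h
    ext x
    exact congr($(t.w (F.map (homOfLE h))).hom x)
  have ht' : IsColimit ((forget CommRingCat).mapCocone (t.whisker F)) :=
    isColimitOfPreserves (forget CommRingCat) ((Functor.Final.isColimitWhiskerEquiv F t).symm ht)
  have hsurj : ∀ x : t.pt, ∃ a, ∃ y : G a, g a y = x := by
    intro x
    obtain ⟨a, y, hy⟩ := Types.jointly_surjective_of_isColimit ht' x
    exact ⟨a, y, hy⟩
  have hker : ∀ a (x : G a), g a x = 0 → ∃ b, ∃ h : a ≤ b, f a b h x = 0 := by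
    intro a x hx
    obtain ⟨b, φ, hφ⟩ := (Types.FilteredColimit.isColimit_eq_iff' ht' x (0 : G a)).mp
      (hx.trans (map_zero (g a)).symm)
    exact ⟨b, leOfHom φ, hφ.trans (map_zero (f a b (leOfHom φ)))⟩
  have h1 : Q (algebraMap t.pt (t.pt ⊗[R₀] C₀)) :=
    (inr_iff_of_isPushout hQ hP (isPushout_tensor R₀ t.pt C₀)).1 hd
  obtain ⟨a, ha⟩ := hD R₀ G f t.pt g hg hsurj hker C₀ h1
  refine ⟨F.obj a, ?_⟩
  exact (inr_iff_of_isPushout hQ (isPushout_tensor R₀ (G a) C₀)
    (IsPushout.of_hasPushout γ (ρ (F.obj a)))).1 ha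

end cat

end Groth.Agent.Helper4.LimSmRing
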