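import Mathlib
import Groth.Agent.Lib.Helper4.LimSmRing
import Groth.Agent.Lib.Helper7.LimSep

/-!
# Smooth / étale / unramified morphisms descend to a stage of a cofiltered limit (helper4)
-/

set_option autoImplicit false
universe u
open AlgebraicGeometry CategoryTheory CategoryTheory.Limits

namespace Groth.Agent.Helper4.LimSm

open Groth.Agent.Helper4.LimSmRing

variable {P : MorphismProperty Scheme.{u}}
  {Q : ∀ {R S : Type u} [CommRing R] [CommRing S], (R →+* S) → Prop}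

section affine

variable {K : Type u} [SmallCategory K] [IsCofiltered K] (E : K ⥤ Scheme.{u})
  [∀ k, IsAffine (E.obj k)] (cE : Cone E) (hcE : IsLimit cE)

set_option maxHeartbeats 1000000 in
include hcE in
/-- Step A: the case of a system of affine schemes and an affine scheme over a stage -/
theorem exists_snd_of_isAffine [HasRingHomProperty P Q] (hD : TensorDescends @Q) (k₁ : K)
    {V : Scheme.{u}} [IsAffine V] (g : V ⟶ E.obj k₁) [LocallyOfFinitePresentation g]
    (h : P (pullback.snd g (cE.π.app k₁))) :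
    ∃ (l : K) (ψ : l ⟶ k₁), P (pullback.snd g (E.map ψ)) := by
  have hQ : RingHom.RespectsIso @Q := (HasRingHomProperty.isLocal_ringHomProperty P).respectsIso
  have hpt : IsAffine cE.pt := Scheme.isAffine_of_isLimit _ hcE
  have hpt' : IsAffine (((Functor.const K).obj cE.pt).obj k₁) := hpt
  let E' : Over k₁ ⥤ Scheme.{u} := Over.forget k₁ ⋙ E
  have hE' : ∀ j, IsAffine (E'.op.obj j).unop := fun j => by dsimp [E']; infer_instance
  let cE' : Cone E' := cE.whisker (Over.forget k₁)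
  have hcE' : IsLimit cE' := (Functor.Initial.isLimitWhiskerEquiv (Over.forget k₁) cE).symm hcE
  let Φ : (Over k₁)ᵒᵖ ⥤ CommRingCat.{u} := E'.op ⋙ Scheme.Γ
  let t : Cocone Φ := Scheme.Γ.mapCocone cE'.op
  have ht : IsColimit t := isColimitOfPreserves Scheme.Γ hcE'.op
  have hγ : g.appTop.hom.FinitePresentation :=
    (HasRingHomProperty.iff_of_isAffine (P := @LocallyOfFinitePresentation)).1 inferInstance
  let ρ : ∀ j : (Over k₁)ᵒᵖ, Γ(E.obj k₁, ⊤) ⟶ Φ.obj j := fun j => (E.map j.unop.hom).appTop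
  have hρ : ∀ {j j' : (Over k₁)ᵒᵖ} (f : j ⟶ j'), ρ j ≫ Φ.map f = ρ j' := by
    intro j j' f
    change (E.map j.unop.hom).appTop ≫ (E.map f.unop.left).appTop = (E.map j'.unop.hom).appTop
    rw [← Scheme.Hom.comp_appTop, ← E.map_comp, Over.w]
  have hρ' : ∀ j : (Over k₁)ᵒᵖ, ρ j ≫ t.ι.app j = (cE.π.app k₁).appTop := by
    intro j
    change (E.map j.unop.hom).appTop ≫ (cE.π.app j.unop.left).appTop = (cE.π.app k₁).appTop
    rw [← Scheme.Hom.comp_appTop, cE.w]
  have hd : Q (pullback.snd g (cE.π.app k₁)).appTop.hom :=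
    (HasRingHomProperty.iff_of_isAffine (P := P)).1 h
  obtain ⟨j, hj⟩ := exists_stage_of_tensorDescends hQ hD Φ t ht g.appTop hγ ρ hρ
    (cE.π.app k₁).appTop hρ' (isPushout_appTop_of_isPullback
      (IsPullback.of_hasPullback g (cE.π.app k₁))) hd
  refine ⟨j.unop.left, j.unop.hom, ?_⟩
  rw [HasRingHomProperty.iff_of_isAffine (P := P)]
  exact (inr_iff_of_isPushout hQ (IsPushout.of_hasPushout g.appTop (ρ j))
    (isPushout_appTop_of_isPullback (IsPullback.of_hasPullback g (E.map j.unop.hom)))).1 hj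

end affine

section general

open Groth.Agent.Helper7.LimSep

/-- restricting a base change square to an open of the source -/
theorem isPullback_restrict {X' X Y' Y : Scheme.{u}} {p : X' ⟶ X} {f' : X' ⟶ Y'} {f : X ⟶ Y}
    {q : Y' ⟶ Y} (h : IsPullback p f' f q) (V : X.Opens) :
    IsPullback (p ∣_ V) ((p ⁻¹ᵁ V).ι ≫ f') (V.ι ≫ f) q :=
  (isPullback_morphismRestrict p V).paste_vert h

/-- the hypotheses on the morphism property used below -/
structure Nice (P : MorphismProperty Scheme.{u}) : Prop where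
  bc : P.IsStableUnderBaseChange
  comp : P.IsStableUnderComposition
  oi : ∀ {X Y : Scheme.{u}} (f : X ⟶ Y) [IsOpenImmersion f], P f
  src : IsZariskiLocalAtSource P

theorem Nice.respectsIso (hP : Nice P) : P.RespectsIso :=
  have := hP.bc
  inferInstance

theorem comp_oi_iff (hP : Nice P) {X W Y : Scheme.{u}} (f : X ⟶ W) (ι : W ⟶ Y)
    [IsOpenImmersion ι] : P (f ≫ ι) ↔ P f := by
  have := hP.bc
  have := hP.comp
  constructor
  · intro h
    have hsq : IsPullback (𝟙 X) f (f ≫ ι) ι := IsPullback.of_horiz_isIso_mono ⟨by simp⟩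
    exact MorphismProperty.of_isPullback hsq h
  · intro h
    exact P.comp_mem _ _ h (hP.oi ι)

/-- restricting the target of a base change to an open through which everything factors -/
theorem snd_iff_of_restrict (hP : Nice P) {V W Y W' Y' : Scheme.{u}} (ι : W ⟶ Y)
    [IsOpenImmersion ι] (ι' : W' ⟶ Y') [IsOpenImmersion ι'] (q : Y' ⟶ Y) (q' : W' ⟶ W)
    (hsq : IsPullback q' ι' ι q) (g' : V ⟶ W) :
    P (pullback.snd (g' ≫ ι) q) ↔ P (pullback.snd g' q') := by
  have := hP.respectsIso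
  have H : IsPullback (pullback.fst g' q') (pullback.snd g' q' ≫ ι') (g' ≫ ι) q :=
    ((IsPullback.of_hasPullback g' q').flip.paste_horiz hsq.flip).flip
  rw [← snd_iff_of_isPullback P H, comp_oi_iff hP]

end general

section opens

variable {K : Type u} [SmallCategory K] [IsCofiltered K] (E : K ⥤ Scheme.{u})
  [∀ {i j} (f : i ⟶ j), IsAffineHom (E.map f)] (cE : Cone E) (hcE : IsLimit cE)

set_option backward.isDefEq.respectTransparency false in
include hcE in
/-- Step A': an affine scheme over a stage mapping into an affine open of the stage -/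
theorem exists_snd_of_isAffineOpen [HasRingHomProperty P Q] (hP : Nice P)
    (hD : TensorDescends @Q) (k₁ : K) (W : (E.obj k₁).Opens) (hW : IsAffineOpen W)
    {V : Scheme.{u}} [IsAffine V] (g : V ⟶ E.obj k₁) [LocallyOfFinitePresentation g]
    (hg : Set.range g ⊆ W) (h : P (pullback.snd g (cE.π.app k₁))) :
    ∃ (l : K) (ψ : l ⟶ k₁), P (pullback.snd g (E.map ψ)) := by
  let EW := opensDiagram E k₁ W
  let cW := opensCone E cE k₁ W
  have hcW : IsLimit cW := isLimitOpensCone E cE hcE k₁ W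
  have hEW : ∀ j, IsAffine (EW.obj j) := fun j => hW.preimage _
  let k₁' : Over k₁ := Over.mk (𝟙 k₁)
  let W' : (E.obj k₁).Opens := E.map k₁'.hom ⁻¹ᵁ W
  have hWW' : W' = W := by simp [W', k₁']
  let g' : V ⟶ (W' : Scheme.{u}) := IsOpenImmersion.lift W'.ι g (by
    rw [Scheme.Opens.range_ι, hWW']; exact hg)
  have hg' : g' ≫ W'.ι = g := IsOpenImmersion.lift_fac _ _ _
  have hlfp : LocallyOfFinitePresentation g' :=
    Groth.Agent.Helper7.LfpComp.locallyOfFinitePresentation_of_comp g' W'.ι inferInstance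
      (by rw [hg']; infer_instance)
  have hsqI : IsPullback (cW.π.app k₁') (cE.π.app k₁ ⁻¹ᵁ W).ι W'.ι (cE.π.app k₁) :=
    IsOpenImmersion.isPullback _ _ _ _ (by simp [cW, W', k₁']) (by
      simp [W', k₁'])
  have h' : P (pullback.snd g' (cW.π.app k₁')) := by
    rw [← snd_iff_of_restrict hP W'.ι _ _ _ hsqI g', hg']
    exact h
  obtain ⟨l, ψ, hl⟩ := exists_snd_of_isAffine EW cW hcW hD k₁' (V := V) g' h'
  refine ⟨l.left, ψ.left, ?_⟩
  have hsq : IsPullback (EW.map ψ) (E.map l.hom ⁻¹ᵁ W).ι W'.ι (E.map ψ.left) :=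
    IsOpenImmersion.isPullback _ _ _ _ (by simp [EW, W']) (by
      simp only [Scheme.Opens.opensRange_ι, W', ← Scheme.Hom.comp_preimage, ← E.map_comp]
      rw [Over.w ψ])
  rw [← snd_iff_of_restrict hP W'.ι _ _ _ hsq g', hg'] at hl
  exact hl

include hcE in
/-- a refined form of the basis of affine opens coming from the stages -/
theorem exists_isAffineOpen_le (x : cE.pt) (U : cE.pt.Opens) (hxU : x ∈ U) (i₁ : K)
    (V₁ : (E.obj i₁).Opens) (hxV₁ : cE.π.app i₁ x ∈ V₁) :
    ∃ (i : K) (φ : i ⟶ i₁) (V : (E.obj i).Opens), IsAffineOpen V ∧ V ≤ E.map φ ⁻¹ᵁ V₁ ∧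
      cE.π.app i x ∈ V ∧ cE.π.app i ⁻¹ᵁ V ≤ U := by
  have hx' : x ∈ U ⊓ cE.π.app i₁ ⁻¹ᵁ V₁ := ⟨hxU, hxV₁⟩
  obtain ⟨_, ⟨i₂, V₂, hV₂, rfl⟩, hxV₂, hle⟩ :=
    TopologicalSpace.Opens.isBasis_iff_nbhd.mp (isBasis_preimage_isAffineOpen E cE hcE) hx'
  let i₃ := IsCofiltered.min i₁ i₂
  let a : i₃ ⟶ i₁ := IsCofiltered.minToLeft _ _
  let b : i₃ ⟶ i₂ := IsCofiltered.minToRight _ _
  let V₃ := E.map b ⁻¹ᵁ V₂
  have hV₃ : IsAffineOpen V₃ := hV₂.preimage _
  have e3 : cE.π.app i₃ ⁻¹ᵁ V₃ = cE.π.app i₂ ⁻¹ᵁ V₂ := by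
    rw [← Scheme.Hom.comp_preimage, cE.w]
  have hle3 : cE.π.app i₃ ⁻¹ᵁ V₃ ≤ cE.π.app i₃ ⁻¹ᵁ (E.map a ⁻¹ᵁ V₁) := by
    rw [e3, ← Scheme.Hom.comp_preimage, cE.w]
    exact hle.trans inf_le_right
  obtain ⟨i₄, d, hd⟩ := exists_map_preimage_le_map_preimage E cE hcE hV₃.isCompact hle3
  have e4 : cE.π.app i₄ ⁻¹ᵁ (E.map d ⁻¹ᵁ V₃) = cE.π.app i₂ ⁻¹ᵁ V₂ := by
    rw [← Scheme.Hom.comp_preimage, cE.w, e3]
  refine ⟨i₄, d ≫ a, E.map d ⁻¹ᵁ V₃, hV₃.preimage _, ?_, ?_, ?_⟩
  · rw [E.map_comp, Scheme.Hom.comp_preimage]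
    exact hd
  · change x ∈ cE.π.app i₄ ⁻¹ᵁ (E.map d ⁻¹ᵁ V₃)
    rw [e4]
    exact hxV₂
  · rw [e4]
    exact hle.trans inf_le_left

end opens

section stage

open Groth.Agent.Helper7.LimBC Groth.Agent.Helper7.LimSep

variable {K : Type u} [SmallCategory K] [IsCofiltered K] (E : K ⥤ Scheme.{u})
  [∀ {i j} (f : i ⟶ j), IsAffineHom (E.map f)] (cE : Cone E) (hcE : IsLimit cE)
  (k₀ : K) {X₀ : Scheme.{u}} (f₀ : X₀ ⟶ E.obj k₀)

set_option backward.isDefEq.respectTransparency false in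
omit [IsCofiltered K] [∀ {i j} (f : i ⟶ j), IsAffineHom (E.map f)] in
/-- the base change squares between the stages of the pulled back system -/
theorem isPullback_map {j j' : Over k₀} (φ : j' ⟶ j) :
    IsPullback ((pbDiagram E k₀ f₀).map φ) (pullback.fst (E.map j'.hom) f₀)
      (pullback.fst (E.map j.hom) f₀) (E.map φ.left) := by
  have h1 : IsPullback (pullback.snd (E.map j.hom) f₀) (pullback.fst (E.map j.hom) f₀) f₀
      (E.map j.hom) := (IsPullback.of_hasPullback _ _).flip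
  have h2 : IsPullback (pullback.snd (E.map j'.hom) f₀) (pullback.fst (E.map j'.hom) f₀) f₀
      (E.map j'.hom) := (IsPullback.of_hasPullback _ _).flip
  refine IsPullback.of_right ?_ ?_ h1
  · rw [← E.map_comp, Over.w φ]
    simpa using h2
  · simp

set_option backward.isDefEq.respectTransparency false in
omit [IsCofiltered K] [∀ {i j} (f : i ⟶ j), IsAffineHom (E.map f)] in
/-- the base change squares from the limit to the stages of the pulled back system -/
theorem isPullback_π (j : Over k₀) :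
    IsPullback ((pbCone E cE k₀ f₀).π.app j) (pullback.fst (cE.π.app k₀) f₀)
      (pullback.fst (E.map j.hom) f₀) (cE.π.app j.left) := by
  have h1 : IsPullback (pullback.snd (E.map j.hom) f₀) (pullback.fst (E.map j.hom) f₀) f₀
      (E.map j.hom) := (IsPullback.of_hasPullback _ _).flip
  have h2 : IsPullback (pullback.snd (cE.π.app k₀) f₀) (pullback.fst (cE.π.app k₀) f₀) f₀
      (cE.π.app k₀) := (IsPullback.of_hasPullback _ _).flip
  refine IsPullback.of_right ?_ ?_ h1
  · rw [cE.w]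
    simpa using h2
  · simp

set_option backward.isDefEq.respectTransparency false in
include hcE in
/-- the pointwise core: if `P` holds near a point of the limit, it holds near its image at
some stage -/
theorem exists_nhd_stage [HasRingHomProperty P Q] (hP : Nice P) (hD : TensorDescends @Q)
    [LocallyOfFinitePresentation f₀] (x : ↥(pullback (cE.π.app k₀) f₀))
    (U : (pullback (cE.π.app k₀) f₀).Opens) (hxU : x ∈ U)
    (h : P (U.ι ≫ pullback.fst (cE.π.app k₀) f₀)) :
    ∃ (j : Over k₀) (V : (pullback (E.map j.hom) f₀).Opens),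
      (pbCone E cE k₀ f₀).π.app j x ∈ V ∧ P (V.ι ≫ pullback.fst (E.map j.hom) f₀) := by
  have := hP.respectsIso
  have := hP.src
  let F := pbDiagram E k₀ f₀
  let cF := pbCone E cE k₀ f₀
  have hcF : IsLimit cF := isLimitPbCone E cE hcE k₀ f₀
  let j₀ : Over k₀ := Over.mk (𝟙 k₀)
  let t₀ : F.obj j₀ ⟶ E.obj k₀ := pullback.fst (E.map j₀.hom) f₀ ≫ E.map j₀.hom
  obtain ⟨_, ⟨W₀, hW₀, rfl⟩, he₀, -⟩ := (E.obj k₀).isBasis_affineOpens.exists_subset_of_mem_open
    (Set.mem_univ ((cF.π.app j₀ ≫ t₀) x)) isOpen_univ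
  let V₁ : (F.obj j₀).Opens := t₀ ⁻¹ᵁ W₀
  have hxV₁ : cF.π.app j₀ x ∈ V₁ := by
    change t₀ (cF.π.app j₀ x) ∈ W₀
    rw [← Scheme.Hom.comp_apply]
    exact he₀
  obtain ⟨j, φ, V, hV, hVle, hxV, hVU⟩ := exists_isAffineOpen_le F cF hcF x U hxU j₀ V₁ hxV₁
  let fj : F.obj j ⟶ E.obj j.left := pullback.fst (E.map j.hom) f₀
  let Wj : (E.obj j.left).Opens := E.map j.hom ⁻¹ᵁ W₀
  have hWj : IsAffineOpen Wj := hW₀.preimage _
  have hVaff : IsAffine (V : Scheme.{u}) := hV
  have hfj : LocallyOfFinitePresentation fj :=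
    MorphismProperty.pullback_fst (P := @LocallyOfFinitePresentation) _ _ inferInstance
  let g : (V : Scheme.{u}) ⟶ E.obj j.left := V.ι ≫ fj
  have hglfp : LocallyOfFinitePresentation g := inferInstance
  have et : F.map φ ≫ t₀ = fj ≫ E.map j.hom := by
    have e1 : F.map φ ≫ pullback.fst (E.map j₀.hom) f₀ = fj ≫ E.map φ.left := by
      simp [F, fj]
    have e2 : E.map φ.left ≫ E.map j₀.hom = E.map j.hom := by
      rw [← E.map_comp, Over.w φ]
    simp only [t₀]
    rw [reassoc_of% e1, e2]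
  have hg : Set.range g ⊆ Wj := by
    rintro _ ⟨y, rfl⟩
    have h1 : (F.map φ) y.1 ∈ V₁ := hVle y.2
    change t₀ ((F.map φ) y.1) ∈ W₀ at h1
    rw [← Scheme.Hom.comp_apply, et] at h1
    exact h1
  have hPg : P (pullback.snd g (cE.π.app j.left)) := by
    have h1 : P ((cF.π.app j ⁻¹ᵁ V).ι ≫ pullback.fst (cE.π.app k₀) f₀) := by
      have := IsZariskiLocalAtSource.comp (P := P) h (Scheme.homOfLE _ hVU)
      simpa using this
    exact (snd_iff_of_isPullback P (isPullback_restrict (isPullback_π E cE k₀ f₀ j) V)).1 h1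
  obtain ⟨l, ψ, hl⟩ := exists_snd_of_isAffineOpen E cE hcE hP hD j.left Wj hWj g hg hPg
  let j' : Over k₀ := Over.mk (ψ ≫ j.hom)
  let φ' : j' ⟶ j := Over.homMk ψ
  refine ⟨j', F.map φ' ⁻¹ᵁ V, ?_, ?_⟩
  · change (F.map φ') (cF.π.app j' x) ∈ V
    rw [← Scheme.Hom.comp_apply, cF.w φ']
    exact hxV
  · exact (snd_iff_of_isPullback P (isPullback_restrict (isPullback_map E k₀ f₀ φ') V)).2 hl

end stage

end Groth.Agent.Helper4.LimSm
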