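import Mathlib
import Groth.Agent.Lib.Helper4.LimSm
import Groth.Agent.Lib.Helper4.LimStage

/-!
# Smooth / étale / unramified morphisms descend to a stage of a cofiltered limit, II (helper4)
-/

set_option autoImplicit false
universe u
open AlgebraicGeometry CategoryTheory CategoryTheory.Limits

namespace Groth.Agent.Helper4.LimSm

open Groth.Agent.Helper4.LimSmRing Groth.Agent.Helper7.LimBC Groth.Agent.Helper7.LimSep

variable {P : MorphismProperty Scheme.{u}}
  {Q : ∀ {R S : Type u} [CommRing R] [CommRing S], (R →+* S) → Prop}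

section locus

/-- the largest open of the source on which `P` holds -/
def locus (P : MorphismProperty Scheme.{u}) {X Y : Scheme.{u}} (f : X ⟶ Y) : X.Opens :=
  sSup {V : X.Opens | P (V.ι ≫ f)}

theorem le_locus {X Y : Scheme.{u}} (f : X ⟶ Y) {V : X.Opens} (h : P (V.ι ≫ f)) :
    V ≤ locus P f := le_sSup h

theorem locus_spec (hP : Nice P) {X Y : Scheme.{u}} (f : X ⟶ Y) :
    P ((locus P f).ι ≫ f) := by
  have := hP.src
  let S := {V : X.Opens | P (V.ι ≫ f)}
  refine IsZariskiLocalAtSource.of_iSup_eq_top (P := P)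
    (fun V : S => (locus P f).ι ⁻¹ᵁ V.1) ?_ ?_
  · rw [eq_top_iff]
    rintro ⟨y, hy⟩ -
    obtain ⟨V, hV, hyV⟩ : ∃ V : X.Opens, P (V.ι ≫ f) ∧ y ∈ V := by
      simpa [locus, TopologicalSpace.Opens.mem_sSup] using hy
    exact TopologicalSpace.Opens.mem_iSup.mpr ⟨⟨V, hV⟩, hyV⟩
  · rintro ⟨V, hV⟩
    have e : ((locus P f).ι ⁻¹ᵁ V).ι ≫ (locus P f).ι = ((locus P f).ι ∣_ V) ≫ V.ι :=
      (morphismRestrict_ι _ _).symm
    rw [reassoc_of% e]
    exact IsZariskiLocalAtSource.comp (P := P) hV _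

theorem locus_eq_top_iff (hP : Nice P) {X Y : Scheme.{u}} (f : X ⟶ Y) :
    locus P f = ⊤ ↔ P f := by
  have := hP.respectsIso
  have := hP.src
  constructor
  · intro h
    have h1 := locus_spec hP f
    rw [h] at h1
    have : IsIso (⊤ : X.Opens).ι := inferInstanceAs (IsIso (Scheme.topIso X).hom)
    exact (P.cancel_left_of_respectsIso (⊤ : X.Opens).ι f).1 h1
  · intro h
    rw [eq_top_iff]
    exact le_locus f (IsZariskiLocalAtSource.comp (P := P) h _)

end locus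

section global

variable {K : Type u} [SmallCategory K] [IsCofiltered K] (E : K ⥤ Scheme.{u})
  [∀ {i j} (f : i ⟶ j), IsAffineHom (E.map f)] (cE : Cone E) (hcE : IsLimit cE)
  (k₀ : K) {X₀ : Scheme.{u}} (f₀ : X₀ ⟶ E.obj k₀)

omit [IsCofiltered K] [∀ {i j} (f : i ⟶ j), IsAffineHom (E.map f)] in
theorem preimage_locus_le (hP : Nice P) {j j' : Over k₀} (φ : j' ⟶ j) :
    (pbDiagram E k₀ f₀).map φ ⁻¹ᵁ locus P (pullback.fst (E.map j.hom) f₀) ≤
      locus P (pullback.fst (E.map j'.hom) f₀) := by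
  have := hP.bc
  exact le_locus _ (MorphismProperty.of_isPullback
    (isPullback_restrict (isPullback_map E k₀ f₀ φ) _) (locus_spec hP _))

set_option backward.isDefEq.respectTransparency false in
include hcE in
/-- the global version: if the base change to the limit has `P` and the source is quasi-compact,
then the base change to some stage has `P` -/
theorem exists_fst_stage [HasRingHomProperty P Q] (hP : Nice P) (hD : TensorDescends @Q)
    [LocallyOfFinitePresentation f₀] [CompactSpace X₀]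
    (h : P (pullback.fst (cE.π.app k₀) f₀)) :
    ∃ j : Over k₀, P (pullback.fst (E.map j.hom) f₀) := by
  have := hP.respectsIso
  have := hP.src
  let F := pbDiagram E k₀ f₀
  let cF := pbCone E cE k₀ f₀
  have hcF : IsLimit cF := isLimitPbCone E cE hcE k₀ f₀
  have hFc : ∀ j, CompactSpace (F.obj j) := fun j => inferInstance
  have hXc : CompactSpace cF.pt := Scheme.compactSpace_of_isLimit F cF hcF
  let L : ∀ j : Over k₀, (F.obj j).Opens := fun j => locus P (pullback.fst (E.map j.hom) f₀)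
  have hLmap : ∀ {j j' : Over k₀} (φ : j' ⟶ j), F.map φ ⁻¹ᵁ L j ≤ L j' :=
    fun φ => preimage_locus_le E k₀ f₀ hP φ
  let U : Over k₀ → Set cF.pt := fun j => ((cF.π.app j ⁻¹ᵁ L j : cF.pt.Opens) : Set cF.pt)
  have hUmono : ∀ {j j' : Over k₀} (φ : j' ⟶ j), U j ⊆ U j' := by
    intro j j' φ y hy
    have h1 : (F.map φ) (cF.π.app j' y) ∈ L j := by
      rw [← Scheme.Hom.comp_apply, cF.w]
      exact hy
    exact hLmap φ h1
  have hcov : (Set.univ : Set cF.pt) ⊆ ⋃ j, U j := by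
    intro x _
    obtain ⟨j, V, hxV, hV⟩ := exists_nhd_stage E cE hcE k₀ f₀ hP hD x ⊤ trivial
      (IsZariskiLocalAtSource.comp (P := P) h _)
    exact Set.mem_iUnion.mpr ⟨j, le_locus _ hV hxV⟩
  have hdir : Directed (· ⊆ ·) U := fun j₁ j₂ =>
    ⟨IsCofiltered.min j₁ j₂, hUmono (IsCofiltered.minToLeft _ _),
      hUmono (IsCofiltered.minToRight _ _)⟩
  haveI : Nonempty (Over k₀) := ⟨Over.mk (𝟙 k₀)⟩
  obtain ⟨j, hj⟩ := isCompact_univ.elim_directed_cover U
    (fun j => (cF.π.app j ⁻¹ᵁ L j).2) hcov hdir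
  have hj' : cF.π.app j ⁻¹ᵁ L j = ⊤ := by
    rw [eq_top_iff]
    exact fun y _ => hj (Set.mem_univ y)
  obtain ⟨j', φ, hφ⟩ := exists_map_eq_top F cF hcF (L j) hj'
  refine ⟨j', (locus_eq_top_iff hP _).1 ?_⟩
  rw [eq_top_iff, ← hφ]
  exact hLmap φ

end global

section main

variable {I : Type u} [SmallCategory I] [IsCofiltered I] (D : I ⥤ Scheme.{u})
  [∀ {i j} (f : i ⟶ j), IsAffineHom (D.map f)] (c : Cone D) (hc : IsLimit c)

set_option backward.isDefEq.respectTransparency false in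
include hc in
/-- descent of `P` to a stage, canonical pullback form -/
theorem exists_snd_snd_stage [HasRingHomProperty P Q] (hP : Nice P) (hD : TensorDescends @Q)
    (i₀ : I) {X₀ Y₀ : Scheme.{u}} (f₀ : X₀ ⟶ Y₀) (g₀ : Y₀ ⟶ D.obj i₀)
    [LocallyOfFinitePresentation f₀] [CompactSpace X₀]
    (h : P (pullback.snd f₀ (pullback.snd (c.π.app i₀) g₀))) :
    ∃ (j : I) (φ : j ⟶ i₀), P (pullback.snd f₀ (pullback.snd (D.map φ) g₀)) := by
  have := hP.respectsIso
  let E := pbDiagram D i₀ g₀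
  let cE := pbCone D c i₀ g₀
  have hcE : IsLimit cE := isLimitPbCone D c hc i₀ g₀
  let k₀ : Over i₀ := Over.mk (𝟙 i₀)
  have hiso : IsIso (D.map k₀.hom) := inferInstanceAs (IsIso (D.map (𝟙 i₀)))
  let p₀ : E.obj k₀ ⟶ Y₀ := pullback.snd (D.map k₀.hom) g₀
  have hp₀ : IsIso p₀ := inferInstance
  let ι₀ : X₀ ⟶ E.obj k₀ := f₀ ≫ inv p₀
  have hB : IsPullback (𝟙 X₀) ι₀ f₀ p₀ := IsPullback.of_horiz_isIso ⟨by simp [ι₀]⟩
  have hι₀ : LocallyOfFinitePresentation ι₀ := inferInstance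
  have key : ∀ {T : Scheme.{u}} (u : T ⟶ E.obj k₀),
      P (pullback.fst u ι₀) ↔ P (pullback.snd f₀ (u ≫ p₀)) := by
    intro T u
    have := (IsPullback.of_hasPullback u ι₀).flip.paste_horiz hB
    rw [Category.comp_id] at this
    exact snd_iff_of_isPullback P this
  have e1 : cE.π.app k₀ ≫ p₀ = pullback.snd (c.π.app i₀) g₀ := by simp [cE, p₀]
  have h' : P (pullback.fst (cE.π.app k₀) ι₀) := by
    rw [key, e1]; exact h
  obtain ⟨j, hj⟩ := exists_fst_stage E cE hcE k₀ ι₀ hP hD h'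
  refine ⟨j.left.left, j.left.hom, ?_⟩
  have e2 : E.map j.hom ≫ p₀ = pullback.snd (D.map j.left.hom) g₀ := by simp [E, p₀]
  rw [key, e2] at hj
  exact hj

omit [IsCofiltered I] [∀ {i j} (f : i ⟶ j), IsAffineHom (D.map f)] in
/-- canonical form of the base change to the limit -/
theorem canonical_of_limit (P : MorphismProperty Scheme.{u}) [P.RespectsIso] (i₀ : I)
    {X₀ Y₀ : Scheme.{u}} (f₀ : X₀ ⟶ Y₀) (g₀ : Y₀ ⟶ D.obj i₀)
    {X Y : Scheme.{u}} (f : X ⟶ Y) (g : Y ⟶ c.pt) (qY : Y ⟶ Y₀) (qX : X ⟶ X₀)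
    (hY : IsPullback qY g g₀ (c.π.app i₀)) (hX : IsPullback qX f f₀ qY) (h : P f) :
    P (pullback.snd f₀ (pullback.snd (c.π.app i₀) g₀)) := by
  let e : Y ≅ pullback (c.π.app i₀) g₀ := hY.flip.isoPullback
  have he : e.hom ≫ pullback.snd (c.π.app i₀) g₀ = qY := hY.flip.isoPullback_hom_snd
  have h1 : IsPullback qX (f ≫ e.hom) f₀ (pullback.snd (c.π.app i₀) g₀) := by
    refine IsPullback.of_iso hX (Iso.refl _) (Iso.refl _) e (Iso.refl _) (by simp) (by simp)
      (by simp) (by simp [he])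
  exact (snd_iff_of_isPullback P h1).1 ((P.cancel_right_of_respectsIso f e.hom).2 h)

include hc in
/-- descent of `P` to a stage, existential form -/
theorem exists_stage [HasRingHomProperty P Q] (hP : Nice P) (hD : TensorDescends @Q)
    (i₀ : I) {X₀ Y₀ : Scheme.{u}} (f₀ : X₀ ⟶ Y₀) (g₀ : Y₀ ⟶ D.obj i₀)
    [LocallyOfFinitePresentation f₀] [CompactSpace X₀]
    {X Y : Scheme.{u}} (f : X ⟶ Y) (g : Y ⟶ c.pt) (qY : Y ⟶ Y₀) (qX : X ⟶ X₀)
    (hY : IsPullback qY g g₀ (c.π.app i₀)) (hX : IsPullback qX f f₀ qY) (h : P f) :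
    ∃ (i : I) (φ : i ⟶ i₀) (Xi Yi : Scheme.{u}) (fi : Xi ⟶ Yi) (gi : Yi ⟶ D.obj i) (pY : Yi ⟶ Y₀)
      (pX : Xi ⟶ X₀), IsPullback pY gi g₀ (D.map φ) ∧ IsPullback pX fi f₀ pY ∧ P fi := by
  have := hP.respectsIso
  exact Groth.Agent.Helper4.LimStage.stage_form D P i₀ f₀ g₀
    (exists_snd_snd_stage D c hc hP hD i₀ f₀ g₀
      (canonical_of_limit D c P i₀ f₀ g₀ f g qY qX hY hX h))

include hc in
/-- `P` holds for the base change to the limit iff it holds for the base change to a stage -/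
theorem iff_stage [HasRingHomProperty P Q] (hP : Nice P) (hD : TensorDescends @Q)
    (i₀ : I) {X₀ Y₀ : Scheme.{u}} (f₀ : X₀ ⟶ Y₀) (g₀ : Y₀ ⟶ D.obj i₀)
    [LocallyOfFinitePresentation g₀] [LocallyOfFinitePresentation (f₀ ≫ g₀)] [CompactSpace X₀]
    {X Y : Scheme.{u}} (f : X ⟶ Y) (g : Y ⟶ c.pt) (qY : Y ⟶ Y₀) (qX : X ⟶ X₀)
    (hY : IsPullback qY g g₀ (c.π.app i₀)) (hX : IsPullback qX f f₀ qY) :
    P f ↔ ∃ (i : I) (φ : i ⟶ i₀) (Xi Yi : Scheme.{u}) (fi : Xi ⟶ Yi) (gi : Yi ⟶ D.obj i)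
      (pY : Yi ⟶ Y₀) (pX : Xi ⟶ X₀), IsPullback pY gi g₀ (D.map φ) ∧ IsPullback pX fi f₀ pY ∧
        P fi := by
  have := hP.bc
  have hf₀ : LocallyOfFinitePresentation f₀ :=
    Groth.Agent.Helper7.LfpComp.locallyOfFinitePresentation_of_comp f₀ g₀ inferInstance
      inferInstance
  constructor
  · exact exists_stage D c hc hP hD i₀ f₀ g₀ f g qY qX hY hX
  · rintro ⟨j, φ, Xj, Yj, fj, gj, pY, pX, hYj, hXj, h⟩
    exact isSeparated_of_stage D c i₀ f₀ g₀ f g qY qX hY hX φ fj gj pY pX hYj hXj P h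

end main

section instances

theorem nice_smooth : Nice @Smooth.{u} :=
  ⟨inferInstance, inferInstance, fun f _ => inferInstance, inferInstance⟩

theorem nice_etale : Nice @Etale.{u} :=
  ⟨inferInstance, inferInstance, fun f _ => inferInstance, inferInstance⟩

theorem nice_formallyUnramified : Nice @FormallyUnramified.{u} :=
  ⟨inferInstance, inferInstance, fun f _ => inferInstance, inferInstance⟩

end instances

end Groth.Agent.Helper4.LimSm
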