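import Mathlib

/-!
# Extending rational maps from normal curves to proper schemes (helper4)
-/

set_option autoImplicit false
universe u
open AlgebraicGeometry CategoryTheory CategoryTheory.Limits

namespace Groth.Agent.Helper4.CurveExt

/-- a Noetherian integrally closed local domain of dimension one is a discrete valuation ring -/
theorem isDiscreteValuationRing_of_dim_one (A : Type u) [CommRing A] [IsDomain A]
    [IsNoetherianRing A] [IsLocalRing A] [IsIntegrallyClosed A] (h : ringKrullDim A = 1) :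
    IsDiscreteValuationRing A := by
  have hnf : ¬ IsField A := fun hf => by
    have := ringKrullDim_eq_zero_of_isField hf
    rw [h] at this
    exact one_ne_zero this
  have hdim : Ring.KrullDimLE 1 A := Ring.krullDimLE_iff.mpr h.le
  have h30 := (IsDiscreteValuationRing.TFAE A hnf).out 3 0
  refine h30.mp ⟨inferInstance, IsLocalRing.maximalIdeal A, ⟨?_, inferInstance⟩, ?_⟩
  · exact IsLocalRing.isField_iff_maximalIdeal_eq.not.mp hnf
  · rintro P ⟨hP0, hP⟩
    exact IsLocalRing.eq_maximalIdeal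
      ((Ring.krullDimLE_one_iff_of_noZeroDivisors.mp hdim) P hP0 hP)

set_option backward.isDefEq.respectTransparency false in
/-- local extension on an integral scheme at a point whose local ring is a valuation ring -/
theorem exists_extension_of_valuationRing {W Y S : Scheme.{u}} [IsIntegral W] (pW : W ⟶ S)
    (pY : Y ⟶ S) [LocallyOfFiniteType pY] [IsSeparated pY] [UniversallyClosed pY]
    (U : W.Opens) (hU : (U : Set W).Nonempty) (g : (U : Scheme.{u}) ⟶ Y)
    (hg : g ≫ pY = U.ι ≫ pW) (x : W) [ValuationRing (W.presheaf.stalk x)] :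
    ∃ (V : W.Opens) (v : (V : Scheme.{u}) ⟶ Y), x ∈ V ∧ v ≫ pY = V.ι ≫ pW ∧
      W.homOfLE (inf_le_right : U ⊓ V ≤ V) ≫ v = W.homOfLE (inf_le_left : U ⊓ V ≤ U) ≫ g := by
  let ξ := genericPoint W
  have hξx : ξ ⤳ x := (genericPoint_spec W).specializes trivial
  have hξU : ξ ∈ U :=
    ((genericPoint_spec W).mem_open_set_iff U.isOpen).mpr (by simpa using hU)
  have hrange : ∀ (T : W.Opens), ξ ∈ T → Set.range (W.fromSpecStalk ξ) ⊆ Set.range T.ι := by
    intro T hT
    rw [Scheme.Opens.range_ι, Scheme.range_fromSpecStalk]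
    intro y hy
    exact hy.mem_open T.isOpen hT
  let j : Spec (W.presheaf.stalk ξ) ⟶ U := IsOpenImmersion.lift U.ι (W.fromSpecStalk ξ)
    (hrange U hξU)
  have hj : j ≫ U.ι = W.fromSpecStalk ξ := IsOpenImmersion.lift_fac _ _ _
  have hAK : Spec.map (CommRingCat.ofHom (algebraMap (W.presheaf.stalk x) W.functionField)) ≫
      W.fromSpecStalk x = W.fromSpecStalk ξ :=
    Scheme.SpecMap_stalkSpecializes_fromSpecStalk hξx
  let sq : ValuativeCommSq pY :=
    { R := W.presheaf.stalk x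
      K := W.functionField
      i₁ := j ≫ g
      i₂ := W.fromSpecStalk x ≫ pW
      commSq := ⟨by rw [Category.assoc, hg, reassoc_of% hj, ← reassoc_of% hAK]⟩ }
  have hex : ValuativeCriterion.Existence pY := by
    have h := ‹UniversallyClosed pY›
    rw [UniversallyClosed.eq_valuativeCriterion] at h
    exact h.1
  obtain ⟨⟨ℓ, hℓ1, hℓ2⟩⟩ := (hex sq).exists_lift
  obtain ⟨V, hxV, v, hv1, hv2⟩ := spread_out_of_isGermInjective' pW pY ℓ hℓ2
  refine ⟨V, v, hxV, hv2, ?_⟩
  have hξV : ξ ∈ V := hξx.mem_open V.isOpen hxV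
  let T : W.Opens := U ⊓ V
  have hξT : ξ ∈ T := ⟨hξU, hξV⟩
  let ι : Spec (W.presheaf.stalk ξ) ⟶ T := IsOpenImmersion.lift T.ι (W.fromSpecStalk ξ)
    (hrange T hξT)
  have hι : ι ≫ T.ι = W.fromSpecStalk ξ := IsOpenImmersion.lift_fac _ _ _
  have hdom : IsDominant (ι ≫ T.ι) := by
    rw [hι]
    refine ⟨?_⟩
    rw [DenseRange, Scheme.range_fromSpecStalk]
    refine Dense.mono ?_ (dense_iff_closure_eq.mpr (genericPoint_spec W))
    intro y hy
    rw [Set.mem_singleton_iff] at hy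
    subst hy
    exact specializes_rfl
  haveI : IsDominant ι := IsDominant.of_comp_of_isOpenImmersion ι T.ι
  refine ext_of_isDominant_of_isSeparated pY ?_ ι ?_
  · rw [Category.assoc, Category.assoc, hv2, hg]
    simp
  · have e1 : ι ≫ W.homOfLE (inf_le_right : U ⊓ V ≤ V) =
        Spec.map (CommRingCat.ofHom (algebraMap (W.presheaf.stalk x) W.functionField)) ≫
          V.fromSpecStalkOfMem x hxV := by
      rw [← cancel_mono V.ι]
      simp only [Category.assoc, Scheme.homOfLE_ι, Scheme.Opens.fromSpecStalkOfMem_ι]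
      rw [hAK]
      exact hι
    have e2 : ι ≫ W.homOfLE (inf_le_left : U ⊓ V ≤ U) = j := by
      rw [← cancel_mono U.ι]
      simp only [Category.assoc, Scheme.homOfLE_ι]
      rw [hj]
      exact hι
    rw [reassoc_of% e1, ← hv1, reassoc_of% e2]
    exact hℓ1

section glue

variable {X Y S : Scheme.{u}} (pX : X ⟶ S) (pY : Y ⟶ S)

omit pX pY in
/-- agreement on the intersection, in a form about arbitrary test schemes -/
theorem agree_of_homOfLE {U V : X.Opens} {g : (U : Scheme.{u}) ⟶ Y} {v : (V : Scheme.{u}) ⟶ Y}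
    (h : X.homOfLE (inf_le_right : U ⊓ V ≤ V) ≫ v = X.homOfLE (inf_le_left : U ⊓ V ≤ U) ≫ g)
    {Q : Scheme.{u}} (a : Q ⟶ U) (b : Q ⟶ V) (hab : a ≫ U.ι = b ≫ V.ι) : b ≫ v = a ≫ g := by
  let e : Q ⟶ (U ⊓ V : X.Opens) := IsOpenImmersion.lift (U ⊓ V).ι (a ≫ U.ι) (by
    rw [Scheme.Opens.range_ι]
    rintro _ ⟨q, rfl⟩
    refine ⟨?_, ?_⟩
    · rw [Scheme.Hom.comp_apply]
      exact (a q).2
    · rw [hab, Scheme.Hom.comp_apply]
      exact (b q).2)
  have he : e ≫ (U ⊓ V).ι = a ≫ U.ι := IsOpenImmersion.lift_fac _ _ _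
  have ea : a = e ≫ X.homOfLE inf_le_left := by
    rw [← cancel_mono U.ι, Category.assoc, Scheme.homOfLE_ι, he]
  have eb : b = e ≫ X.homOfLE inf_le_right := by
    rw [← cancel_mono V.ι, Category.assoc, Scheme.homOfLE_ι, he, hab]
  rw [ea, eb, Category.assoc, Category.assoc, h]

/-- gluing local extensions of a morphism defined on a dense open of a reduced scheme -/
theorem existsUnique_extension_of_local [IsReduced X] [IsSeparated pY]
    (U : X.Opens) (hU : Dense (U : Set X)) (g : (U : Scheme.{u}) ⟶ Y) (hg : g ≫ pY = U.ι ≫ pX)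
    (hloc : ∀ x : X, ∃ (V : X.Opens) (v : (V : Scheme.{u}) ⟶ Y), x ∈ V ∧ v ≫ pY = V.ι ≫ pX ∧
      ∀ {Q : Scheme.{u}} (a : Q ⟶ U) (b : Q ⟶ V), a ≫ U.ι = b ≫ V.ι → b ≫ v = a ≫ g) :
    ∃! g' : X ⟶ Y, U.ι ≫ g' = g ∧ g' ≫ pY = pX := by
  choose V v hxV hv1 hv2 using hloc
  have hcov : TopologicalSpace.IsOpenCover V := by
    refine TopologicalSpace.IsOpenCover.mk (eq_top_iff.mpr fun x _ => ?_)
    exact TopologicalSpace.Opens.mem_iSup.mpr ⟨x, hxV x⟩
  let 𝒰 : X.OpenCover := X.openCoverOfIsOpenCover V hcov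
  have compat : ∀ x y : X, pullback.fst (𝒰.f x) (𝒰.f y) ≫ v x = pullback.snd _ _ ≫ v y := by
    intro x y
    change pullback.fst (V x).ι (V y).ι ≫ v x = pullback.snd (V x).ι (V y).ι ≫ v y
    let d : pullback (V x).ι (V y).ι ⟶ X := pullback.fst (V x).ι (V y).ι ≫ (V x).ι
    have hred : IsReduced (pullback (V x).ι (V y).ι) := isReduced_of_isOpenImmersion d
    let ι : pullback d U.ι ⟶ pullback (V x).ι (V y).ι := pullback.fst d U.ι
    have hdom : IsDominant ι := by
      refine ⟨?_⟩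
      rw [DenseRange, Scheme.Pullback.range_fst, Scheme.Opens.range_ι]
      exact hU.preimage d.isOpenEmbedding.isOpenMap
    refine ext_of_isDominant_of_isSeparated pY ?_ ι ?_
    · rw [Category.assoc, Category.assoc, hv1, hv1, pullback.condition_assoc]
    · have h1 := hv2 x (pullback.snd d U.ι) (ι ≫ pullback.fst (V x).ι (V y).ι) (by
        rw [Category.assoc]; exact pullback.condition.symm)
      have h2 := hv2 y (pullback.snd d U.ι) (ι ≫ pullback.snd (V x).ι (V y).ι) (by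
        rw [Category.assoc, ← pullback.condition (f := (V x).ι) (g := (V y).ι)]
        exact pullback.condition.symm)
      rw [Category.assoc] at h1 h2
      rw [h1, h2]
  let g' : X ⟶ Y := 𝒰.glueMorphisms v compat
  have hg' : ∀ x, (V x).ι ≫ g' = v x := fun x => 𝒰.ι_glueMorphisms v compat x
  have hg'p : g' ≫ pY = pX := by
    refine Scheme.Cover.hom_ext 𝒰 _ _ fun x => ?_
    change (V x).ι ≫ g' ≫ pY = (V x).ι ≫ pX
    rw [reassoc_of% hg' x, hv1]
  have hg'U : U.ι ≫ g' = g := by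
    refine Scheme.Cover.hom_ext (𝒰.pullback₁ U.ι) _ _ fun x => ?_
    change pullback.fst U.ι (V x).ι ≫ U.ι ≫ g' = pullback.fst U.ι (V x).ι ≫ g
    rw [pullback.condition_assoc, hg']
    exact hv2 x _ _ pullback.condition
  refine ⟨g', ⟨hg'U, hg'p⟩, ?_⟩
  rintro g'' ⟨h1, h2⟩
  haveI : IsDominant U.ι := Opens.isDominant_ι hU
  exact ext_of_isDominant_of_isSeparated pY (h2.trans hg'p.symm) U.ι (h1.trans hg'U.symm)

end glue

set_option backward.isDefEq.respectTransparency false in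
/-- local extension at a point of a locally Noetherian scheme whose local ring is a valuation
ring -/
theorem exists_local_extension {X Y S : Scheme.{u}} [IsLocallyNoetherian X] (pX : X ⟶ S)
    (pY : Y ⟶ S) [LocallyOfFiniteType pY] [IsSeparated pY] [UniversallyClosed pY]
    (U : X.Opens) (hU : Dense (U : Set X)) (g : (U : Scheme.{u}) ⟶ Y)
    (hg : g ≫ pY = U.ι ≫ pX) (x : X) [IsDomain (X.presheaf.stalk x)]
    [ValuationRing (X.presheaf.stalk x)] :
    ∃ (V : X.Opens) (v : (V : Scheme.{u}) ⟶ Y), x ∈ V ∧ v ≫ pY = V.ι ≫ pX ∧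
      ∀ {Q : Scheme.{u}} (a : Q ⟶ U) (b : Q ⟶ V), a ≫ U.ι = b ≫ V.ι → b ≫ v = a ≫ g := by
  obtain ⟨W, hxW, hW, hinj⟩ := X.exists_germ_injective x
  haveI : IsAffine (W : Scheme.{u}) := hW
  haveI : Nonempty (W : Scheme.{u}) := ⟨⟨x, hxW⟩⟩
  haveI h1 : IsDomain Γ(X, W) := hinj.isDomain (X.presheaf.germ W x hxW).hom
  haveI h2 : IsDomain Γ((W : Scheme.{u}), ⊤) :=
    (W.topIso.commRingCatIsoToRingEquiv).injective.isDomain
      (W.topIso.commRingCatIsoToRingEquiv : Γ((W : Scheme.{u}), ⊤) →+* Γ(X, W))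
  haveI : IsIntegral (W : Scheme.{u}) := isIntegral_of_isAffine_of_isDomain _
  let x' : (W : Scheme.{u}) := ⟨x, hxW⟩
  haveI : PreValuationRing (X.presheaf.stalk (W.ι x')) :=
    inferInstanceAs (PreValuationRing (X.presheaf.stalk x))
  haveI : ValuationRing ((W : Scheme.{u}).presheaf.stalk x') :=
    Function.Surjective.valuationRing (W.ι.stalkMap x').hom
      (ConcreteCategory.bijective_of_isIso (W.ι.stalkMap x')).2
  let UW : (W : Scheme.{u}).Opens := W.ι ⁻¹ᵁ U
  have hUW : (UW : Set (W : Scheme.{u})).Nonempty := by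
    obtain ⟨y, hyW, hyU⟩ := hU.inter_open_nonempty W W.isOpen ⟨x, hxW⟩
    exact ⟨⟨y, hyW⟩, hyU⟩
  let gW : (UW : Scheme.{u}) ⟶ Y := (W.ι ∣_ U) ≫ g
  have hgW : gW ≫ pY = UW.ι ≫ W.ι ≫ pX := by
    simp only [gW, Category.assoc, hg]
    rw [morphismRestrict_ι_assoc]
  obtain ⟨V', v', hxV', hv1, hv2⟩ :=
    exists_extension_of_valuationRing (W.ι ≫ pX) pY UW hUW gW hgW x'
  let e := W.ι.isoImage V'
  refine ⟨W.ι ''ᵁ V', e.inv ≫ v', ⟨x', hxV', rfl⟩, ?_, ?_⟩
  · rw [Category.assoc, hv1]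
    exact W.ι.isoImage_inv_ι_assoc V' pX
  · intro Q a b hab
    let b' : Q ⟶ (V' : Scheme.{u}) := b ≫ e.inv
    have hb' : b' ≫ V'.ι ≫ W.ι = b ≫ (W.ι ''ᵁ V').ι := by
      simp only [b', Category.assoc]
      rw [W.ι.isoImage_inv_ι V']
    let a' : Q ⟶ (UW : Scheme.{u}) := (isPullback_morphismRestrict W.ι U).lift a (b' ≫ V'.ι)
      (by rw [Category.assoc, hb', hab])
    have ha'1 : a' ≫ (W.ι ∣_ U) = a := IsPullback.lift_fst _ _ _ _
    have ha'2 : a' ≫ UW.ι = b' ≫ V'.ι := IsPullback.lift_snd _ _ _ _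
    have := agree_of_homOfLE hv2 a' b' ha'2
    rw [← Category.assoc, ← ha'1, Category.assoc]
    exact this

/-- a rational map from a normal curve to a proper scheme extends uniquely -/
theorem existsUnique_extension_curve (k : Type u) [Field k] (X Y : Scheme.{u})
    [X.Over (Spec (CommRingCat.of k))] [Y.Over (Spec (CommRingCat.of k))]
    [LocallyOfFiniteType (X ↘ (Spec (CommRingCat.of k)))]
    [QuasiCompact (X ↘ (Spec (CommRingCat.of k)))]
    (hcurve : ∀ x : X, IsClosed ({x} : Set X) → ringKrullDim (X.presheaf.stalk x) = 1)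
    (hnorm : ∀ x : X, IsDomain (X.presheaf.stalk x) ∧ IsIntegrallyClosed (X.presheaf.stalk x))
    [IsProper (Y ↘ (Spec (CommRingCat.of k)))] (U : X.Opens) (hU : Dense (U : Set X))
    (g : (U : Scheme.{u}) ⟶ Y)
    (hg : g ≫ (Y ↘ (Spec (CommRingCat.of k))) = U.ι ≫ (X ↘ (Spec (CommRingCat.of k)))) :
    ∃! g' : X ⟶ Y, U.ι ≫ g' = g ∧
      g' ≫ (Y ↘ (Spec (CommRingCat.of k))) = X ↘ (Spec (CommRingCat.of k)) := by
  haveI : IsLocallyNoetherian X :=
    LocallyOfFiniteType.isLocallyNoetherian (X ↘ (Spec (CommRingCat.of k)))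
  haveI : CompactSpace X :=
    QuasiCompact.compactSpace_of_compactSpace (X ↘ (Spec (CommRingCat.of k)))
  haveI : ∀ x : X, _root_.IsReduced (X.presheaf.stalk x) := fun x =>
    haveI := (hnorm x).1
    inferInstance
  haveI : IsReduced X := isReduced_of_isReduced_stalk X
  refine existsUnique_extension_of_local _ _ U hU g hg fun x => ?_
  obtain ⟨x₀, hx₀, hcl⟩ := (isClosed_closure (s := ({x} : Set X))).exists_closed_singleton
    ⟨x, subset_closure rfl⟩
  have hsp : x ⤳ x₀ := specializes_iff_mem_closure.mpr hx₀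
  haveI := (hnorm x₀).1
  haveI := (hnorm x₀).2
  haveI : IsDiscreteValuationRing (X.presheaf.stalk x₀) :=
    isDiscreteValuationRing_of_dim_one _ (hcurve x₀ hcl)
  obtain ⟨V, v, hxV, hv1, hv2⟩ := exists_local_extension (X ↘ (Spec (CommRingCat.of k)))
    (Y ↘ (Spec (CommRingCat.of k))) U hU g hg x₀
  exact ⟨V, v, hsp.mem_open V.isOpen hxV, hv1, hv2⟩

end Groth.Agent.Helper4.CurveExt
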