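import Mathlib
import Groth.Agent.Lib.Helper1.KA3

/-!
# Discrete valuation rings dominating Noetherian domains (EGA II 7.1.7)

Main result `exists_dvr`: for a Noetherian domain `A` inside a field `L` which is finitely generated
(as a field) over `A`, and a proper ideal `I` of `A` containing a nonzero element, there is a discrete
valuation subring of `L` containing `A` in which all the elements of `I` are non-units.
-/

set_option autoImplicit false

namespace Groth.Agent.Helper4.DVRDom

universe u

section adjoin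

variable (A : Type u) [CommRing A] {L : Type u} [Field L] [Algebra A L]

/-- `A[G]` for a finite set `G` is Noetherian. -/
theorem isNoetherianRing_adjoin [IsNoetherianRing A] (G : Finset L) :
    IsNoetherianRing (Algebra.adjoin A (G : Set L)) := by
  have h : (Algebra.adjoin A (G : Set L)).FG := Subalgebra.fg_adjoin_finset G
  have : Algebra.FiniteType A (Algebra.adjoin A (G : Set L)) :=
    (Subalgebra.fg_iff_finiteType _).mp h
  exact Algebra.FiniteType.isNoetherianRing A _

/-- `A[G] ⊆ V` if `A ⊆ V` and `G ⊆ V`. -/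
theorem adjoin_le_valuationSubring (V : ValuationSubring L) (hA : ∀ a : A, algebraMap A L a ∈ V)
    (G : Set L) (hG : ∀ g ∈ G, g ∈ V) : ∀ x ∈ Algebra.adjoin A G, x ∈ V := by
  intro x hx
  induction hx using Algebra.adjoin_induction with
  | mem x hx => exact hG x hx
  | algebraMap r => exact hA r
  | add x y _ _ hx hy => exact V.add_mem _ _ hx hy
  | mul x y _ _ hx hy => exact V.mul_mem _ _ hx hy

/-- If `L` is generated as a field by `A` and `G`, every element of `L` is a quotient of elements
of `A[G]`. -/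
theorem exists_div_of_closure_eq_top (G : Set L)
    (hG : Subfield.closure (Set.range (algebraMap A L) ∪ G) = ⊤) (z : L) :
    ∃ x y : Algebra.adjoin A G, z = (x : L) / (y : L) := by
  have hz : z ∈ Subfield.closure (Set.range (algebraMap A L) ∪ G) := by rw [hG]; trivial
  obtain ⟨x, hx, y, hy, rfl⟩ := Subfield.mem_closure_iff.mp hz
  rw [← Algebra.adjoin_eq_ring_closure] at hx hy
  exact ⟨⟨x, hx⟩, ⟨y, hy⟩, rfl⟩

theorem isFractionRing_adjoin (hinj : Function.Injective (algebraMap A L)) (G : Set L)
    (hG : Subfield.closure (Set.range (algebraMap A L) ∪ G) = ⊤) :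
    IsFractionRing (Algebra.adjoin A G) L := by
  have : FaithfulSMul (Algebra.adjoin A G) L :=
    (faithfulSMul_iff_algebraMap_injective _ _).mpr Subtype.val_injective
  exact IsFractionRing.of_field _ _ fun z => exists_div_of_closure_eq_top A G hG z

end adjoin

section main

variable (A : Type u) [CommRing A] [IsDomain A] [IsNoetherianRing A] {L : Type u} [Field L]
  [Algebra A L]

set_option maxHeartbeats 800000 in
/-- **EGA II 7.1.7**, general form. -/
theorem exists_dvr (hinj : Function.Injective (algebraMap A L)) (S : Finset L)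
    (hS : Subfield.closure (Set.range (algebraMap A L) ∪ (S : Set L)) = ⊤)
    (I : Ideal A) (hI : I ≠ ⊤) (a₀ : A) (ha₀ : a₀ ∈ I) (ha₀' : a₀ ≠ 0) :
    ∃ R : ValuationSubring L, IsDiscreteValuationRing R ∧ (∀ a : A, algebraMap A L a ∈ R) ∧
      ∀ a ∈ I, algebraMap A L a ∈ R.nonunits := by
  classical
  -- Step A: a valuation ring dominating
  let A₀ : Subring L := (algebraMap A L).range
  let e : A →+* A₀ := (algebraMap A L).rangeRestrict
  have he : Function.Bijective e :=
    ⟨fun x y h => hinj (congrArg Subtype.val h), (algebraMap A L).rangeRestrict_surjective⟩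
  have hI₀ : I.map e ≠ ⊤ := by
    intro h
    apply hI
    have := Ideal.comap_map_of_bijective e he (I := I)
    rw [← this, h, Ideal.comap_top]
  obtain ⟨V₀, hAV₀, hIV₀⟩ := Ideal.image_subset_nonunits_valuationSubring (I.map e) hI₀
  have hA₀ : ∀ a : A, algebraMap A L a ∈ V₀ := fun a => hAV₀ ⟨a, rfl⟩
  have hI₀' : ∀ a ∈ I, algebraMap A L a ∈ V₀.nonunits :=
    fun a ha => hIV₀ ⟨e a, Ideal.mem_map_of_mem _ ha, rfl⟩
  -- Step B: flip the generators into `V₀`
  let flip : L → L := fun y => if y ∈ V₀ then y else y⁻¹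
  have hflip : ∀ y, flip y ∈ V₀ := by
    intro y
    by_cases h : y ∈ V₀
    · simp only [flip, h, if_true]
    · simp only [flip, h, if_false]
      exact (V₀.mem_or_inv_mem y).resolve_left h
  let S' : Finset L := S.image flip
  have hS'V : ∀ g ∈ (S' : Set L), g ∈ V₀ := by
    intro g hg
    obtain ⟨y, -, rfl⟩ := Finset.mem_image.mp (Finset.mem_coe.mp hg)
    exact hflip y
  have hS' : Subfield.closure (Set.range (algebraMap A L) ∪ (S' : Set L)) = ⊤ := by
    rw [eq_top_iff, ← hS, Subfield.closure_le]
    rintro y (hy | hy)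
    · exact Subfield.subset_closure (Or.inl hy)
    · have h1 : flip y ∈ Subfield.closure (Set.range (algebraMap A L) ∪ (S' : Set L)) :=
        Subfield.subset_closure
          (Or.inr (Finset.mem_coe.mpr (Finset.mem_image_of_mem flip (Finset.mem_coe.mp hy))))
      by_cases h : y ∈ V₀
      · simp only [flip, h, if_true] at h1
        exact h1
      · simp only [flip, h, if_false] at h1
        have h3 := Subfield.inv_mem _ h1
        rw [inv_inv] at h3
        exact h3
  -- Step C: the Noetherian ring `B = A[S']` and the centre `p` of `V₀` on it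
  let B := Algebra.adjoin A (S' : Set L)
  have hBnoeth : IsNoetherianRing B := isNoetherianRing_adjoin A S'
  have hBV : ∀ x ∈ B, x ∈ V₀ := adjoin_le_valuationSubring A V₀ hA₀ _ hS'V
  let ιB : B →+* V₀ := (B.val : B →+* L).codRestrict V₀.toSubring (fun b => hBV b b.2)
  let p : Ideal B := (IsLocalRing.maximalIdeal V₀).comap ιB
  have hp_mem : ∀ b : B, b ∈ p ↔ (b : L) ∈ V₀.nonunits := by
    intro b
    rw [Ideal.mem_comap, ← ValuationSubring.coe_mem_nonunits_iff]
    rfl
  obtain ⟨T, hT⟩ := (isNoetherianRing_iff_ideal_fg B).mp hBnoeth p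
  have ha₀p : algebraMap A B a₀ ∈ p := (hp_mem _).mpr (hI₀' a₀ ha₀)
  have ha₀B : algebraMap A B a₀ ≠ 0 := by
    intro h
    apply ha₀'
    apply hinj
    rw [map_zero]
    exact congrArg Subtype.val h
  have hTne : T.Nonempty := by
    by_contra h
    rw [Finset.not_nonempty_iff_eq_empty] at h
    rw [h, Finset.coe_empty, Ideal.span_empty] at hT
    rw [← hT] at ha₀p
    exact ha₀B ha₀p
  obtain ⟨x, hxT, hxmax⟩ := Finset.exists_max_image T (fun t => V₀.valuation (t : L)) hTne
  have hxp : x ∈ p := hT ▸ Ideal.subset_span hxT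
  have hx0 : (x : L) ≠ 0 := by
    intro h
    have hall : ∀ t ∈ T, t = 0 := by
      intro t ht
      have h1 := hxmax t ht
      simp only [h, map_zero] at h1
      have h2 : V₀.valuation (t : L) = 0 := le_antisymm h1 zero_le'
      exact Subtype.ext ((map_eq_zero _).mp h2)
    have hpbot : p = ⊥ := by
      rw [← hT, Ideal.span_eq_bot]
      exact fun t ht => hall t ht
    rw [hpbot] at ha₀p
    exact ha₀B ha₀p
  have hvx : 0 < V₀.valuation (x : L) := zero_lt_iff.mpr ((map_ne_zero _).mpr hx0)
  -- Step C2: the blow-up chart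
  let G' : Finset L := S' ∪ T.image (fun t : B => (t : L) / (x : L))
  have hG'V : ∀ g ∈ (G' : Set L), g ∈ V₀ := by
    intro g hg
    rcases Finset.mem_union.mp (Finset.mem_coe.mp hg) with h | h
    · exact hS'V g (Finset.mem_coe.mpr h)
    · obtain ⟨t, ht, rfl⟩ := Finset.mem_image.mp h
      rw [← ValuationSubring.valuation_le_one_iff, map_div₀]
      exact (div_le_one₀ hvx).mpr (hxmax t ht)
  have hS'G' : (S' : Set L) ⊆ (G' : Set L) := fun g hg =>
    Finset.mem_coe.mpr (Finset.mem_union_left _ (Finset.mem_coe.mp hg))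
  have hG' : Subfield.closure (Set.range (algebraMap A L) ∪ (G' : Set L)) = ⊤ := by
    rw [eq_top_iff, ← hS']
    exact Subfield.closure_mono (Set.union_subset_union_right _ hS'G')
  let B' := Algebra.adjoin A (G' : Set L)
  have hB'noeth : IsNoetherianRing B' := isNoetherianRing_adjoin A G'
  have hB'V : ∀ x ∈ B', x ∈ V₀ := adjoin_le_valuationSubring A V₀ hA₀ _ hG'V
  have hBB' : B ≤ B' := Algebra.adjoin_mono hS'G'
  have hfrac : IsFractionRing B' L := isFractionRing_adjoin A hinj _ hG'
  let x' : B' := ⟨x, hBB' x.2⟩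
  have hx'0 : x' ≠ 0 := fun h => hx0 (congrArg Subtype.val h)
  have hpx : p ≤ (Ideal.span {x'}).comap (Subalgebra.inclusion hBB') := by
    rw [← hT, Ideal.span_le]
    intro t ht
    change Subalgebra.inclusion hBB' t ∈ Ideal.span {x'}
    rw [Ideal.mem_span_singleton']
    refine ⟨⟨(t : L) / (x : L), Algebra.subset_adjoin (Finset.mem_coe.mpr
      (Finset.mem_union_right _ (Finset.mem_image_of_mem _ ht)))⟩, ?_⟩
    apply Subtype.ext
    change (t : L) / (x : L) * (x : L) = (t : L)
    field_simp
  have hIx : ∀ a ∈ I, algebraMap A B' a ∈ Ideal.span {x'} := by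
    intro a ha
    have h1 : algebraMap A B a ∈ p := (hp_mem _).mpr (hI₀' a ha)
    exact hpx h1
  -- Step D: a height one prime containing `x'`
  let ιB' : B' →+* V₀ := (B'.val : B' →+* L).codRestrict V₀.toSubring (fun b => hB'V b b.2)
  let p' : Ideal B' := (IsLocalRing.maximalIdeal V₀).comap ιB'
  have hx'p' : x' ∈ p' := by
    change ιB' x' ∈ IsLocalRing.maximalIdeal V₀
    rw [← ValuationSubring.coe_mem_nonunits_iff]
    exact (hp_mem x).mp hxp
  have hle : Ideal.span {x'} ≤ p' := (Ideal.span_singleton_le_iff_mem _).mpr hx'p'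
  obtain ⟨q, hq, hqp'⟩ := Ideal.exists_minimalPrimes_le hle
  have hqprime : q.IsPrime := hq.1.1
  have hqh : q.height ≤ 1 := Ideal.height_le_one_of_isPrincipal_of_mem_minimalPrimes _ q hq
  have hx'q : x' ∈ q := hq.1.2 (Ideal.mem_span_singleton_self x')
  -- Step E: the one-dimensional local ring `R₁ = B'_q`
  let R₁ := Localization.AtPrime q
  have hdimR₁ : ringKrullDim R₁ ≤ 1 := by
    rw [IsLocalization.AtPrime.ringKrullDim_eq_height q R₁]
    exact_mod_cast hqh
  have hunits : ∀ y : q.primeCompl, IsUnit (algebraMap B' L y) := by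
    intro y
    have hy : (y : B') ≠ 0 := fun h => y.2 (h ▸ q.zero_mem)
    exact IsUnit.mk0 _ (fun h => hy (Subtype.ext h))
  let φ : R₁ →+* L := IsLocalization.lift (M := q.primeCompl) (g := algebraMap B' L) hunits
  letI : Algebra R₁ L := φ.toAlgebra
  have hφ : ∀ b : B', φ (algebraMap B' R₁ b) = (b : L) := fun b => IsLocalization.lift_eq hunits b
  have : IsScalarTower B' R₁ L := IsScalarTower.of_algebraMap_eq fun b => (hφ b).symm
  have hfracR₁ : IsFractionRing R₁ L :=
    IsFractionRing.isFractionRing_of_isDomain_of_isLocalization q.primeCompl R₁ L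
  have hφinj : Function.Injective φ := IsFractionRing.injective R₁ L
  -- Step F: a valuation ring dominating `R₁`
  let R₁' : Subring L := φ.range
  let e₁ : R₁ →+* R₁' := φ.rangeRestrict
  have he₁ : Function.Bijective e₁ :=
    ⟨fun x y h => hφinj (congrArg Subtype.val h), φ.rangeRestrict_surjective⟩
  have hI₁ : (IsLocalRing.maximalIdeal R₁).map e₁ ≠ ⊤ := by
    intro h
    apply (IsLocalRing.maximalIdeal.isMaximal R₁).ne_top
    have := Ideal.comap_map_of_bijective e₁ he₁ (I := IsLocalRing.maximalIdeal R₁)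
    rw [← this, h, Ideal.comap_top]
  obtain ⟨V, hR₁V, hIV⟩ := Ideal.image_subset_nonunits_valuationSubring _ hI₁
  have hφV : ∀ r : R₁, φ r ∈ V := fun r => hR₁V ⟨r, rfl⟩
  -- Step G: `V` is Noetherian by Krull–Akizuki
  letI : Algebra R₁ V := (φ.codRestrict V.toSubring hφV).toAlgebra
  have : IsScalarTower R₁ V L := IsScalarTower.of_algebraMap_eq fun r => rfl
  have hVnoeth : IsNoetherianRing V :=
    Groth.Agent.Helper1.KA.isNoetherianRing_of_between R₁ hdimR₁ L L V
      (fun x y h => Subtype.ext h)
  have hqV : ∀ b : B', b ∈ q → (b : L) ∈ V.nonunits := by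
    intro b hb
    apply hIV
    refine ⟨e₁ (algebraMap B' R₁ b), Ideal.mem_map_of_mem _ ?_, ?_⟩
    · exact (IsLocalization.AtPrime.to_map_mem_maximal_iff R₁ q b).mpr hb
    · exact hφ b
  have hxV : (x : L) ∈ V.nonunits := hqV x' hx'q
  have hVnf : ¬ IsField V := by
    intro hF
    have hxmem : (x : L) ∈ V := hφ x' ▸ hφV _
    have hne0 : (⟨(x : L), hxmem⟩ : V) ≠ 0 := fun h => hx0 (congrArg Subtype.val h)
    obtain ⟨t, ht⟩ := hF.mul_inv_cancel hne0
    have hunit : IsUnit (⟨(x : L), hxmem⟩ : V) := isUnit_iff_exists_inv.mpr ⟨t, ht⟩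
    have hmax : (⟨(x : L), hxmem⟩ : V) ∈ IsLocalRing.maximalIdeal V :=
      (ValuationSubring.coe_mem_nonunits_iff (a := ⟨(x : L), hxmem⟩)).mp hxV
    exact (IsLocalRing.mem_maximalIdeal _).mp hmax hunit
  have hval : ValuationRing V := inferInstance
  refine ⟨V, ((IsDiscreteValuationRing.TFAE V hVnf).out 1 0).mp hval, ?_, ?_⟩
  · intro a
    have h1 : algebraMap A L a = φ (algebraMap B' R₁ (algebraMap A B' a)) :=
      (hφ (algebraMap A B' a)).symm
    rw [h1]
    exact hφV _
  · intro a ha
    exact hqV _ (hq.1.2 (hIx a ha))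

end main

end Groth.Agent.Helper4.DVRDom
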