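import Mathlib
import Groth.Agent.Lib.Helper4.DVRDom

/-!
# DVRs through a specialization (EGA II 7.1.9)
-/

set_option autoImplicit false

universe u

open CategoryTheory CategoryTheory.Limits AlgebraicGeometry

namespace Groth.Agent.Helper4.DVRSpec

/-- Every element of the stalk at a generization is a quotient of images of elements of the stalk
at the specialization. -/
theorem exists_stalkSpecializes_mul_eq {Y : Scheme.{u}} {y y' : Y} (hsp : y ⤳ y')
    (b : Y.presheaf.stalk y) :
    ∃ a₁ a₂ : Y.presheaf.stalk y', IsUnit ((Y.presheaf.stalkSpecializes hsp).hom a₂) ∧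
      b * (Y.presheaf.stalkSpecializes hsp).hom a₂ = (Y.presheaf.stalkSpecializes hsp).hom a₁ := by
  obtain ⟨_, ⟨U, hU, rfl⟩, hy'U, -⟩ :=
    Y.isBasis_affineOpens.exists_subset_of_mem_open (Set.mem_univ y') isOpen_univ
  have hyU : y ∈ U := hsp.mem_open U.2 hy'U
  letI := Y.presheaf.algebra_section_stalk ⟨y, hyU⟩
  have hloc := hU.isLocalization_stalk ⟨y, hyU⟩
  obtain ⟨⟨a, s⟩, has⟩ := IsLocalization.surj (hU.primeIdealOf ⟨y, hyU⟩).asIdeal.primeCompl b
  have hgerm : ∀ t : Γ(Y, U), algebraMap Γ(Y, U) (Y.presheaf.stalk y) t =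
      (Y.presheaf.stalkSpecializes hsp).hom (Y.presheaf.germ U y' hy'U t) := by
    intro t
    have := Y.presheaf.germ_stalkSpecializes hy'U hsp
    have h2 := congrArg (fun f => f.hom t) this
    exact h2.symm
  refine ⟨Y.presheaf.germ U y' hy'U a, Y.presheaf.germ U y' hy'U s, ?_, ?_⟩
  · rw [← hgerm]
    exact IsLocalization.map_units _ s
  · rw [← hgerm, ← hgerm]
    exact has

/-- the canonical composite `Spec κ(x) → Spec O_{Y,y'} → Y` is `Spec κ(x) → X → Y`. -/
theorem specMap_comp_fromSpecStalk {X Y : Scheme.{u}} (p : X ⟶ Y) (x : X) (y' : Y)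
    (hsp : p.base x ⤳ y') :
    Spec.map (Y.presheaf.stalkSpecializes hsp ≫ p.stalkMap x ≫ X.residue x) ≫
      Y.fromSpecStalk y' = X.fromSpecResidueField x ≫ p := by
  rw [Spec.map_comp, Spec.map_comp, Category.assoc, Category.assoc,
    Scheme.SpecMap_stalkSpecializes_fromSpecStalk, Scheme.SpecMap_stalkMap_fromSpecStalk,
    Scheme.fromSpecResidueField, Category.assoc]

set_option maxHeartbeats 800000 in
/-- **EGA II 7.1.9**. -/
theorem exists_dvr_through_specialization {X Y : Scheme.{u}} [IsLocallyNoetherian Y]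
    (p : X ⟶ Y) [LocallyOfFiniteType p] (x : X) (y' : Y) (hsp : p.base x ⤳ y')
    (hne : y' ≠ p.base x) :
    ∃ (A : ValuationSubring (X.residueField x)) (h : Spec (CommRingCat.of A) ⟶ Y),
      IsDiscreteValuationRing A ∧ h.base (IsLocalRing.closedPoint A) = y' ∧
      Spec.map (CommRingCat.ofHom A.subtype) ≫ h = X.fromSpecResidueField x ≫ p := by
  classical
  let L := X.residueField x
  let Φ : Y.presheaf.stalk y' ⟶ X.residueField x :=
    Y.presheaf.stalkSpecializes hsp ≫ p.stalkMap x ≫ X.residue x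
  let φ : Y.presheaf.stalk y' →+* L := Φ.hom
  let ψ : Y.presheaf.stalk (p.base x) →+* L := (p.stalkMap x ≫ X.residue x).hom
  have hφψ : ∀ a, φ a = ψ ((Y.presheaf.stalkSpecializes hsp).hom a) := fun a => rfl
  have hΦ : Spec.map Φ ≫ Y.fromSpecStalk y' = X.fromSpecResidueField x ≫ p :=
    specMap_comp_fromSpecStalk p x y' hsp
  let D : Subring L := φ.range
  haveI : IsNoetherianRing D := inferInstance
  let e : Y.presheaf.stalk y' →+* D := φ.rangeRestrict
  have he : Function.Surjective e := φ.rangeRestrict_surjective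
  -- a nonzero element of the image of the maximal ideal
  obtain ⟨a₀, ha₀, ha₀'⟩ : ∃ a₀ ∈ IsLocalRing.maximalIdeal (Y.presheaf.stalk y'), φ a₀ ≠ 0 := by
    by_contra hcon
    push Not at hcon
    apply hne
    have h1 : (Spec.map Φ) (IsLocalRing.closedPoint L) =
        IsLocalRing.closedPoint (Y.presheaf.stalk y') := by
      apply PrimeSpectrum.ext
      change Ideal.comap φ (IsLocalRing.maximalIdeal L) = IsLocalRing.maximalIdeal _
      apply le_antisymm
      · exact IsLocalRing.le_maximalIdeal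
          (Ideal.comap_ne_top _ (IsLocalRing.maximalIdeal.isMaximal L).ne_top)
      · intro a ha
        rw [Ideal.mem_comap, hcon a ha]
        exact zero_mem _
    have h2 : (Spec.map Φ ≫ Y.fromSpecStalk y') (IsLocalRing.closedPoint L) =
        (X.fromSpecResidueField x ≫ p) (IsLocalRing.closedPoint L) := by rw [hΦ]
    rw [Scheme.Hom.comp_apply, Scheme.Hom.comp_apply, h1, Scheme.fromSpecStalk_closedPoint,
      Scheme.fromSpecResidueField_apply] at h2
    exact h2
  -- finite generation of the field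
  have hψ : ψ.EssFiniteType := by
    have h1 : (p.stalkMap x).hom.EssFiniteType := LocallyOfFiniteType.stalkMap p x
    have h2 : (X.residue x).hom.EssFiniteType :=
      RingHom.FiniteType.essFiniteType
        (RingHom.FiniteType.of_surjective _ (X.residue_surjective x))
    exact RingHom.EssFiniteType.comp h1 h2
  letI : Algebra (Y.presheaf.stalk (p.base x)) L := ψ.toAlgebra
  have hψ' : Algebra.EssFiniteType (Y.presheaf.stalk (p.base x)) L := hψ
  obtain ⟨σ, hσ⟩ := hψ'.cond
  rw [Algebra.essFiniteType_cond_iff] at hσ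
  have hcl : Subfield.closure (Set.range (algebraMap D L) ∪ (σ : Set L)) = ⊤ := by
    rw [eq_top_iff]
    intro s _
    set F := Subfield.closure (Set.range (algebraMap D L) ∪ (σ : Set L)) with hF
    have h1 : ∀ a, φ a ∈ F := fun a => Subfield.subset_closure (Or.inl ⟨e a, rfl⟩)
    have h2 : ∀ b, ψ b ∈ F := by
      intro b
      obtain ⟨a₁, a₂, hu, hb⟩ := exists_stalkSpecializes_mul_eq hsp b
      have h3 : ψ b * φ a₂ = φ a₁ := by
        rw [hφψ, hφψ, ← map_mul, hb]
      have h4 : φ a₂ ≠ 0 := (hu.map ψ).ne_zero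
      rw [eq_div_of_mul_eq h4 h3]
      exact F.div_mem (h1 _) (h1 _)
    have h3 : ∀ t ∈ Algebra.adjoin (Y.presheaf.stalk (p.base x)) (σ : Set L), t ∈ F := by
      intro t ht
      induction ht using Algebra.adjoin_induction with
      | mem t ht => exact Subfield.subset_closure (Or.inr ht)
      | algebraMap r => exact h2 r
      | add _ _ _ _ h h' => exact F.add_mem h h'
      | mul _ _ _ _ h h' => exact F.mul_mem h h'
    obtain ⟨t, ht, htu, hst⟩ := hσ s
    have h5 : s = (s * t) / t := (mul_div_cancel_right₀ s htu.ne_zero).symm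
    rw [h5]
    exact F.div_mem (h3 _ hst) (h3 _ ht)
  -- the ideal
  let I : Ideal D := (IsLocalRing.maximalIdeal (Y.presheaf.stalk y')).map e
  have hI : I ≠ ⊤ := by
    intro hI
    apply (IsLocalRing.maximalIdeal.isMaximal (Y.presheaf.stalk y')).ne_top
    have h1 := Ideal.comap_map_of_surjective e he (IsLocalRing.maximalIdeal _)
    rw [show Ideal.map e _ = ⊤ from hI, Ideal.comap_top] at h1
    rw [h1]
    symm
    apply sup_eq_left.mpr
    apply IsLocalRing.le_maximalIdeal
    rw [Ne, Ideal.eq_top_iff_one, Ideal.mem_comap, map_one]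
    exact one_ne_zero
  obtain ⟨R, hR, hDR, hIR⟩ := DVRDom.exists_dvr D Subtype.val_injective σ hcl I hI (e a₀)
    (Ideal.mem_map_of_mem _ ha₀) (fun h => ha₀' (congrArg Subtype.val h))
  have hφR : ∀ a, φ a ∈ R := fun a => hDR (e a)
  let ψ' : Y.presheaf.stalk y' →+* R := φ.codRestrict R.toSubring hφR
  have hloc : IsLocalHom ψ' := by
    constructor
    intro a ha
    by_contra hna
    have ham : a ∈ IsLocalRing.maximalIdeal _ := (IsLocalRing.mem_maximalIdeal a).mpr hna
    have h1 : φ a ∈ R.nonunits := hIR (e a) (Ideal.mem_map_of_mem _ ham)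
    have h2 : ψ' a ∈ IsLocalRing.maximalIdeal R :=
      (ValuationSubring.coe_mem_nonunits_iff (a := ψ' a)).mp h1
    exact (IsLocalRing.mem_maximalIdeal _).mp h2 ha
  refine ⟨R, Spec.map (CommRingCat.ofHom ψ') ≫ Y.fromSpecStalk y', hR, ?_, ?_⟩
  · have h1 : (Spec.map (CommRingCat.ofHom ψ')) (IsLocalRing.closedPoint R) =
        IsLocalRing.closedPoint (Y.presheaf.stalk y') := IsLocalRing.comap_closedPoint ψ'
    change (Spec.map (CommRingCat.ofHom ψ') ≫ Y.fromSpecStalk y') (IsLocalRing.closedPoint R) = y'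
    rw [Scheme.Hom.comp_apply, h1, Scheme.fromSpecStalk_closedPoint]
  · rw [← Category.assoc, ← Spec.map_comp]
    have h1 : CommRingCat.ofHom ψ' ≫ CommRingCat.ofHom R.subtype = Φ := by
      ext a
      rfl
    rw [h1]
    exact hΦ

end Groth.Agent.Helper4.DVRSpec
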