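import Mathlib

/-!
# The closure of the image of a quasi-compact morphism consists of specializations of image points
(Stacks 01R8)
-/

set_option autoImplicit false

universe u

open CategoryTheory CategoryTheory.Limits AlgebraicGeometry

namespace Groth.Agent.Helper4.SpecCl

/-- Ring-level statement. -/
theorem exists_specializes_of_mem_closure_range_comap {R B : Type u} [CommRing R] [CommRing B]
    (φ : R →+* B) (y : PrimeSpectrum R) (hy : y ∈ closure (Set.range (PrimeSpectrum.comap φ))) :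
    ∃ b : PrimeSpectrum B, PrimeSpectrum.comap φ b ⤳ y := by
  rw [PrimeSpectrum.closure_range_comap, PrimeSpectrum.mem_zeroLocus] at hy
  obtain ⟨q, hq, hqy⟩ := Ideal.exists_minimalPrimes_le (show RingHom.ker φ ≤ y.asIdeal from hy)
  have hq' : q ∈ ((⊥ : Ideal B).comap φ).minimalPrimes := by
    rwa [← RingHom.ker_eq_comap_bot]
  obtain ⟨q', hq'p, -, hq'q⟩ := Ideal.exists_comap_eq_of_mem_minimalPrimes φ q hq'
  refine ⟨⟨q', hq'p⟩, ?_⟩
  rw [← PrimeSpectrum.le_iff_specializes]
  change q'.comap φ ≤ y.asIdeal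
  rw [hq'q]
  exact hqy

/-- **Stacks 01R8**: for a quasi-compact morphism, every point of the closure of the image is a
specialization of a point of the image. -/
theorem exists_specializes_of_mem_closure_range {U X : Scheme.{u}} (h : U ⟶ X) [QuasiCompact h]
    (y : X) (hy : y ∈ closure (Set.range h)) : ∃ u : U, h u ⤳ y := by
  obtain ⟨_, ⟨W, hW, rfl⟩, hyW, -⟩ :=
    X.isBasis_affineOpens.exists_subset_of_mem_open (Set.mem_univ y) isOpen_univ
  have hcomp : IsCompact ((h ⁻¹ᵁ W : U.Opens) : Set U) := h.isCompact_preimage hW.isCompact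
  obtain ⟨B, g, hg⟩ := isCompact_iff_exists.mp hcomp
  -- the composite lands in `W`
  have hrange : Set.range (g ≫ h) ⊆ Set.range hW.fromSpec := by
    rw [hW.range_fromSpec]
    rintro _ ⟨b, rfl⟩
    have hb : g b ∈ (h ⁻¹ᵁ W : U.Opens) := by
      have : g b ∈ Set.range g := ⟨b, rfl⟩
      rw [hg] at this
      exact this
    rw [Scheme.Hom.comp_apply]
    exact hb
  let k : Spec B ⟶ Spec Γ(X, W) := IsOpenImmersion.lift hW.fromSpec (g ≫ h) hrange
  have hk : k ≫ hW.fromSpec = g ≫ h := IsOpenImmersion.lift_fac _ _ _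
  obtain ⟨φ, hφ⟩ : ∃ φ : Γ(X, W) ⟶ B, Spec.map φ = k := ⟨Spec.preimage k, Spec.map_preimage k⟩
  let y₀ : Spec Γ(X, W) := hW.primeIdealOf ⟨y, hyW⟩
  have hy₀ : hW.fromSpec y₀ = y := hW.fromSpec_primeIdealOf ⟨y, hyW⟩
  -- `y₀` is in the closure of the range of `k`
  have hy₀cl : y₀ ∈ closure (Set.range k) := by
    have hind : Topology.IsInducing hW.fromSpec := hW.fromSpec.isOpenEmbedding.isInducing
    rw [hind.closure_eq_preimage_closure_image, Set.mem_preimage, hy₀]
    -- `y ∈ closure (range h ∩ W) ⊆ closure (fromSpec '' range k)`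
    have h1 : y ∈ closure (Set.range h ∩ (W : Set X)) :=
      W.2.closure_inter ⟨hy, hyW⟩
    refine closure_mono ?_ h1
    rintro _ ⟨⟨u, rfl⟩, huW⟩
    have hu : u ∈ Set.range g := by
      rw [hg]
      exact huW
    obtain ⟨b, rfl⟩ := hu
    refine ⟨k b, ⟨b, rfl⟩, ?_⟩
    rw [← Scheme.Hom.comp_apply, hk, Scheme.Hom.comp_apply]
  have hy₀cl' : y₀ ∈ closure (Set.range (PrimeSpectrum.comap φ.hom)) := by
    rw [← hφ] at hy₀cl
    exact hy₀cl
  obtain ⟨b, hb⟩ := exists_specializes_of_mem_closure_range_comap φ.hom y₀ hy₀cl'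
  refine ⟨g b, ?_⟩
  have h2 : h (g b) = hW.fromSpec ((Spec.map φ) b) := by
    rw [← Scheme.Hom.comp_apply, ← Scheme.Hom.comp_apply, hφ, hk]
  rw [h2, ← hy₀]
  exact Specializes.map hb hW.fromSpec.continuous

end Groth.Agent.Helper4.SpecCl
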