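import Mathlib
import Groth.Prelude.Def_EGA43

/-!
# Openness at a point, part 1: topology, constructible sets, generizing at a point
-/

set_option autoImplicit false

universe u

open CategoryTheory CategoryTheory.Limits AlgebraicGeometry EGA43

namespace Groth.Agent.Helper4.UOpen

section Top

variable {W X V Y : Type*} [TopologicalSpace W] [TopologicalSpace X] [TopologicalSpace V]
  [TopologicalSpace Y]

/-- Openness at a point passes along a commutative square whose left side is continuous and whose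
right side is an open map. -/
theorem isOpenAt_of_square (f : X → Y) (f' : W → V) (i : W → X) (j : V → Y) (hi : Continuous i)
    (hj : IsOpenMap j) (hcomm : ∀ w, f (i w) = j (f' w)) (w : W) (h : IsOpenAt f' w) :
    IsOpenAt f (i w) := by
  intro U hU
  have h1 : i ⁻¹' U ∈ nhds w := hi.continuousAt hU
  have h2 := h _ h1
  have h3 : j '' (f' '' (i ⁻¹' U)) ∈ nhds (j (f' w)) := hj.image_mem_nhds h2
  rw [hcomm]
  refine Filter.mem_of_superset h3 ?_
  rintro _ ⟨_, ⟨u, hu, rfl⟩, rfl⟩
  exact ⟨i u, hu, hcomm u⟩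

/-- Openness at a point is inherited by the composite with an open map. -/
theorem isOpenAt_comp_of_isOpenMap (f : X → Y) (i : W → X) (hi : IsOpenMap i) (w : W)
    (h : IsOpenAt f (i w)) : IsOpenAt (f ∘ i) w := by
  intro U hU
  have := h _ (hi.image_mem_nhds hU)
  rwa [← Set.image_comp] at this

/-- Openness at a point only depends on the function. -/
theorem isOpenAt_congr {f g : X → Y} (hfg : ∀ x, f x = g x) (x : X) (h : IsOpenAt f x) :
    IsOpenAt g x := by
  have : f = g := funext hfg
  rwa [← this]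

/-- `f` is generizing at `x`: every generization of `f x` lifts to a generization of `x`. -/
def GenAt (f : X → Y) (x : X) : Prop := ∀ y₁, y₁ ⤳ f x → ∃ x₁, x₁ ⤳ x ∧ f x₁ = y₁

/-- Being generizing at a point passes to the restriction to open subspaces. -/
theorem genAt_of_square (f : X → Y) (f' : W → V) (i : W → X) (j : V → Y)
    (hi : Topology.IsOpenEmbedding i) (hj : Continuous j) (hj' : Function.Injective j)
    (hcomm : ∀ w, f (i w) = j (f' w)) (w : W) (h : GenAt f (i w)) : GenAt f' w := by
  intro v₁ hv₁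
  have h1 : j v₁ ⤳ f (i w) := by
    rw [hcomm]
    exact hv₁.map hj
  obtain ⟨x₁, hx₁, hfx₁⟩ := h _ h1
  have h2 : x₁ ∈ Set.range i := hx₁.mem_open hi.isOpen_range ⟨w, rfl⟩
  obtain ⟨w₁, rfl⟩ := h2
  refine ⟨w₁, hi.isInducing.specializes_iff.mp hx₁, hj' ?_⟩
  rw [← hcomm, hfx₁]

end Top

section Ring

open PrimeSpectrum Topology

/-- A constructible subset of a prime spectrum containing all generizations of a point is a
neighbourhood of this point. -/
theorem mem_nhds_of_isConstructible {R : Type u} [CommRing R] {E : Set (PrimeSpectrum R)}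
    (hE : IsConstructible E) (p : PrimeSpectrum R) (h : ∀ p₁ : PrimeSpectrum R, p₁ ⤳ p → p₁ ∈ E) :
    E ∈ nhds p := by
  obtain ⟨S, _, φ, hφ⟩ := exists_range_eq_of_isConstructible hE.compl
  -- some `s ∉ p` is killed by `φ`
  obtain ⟨s, hs, hs0⟩ : ∃ s : R, s ∉ p.asIdeal ∧ φ s = 0 := by
    by_contra hcon
    push Not at hcon
    let M : Submonoid S := p.asIdeal.primeCompl.map φ
    have hdisj : Disjoint ((⊥ : Ideal S) : Set S) (M : Set S) := by
      rw [Set.disjoint_left]
      rintro a ha ⟨s, hs, rfl⟩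
      exact hcon s hs ha
    obtain ⟨Q, hQ₁, -, hQ₃⟩ := Ideal.exists_le_prime_disjoint _ _ hdisj
    let Qp : PrimeSpectrum S := ⟨Q, hQ₁⟩
    have hle : comap φ Qp ≤ p := by
      intro s hs
      by_contra hsp
      exact Set.disjoint_left.mp hQ₃ hs ⟨s, hsp, rfl⟩
    have h1 : comap φ Qp ∈ E := h _ ((le_iff_specializes _ _).mp hle)
    have h2 : comap φ Qp ∈ Eᶜ := by
      rw [← hφ]
      exact Set.mem_range_self Qp
    exact h2 h1
  have hsub : (basicOpen s : Set (PrimeSpectrum R)) ⊆ E := by
    intro p' hp'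
    by_contra hp'E
    have : p' ∈ Set.range (comap φ) := by
      rw [hφ]
      exact hp'E
    obtain ⟨Q', rfl⟩ := this
    apply hp'
    change φ s ∈ Q'.asIdeal
    rw [hs0]
    exact zero_mem _
  exact Filter.mem_of_superset ((basicOpen s).isOpen.mem_nhds hs) hsub

/-- **Pointwise going-down criterion for openness**: a finitely presented ring map whose spectrum
map is generizing at `q` is open at `q`. -/
theorem isOpenAt_comap_of_genAt {R B : Type u} [CommRing R] [CommRing B] (φ : R →+* B)
    (hφ : φ.FinitePresentation) (q : PrimeSpectrum B) (h : GenAt (comap φ) q) :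
    IsOpenAt (comap φ) q := by
  intro U hU
  obtain ⟨_, ⟨b, rfl⟩, hqb, hbU⟩ := isTopologicalBasis_basic_opens.mem_nhds_iff.mp hU
  have hE : IsConstructible (comap φ '' (basicOpen b : Set (PrimeSpectrum B))) :=
    isConstructible_comap_image hφ isConstructible_basicOpen
  refine Filter.mem_of_superset (mem_nhds_of_isConstructible hE _ ?_) (Set.image_mono hbU)
  intro p₁ hp₁
  obtain ⟨q₁, hq₁, rfl⟩ := h p₁ hp₁
  exact ⟨q₁, hq₁.mem_open (basicOpen b).isOpen hqb, rfl⟩

end Ring

section Scheme

/-- **EGA IV 1.10.3** (pointwise): a morphism locally of finite presentation which is generizing at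
`x` is open at `x`. -/
theorem isOpenAt_of_genAt {X Y : Scheme.{u}} (f : X ⟶ Y) [LocallyOfFinitePresentation f] (x : X)
    (h : GenAt f.base x) : IsOpenAt f.base x := by
  obtain ⟨_, ⟨V, hV, rfl⟩, hxV, -⟩ :=
    Y.isBasis_affineOpens.exists_subset_of_mem_open (Set.mem_univ (f.base x)) isOpen_univ
  obtain ⟨_, ⟨W, hW, rfl⟩, hxW, hWV⟩ :=
    X.isBasis_affineOpens.exists_subset_of_mem_open (show x ∈ ((f ⁻¹ᵁ V : X.Opens) : Set X) from hxV)
      (f ⁻¹ᵁ V).isOpen
  have e : W ≤ f ⁻¹ᵁ V := hWV
  let φ := f.appLE V W e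
  have hφ : φ.hom.FinitePresentation := f.finitePresentation_appLE hV hW e
  have hsq : Spec.map φ ≫ hV.fromSpec = hW.fromSpec ≫ f := hV.SpecMap_appLE_fromSpec f hW e
  have hcomm : ∀ w, f.base (hW.fromSpec.base w) = hV.fromSpec.base ((Spec.map φ).base w) := by
    intro w
    rw [← Scheme.Hom.comp_apply, ← Scheme.Hom.comp_apply, hsq]
  let q := hW.primeIdealOf ⟨x, hxW⟩
  have hq : hW.fromSpec.base q = x := hW.fromSpec_primeIdealOf ⟨x, hxW⟩
  rw [← hq] at h ⊢
  have h1 : GenAt (Spec.map φ).base q :=
    genAt_of_square f.base (Spec.map φ).base hW.fromSpec.base hV.fromSpec.base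
      hW.fromSpec.isOpenEmbedding hV.fromSpec.continuous hV.fromSpec.isOpenEmbedding.injective
      hcomm q h
  have h2 : IsOpenAt (Spec.map φ).base q := isOpenAt_comap_of_genAt φ.hom hφ q h1
  exact isOpenAt_of_square f.base (Spec.map φ).base hW.fromSpec.base hV.fromSpec.base
    hW.fromSpec.continuous hV.fromSpec.isOpenEmbedding.isOpenMap hcomm q h2

end Scheme

end Groth.Agent.Helper4.UOpen
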