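import Mathlib
import Groth.Prelude.Def_EGA43
import Groth.Agent.Lib.Helper4.UOpen1
import Groth.Agent.Lib.Helper4.DVRSpec
import Groth.Agent.Lib.Helper4.SpecCl

/-!
# Openness at a point, part 2: the DVR criterion at a point
-/

set_option autoImplicit false

universe u

open CategoryTheory CategoryTheory.Limits AlgebraicGeometry EGA43

namespace Groth.Agent.Helper4.UOpen

/-- The DVR criterion for universal openness at the point `x` (EGA IV 14.5.8). -/
def DVRGenAt {X Y : Scheme.{u}} (f : X ⟶ Y) (x : X) : Prop :=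
  ∀ (A : Type u) [CommRing A] [IsDomain A] [IsDiscreteValuationRing A]
    (g : Spec (CommRingCat.of A) ⟶ Y), g.base (IsLocalRing.closedPoint A) = f.base x →
    ∀ x' : ↥(pullback f g), (pullback.fst f g).base x' = x →
      (pullback.snd f g).base x' = IsLocalRing.closedPoint A →
      ∃ z' : ↥(pullback f g), z' ⤳ x' ∧ (pullback.snd f g).base z' ≠ IsLocalRing.closedPoint A

/-- In the spectrum of a DVR, a point which is not the closed point is the generic point. -/
theorem asIdeal_eq_bot_of_ne_closedPoint {A : Type u} [CommRing A] [IsDomain A]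
    [IsDiscreteValuationRing A] (z : PrimeSpectrum A) (hz : z ≠ IsLocalRing.closedPoint A) :
    z.asIdeal = ⊥ := by
  by_contra hne
  apply hz
  have hmax : z.asIdeal.IsMaximal := z.2.isMaximal hne
  exact PrimeSpectrum.ext (IsLocalRing.eq_maximalIdeal hmax)

variable {X Y : Scheme.{u}} (f : X ⟶ Y)

/-- The DVR criterion is stable under base change. -/
theorem DVRGenAt.baseChange {x : X} (h : DVRGenAt f x) {T : Scheme.{u}} (t : T ⟶ Y)
    (z : ↥(pullback f t)) (hz : (pullback.fst f t).base z = x) :
    DVRGenAt (pullback.snd f t) z := by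
  intro A _ _ _ g hg x'' hx''₁ hx''₂
  let e := pullbackLeftPullbackSndIso f t g
  have hfst : ∀ w, (pullback.fst f (g ≫ t)).base (e.hom.base w) =
      (pullback.fst f t).base ((pullback.fst (pullback.snd f t) g).base w) := by
    intro w
    rw [← Scheme.Hom.comp_apply, ← Scheme.Hom.comp_apply, pullbackLeftPullbackSndIso_hom_fst]
  have hsnd : ∀ w, (pullback.snd f (g ≫ t)).base (e.hom.base w) =
      (pullback.snd (pullback.snd f t) g).base w := by
    intro w
    rw [← Scheme.Hom.comp_apply, pullbackLeftPullbackSndIso_hom_snd]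
  have hg' : (g ≫ t).base (IsLocalRing.closedPoint A) = f.base x := by
    rw [Scheme.Hom.comp_apply, hg, ← Scheme.Hom.comp_apply, ← pullback.condition,
      Scheme.Hom.comp_apply, hz]
  obtain ⟨z', hz'₁, hz'₂⟩ := h A (g ≫ t) hg' (e.hom.base x'') (by rw [hfst, hx''₁, hz])
    (by rw [hsnd, hx''₂])
  refine ⟨e.inv.base z', ?_, ?_⟩
  · have h1 := hz'₁.map e.inv.continuous
    rwa [← Scheme.Hom.comp_apply, Iso.hom_inv_id] at h1
  · have h2 : e.hom.base (e.inv.base z') = z' := by
      rw [← Scheme.Hom.comp_apply, Iso.inv_hom_id]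
      rfl
    rw [← hsnd, h2]
    exact hz'₂

set_option maxHeartbeats 800000 in
/-- Over a locally Noetherian base, the DVR criterion at `x` implies that the morphism is generizing at
`x`. -/
theorem DVRGenAt.genAt [IsLocallyNoetherian Y] {x : X} (h : DVRGenAt f x) : GenAt f.base x := by
  intro y₁ hy₁
  by_cases hne : f.base x = y₁
  · exact ⟨x, specializes_rfl, hne⟩
  obtain ⟨A, g, hA, hcl, hcomm⟩ :=
    DVRSpec.exists_dvr_through_specialization (𝟙 Y) y₁ (f.base x) hy₁ hne
  haveI := hA
  obtain ⟨x', hx'₁, hx'₂⟩ := Scheme.Pullback.exists_preimage_pullback (f := f) (g := g) x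
    (IsLocalRing.closedPoint A) hcl.symm
  obtain ⟨z', hz'₁, hz'₂⟩ := h A g hcl x' hx'₁ hx'₂
  refine ⟨(pullback.fst f g).base z', ?_, ?_⟩
  · rw [← hx'₁]
    exact hz'₁.map (pullback.fst f g).continuous
  · rw [← Scheme.Hom.comp_apply, pullback.condition, Scheme.Hom.comp_apply]
    have hbot := asIdeal_eq_bot_of_ne_closedPoint _ hz'₂
    -- the generic point of `Spec A` is the image of `Spec κ(y₁)`
    have h1 : (pullback.snd f g).base z' =
        (Spec.map (CommRingCat.ofHom A.subtype)).base
          (IsLocalRing.closedPoint (Y.residueField y₁)) := by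
      apply PrimeSpectrum.ext
      rw [hbot]
      change ⊥ = Ideal.comap A.subtype (IsLocalRing.maximalIdeal (Y.residueField y₁))
      rw [IsLocalRing.maximalIdeal_eq_bot, ← RingHom.ker_eq_comap_bot,
        (RingHom.injective_iff_ker_eq_bot _).mp Subtype.val_injective]
    rw [h1, ← Scheme.Hom.comp_apply, hcomm, Category.comp_id]
    exact Scheme.fromSpecResidueField_apply _ _

/-- Over locally Noetherian bases, the DVR criterion implies openness at every point of every
locally Noetherian base change. -/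
theorem DVRGenAt.isOpenAt_snd [IsLocallyNoetherian Y] [LocallyOfFiniteType f] {x : X}
    (h : DVRGenAt f x) {T : Scheme.{u}} [IsLocallyNoetherian T] (t : T ⟶ Y)
    (z : ↥(pullback f t)) (hz : (pullback.fst f t).base z = x) :
    IsOpenAt (pullback.snd f t).base z := by
  haveI : LocallyOfFinitePresentation (pullback.snd f t) :=
    LocallyOfFinitePresentation.iff_locallyOfFiniteType.mpr inferInstance
  exact isOpenAt_of_genAt _ z ((h.baseChange f t z hz).genAt _)

set_option maxHeartbeats 800000 in
/-- Universal openness at `x` implies the DVR criterion at `x`. -/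
theorem dvrGenAt_of_isUnivOpenAt {x : X} (h : IsUnivOpenAt f x) : DVRGenAt f x := by
  intro A _ _ _ g hg x' hx'₁ hx'₂
  have hop : IsOpenAt (pullback.snd f g).base x' := h _ g x' hx'₁
  let s : Spec (CommRingCat.of A) := IsLocalRing.closedPoint A
  let Uo : (Spec (CommRingCat.of A)).Opens := ⟨{s}ᶜ, by
    rw [isOpen_compl_iff]
    exact IsLocalRing.isClosed_singleton_closedPoint A⟩
  let p := pullback.snd f g
  -- the generic point
  let η : Spec (CommRingCat.of A) := ⟨⊥, Ideal.isPrime_bot⟩
  have hηs : η ≠ s := by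
    intro heq
    have h1 : (⊥ : Ideal A) = IsLocalRing.maximalIdeal A := congrArg PrimeSpectrum.asIdeal heq
    exact IsDiscreteValuationRing.not_a_field A h1.symm
  have hηsp : η ⤳ s := IsLocalRing.specializes_closedPoint η
  haveI : QuasiCompact (p ⁻¹ᵁ Uo).ι :=
    MorphismProperty.of_isPullback (P := @QuasiCompact) (isPullback_morphismRestrict p Uo)
      inferInstance
  have hcl : x' ∈ closure (Set.range (p ⁻¹ᵁ Uo).ι.base) := by
    rw [mem_closure_iff_nhds]
    intro U hU
    have h1 : p.base '' U ∈ nhds (p.base x') := hop U hU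
    have h2 : η ∈ p.base '' U := by
      rw [hx'₂] at h1
      obtain ⟨O, hOU, hO, hsO⟩ := mem_nhds_iff.mp h1
      exact hOU (hηsp.mem_open hO hsO)
    obtain ⟨u, hu, hpu⟩ := h2
    refine ⟨u, hu, ?_⟩
    rw [Scheme.Opens.range_ι]
    change p.base u ∈ ({s}ᶜ : Set _)
    rw [hpu]
    exact hηs
  obtain ⟨u, hu⟩ := SpecCl.exists_specializes_of_mem_closure_range (p ⁻¹ᵁ Uo).ι x' hcl
  refine ⟨(p ⁻¹ᵁ Uo).ι.base u, hu, ?_⟩
  have h3 : (p ⁻¹ᵁ Uo).ι.base u ∈ (p ⁻¹ᵁ Uo) := u.2
  exact h3

end Groth.Agent.Helper4.UOpen
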