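import Mathlib

/-!
# Universally closed via affine spaces, part 1: ring-level finite-variable descent
-/

set_option autoImplicit false

universe u

open TensorProduct

namespace Groth.Agent.Helper4.UCAff

section Ring

variable (R : Type u) [CommRing R] (Λ : Type u) (A : Type u) [CommRing A] [Algebra R A]

/-- The inclusion of the polynomial ring in the variables of a finite subset. -/
noncomputable abbrev ι (s : Finset Λ) : MvPolynomial s R →ₐ[R] MvPolynomial Λ R :=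
  MvPolynomial.rename (Subtype.val : s → Λ)

/-- The induced map on `A ⊗ -`. -/
noncomputable abbrev j (s : Finset Λ) :
    A ⊗[R] MvPolynomial s R →ₐ[A] A ⊗[R] MvPolynomial Λ R :=
  Algebra.TensorProduct.map (AlgHom.id A A) (ι R Λ s)

/-- `a ↦ 1 ⊗ a`. -/
noncomputable abbrev incl (σ : Type u) : MvPolynomial σ R →+* A ⊗[R] MvPolynomial σ R :=
  (Algebra.TensorProduct.includeRight : MvPolynomial σ R →ₐ[R] A ⊗[R] MvPolynomial σ R).toRingHom

variable {R Λ}

theorem exists_finset_mem_range_ι (p : MvPolynomial Λ R) :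
    ∃ s : Finset Λ, ∀ s' : Finset Λ, s ⊆ s' → ∃ q : MvPolynomial s' R, ι R Λ s' q = p := by
  obtain ⟨s, q, rfl⟩ := MvPolynomial.exists_finset_rename p
  refine ⟨s, fun s' hs => ⟨MvPolynomial.rename (Set.inclusion hs) q, ?_⟩⟩
  rw [ι, MvPolynomial.rename_rename]
  rfl

variable {A}

theorem j_incl (s : Finset Λ) (q : MvPolynomial s R) :
    j R Λ A s (incl R A s q) = incl R A Λ (ι R Λ s q) := by
  simp [j, incl]

theorem exists_finset_mem_range_j (c : A ⊗[R] MvPolynomial Λ R) :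
    ∃ s : Finset Λ, ∀ s' : Finset Λ, s ⊆ s' →
      ∃ c' : A ⊗[R] MvPolynomial s' R, j R Λ A s' c' = c := by
  classical
  induction c using TensorProduct.induction_on with
  | zero => exact ⟨∅, fun s' _ => ⟨0, map_zero _⟩⟩
  | tmul a p =>
    obtain ⟨s, hs⟩ := exists_finset_mem_range_ι p
    refine ⟨s, fun s' hs' => ?_⟩
    obtain ⟨q, rfl⟩ := hs s' hs'
    exact ⟨a ⊗ₜ q, by simp [j]⟩
  | add x y hx hy =>
    obtain ⟨s₁, h₁⟩ := hx
    obtain ⟨s₂, h₂⟩ := hy
    refine ⟨s₁ ∪ s₂, fun s' hs' => ?_⟩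
    obtain ⟨x', rfl⟩ := h₁ s' (Finset.union_subset_left hs')
    obtain ⟨y', rfl⟩ := h₂ s' (Finset.union_subset_right hs')
    exact ⟨x' + y', map_add _ _ _⟩

theorem exists_finset_mem_map (t : Ideal (MvPolynomial Λ R)) (e : A ⊗[R] MvPolynomial Λ R)
    (he : e ∈ t.map (incl R A Λ)) :
    ∃ s : Finset Λ, ∀ s' : Finset Λ, s ⊆ s' →
      ∃ e' ∈ (t.comap (ι R Λ s').toRingHom).map (incl R A s'), j R Λ A s' e' = e := by
  classical
  unfold Ideal.map at he
  induction he using Submodule.span_induction with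
  | mem x hx =>
    obtain ⟨p, hp, rfl⟩ := hx
    obtain ⟨s, hs⟩ := exists_finset_mem_range_ι p
    refine ⟨s, fun s' hs' => ?_⟩
    obtain ⟨q, rfl⟩ := hs s' hs'
    exact ⟨incl R A s' q, Ideal.mem_map_of_mem _ (Ideal.mem_comap.mpr hp), j_incl s' q⟩
  | zero => exact ⟨∅, fun s' _ => ⟨0, zero_mem _, map_zero _⟩⟩
  | add x y _ _ hx hy =>
    obtain ⟨s₁, h₁⟩ := hx
    obtain ⟨s₂, h₂⟩ := hy
    refine ⟨s₁ ∪ s₂, fun s' hs' => ?_⟩
    obtain ⟨x', hx', rfl⟩ := h₁ s' (Finset.union_subset_left hs')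
    obtain ⟨y', hy', rfl⟩ := h₂ s' (Finset.union_subset_right hs')
    exact ⟨x' + y', add_mem hx' hy', map_add _ _ _⟩
  | smul c x _ hx =>
    obtain ⟨s₁, h₁⟩ := hx
    obtain ⟨s₂, h₂⟩ := exists_finset_mem_range_j c
    refine ⟨s₁ ∪ s₂, fun s' hs' => ?_⟩
    obtain ⟨x', hx', rfl⟩ := h₁ s' (Finset.union_subset_left hs')
    obtain ⟨c', rfl⟩ := h₂ s' (Finset.union_subset_right hs')
    exact ⟨c' * x', Ideal.mul_mem_left _ _ hx', by rw [smul_eq_mul, map_mul]⟩

/-- If no prime of `A ⊗ R[Λ]` containing `I` lies over `t`, the same holds at all sufficiently large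
finite levels. -/
theorem exists_finset_fibre_empty (I : Ideal (A ⊗[R] MvPolynomial Λ R))
    (t : Ideal (MvPolynomial Λ R)) [t.IsPrime]
    (h : ¬ ∃ Q : Ideal (A ⊗[R] MvPolynomial Λ R), Q.IsPrime ∧ I ≤ Q ∧ Q.comap (incl R A Λ) = t) :
    ∃ s : Finset Λ, ∀ s' : Finset Λ, s ⊆ s' →
      ¬ ∃ Q' : Ideal (A ⊗[R] MvPolynomial s' R), Q'.IsPrime ∧
        I.comap (j R Λ A s').toRingHom ≤ Q' ∧
        Q'.comap (incl R A s') = t.comap (ι R Λ s').toRingHom := by
  classical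
  -- an element `x ∉ t` with `incl x ∈ I ⊔ t.map incl`
  obtain ⟨x, hxt, hx⟩ : ∃ x : MvPolynomial Λ R, x ∉ t ∧ incl R A Λ x ∈ I ⊔ t.map (incl R A Λ) := by
    by_contra hcon
    push Not at hcon
    apply h
    have hdisj : Disjoint ((I ⊔ t.map (incl R A Λ) : Ideal _) : Set (A ⊗[R] MvPolynomial Λ R))
        (t.primeCompl.map (incl R A Λ)) := by
      rw [Set.disjoint_left]
      rintro _ hc ⟨x, hx, rfl⟩
      exact hcon x hx hc
    obtain ⟨Q, hQ₁, hQ₂, hQ₃⟩ := Ideal.exists_le_prime_disjoint _ _ hdisj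
    refine ⟨Q, hQ₁, le_sup_left.trans hQ₂, le_antisymm ?_ ?_⟩
    · exact Ideal.disjoint_map_primeCompl_iff_comap_le.mp hQ₃
    · exact Ideal.map_le_iff_le_comap.mp (le_sup_right.trans hQ₂)
  obtain ⟨g, hg, e, he, hge⟩ := Submodule.mem_sup.mp hx
  obtain ⟨s₁, h₁⟩ := exists_finset_mem_range_ι x
  obtain ⟨s₂, h₂⟩ := exists_finset_mem_map t e he
  refine ⟨s₁ ∪ s₂, fun s' hs' => ?_⟩
  obtain ⟨q, hq⟩ := h₁ s' (Finset.union_subset_left hs')
  obtain ⟨e', he', hje'⟩ := h₂ s' (Finset.union_subset_right hs')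
  rintro ⟨Q', hQ'p, hQ'I, hQ't⟩
  apply hxt
  -- `g' := incl q - e'` lies in the contraction of `I`
  have hg' : incl R A s' q - e' ∈ I.comap (j R Λ A s').toRingHom := by
    rw [Ideal.mem_comap]
    change j R Λ A s' (incl R A s' q - e') ∈ I
    rw [map_sub, j_incl, hq, hje', ← hge, add_sub_cancel_right]
    exact hg
  have he'Q : e' ∈ Q' := by
    have hle : (t.comap (ι R Λ s').toRingHom).map (incl R A s') ≤ Q' := by
      rw [Ideal.map_le_iff_le_comap, hQ't]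
    exact hle he'
  have hqQ : incl R A s' q ∈ Q' := by
    have := Q'.add_mem (hQ'I hg') he'Q
    rwa [sub_add_cancel] at this
  have hq' : q ∈ Q'.comap (incl R A s') := hqQ
  rw [hQ't, Ideal.mem_comap] at hq'
  change ι R Λ s' q ∈ t at hq'
  rwa [hq] at hq'

end Ring

end Groth.Agent.Helper4.UCAff
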