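import Mathlib
import Groth.Agent.Lib.Helper4.UCAff1

/-!
# Universally closed via affine spaces, part 2: one chart
-/

set_option autoImplicit false

universe u

open TensorProduct CategoryTheory CategoryTheory.Limits AlgebraicGeometry

namespace Groth.Agent.Helper4.UCAff

section Scheme

variable (R : Type u) [CommRing R]

/-- The structure morphism of affine space `Spec R[σ] ⟶ Spec R`. -/
noncomputable abbrev gσ (σ : Type u) :
    Spec (CommRingCat.of (MvPolynomial σ R)) ⟶ Spec (CommRingCat.of R) :=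
  Spec.map (CommRingCat.ofHom (algebraMap R (MvPolynomial σ R)))

variable {R} (Λ : Type u)

/-- The projection `Spec R[Λ] ⟶ Spec R[s]`. -/
noncomputable abbrev pr (s : Finset Λ) :
    Spec (CommRingCat.of (MvPolynomial Λ R)) ⟶ Spec (CommRingCat.of (MvPolynomial s R)) :=
  Spec.map (CommRingCat.ofHom (ι R Λ s).toRingHom)

theorem pr_gσ (s : Finset Λ) : pr (R := R) Λ s ≫ gσ R s = gσ R Λ := by
  rw [← Spec.map_comp]
  congr 1
  apply CommRingCat.hom_ext
  apply RingHom.ext
  intro r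
  exact (ι R Λ s).commutes r

variable {X : Scheme.{u}} (f : X ⟶ Spec (CommRingCat.of R))

/-- The transition map `X_Λ ⟶ X_s`. -/
noncomputable abbrev π (s : Finset Λ) : pullback f (gσ R Λ) ⟶ pullback f (gσ R s) :=
  pullback.map f (gσ R Λ) f (gσ R s) (𝟙 X) (pr Λ s) (𝟙 _) (by simp) (by simp [pr_gσ])

theorem π_fst (s : Finset Λ) : π Λ f s ≫ pullback.fst f (gσ R s) = pullback.fst f (gσ R Λ) := by
  rw [pullback.lift_fst, Category.comp_id]

theorem π_snd (s : Finset Λ) :
    π Λ f s ≫ pullback.snd f (gσ R s) = pullback.snd f (gσ R Λ) ≫ pr Λ s := by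
  rw [pullback.lift_snd]

section Chart

variable (A : Type u) [CommRing A] [Algebra R A] (q : Spec (CommRingCat.of A) ⟶ X)
  (hq : q ≫ f = Spec.map (CommRingCat.ofHom (algebraMap R A)))

/-- The chart of `X_σ` induced by a chart `q : Spec A ⟶ X`. -/
noncomputable abbrev uσ (σ : Type u) :
    pullback (Spec.map (CommRingCat.ofHom (algebraMap R A))) (gσ R σ) ⟶ pullback f (gσ R σ) :=
  pullback.map _ (gσ R σ) f (gσ R σ) q (𝟙 _) (𝟙 _) (by rw [Category.comp_id, hq]) (by simp)

/-- The transition map of charts. -/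
noncomputable abbrev πW (s : Finset Λ) :
    pullback (Spec.map (CommRingCat.ofHom (algebraMap R A))) (gσ R Λ) ⟶
      pullback (Spec.map (CommRingCat.ofHom (algebraMap R A))) (gσ R s) :=
  pullback.map _ (gσ R Λ) _ (gσ R s) (𝟙 _) (pr Λ s) (𝟙 _) (by simp) (by simp [pr_gσ])

/-- The identification of the chart with `Spec (A ⊗ R[σ])`. -/
noncomputable abbrev eσ (σ : Type u) :
    pullback (Spec.map (CommRingCat.ofHom (algebraMap R A))) (gσ R σ) ≅
      Spec (CommRingCat.of (A ⊗[R] MvPolynomial σ R)) :=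
  pullbackSpecIso R A (MvPolynomial σ R)

theorem uσ_snd (σ : Type u) :
    uσ f A q hq σ ≫ pullback.snd f (gσ R σ) = pullback.snd _ (gσ R σ) := by
  rw [pullback.lift_snd, Category.comp_id]

theorem uσ_fst (σ : Type u) :
    uσ f A q hq σ ≫ pullback.fst f (gσ R σ) = pullback.fst _ (gσ R σ) ≫ q := by
  rw [pullback.lift_fst]

theorem πW_uσ (s : Finset Λ) :
    πW Λ A s ≫ uσ f A q hq s = uσ f A q hq Λ ≫ π Λ f s := by
  apply pullback.hom_ext
  · have h1 : (πW Λ A s ≫ uσ f A q hq s) ≫ pullback.fst f (gσ R s) =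
        pullback.fst _ (gσ R Λ) ≫ q := by
      rw [Category.assoc, uσ_fst, ← Category.assoc, pullback.lift_fst, Category.comp_id]
    have h2 : (uσ f A q hq Λ ≫ π Λ f s) ≫ pullback.fst f (gσ R s) =
        pullback.fst _ (gσ R Λ) ≫ q := by
      rw [Category.assoc, π_fst, uσ_fst]
    rw [h1, h2]
  · have h1 : (πW Λ A s ≫ uσ f A q hq s) ≫ pullback.snd f (gσ R s) =
        pullback.snd _ (gσ R Λ) ≫ pr Λ s := by
      rw [Category.assoc, uσ_snd, pullback.lift_snd]
    have h2 : (uσ f A q hq Λ ≫ π Λ f s) ≫ pullback.snd f (gσ R s) =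
        pullback.snd _ (gσ R Λ) ≫ pr Λ s := by
      rw [Category.assoc, π_snd, ← Category.assoc, uσ_snd]
    rw [h1, h2]

theorem eσ_hom_j (s : Finset Λ) :
    (eσ (R := R) A Λ).hom ≫ Spec.map (CommRingCat.ofHom (j R Λ A s).toRingHom) =
      πW Λ A s ≫ (eσ (R := R) A s).hom := by
  rw [← Iso.comp_inv_eq, Category.assoc]
  apply pullback.hom_ext
  · rw [Category.assoc, Category.assoc, pullbackSpecIso_inv_fst, pullback.lift_fst,
      Category.comp_id, ← Spec.map_comp, ← pullbackSpecIso_hom_fst]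
    congr 2
    apply CommRingCat.hom_ext
    apply RingHom.ext
    intro a
    simp [j]
  · rw [Category.assoc, Category.assoc, pullbackSpecIso_inv_snd, pullback.lift_snd,
      ← Spec.map_comp, ← pullbackSpecIso_hom_snd, Category.assoc, ← Spec.map_comp]
    congr 2

theorem snd_eq_incl (σ : Type u)
    (w : ↥(pullback (Spec.map (CommRingCat.ofHom (algebraMap R A))) (gσ R σ))) :
    (pullback.snd (Spec.map (CommRingCat.ofHom (algebraMap R A))) (gσ R σ)) w =
      (Spec.map (CommRingCat.ofHom (incl R A σ))) ((eσ (R := R) A σ).hom w) := by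
  rw [← Scheme.Hom.comp_apply]
  have h := pullbackSpecIso_hom_snd R A (MvPolynomial σ R)
  exact congrArg (fun φ => φ.base w) h.symm

set_option maxHeartbeats 800000 in
theorem chart_lemma [IsOpenImmersion q] (Z : Set ↥(pullback f (gσ R Λ))) (hZ : IsClosed Z)
    (t : ↥(Spec (CommRingCat.of (MvPolynomial Λ R))))
    (ht : t ∉ (pullback.snd f (gσ R Λ)) '' Z) :
    ∃ s : Finset Λ, ∀ s' : Finset Λ, s ⊆ s' →
      ∃ O : Set ↥(pullback f (gσ R s')), IsOpen O ∧
        (∀ z ∈ Z, π Λ f s' z ∉ O) ∧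
        (∀ x ∈ Set.range (uσ f A q hq s'),
          pullback.snd f (gσ R s') x = pr Λ s' t → x ∈ O) := by
  classical
  -- the closed subset of `Spec (A ⊗ R[Λ])`
  let Zt : Set (PrimeSpectrum (A ⊗[R] MvPolynomial Λ R)) :=
    (eσ (R := R) A Λ).inv ⁻¹' ((uσ f A q hq Λ) ⁻¹' Z)
  have hZt : IsClosed Zt :=
    (hZ.preimage (uσ f A q hq Λ).continuous).preimage (eσ (R := R) A Λ).inv.continuous
  let I := PrimeSpectrum.vanishingIdeal Zt
  have hI : PrimeSpectrum.zeroLocus (I : Set (A ⊗[R] MvPolynomial Λ R)) = Zt := by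
    rw [PrimeSpectrum.zeroLocus_vanishingIdeal_eq_closure, hZt.closure_eq]
  have hZt_mem : ∀ w : ↥(pullback (Spec.map (CommRingCat.ofHom (algebraMap R A))) (gσ R Λ)),
      (eσ (R := R) A Λ).hom w ∈ Zt ↔ uσ f A q hq Λ w ∈ Z := by
    intro w
    change (uσ f A q hq Λ) ((eσ (R := R) A Λ).inv ((eσ (R := R) A Λ).hom w)) ∈ Z ↔ _
    rw [← Scheme.Hom.comp_apply (eσ (R := R) A Λ).hom, Iso.hom_inv_id]
    rfl
  haveI : t.asIdeal.IsPrime := t.2
  have h : ¬ ∃ Q : Ideal (A ⊗[R] MvPolynomial Λ R), Q.IsPrime ∧ I ≤ Q ∧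
      Q.comap (incl R A Λ) = t.asIdeal := by
    rintro ⟨Q, hQp, hIQ, hQt⟩
    apply ht
    let Qp : ↥(Spec (CommRingCat.of (A ⊗[R] MvPolynomial Λ R))) := ⟨Q, hQp⟩
    have hQZ : Qp ∈ Zt := by
      rw [← hI]
      exact (PrimeSpectrum.mem_zeroLocus _ _).mpr hIQ
    set w := (eσ (R := R) A Λ).inv Qp with hw
    have hw' : (eσ (R := R) A Λ).hom w = Qp := by
      rw [hw, ← Scheme.Hom.comp_apply, Iso.inv_hom_id]
      rfl
    refine ⟨uσ f A q hq Λ w, ?_, ?_⟩
    · rw [← hZt_mem, hw']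
      exact hQZ
    · rw [← Scheme.Hom.comp_apply, uσ_snd, snd_eq_incl, hw']
      exact PrimeSpectrum.ext hQt
  obtain ⟨s, hs⟩ := exists_finset_fibre_empty I t.asIdeal h
  refine ⟨s, fun s' hs' => ?_⟩
  have hno := hs s' hs'
  let D : Set (PrimeSpectrum (A ⊗[R] MvPolynomial s' R)) :=
    (PrimeSpectrum.zeroLocus (I.comap (j R Λ A s').toRingHom : Set _))ᶜ
  have hD : IsOpen D := (PrimeSpectrum.isClosed_zeroLocus _).isOpen_compl
  have hinj : Function.Injective (uσ f A q hq s') :=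
    (uσ f A q hq s').isOpenEmbedding.injective
  refine ⟨((eσ (R := R) A s').inv ≫ uσ f A q hq s') '' D,
    ((eσ (R := R) A s').inv ≫ uσ f A q hq s').isOpenEmbedding.isOpenMap _ hD, ?_, ?_⟩
  · rintro z hz ⟨d, hd, hdz⟩
    rw [Scheme.Hom.comp_apply] at hdz
    -- `z` lies in the chart
    have hzr : z ∈ Set.range (uσ f A q hq Λ) := by
      rw [Scheme.Pullback.range_map]
      refine ⟨?_, ⟨_, rfl⟩⟩
      change pullback.fst f (gσ R Λ) z ∈ Set.range q
      rw [← π_fst Λ f s', Scheme.Hom.comp_apply, ← hdz, ← Scheme.Hom.comp_apply, uσ_fst,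
        Scheme.Hom.comp_apply]
      exact ⟨_, rfl⟩
    obtain ⟨w, rfl⟩ := hzr
    have hwZ : (eσ (R := R) A Λ).hom w ∈ Zt := (hZt_mem w).mpr hz
    have hIw : I ≤ ((eσ (R := R) A Λ).hom w).asIdeal := by
      rw [← hI] at hwZ
      exact (PrimeSpectrum.mem_zeroLocus _ _).mp hwZ
    -- the image of `w` at level `s'`
    have h1 : uσ f A q hq s' (πW Λ A s' w) = uσ f A q hq s' ((eσ (R := R) A s').inv d) := by
      rw [hdz, ← Scheme.Hom.comp_apply, πW_uσ, Scheme.Hom.comp_apply]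
    have h2 : πW Λ A s' w = (eσ (R := R) A s').inv d := hinj h1
    have h3 : (Spec.map (CommRingCat.ofHom (j R Λ A s').toRingHom))
        ((eσ (R := R) A Λ).hom w) = d := by
      rw [← Scheme.Hom.comp_apply, eσ_hom_j, Scheme.Hom.comp_apply, h2,
        ← Scheme.Hom.comp_apply, Iso.inv_hom_id]
      rfl
    apply hd
    rw [← h3]
    change I.comap (j R Λ A s').toRingHom ≤
      ((eσ (R := R) A Λ).hom w).asIdeal.comap (j R Λ A s').toRingHom
    exact Ideal.comap_mono hIw
  · rintro x ⟨w', rfl⟩ hxt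
    by_contra hxO
    set d := (eσ (R := R) A s').hom w' with hd
    have hdD : d ∉ D := by
      intro hdD
      apply hxO
      refine ⟨d, hdD, ?_⟩
      rw [Scheme.Hom.comp_apply, hd, ← Scheme.Hom.comp_apply (eσ (R := R) A s').hom,
        Iso.hom_inv_id]
      rfl
    have hdz : d ∈ PrimeSpectrum.zeroLocus (I.comap (j R Λ A s').toRingHom : Set _) := by
      by_contra hcon
      exact hdD hcon
    apply hno
    refine ⟨d.asIdeal, d.2, (PrimeSpectrum.mem_zeroLocus _ _).mp hdz, ?_⟩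
    rw [← Scheme.Hom.comp_apply, uσ_snd, snd_eq_incl] at hxt
    exact congrArg PrimeSpectrum.asIdeal hxt

end Chart

end Scheme

end Groth.Agent.Helper4.UCAff
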