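import Mathlib
import Groth.Prelude.Def_EGA43
import Groth.Agent.Lib.Helper4.UOpen1
import Groth.Agent.Lib.Helper4.UCAff2

/-!
# Openness at a point, part 3: reduction of affine base changes to polynomial rings in finitely many
variables
-/

set_option autoImplicit false

universe u

open TensorProduct CategoryTheory CategoryTheory.Limits AlgebraicGeometry EGA43

namespace Groth.Agent.Helper4.UOpen

open Groth.Agent.Helper4.UCAff

variable (R B R' : Type u) [CommRing R] [CommRing B] [CommRing R'] [Algebra R B] [Algebra R R']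

/-- Evaluation of polynomials in the variables of a finite subset of `R'`. -/
noncomputable abbrev ψ (s : Finset R') : MvPolynomial s R →ₐ[R] R' :=
  MvPolynomial.aeval (fun i : s => (i : R'))

/-- The induced map on `B ⊗ -`. -/
noncomputable abbrev Ψ (s : Finset R') : B ⊗[R] MvPolynomial s R →ₐ[B] B ⊗[R] R' :=
  Algebra.TensorProduct.map (AlgHom.id B B) (ψ R R' s)

variable {R B R'}

theorem exists_finset_mem_range_Ψ (h : B ⊗[R] R') :
    ∃ s : Finset R', ∀ s' : Finset R', s ⊆ s' → ∃ h' : B ⊗[R] MvPolynomial s' R,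
      Ψ R B R' s' h' = h := by
  classical
  induction h using TensorProduct.induction_on with
  | zero => exact ⟨∅, fun s' _ => ⟨0, map_zero _⟩⟩
  | tmul b r =>
    refine ⟨{r}, fun s' hs' => ?_⟩
    have hr : r ∈ s' := hs' (Finset.mem_singleton_self r)
    exact ⟨b ⊗ₜ MvPolynomial.X ⟨r, hr⟩, by simp [Ψ, ψ]⟩
  | add x y hx hy =>
    obtain ⟨s₁, h₁⟩ := hx
    obtain ⟨s₂, h₂⟩ := hy
    refine ⟨s₁ ∪ s₂, fun s' hs' => ?_⟩
    obtain ⟨x', rfl⟩ := h₁ s' (Finset.union_subset_left hs')
    obtain ⟨y', rfl⟩ := h₂ s' (Finset.union_subset_right hs')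
    exact ⟨x' + y', map_add _ _ _⟩

variable (R B R')

/-- `Spec B ⟶ Spec R`. -/
noncomputable abbrev f₀ : Spec (CommRingCat.of B) ⟶ Spec (CommRingCat.of R) :=
  Spec.map (CommRingCat.ofHom (algebraMap R B))

/-- `Spec R' ⟶ Spec R`. -/
noncomputable abbrev g₀ : Spec (CommRingCat.of R') ⟶ Spec (CommRingCat.of R) :=
  Spec.map (CommRingCat.ofHom (algebraMap R R'))

/-- `Spec R' ⟶ Spec R[s]`. -/
noncomputable abbrev k (s : Finset R') :
    Spec (CommRingCat.of R') ⟶ Spec (CommRingCat.of (MvPolynomial s R)) :=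
  Spec.map (CommRingCat.ofHom (ψ R R' s).toRingHom)

theorem k_gσ (s : Finset R') : k R R' s ≫ gσ R s = g₀ R R' := by
  rw [← Spec.map_comp]
  congr 1
  apply CommRingCat.hom_ext
  apply RingHom.ext
  intro r
  exact (ψ R R' s).commutes r

/-- The transition map to a finite level. -/
noncomputable abbrev πs (s : Finset R') :
    pullback (f₀ R B) (g₀ R R') ⟶ pullback (f₀ R B) (gσ R s) :=
  pullback.map _ _ _ _ (𝟙 _) (k R R' s) (𝟙 _) (by simp) (by simp [k_gσ])

theorem πs_snd (s : Finset R') :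
    πs R B R' s ≫ pullback.snd (f₀ R B) (gσ R s) = pullback.snd (f₀ R B) (g₀ R R') ≫ k R R' s := by
  rw [pullback.lift_snd]

theorem pullbackSpecIso_hom_Ψ (s : Finset R') :
    (pullbackSpecIso R B R').hom ≫ Spec.map (CommRingCat.ofHom (Ψ R B R' s).toRingHom) =
      πs R B R' s ≫ (pullbackSpecIso R B (MvPolynomial s R)).hom := by
  rw [← Iso.comp_inv_eq, Category.assoc]
  apply pullback.hom_ext
  · rw [Category.assoc, Category.assoc, pullbackSpecIso_inv_fst, pullback.lift_fst,
      Category.comp_id, ← Spec.map_comp, ← pullbackSpecIso_hom_fst]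
    congr 2
    apply CommRingCat.hom_ext
    apply RingHom.ext
    intro a
    simp [Ψ]
  · rw [Category.assoc, Category.assoc, pullbackSpecIso_inv_snd, pullback.lift_snd,
      ← Spec.map_comp, ← pullbackSpecIso_hom_snd, Category.assoc, ← Spec.map_comp]
    congr 2

variable {R B R'}

set_option maxHeartbeats 800000 in
/-- Opens of `Spec B ×_{Spec R} Spec R'` come from finite levels. -/
theorem exists_finset_open (x' : ↥(pullback (f₀ R B) (g₀ R R'))) (U : Set ↥(pullback (f₀ R B) (g₀ R R')))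
    (hU : U ∈ nhds x') :
    ∃ (s : Finset R') (O : Set ↥(pullback (f₀ R B) (gσ R s))), IsOpen O ∧
      (πs R B R' s).base x' ∈ O ∧ (πs R B R' s).base ⁻¹' O ⊆ U := by
  let e' := pullbackSpecIso R B R'
  have hinv : ∀ w, e'.inv.base (e'.hom.base w) = w := by
    intro w
    rw [← Scheme.Hom.comp_apply, Iso.hom_inv_id]
    rfl
  have hU' : e'.inv.base ⁻¹' U ∈ nhds (e'.hom.base x') := by
    apply e'.inv.continuous.continuousAt
    rw [hinv]
    exact hU
  obtain ⟨_, ⟨h, rfl⟩, hxh, hhU⟩ :=
    PrimeSpectrum.isTopologicalBasis_basic_opens.mem_nhds_iff.mp hU'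
  obtain ⟨s, hs⟩ := exists_finset_mem_range_Ψ h
  obtain ⟨h', hh'⟩ := hs s subset_rfl
  let es := pullbackSpecIso R B (MvPolynomial s R)
  have hcompat : ∀ w, (Spec.map (CommRingCat.ofHom (Ψ R B R' s).toRingHom)).base (e'.hom.base w) =
      es.hom.base ((πs R B R' s).base w) := by
    intro w
    rw [← Scheme.Hom.comp_apply, ← Scheme.Hom.comp_apply, pullbackSpecIso_hom_Ψ]
  have hmem : ∀ w, es.hom.base ((πs R B R' s).base w) ∈
      (PrimeSpectrum.basicOpen h' : Set (PrimeSpectrum (B ⊗[R] MvPolynomial s R))) ↔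
      e'.hom.base w ∈ (PrimeSpectrum.basicOpen h : Set (PrimeSpectrum (B ⊗[R] R'))) := by
    intro w
    rw [← hcompat, ← hh']
    rfl
  refine ⟨s, es.hom.base ⁻¹'
    (PrimeSpectrum.basicOpen h' : Set (PrimeSpectrum (B ⊗[R] MvPolynomial s R))), ?_, ?_, ?_⟩
  · exact (PrimeSpectrum.basicOpen h').isOpen.preimage es.hom.continuous
  · exact (hmem x').mpr hxh
  · intro w hw
    have h1 : e'.hom.base w ∈ e'.inv.base ⁻¹' U := hhU ((hmem w).mp hw)
    rw [Set.mem_preimage, hinv] at h1
    exact h1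

/-- Points of `Spec B ×_{Spec R} Spec R'` with prescribed images at a finite level and in
`Spec R'`. -/
theorem exists_point_over (s : Finset R') (u : ↥(pullback (f₀ R B) (gσ R s)))
    (y : ↥(Spec (CommRingCat.of R')))
    (huy : (pullback.snd (f₀ R B) (gσ R s)).base u = (k R R' s).base y) :
    ∃ w : ↥(pullback (f₀ R B) (g₀ R R')), (πs R B R' s).base w = u ∧
      (pullback.snd (f₀ R B) (g₀ R R')).base w = y := by
  obtain ⟨v, hv₁, hv₂⟩ := Scheme.Pullback.exists_preimage_pullback
    (f := pullback.snd (f₀ R B) (gσ R s)) (g := k R R' s) u y huy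
  let ι := pullbackLeftPullbackSndIso (f₀ R B) (gσ R s) (k R R' s)
  let c : pullback (f₀ R B) (k R R' s ≫ gσ R s) ≅ pullback (f₀ R B) (g₀ R R') :=
    pullback.congrHom rfl (k_gσ R R' s)
  have h1 : ι.hom ≫ c.hom ≫ πs R B R' s = pullback.fst (pullback.snd (f₀ R B) (gσ R s)) (k R R' s) := by
    apply pullback.hom_ext
    · simp only [Category.assoc, pullback.lift_fst, Category.comp_id, pullback.congrHom_hom, ι, c,
        pullbackLeftPullbackSndIso_hom_fst]
    · simp only [Category.assoc, pullback.lift_snd, Category.comp_id, pullback.congrHom_hom, ι, c,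
        pullback.lift_snd_assoc, pullbackLeftPullbackSndIso_hom_snd_assoc, pullback.condition]
  have h2 : ι.hom ≫ c.hom ≫ pullback.snd (f₀ R B) (g₀ R R') =
      pullback.snd (pullback.snd (f₀ R B) (gσ R s)) (k R R' s) := by
    simp only [Category.assoc, pullback.lift_snd, Category.comp_id, pullback.congrHom_hom, ι, c,
      pullbackLeftPullbackSndIso_hom_snd]
  refine ⟨c.hom.base (ι.hom.base v), ?_, ?_⟩
  · rw [← Scheme.Hom.comp_apply, ← Scheme.Hom.comp_apply, h1]
    exact hv₁
  · rw [← Scheme.Hom.comp_apply, ← Scheme.Hom.comp_apply, h2]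
    exact hv₂

/-- **Reduction to finitely many variables**: if the base changes to all polynomial rings in finitely
many variables are open at the images of `x'`, then the base change to `Spec R'` is open at `x'`. -/
theorem isOpenAt_snd_of_finset (x' : ↥(pullback (f₀ R B) (g₀ R R')))
    (H : ∀ s : Finset R', IsOpenAt (pullback.snd (f₀ R B) (gσ R s)).base ((πs R B R' s).base x')) :
    IsOpenAt (pullback.snd (f₀ R B) (g₀ R R')).base x' := by
  intro U hU
  obtain ⟨s, O, hO, hxO, hOU⟩ := exists_finset_open x' U hU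
  have h1 := H s O (hO.mem_nhds hxO)
  have hks : (pullback.snd (f₀ R B) (gσ R s)).base ((πs R B R' s).base x') =
      (k R R' s).base ((pullback.snd (f₀ R B) (g₀ R R')).base x') := by
    rw [← Scheme.Hom.comp_apply, ← Scheme.Hom.comp_apply, πs_snd]
  rw [hks] at h1
  have h2 : (k R R' s).base ⁻¹' ((pullback.snd (f₀ R B) (gσ R s)).base '' O) ∈
      nhds ((pullback.snd (f₀ R B) (g₀ R R')).base x') :=
    (k R R' s).continuous.continuousAt h1
  refine Filter.mem_of_superset h2 ?_
  rintro y ⟨u, huO, huy⟩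
  obtain ⟨w, hw₁, hw₂⟩ := exists_point_over s u y huy
  exact ⟨w, hOU (by rw [Set.mem_preimage, hw₁]; exact huO), hw₂⟩

end Groth.Agent.Helper4.UOpen
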