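import Mathlib
import Groth.Prelude.Def_EGA43
import Groth.Agent.Lib.Helper4.UOpen2
import Groth.Agent.Lib.Helper4.UOpen3

/-!
# Openness at a point, part 4: universal openness at a point from polynomial base changes, and the DVR
criterion (EGA IV 14.3.3, 14.5.8)
-/

set_option autoImplicit false

universe u

open TensorProduct CategoryTheory CategoryTheory.Limits AlgebraicGeometry EGA43

namespace Groth.Agent.Helper4.UOpen

open Groth.Agent.Helper4.UCAff

variable {X Y : Scheme.{u}} (f : X ⟶ Y)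

set_option maxHeartbeats 1600000 in
/-- **EGA IV 14.3.3**: universal openness at `x` can be tested on the base changes to affine spaces
(in finitely many variables) over affine open neighbourhoods of `f x`. -/
theorem isUnivOpenAt_of_polynomial (x : X)
    (H : ∀ (V : Y.Opens) (hV : IsAffineOpen V), f.base x ∈ V → ∀ (σ : Type u) [Finite σ]
      (z : ↥(pullback f (gσ Γ(Y, V) σ ≫ hV.fromSpec))),
      (pullback.fst f (gσ Γ(Y, V) σ ≫ hV.fromSpec)).base z = x →
      IsOpenAt (pullback.snd f (gσ Γ(Y, V) σ ≫ hV.fromSpec)).base z) :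
    IsUnivOpenAt f x := by
  intro Y' g x' hx'
  have hcond : f.base x = g.base ((pullback.snd f g).base x') := by
    rw [← hx', ← Scheme.Hom.comp_apply, ← Scheme.Hom.comp_apply, pullback.condition]
  obtain ⟨_, ⟨V, hV, rfl⟩, hxV, -⟩ :=
    Y.isBasis_affineOpens.exists_subset_of_mem_open (Set.mem_univ (f.base x)) isOpen_univ
  obtain ⟨_, ⟨W, hW, rfl⟩, hxW, hWV⟩ :=
    X.isBasis_affineOpens.exists_subset_of_mem_open (show x ∈ ((f ⁻¹ᵁ V : X.Opens) : Set X) from hxV)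
      (f ⁻¹ᵁ V).isOpen
  obtain ⟨_, ⟨V', hV', rfl⟩, hyV', hV'V⟩ :=
    Y'.isBasis_affineOpens.exists_subset_of_mem_open
      (show (pullback.snd f g).base x' ∈ ((g ⁻¹ᵁ V : Y'.Opens) : Set Y') from by
        change g.base ((pullback.snd f g).base x') ∈ V
        rw [← hcond]
        exact hxV)
      (g ⁻¹ᵁ V).isOpen
  have eW : W ≤ f ⁻¹ᵁ V := hWV
  have eV' : V' ≤ g ⁻¹ᵁ V := hV'V
  let φ := f.appLE V W eW
  let ψ' := g.appLE V V' eV'
  letI : Algebra Γ(Y, V) Γ(X, W) := φ.hom.toAlgebra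
  letI : Algebra Γ(Y, V) Γ(Y', V') := ψ'.hom.toAlgebra
  have e₁ : f₀ Γ(Y, V) Γ(X, W) ≫ hV.fromSpec = hW.fromSpec ≫ f :=
    hV.SpecMap_appLE_fromSpec f hW eW
  have e₂ : g₀ Γ(Y, V) Γ(Y', V') ≫ hV.fromSpec = hV'.fromSpec ≫ g :=
    hV.SpecMap_appLE_fromSpec g hV' eV'
  let m := pullback.map (f₀ Γ(Y, V) Γ(X, W)) (g₀ Γ(Y, V) Γ(Y', V')) f g hW.fromSpec hV'.fromSpec
    hV.fromSpec e₁ e₂
  have hm_snd : m ≫ pullback.snd f g = pullback.snd _ _ ≫ hV'.fromSpec := pullback.lift_snd _ _ _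
  have hm_fst : m ≫ pullback.fst f g = pullback.fst _ _ ≫ hW.fromSpec := pullback.lift_fst _ _ _
  have hx'm : x' ∈ Set.range m.base := by
    rw [Scheme.Pullback.range_map]
    refine ⟨?_, ?_⟩
    · change (pullback.fst f g).base x' ∈ Set.range hW.fromSpec.base
      rw [hW.range_fromSpec, hx']
      exact hxW
    · change (pullback.snd f g).base x' ∈ Set.range hV'.fromSpec.base
      rw [hV'.range_fromSpec]
      exact hyV'
  obtain ⟨x'₀, rfl⟩ := hx'm
  refine isOpenAt_of_square (pullback.snd f g).base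
    (pullback.snd (f₀ Γ(Y, V) Γ(X, W)) (g₀ Γ(Y, V) Γ(Y', V'))).base m.base hV'.fromSpec.base
    m.continuous hV'.fromSpec.isOpenEmbedding.isOpenMap ?_ x'₀ ?_
  · intro w
    rw [← Scheme.Hom.comp_apply, ← Scheme.Hom.comp_apply, hm_snd]
  apply isOpenAt_snd_of_finset
  intro s
  -- the chart at the finite level `s`
  let ms := pullback.map (f₀ Γ(Y, V) Γ(X, W)) (gσ Γ(Y, V) s) f (gσ Γ(Y, V) s ≫ hV.fromSpec)
    hW.fromSpec (𝟙 _) hV.fromSpec e₁ (by simp)
  have hms_snd : ms ≫ pullback.snd f (gσ Γ(Y, V) s ≫ hV.fromSpec) = pullback.snd _ _ := by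
    rw [pullback.lift_snd, Category.comp_id]
  have hms_fst : ms ≫ pullback.fst f (gσ Γ(Y, V) s ≫ hV.fromSpec) =
      pullback.fst _ _ ≫ hW.fromSpec := pullback.lift_fst _ _ _
  set z := (πs Γ(Y, V) Γ(X, W) Γ(Y', V') s).base x'₀ with hz
  have hπ_fst : πs Γ(Y, V) Γ(X, W) Γ(Y', V') s ≫ pullback.fst (f₀ Γ(Y, V) Γ(X, W)) (gσ Γ(Y, V) s) =
      pullback.fst (f₀ Γ(Y, V) Γ(X, W)) (g₀ Γ(Y, V) Γ(Y', V')) := by
    rw [pullback.lift_fst, Category.comp_id]
  have hzx : (pullback.fst f (gσ Γ(Y, V) s ≫ hV.fromSpec)).base (ms.base z) = x := by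
    have h3 : (pullback.fst f (gσ Γ(Y, V) s ≫ hV.fromSpec)).base (ms.base z) =
        (πs Γ(Y, V) Γ(X, W) Γ(Y', V') s ≫ ms ≫
          pullback.fst f (gσ Γ(Y, V) s ≫ hV.fromSpec)).base x'₀ := by
      rw [Scheme.Hom.comp_apply, Scheme.Hom.comp_apply]
    rw [h3, hms_fst, ← Category.assoc, hπ_fst, ← hm_fst, Scheme.Hom.comp_apply]
    exact hx'
  have h1 := H V hV hxV s (ms.base z) hzx
  have h2 := isOpenAt_comp_of_isOpenMap _ ms.base ms.isOpenEmbedding.isOpenMap z h1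
  refine isOpenAt_congr ?_ z h2
  intro w
  change (pullback.snd f (gσ Γ(Y, V) s ≫ hV.fromSpec)).base (ms.base w) = _
  rw [← Scheme.Hom.comp_apply, hms_snd]

/-- **EGA IV 14.5.8**: over a locally Noetherian base, the DVR criterion at `x` implies universal
openness at `x`. -/
theorem isUnivOpenAt_of_dvrGenAt [IsLocallyNoetherian Y] [LocallyOfFiniteType f] {x : X}
    (h : DVRGenAt f x) : IsUnivOpenAt f x := by
  apply isUnivOpenAt_of_polynomial
  intro V hV _ σ _ z hz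
  haveI : IsNoetherianRing Γ(Y, V) := IsLocallyNoetherian.component_noetherian ⟨V, hV⟩
  haveI : IsNoetherianRing (MvPolynomial σ Γ(Y, V)) := inferInstance
  exact h.isOpenAt_snd f _ z hz

/-- **EGA IV 14.5.8**. -/
theorem isUnivOpenAt_iff_dvrGenAt [IsLocallyNoetherian Y] [LocallyOfFiniteType f] (x : X) :
    IsUnivOpenAt f x ↔ DVRGenAt f x :=
  ⟨dvrGenAt_of_isUnivOpenAt f, isUnivOpenAt_of_dvrGenAt f⟩

end Groth.Agent.Helper4.UOpen
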