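import Mathlib
import Groth.Prelude.Def_EGA43
import Groth.Agent.Lib.Helper4.UOpen4

/-!
# Openness at a point, part 5: universally open = universally open at every point; irreducible
components dominating a DVR
-/

set_option autoImplicit false

universe u

open CategoryTheory CategoryTheory.Limits AlgebraicGeometry EGA43

namespace Groth.Agent.Helper4.UOpen

theorem isOpenMap_iff_isOpenAt {α β : Type*} [TopologicalSpace α] [TopologicalSpace β] (f : α → β) :
    IsOpenMap f ↔ ∀ a, IsOpenAt f a := by
  rw [isOpenMap_iff_nhds_le]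
  refine forall_congr' fun a => ?_
  rw [Filter.le_map_iff]
  rfl

variable {X Y : Scheme.{u}} (f : X ⟶ Y)

theorem isUnivOpenAt_of_universallyOpen [UniversallyOpen f] (x : X) : IsUnivOpenAt f x := by
  intro Y' g x' _
  exact (isOpenMap_iff_isOpenAt _).mp (pullback.snd f g).isOpenMap x'

theorem universallyOpen_of_isUnivOpenAt (h : ∀ x, IsUnivOpenAt f x) : UniversallyOpen f := by
  rw [UniversallyOpen.eq]
  apply MorphismProperty.universally_mk'
  intro T g _
  change IsOpenMap (pullback.fst g f).base
  have h1 : IsOpenMap (pullback.snd f g).base := by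
    rw [isOpenMap_iff_isOpenAt]
    intro x'
    exact h _ T g x' rfl
  have h2 : pullback.fst g f = (pullbackSymmetry g f).hom ≫ pullback.snd f g := by
    rw [pullbackSymmetry_hom_comp_snd]
  rw [h2]
  change IsOpenMap ((pullback.snd f g).base ∘ (pullbackSymmetry g f).hom.base)
  exact h1.comp (pullbackSymmetry g f).hom.homeomorph.isOpenMap

theorem universallyOpen_iff_isUnivOpenAt : UniversallyOpen f ↔ ∀ x, IsUnivOpenAt f x :=
  ⟨fun _ x => isUnivOpenAt_of_universallyOpen f x, universallyOpen_of_isUnivOpenAt f⟩

section DVR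

variable {A : Type u} [CommRing A] [IsDomain A] [IsDiscreteValuationRing A]
  {P : Scheme.{u}} (p : P ⟶ Spec (CommRingCat.of A))

/-- If every irreducible component of `P` dominates `Spec A`, every point over the closed point is a
specialization of a point over the generic point. -/
theorem exists_specializes_of_dense
    (h : ∀ Z ∈ irreducibleComponents (↥P : Type u), Dense (p.base '' Z)) (x' : P) :
    ∃ z' : P, z' ⤳ x' ∧ p.base z' ≠ IsLocalRing.closedPoint A := by
  let Z := irreducibleComponent x'
  have hZ : Z ∈ irreducibleComponents (↥P : Type u) := irreducibleComponent_mem_irreducibleComponents x'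
  obtain ⟨ζ, hζ⟩ := QuasiSober.sober (isIrreducible_irreducibleComponent (x := x'))
    (isClosed_irreducibleComponent (x := x'))
  have hζx' : ζ ⤳ x' := by
    rw [specializes_iff_mem_closure, hζ.def]
    exact mem_irreducibleComponent
  refine ⟨ζ, hζx', ?_⟩
  intro hpζ
  -- the open complement of the closed point meets the image of `Z`
  have hopen : IsOpen ({IsLocalRing.closedPoint A}ᶜ : Set (PrimeSpectrum A)) := by
    rw [isOpen_compl_iff]
    exact IsLocalRing.isClosed_singleton_closedPoint A
  have hne : ({IsLocalRing.closedPoint A}ᶜ : Set (PrimeSpectrum A)).Nonempty := by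
    refine ⟨⟨⊥, Ideal.isPrime_bot⟩, ?_⟩
    intro heq
    have h1 : (⊥ : Ideal A) = IsLocalRing.maximalIdeal A := congrArg PrimeSpectrum.asIdeal heq
    exact IsDiscreteValuationRing.not_a_field A h1.symm
  obtain ⟨_, hy, ⟨z, hzZ, rfl⟩⟩ := (h Z hZ).inter_open_nonempty _ hopen hne
  have hζz : ζ ⤳ z := by
    rw [specializes_iff_mem_closure, hζ.def]
    exact hzZ
  have h2 := hζz.map p.continuous
  rw [hpζ] at h2
  apply hy
  have h3 : p.base z ∈ closure {IsLocalRing.closedPoint A} := specializes_iff_mem_closure.mp h2
  rw [(IsLocalRing.isClosed_singleton_closedPoint A).closure_eq] at h3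
  exact h3

/-- Conversely, if every point over the closed point is a specialization of a point over the generic
point, every irreducible component of `P` dominates `Spec A`. -/
theorem dense_of_exists_specializes
    (h : ∀ x' : P, p.base x' = IsLocalRing.closedPoint A →
      ∃ z' : P, z' ⤳ x' ∧ p.base z' ≠ IsLocalRing.closedPoint A)
    (Z : Set P) (hZ : Z ∈ irreducibleComponents (↥P : Type u)) : Dense (p.base '' Z) := by
  obtain ⟨ζ, hζ⟩ := QuasiSober.sober hZ.1 (isClosed_of_mem_irreducibleComponents Z hZ)
  have hζZ : ζ ∈ Z := hζ.mem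
  have hpζ : p.base ζ ≠ IsLocalRing.closedPoint A := by
    intro hpζ
    obtain ⟨z', hz'₁, hz'₂⟩ := h ζ hpζ
    apply hz'₂
    have h1 : Z ⊆ closure {z'} := by
      rw [← hζ.def]
      exact closure_minimal (Set.singleton_subset_iff.mpr (specializes_iff_mem_closure.mp hz'₁))
        isClosed_closure
    have h2 : closure {z'} ⊆ Z := hZ.2 isIrreducible_singleton.closure h1
    have h3 : ζ ⤳ z' := by
      rw [specializes_iff_mem_closure, hζ.def]
      exact h2 (subset_closure rfl)
    have h4 : z' = ζ := (hz'₁.antisymm h3).eq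
    rw [h4]
    exact hpζ
  have hbot := asIdeal_eq_bot_of_ne_closedPoint _ hpζ
  intro t
  have h1 : p.base ζ ⤳ t := by
    refine (PrimeSpectrum.le_iff_specializes (R := A) (p.base ζ) t).mp ?_
    change (p.base ζ).asIdeal ≤ t.asIdeal
    rw [hbot]
    exact bot_le
  have h2 : ({p.base ζ} : Set ↥(Spec (CommRingCat.of A))) ⊆ p.base '' Z :=
    Set.singleton_subset_iff.mpr ⟨ζ, hζZ, rfl⟩
  exact closure_mono h2 (specializes_iff_mem_closure.mp h1)

end DVR

/-- **EGA IV 14.5.8, components form (at the fibre over `y`)**. -/
theorem forall_isUnivOpenAt_iff_components [IsLocallyNoetherian Y] [LocallyOfFiniteType f] (y : Y) :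
    (∀ x : X, f.base x = y → IsUnivOpenAt f x) ↔
      ∀ (A : Type u) [CommRing A] [IsDomain A] [IsDiscreteValuationRing A]
        (g : Spec (CommRingCat.of A) ⟶ Y), g.base (IsLocalRing.closedPoint A) = y →
        ∀ Z ∈ irreducibleComponents (↥(pullback f g) : Type u),
          Dense ((pullback.snd f g).base '' Z) := by
  constructor
  · intro h A _ _ _ g hg Z hZ
    apply dense_of_exists_specializes (pullback.snd f g) _ Z hZ
    intro x' hx'
    have hfx : f.base ((pullback.fst f g).base x') = y := by
      rw [← Scheme.Hom.comp_apply, pullback.condition, Scheme.Hom.comp_apply, hx', hg]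
    exact dvrGenAt_of_isUnivOpenAt f (h _ hfx) A g (by rw [hg, hfx]) x' rfl hx'
  · intro h x hx
    apply isUnivOpenAt_of_dvrGenAt
    intro A _ _ _ g hg x' _ _
    exact exists_specializes_of_dense (pullback.snd f g) (h A g (by rw [hg, hx])) x'

/-- **EGA IV 14.5.8, components form**. -/
theorem universallyOpen_iff_components [IsLocallyNoetherian Y] [LocallyOfFiniteType f] :
    UniversallyOpen f ↔
      ∀ (A : Type u) [CommRing A] [IsDomain A] [IsDiscreteValuationRing A]
        (g : Spec (CommRingCat.of A) ⟶ Y),
        ∀ Z ∈ irreducibleComponents (↥(pullback f g) : Type u),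
          Dense ((pullback.snd f g).base '' Z) := by
  rw [universallyOpen_iff_isUnivOpenAt]
  constructor
  · intro h A _ _ _ g Z hZ
    exact (forall_isUnivOpenAt_iff_components f (g.base (IsLocalRing.closedPoint A))).mp
      (fun x _ => h x) A g rfl Z hZ
  · intro h x
    exact (forall_isUnivOpenAt_iff_components f (f.base x)).mpr
      (fun A _ _ _ g _ Z hZ => h A g Z hZ) x rfl

end Groth.Agent.Helper4.UOpen
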