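import Mathlib
import Groth.Prelude.Def_EGA43
import Groth.Agent.Lib.Helper4.UOpen5

/-!
# Openness at a point, part 6: universal openness from affine spaces `𝔸ⁿ`, `n > 0`
-/

set_option autoImplicit false

universe u

open TensorProduct CategoryTheory CategoryTheory.Limits AlgebraicGeometry EGA43

namespace Groth.Agent.Helper4.UOpen

open Groth.Agent.Helper4.UCAff

section Affine

variable {R B R' : Type u} [CommRing R] [CommRing B] [CommRing R'] [Algebra R B] [Algebra R R']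

set_option maxHeartbeats 800000 in
/-- Opens of `Spec B ×_{Spec R} Spec R'` come from nonempty finite levels. -/
theorem exists_finset_open' (x' : ↥(pullback (f₀ R B) (g₀ R R')))
    (U : Set ↥(pullback (f₀ R B) (g₀ R R'))) (hU : U ∈ nhds x') :
    ∃ (s : Finset R') (_ : s.Nonempty) (O : Set ↥(pullback (f₀ R B) (gσ R s))), IsOpen O ∧
      (πs R B R' s).base x' ∈ O ∧ (πs R B R' s).base ⁻¹' O ⊆ U := by
  classical
  let e' := pullbackSpecIso R B R'
  have hinv : ∀ w, e'.inv.base (e'.hom.base w) = w := by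
    intro w
    rw [← Scheme.Hom.comp_apply, Iso.hom_inv_id]
    rfl
  have hU' : e'.inv.base ⁻¹' U ∈ nhds (e'.hom.base x') := by
    apply e'.inv.continuous.continuousAt
    rw [hinv]
    exact hU
  obtain ⟨_, ⟨h, rfl⟩, hxh, hhU⟩ :=
    PrimeSpectrum.isTopologicalBasis_basic_opens.mem_nhds_iff.mp hU'
  obtain ⟨s₀, hs⟩ := exists_finset_mem_range_Ψ h
  obtain ⟨s, hs₀s, hsne⟩ : ∃ s : Finset R', s₀ ⊆ s ∧ s.Nonempty :=
    ⟨insert 0 s₀, Finset.subset_insert _ _, Finset.insert_nonempty _ _⟩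
  obtain ⟨h', hh'⟩ := hs s hs₀s
  let es := pullbackSpecIso R B (MvPolynomial s R)
  have hcompat : ∀ w, (Spec.map (CommRingCat.ofHom (Ψ R B R' s).toRingHom)).base (e'.hom.base w) =
      es.hom.base ((πs R B R' s).base w) := by
    intro w
    rw [← Scheme.Hom.comp_apply, ← Scheme.Hom.comp_apply, pullbackSpecIso_hom_Ψ]
  have hmem : ∀ w, es.hom.base ((πs R B R' s).base w) ∈
      (PrimeSpectrum.basicOpen h' : Set (PrimeSpectrum (B ⊗[R] MvPolynomial s R))) ↔
      e'.hom.base w ∈ (PrimeSpectrum.basicOpen h : Set (PrimeSpectrum (B ⊗[R] R'))) := by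
    intro w
    rw [← hcompat, ← hh']
    rfl
  refine ⟨s, hsne, es.hom.base ⁻¹'
    (PrimeSpectrum.basicOpen h' : Set (PrimeSpectrum (B ⊗[R] MvPolynomial s R))), ?_, ?_, ?_⟩
  · exact (PrimeSpectrum.basicOpen h').isOpen.preimage es.hom.continuous
  · exact (hmem x').mpr hxh
  · intro w hw
    have h1 : e'.hom.base w ∈ e'.inv.base ⁻¹' U := hhU ((hmem w).mp hw)
    rw [Set.mem_preimage, hinv] at h1
    exact h1

/-- Reduction to finitely many (but at least one) variables. -/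
theorem isOpenAt_snd_of_finset' (x' : ↥(pullback (f₀ R B) (g₀ R R')))
    (H : ∀ s : Finset R', s.Nonempty →
      IsOpenAt (pullback.snd (f₀ R B) (gσ R s)).base ((πs R B R' s).base x')) :
    IsOpenAt (pullback.snd (f₀ R B) (g₀ R R')).base x' := by
  intro U hU
  obtain ⟨s, hsne, O, hO, hxO, hOU⟩ := exists_finset_open' x' U hU
  have h1 := H s hsne O (hO.mem_nhds hxO)
  have hks : (pullback.snd (f₀ R B) (gσ R s)).base ((πs R B R' s).base x') =
      (k R R' s).base ((pullback.snd (f₀ R B) (g₀ R R')).base x') := by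
    rw [← Scheme.Hom.comp_apply, ← Scheme.Hom.comp_apply, πs_snd]
  rw [hks] at h1
  have h2 : (k R R' s).base ⁻¹' ((pullback.snd (f₀ R B) (gσ R s)).base '' O) ∈
      nhds ((pullback.snd (f₀ R B) (g₀ R R')).base x') :=
    (k R R' s).continuous.continuousAt h1
  refine Filter.mem_of_superset h2 ?_
  rintro y ⟨u, huO, huy⟩
  obtain ⟨w, hw₁, hw₂⟩ := exists_point_over s u y huy
  exact ⟨w, hOU (by rw [Set.mem_preimage, hw₁]; exact huO), hw₂⟩

end Affine

variable {X Y : Scheme.{u}} (f : X ⟶ Y)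

set_option maxHeartbeats 1600000 in
/-- **EGA IV 14.3.3**, with at least one variable. -/
theorem isUnivOpenAt_of_polynomial' (x : X)
    (H : ∀ (V : Y.Opens) (hV : IsAffineOpen V), f.base x ∈ V → ∀ (σ : Type u) [Finite σ] [Nonempty σ]
      (z : ↥(pullback f (gσ Γ(Y, V) σ ≫ hV.fromSpec))),
      (pullback.fst f (gσ Γ(Y, V) σ ≫ hV.fromSpec)).base z = x →
      IsOpenAt (pullback.snd f (gσ Γ(Y, V) σ ≫ hV.fromSpec)).base z) :
    IsUnivOpenAt f x := by
  intro Y' g x' hx'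
  have hcond : f.base x = g.base ((pullback.snd f g).base x') := by
    rw [← hx', ← Scheme.Hom.comp_apply, ← Scheme.Hom.comp_apply, pullback.condition]
  obtain ⟨_, ⟨V, hV, rfl⟩, hxV, -⟩ :=
    Y.isBasis_affineOpens.exists_subset_of_mem_open (Set.mem_univ (f.base x)) isOpen_univ
  obtain ⟨_, ⟨W, hW, rfl⟩, hxW, hWV⟩ :=
    X.isBasis_affineOpens.exists_subset_of_mem_open (show x ∈ ((f ⁻¹ᵁ V : X.Opens) : Set X) from hxV)
      (f ⁻¹ᵁ V).isOpen
  obtain ⟨_, ⟨V', hV', rfl⟩, hyV', hV'V⟩ :=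
    Y'.isBasis_affineOpens.exists_subset_of_mem_open
      (show (pullback.snd f g).base x' ∈ ((g ⁻¹ᵁ V : Y'.Opens) : Set Y') from by
        change g.base ((pullback.snd f g).base x') ∈ V
        rw [← hcond]
        exact hxV)
      (g ⁻¹ᵁ V).isOpen
  have eW : W ≤ f ⁻¹ᵁ V := hWV
  have eV' : V' ≤ g ⁻¹ᵁ V := hV'V
  let φ := f.appLE V W eW
  let ψ' := g.appLE V V' eV'
  letI : Algebra Γ(Y, V) Γ(X, W) := φ.hom.toAlgebra
  letI : Algebra Γ(Y, V) Γ(Y', V') := ψ'.hom.toAlgebra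
  have e₁ : f₀ Γ(Y, V) Γ(X, W) ≫ hV.fromSpec = hW.fromSpec ≫ f :=
    hV.SpecMap_appLE_fromSpec f hW eW
  have e₂ : g₀ Γ(Y, V) Γ(Y', V') ≫ hV.fromSpec = hV'.fromSpec ≫ g :=
    hV.SpecMap_appLE_fromSpec g hV' eV'
  let m := pullback.map (f₀ Γ(Y, V) Γ(X, W)) (g₀ Γ(Y, V) Γ(Y', V')) f g hW.fromSpec hV'.fromSpec
    hV.fromSpec e₁ e₂
  have hm_snd : m ≫ pullback.snd f g = pullback.snd _ _ ≫ hV'.fromSpec := pullback.lift_snd _ _ _
  have hm_fst : m ≫ pullback.fst f g = pullback.fst _ _ ≫ hW.fromSpec := pullback.lift_fst _ _ _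
  have hx'm : x' ∈ Set.range m.base := by
    rw [Scheme.Pullback.range_map]
    refine ⟨?_, ?_⟩
    · change (pullback.fst f g).base x' ∈ Set.range hW.fromSpec.base
      rw [hW.range_fromSpec, hx']
      exact hxW
    · change (pullback.snd f g).base x' ∈ Set.range hV'.fromSpec.base
      rw [hV'.range_fromSpec]
      exact hyV'
  obtain ⟨x'₀, rfl⟩ := hx'm
  refine isOpenAt_of_square (pullback.snd f g).base
    (pullback.snd (f₀ Γ(Y, V) Γ(X, W)) (g₀ Γ(Y, V) Γ(Y', V'))).base m.base hV'.fromSpec.base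
    m.continuous hV'.fromSpec.isOpenEmbedding.isOpenMap ?_ x'₀ ?_
  · intro w
    rw [← Scheme.Hom.comp_apply, ← Scheme.Hom.comp_apply, hm_snd]
  apply isOpenAt_snd_of_finset'
  intro s hsne
  haveI : Nonempty s := hsne.to_subtype
  -- the chart at the finite level `s`
  let ms := pullback.map (f₀ Γ(Y, V) Γ(X, W)) (gσ Γ(Y, V) s) f (gσ Γ(Y, V) s ≫ hV.fromSpec)
    hW.fromSpec (𝟙 _) hV.fromSpec e₁ (by simp)
  have hms_snd : ms ≫ pullback.snd f (gσ Γ(Y, V) s ≫ hV.fromSpec) = pullback.snd _ _ := by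
    rw [pullback.lift_snd, Category.comp_id]
  have hms_fst : ms ≫ pullback.fst f (gσ Γ(Y, V) s ≫ hV.fromSpec) =
      pullback.fst _ _ ≫ hW.fromSpec := pullback.lift_fst _ _ _
  set z := (πs Γ(Y, V) Γ(X, W) Γ(Y', V') s).base x'₀ with hz
  have hπ_fst : πs Γ(Y, V) Γ(X, W) Γ(Y', V') s ≫ pullback.fst (f₀ Γ(Y, V) Γ(X, W)) (gσ Γ(Y, V) s) =
      pullback.fst (f₀ Γ(Y, V) Γ(X, W)) (g₀ Γ(Y, V) Γ(Y', V')) := by
    rw [pullback.lift_fst, Category.comp_id]
  have hzx : (pullback.fst f (gσ Γ(Y, V) s ≫ hV.fromSpec)).base (ms.base z) = x := by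
    have h3 : (pullback.fst f (gσ Γ(Y, V) s ≫ hV.fromSpec)).base (ms.base z) =
        (πs Γ(Y, V) Γ(X, W) Γ(Y', V') s ≫ ms ≫
          pullback.fst f (gσ Γ(Y, V) s ≫ hV.fromSpec)).base x'₀ := by
      rw [Scheme.Hom.comp_apply, Scheme.Hom.comp_apply]
    rw [h3, hms_fst, ← Category.assoc, hπ_fst, ← hm_fst, Scheme.Hom.comp_apply]
    exact hx'
  have h1 := H V hV hxV s (ms.base z) hzx
  have h2 := isOpenAt_comp_of_isOpenMap _ ms.base ms.isOpenEmbedding.isOpenMap z h1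
  refine isOpenAt_congr ?_ z h2
  intro w
  change (pullback.snd f (gσ Γ(Y, V) s ≫ hV.fromSpec)).base (ms.base w) = _
  rw [← Scheme.Hom.comp_apply, hms_snd]

/-- Openness of the base change is inherited by open subschemes of the test scheme. -/
theorem isOpenMap_snd_comp_of_isOpenImmersion {T T' : Scheme.{u}} (g : T ⟶ Y) (i : T' ⟶ T)
    [IsOpenImmersion i] (h : IsOpenMap (pullback.snd f g).base) :
    IsOpenMap (pullback.snd f (i ≫ g)).base := by
  have h1 : topologically @IsOpenMap (pullback.snd (pullback.snd f g) i) :=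
    IsZariskiLocalAtTarget.of_isPullback (P := topologically @IsOpenMap)
      (IsPullback.of_hasPullback (pullback.snd f g) i) h
  have h2 : pullback.snd f (i ≫ g) =
      (pullbackLeftPullbackSndIso f g i).inv ≫ pullback.snd (pullback.snd f g) i :=
    (pullbackLeftPullbackSndIso_inv_snd_snd f g i).symm
  rw [h2]
  change IsOpenMap ((pullback.snd (pullback.snd f g) i).base ∘
    (pullbackLeftPullbackSndIso f g i).inv.base)
  exact IsOpenMap.comp h1 (pullbackLeftPullbackSndIso f g i).inv.homeomorph.isOpenMap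

set_option maxHeartbeats 800000 in
/-- **EGA IV 14.3.3 / Stacks 0205-analogue**: a morphism is universally open as soon as its base
changes to all affine spaces `𝔸ⁿ_Y`, `n > 0`, are open maps. -/
theorem universallyOpen_of_affineSpace
    (H : ∀ n : ℕ, 0 < n → IsOpenMap (pullback.snd f (𝔸(ULift.{u} (Fin n); Y) ↘ Y)).base) :
    UniversallyOpen f := by
  apply universallyOpen_of_isUnivOpenAt
  intro x
  apply isUnivOpenAt_of_polynomial'
  intro V hV _ σ _ _ z _
  refine (isOpenMap_iff_isOpenAt _).mp ?_ z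
  let n := Nat.card σ
  have hn : 0 < n := Nat.card_pos
  let e : σ ≃ ULift.{u} (Fin n) := (Finite.equivFin σ).trans Equiv.ulift.symm
  let ρ : MvPolynomial (ULift.{u} (Fin n)) Γ(Y, V) ≃ₐ[Γ(Y, V)] MvPolynomial σ Γ(Y, V) :=
    MvPolynomial.renameEquiv Γ(Y, V) e.symm
  let i₁ : Spec (CommRingCat.of (MvPolynomial σ Γ(Y, V))) ⟶
      Spec (CommRingCat.of (MvPolynomial (ULift.{u} (Fin n)) Γ(Y, V))) :=
    Spec.map (ρ.toRingEquiv.toCommRingCatIso).hom
  have hi₁ : i₁ ≫ gσ Γ(Y, V) (ULift.{u} (Fin n)) = gσ Γ(Y, V) σ := by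
    rw [← Spec.map_comp]
    congr 1
    apply CommRingCat.hom_ext
    apply RingHom.ext
    intro r
    exact ρ.commutes r
  let j : Spec (CommRingCat.of (MvPolynomial (ULift.{u} (Fin n)) Γ(Y, V))) ⟶
      𝔸(ULift.{u} (Fin n); Y) :=
    (AffineSpace.SpecIso (ULift.{u} (Fin n)) (CommRingCat.of Γ(Y, V))).inv ≫
      AffineSpace.map (ULift.{u} (Fin n)) hV.fromSpec
  haveI : IsOpenImmersion (AffineSpace.map (ULift.{u} (Fin n)) hV.fromSpec) :=
    MorphismProperty.of_isPullback (P := @IsOpenImmersion)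
      (AffineSpace.isPullback_map (n := ULift.{u} (Fin n)) hV.fromSpec).flip inferInstance
  have hj : gσ Γ(Y, V) (ULift.{u} (Fin n)) ≫ hV.fromSpec =
      j ≫ (𝔸(ULift.{u} (Fin n); Y) ↘ Y) := by
    rw [Category.assoc, AffineSpace.map_over, AffineSpace.SpecIso_inv_over_assoc]
    rfl
  have ht : gσ Γ(Y, V) σ ≫ hV.fromSpec = (i₁ ≫ j) ≫ (𝔸(ULift.{u} (Fin n); Y) ↘ Y) := by
    rw [Category.assoc, ← hj, ← Category.assoc, hi₁]
  rw [ht]
  exact isOpenMap_snd_comp_of_isOpenImmersion f _ (i₁ ≫ j) (H n hn)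

end Groth.Agent.Helper4.UOpen
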