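import Mathlib
import Groth.Prelude.Def_EGA43
import Groth.Agent.Lib.Helper4.UOpen6

/-!
# Openness at a point, part 7: open at a point implies generizing at the point; universal openness
at a point and the local scheme of the base (EGA IV 14.3.4-ish)
-/

set_option autoImplicit false

universe u

open CategoryTheory CategoryTheory.Limits AlgebraicGeometry EGA43

namespace Groth.Agent.Helper4.UOpen

open Groth.Agent.Helper4.UCAff

section Top

variable {W X V Y : Type*} [TopologicalSpace W] [TopologicalSpace X] [TopologicalSpace V]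
  [TopologicalSpace Y]

theorem isOpenAt_of_square' (f : X → Y) (f' : W → V) (i : W → X) (j : V → Y) (hi : IsOpenMap i)
    (hj : Continuous j) (hj' : Function.Injective j) (hcomm : ∀ w, f (i w) = j (f' w)) (w : W)
    (h : IsOpenAt f (i w)) : IsOpenAt f' w := by
  intro U hU
  have h1 := h _ (hi.image_mem_nhds hU)
  rw [hcomm] at h1
  have h2 : j ⁻¹' (f '' (i '' U)) ∈ nhds (f' w) := hj.continuousAt h1
  refine Filter.mem_of_superset h2 ?_
  rintro v ⟨_, ⟨u, hu, rfl⟩, huv⟩
  exact ⟨u, hu, hj' (by rw [← hcomm, huv])⟩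

theorem genAt_of_square' (f : X → Y) (f' : W → V) (i : W → X) (j : V → Y) (hi : Continuous i)
    (hj : Topology.IsOpenEmbedding j) (hcomm : ∀ w, f (i w) = j (f' w)) (w : W)
    (h : GenAt f' w) : GenAt f (i w) := by
  intro y₁ hy₁
  rw [hcomm] at hy₁
  have hr : y₁ ∈ Set.range j := hy₁.mem_open hj.isOpen_range ⟨_, rfl⟩
  obtain ⟨v₁, rfl⟩ := hr
  obtain ⟨w₁, hw₁, hfw₁⟩ := h v₁ (hj.isInducing.specializes_iff.mp hy₁)
  exact ⟨i w₁, hw₁.map hi, by rw [hcomm, hfw₁]⟩

end Top

section Ring

open PrimeSpectrum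

/-- A ring map whose spectrum map is open at `q` is generizing at `q`. -/
theorem genAt_comap_of_isOpenAt {R B : Type u} [CommRing R] [CommRing B] (φ : R →+* B)
    (q : PrimeSpectrum B) (h : IsOpenAt (comap φ) q) : GenAt (comap φ) q := by
  intro p₁ hp₁
  let Bq := Localization.AtPrime q.asIdeal
  let φ' : R →+* Bq := (algebraMap B Bq).comp φ
  have key : (p₁.asIdeal.map φ').comap φ' = p₁.asIdeal := by
    refine le_antisymm ?_ Ideal.le_comap_map
    intro r hr
    rw [Ideal.mem_comap] at hr
    have hmm : p₁.asIdeal.map φ' = (p₁.asIdeal.map φ).map (algebraMap B Bq) :=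
      (Ideal.map_map _ _).symm
    rw [hmm, IsLocalization.mem_map_algebraMap_iff q.asIdeal.primeCompl] at hr
    obtain ⟨⟨⟨a, ha⟩, ⟨b, hb⟩⟩, hab⟩ := hr
    have hab' : algebraMap B Bq (φ r * b) = algebraMap B Bq a := by
      rw [map_mul]
      exact hab
    obtain ⟨⟨c, hc⟩, hcab⟩ := (IsLocalization.eq_iff_exists q.asIdeal.primeCompl Bq).mp hab'
    have hcab' : (c * b) * φ r = c * a := by
      have : c * (φ r * b) = c * a := hcab
      rw [← this]
      ring
    -- the basic open `D(c b)` contains `q`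
    have hcb : c * b ∉ q.asIdeal := fun hmem =>
      (q.2.mem_or_mem hmem).elim hc hb
    have h1 := h _ ((basicOpen (c * b)).isOpen.mem_nhds hcb)
    obtain ⟨O, hOsub, hO, hqO⟩ := mem_nhds_iff.mp h1
    obtain ⟨q', hq', hq'p⟩ := hOsub (hp₁.mem_open hO hqO)
    have hle : p₁.asIdeal.map φ ≤ q'.asIdeal := by
      rw [Ideal.map_le_iff_le_comap, ← hq'p]
      rfl
    have h2 : (c * b) * φ r ∈ q'.asIdeal := by
      rw [hcab']
      exact Ideal.mul_mem_left _ _ (hle ha)
    have h3 : φ r ∈ q'.asIdeal := (q'.2.mem_or_mem h2).resolve_left hq'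
    rw [← hq'p]
    exact h3
  obtain ⟨Q, hQp, hQ⟩ := (Ideal.comap_map_eq_self_iff_of_isPrime p₁.asIdeal).mp key
  let q₁ : PrimeSpectrum B := comap (algebraMap B Bq) ⟨Q, hQp⟩
  refine ⟨q₁, ?_, ?_⟩
  · rw [← le_iff_specializes]
    change Ideal.comap (algebraMap B Bq) Q ≤ q.asIdeal
    have hmax : Ideal.comap (algebraMap B Bq) (IsLocalRing.maximalIdeal Bq) = q.asIdeal :=
      Localization.AtPrime.comap_maximalIdeal
    exact (Ideal.comap_mono (IsLocalRing.le_maximalIdeal hQp.ne_top)).trans hmax.le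
  · apply PrimeSpectrum.ext
    change Ideal.comap φ (Ideal.comap (algebraMap B Bq) Q) = p₁.asIdeal
    rw [Ideal.comap_comap]
    exact hQ

end Ring

section Scheme

/-- A morphism of schemes which is open at `x` is generizing at `x`. -/
theorem genAt_of_isOpenAt {X Y : Scheme.{u}} (f : X ⟶ Y) (x : X) (h : IsOpenAt f.base x) :
    GenAt f.base x := by
  obtain ⟨_, ⟨V, hV, rfl⟩, hxV, -⟩ :=
    Y.isBasis_affineOpens.exists_subset_of_mem_open (Set.mem_univ (f.base x)) isOpen_univ
  obtain ⟨_, ⟨W, hW, rfl⟩, hxW, hWV⟩ :=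
    X.isBasis_affineOpens.exists_subset_of_mem_open (show x ∈ ((f ⁻¹ᵁ V : X.Opens) : Set X) from hxV)
      (f ⁻¹ᵁ V).isOpen
  have e : W ≤ f ⁻¹ᵁ V := hWV
  let φ := f.appLE V W e
  have hsq : Spec.map φ ≫ hV.fromSpec = hW.fromSpec ≫ f := hV.SpecMap_appLE_fromSpec f hW e
  have hcomm : ∀ w, f.base (hW.fromSpec.base w) = hV.fromSpec.base ((Spec.map φ).base w) := by
    intro w
    rw [← Scheme.Hom.comp_apply, ← Scheme.Hom.comp_apply, hsq]
  let q := hW.primeIdealOf ⟨x, hxW⟩
  have hq : hW.fromSpec.base q = x := hW.fromSpec_primeIdealOf ⟨x, hxW⟩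
  rw [← hq] at h ⊢
  have h1 : IsOpenAt (Spec.map φ).base q :=
    isOpenAt_of_square' f.base (Spec.map φ).base hW.fromSpec.base hV.fromSpec.base
      hW.fromSpec.isOpenEmbedding.isOpenMap hV.fromSpec.continuous
      hV.fromSpec.isOpenEmbedding.injective hcomm q h
  have h2 : GenAt (Spec.map φ).base q := genAt_comap_of_isOpenAt φ.hom q h1
  exact genAt_of_square' f.base (Spec.map φ).base hW.fromSpec.base hV.fromSpec.base
    hW.fromSpec.continuous hV.fromSpec.isOpenEmbedding hcomm q h2

variable {X Y : Scheme.{u}} (f : X ⟶ Y)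

/-- Universal openness at a point is stable under base change. -/
theorem isUnivOpenAt_baseChange {x : X} (h : IsUnivOpenAt f x) {T : Scheme.{u}} (t : T ⟶ Y)
    (z : ↥(pullback f t)) (hz : (pullback.fst f t).base z = x) :
    IsUnivOpenAt (pullback.snd f t) z := by
  intro Y' g x'' hx''
  let e := pullbackLeftPullbackSndIso f t g
  have h1 : IsOpenAt (pullback.snd f (g ≫ t)).base (e.hom.base x'') := by
    apply h
    rw [← Scheme.Hom.comp_apply, pullbackLeftPullbackSndIso_hom_fst, Scheme.Hom.comp_apply, hx'', hz]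
  have h2 := isOpenAt_comp_of_isOpenMap _ e.hom.base e.hom.homeomorph.isOpenMap x'' h1
  refine isOpenAt_congr ?_ x'' h2
  intro w
  change (pullback.snd f (g ≫ t)).base (e.hom.base w) = _
  rw [← Scheme.Hom.comp_apply, pullbackLeftPullbackSndIso_hom_snd]

set_option maxHeartbeats 1600000 in
/-- If the base change of `f` to the local scheme of `Y` at `f x` is universally open at `x₁`, then
every base change of `f` is generizing at the points over `x`. -/
theorem genAt_snd_of_baseChange_fromSpecStalk (x : X)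
    (x₁ : ↥(pullback f (Y.fromSpecStalk (f.base x))))
    (hx₁ : (pullback.fst f (Y.fromSpecStalk (f.base x))).base x₁ = x)
    (h : IsUnivOpenAt (pullback.snd f (Y.fromSpecStalk (f.base x))) x₁)
    {T : Scheme.{u}} (t : T ⟶ Y) (z : ↥(pullback f t)) (hz : (pullback.fst f t).base z = x) :
    GenAt (pullback.snd f t).base z := by
  intro y₁ hy₁
  have hrange : ∀ y', y' ⤳ (pullback.snd f t).base z →
      y' ∈ Set.range (pullback.fst t (Y.fromSpecStalk (f.base x))).base := by
    intro y' hy'
    rw [Scheme.Pullback.range_fst, Set.mem_preimage, Scheme.range_fromSpecStalk]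
    have h1 := hy'.map t.continuous
    have h2 : t.base ((pullback.snd f t).base z) = f.base x := by
      rw [← Scheme.Hom.comp_apply, ← pullback.condition, Scheme.Hom.comp_apply, hz]
    rw [h2] at h1
    exact h1
  obtain ⟨y₁', rfl⟩ := hrange y₁ hy₁
  obtain ⟨w', hw'⟩ := hrange _ specializes_rfl
  have hsp : y₁' ⤳ w' := by
    refine (pullback.fst t (Y.fromSpecStalk (f.base x))).isEmbedding.isInducing.specializes_iff.mp ?_
    rw [hw']
    exact hy₁
  obtain ⟨z₁, hz₁a, hz₁b⟩ := Scheme.Pullback.exists_preimage_pullback (f := pullback.snd f t)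
    (g := pullback.fst t (Y.fromSpecStalk (f.base x))) z w' hw'.symm
  let e1 := pullbackLeftPullbackSndIso f t (pullback.fst t (Y.fromSpecStalk (f.base x)))
  let e2 : pullback f (pullback.fst t (Y.fromSpecStalk (f.base x)) ≫ t) ≅
      pullback f (pullback.snd t (Y.fromSpecStalk (f.base x)) ≫ Y.fromSpecStalk (f.base x)) :=
    pullback.congrHom rfl pullback.condition
  let e3 := pullbackLeftPullbackSndIso f (Y.fromSpecStalk (f.base x))
    (pullback.snd t (Y.fromSpecStalk (f.base x)))
  let E : pullback (pullback.snd f t) (pullback.fst t (Y.fromSpecStalk (f.base x))) ≅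
      pullback (pullback.snd f (Y.fromSpecStalk (f.base x)))
        (pullback.snd t (Y.fromSpecStalk (f.base x))) := e1 ≪≫ e2 ≪≫ e3.symm
  have hE_snd : E.hom ≫ pullback.snd (pullback.snd f (Y.fromSpecStalk (f.base x)))
      (pullback.snd t (Y.fromSpecStalk (f.base x))) =
      pullback.snd (pullback.snd f t) (pullback.fst t (Y.fromSpecStalk (f.base x))) := by
    simp only [E, e1, e2, e3, Iso.trans_hom, Iso.symm_hom, Category.assoc,
      pullbackLeftPullbackSndIso_inv_snd_snd, pullback.congrHom_hom, pullback.lift_snd,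
      Category.comp_id, pullbackLeftPullbackSndIso_hom_snd]
  have hE_fst : E.hom ≫ pullback.fst (pullback.snd f (Y.fromSpecStalk (f.base x)))
      (pullback.snd t (Y.fromSpecStalk (f.base x))) ≫ pullback.fst f (Y.fromSpecStalk (f.base x)) =
      pullback.fst (pullback.snd f t) (pullback.fst t (Y.fromSpecStalk (f.base x))) ≫
        pullback.fst f t := by
    simp only [E, e1, e2, e3, Iso.trans_hom, Iso.symm_hom, Category.assoc,
      pullbackLeftPullbackSndIso_inv_fst, pullback.congrHom_hom, pullback.lift_fst,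
      Category.comp_id, pullbackLeftPullbackSndIso_hom_fst]
  have hinj : Function.Injective (pullback.fst f (Y.fromSpecStalk (f.base x))).base :=
    (pullback.fst f (Y.fromSpecStalk (f.base x))).isEmbedding.injective
  have hx₁' : (pullback.fst (pullback.snd f (Y.fromSpecStalk (f.base x)))
      (pullback.snd t (Y.fromSpecStalk (f.base x)))).base (E.hom.base z₁) = x₁ := by
    apply hinj
    rw [hx₁, ← Scheme.Hom.comp_apply, ← Scheme.Hom.comp_apply, hE_fst, Scheme.Hom.comp_apply,
      hz₁a, hz]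
  have h1 : IsOpenAt (pullback.snd (pullback.snd f (Y.fromSpecStalk (f.base x)))
      (pullback.snd t (Y.fromSpecStalk (f.base x)))).base (E.hom.base z₁) :=
    h _ _ (E.hom.base z₁) hx₁'
  have h2 := isOpenAt_comp_of_isOpenMap _ E.hom.base E.hom.homeomorph.isOpenMap z₁ h1
  have h3 : IsOpenAt (pullback.snd (pullback.snd f t)
      (pullback.fst t (Y.fromSpecStalk (f.base x)))).base z₁ := by
    refine isOpenAt_congr ?_ z₁ h2
    intro w
    change (pullback.snd (pullback.snd f (Y.fromSpecStalk (f.base x)))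
      (pullback.snd t (Y.fromSpecStalk (f.base x)))).base (E.hom.base w) = _
    rw [← Scheme.Hom.comp_apply, hE_snd]
  have h4 := genAt_of_isOpenAt _ z₁ h3
  obtain ⟨z₂, hz₂, hz₂'⟩ := h4 y₁' (by rw [hz₁b]; exact hsp)
  refine ⟨(pullback.fst (pullback.snd f t) (pullback.fst t (Y.fromSpecStalk (f.base x)))).base z₂,
    ?_, ?_⟩
  · rw [← hz₁a]
    exact hz₂.map (pullback.fst (pullback.snd f t) _).continuous
  · rw [← Scheme.Hom.comp_apply, pullback.condition, Scheme.Hom.comp_apply, hz₂']

/-- **EGA IV 14.3.4-type**: universal openness at `x` can be tested after base change to the local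
scheme of `Y` at `f x`. -/
theorem isUnivOpenAt_of_baseChange_fromSpecStalk [LocallyOfFinitePresentation f] (x : X)
    (x₁ : ↥(pullback f (Y.fromSpecStalk (f.base x))))
    (hx₁ : (pullback.fst f (Y.fromSpecStalk (f.base x))).base x₁ = x)
    (h : IsUnivOpenAt (pullback.snd f (Y.fromSpecStalk (f.base x))) x₁) : IsUnivOpenAt f x := by
  apply isUnivOpenAt_of_polynomial
  intro V hV hxV σ _ z hz
  apply isOpenAt_of_genAt
  exact genAt_snd_of_baseChange_fromSpecStalk f x x₁ hx₁ h _ z hz

/-- **S4928**. -/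
theorem isUnivOpenAt_iff_baseChange_fromSpecStalk [LocallyOfFinitePresentation f] (x : X)
    (x₁ : ↥(pullback f (Y.fromSpecStalk (f.base x))))
    (hx₁ : (pullback.fst f (Y.fromSpecStalk (f.base x))).base x₁ = x) :
    IsUnivOpenAt f x ↔ IsUnivOpenAt (pullback.snd f (Y.fromSpecStalk (f.base x))) x₁ :=
  ⟨fun h => isUnivOpenAt_baseChange f h _ x₁ hx₁, isUnivOpenAt_of_baseChange_fromSpecStalk f x x₁ hx₁⟩

end Scheme

end Groth.Agent.Helper4.UOpen
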