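import Mathlib
import Groth.Agent.Lib.Helper4.LimAff
import Groth.Agent.Lib.Helper4.LimOImm

/-!
# Closed immersions descend to a stage of a cofiltered limit, finite type version (helper4)
-/

set_option autoImplicit false
universe u
open AlgebraicGeometry CategoryTheory CategoryTheory.Limits

namespace Groth.Agent.Helper4.LimCI

section ring

/-- In a pushout square of commutative rings, if `S` is generated over `R` by `T` and the images
of the elements of `T` in the pushout come from `R'`, then `R' ⟶ S'` is surjective. -/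
theorem surjective_of_isPushout {R S R' S' : CommRingCat.{u}} {a : R ⟶ S} {b : R ⟶ R'}
    {c : S ⟶ S'} {d : R' ⟶ S'} (h : IsPushout a b c d) (T : Set S)
    (hT : Subring.closure (Set.range a.hom ∪ T) = ⊤) (hc : ∀ t ∈ T, c.hom t ∈ d.hom.range) :
    Function.Surjective d.hom := by
  have hall : ∀ s : S, c.hom s ∈ d.hom.range := by
    have hle : Subring.closure (Set.range a.hom ∪ T) ≤ (d.hom.range).comap c.hom := by
      rw [Subring.closure_le]
      rintro s (⟨r, rfl⟩ | hs)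
      · refine ⟨b.hom r, ?_⟩
        have := congr($(h.w).hom r)
        simpa using this.symm
      · exact hc s hs
    intro s
    have : s ∈ Subring.closure (Set.range a.hom ∪ T) := by rw [hT]; trivial
    exact hle this
  let Q : CommRingCat.{u} := CommRingCat.of d.hom.range
  let u : S ⟶ Q := CommRingCat.ofHom (c.hom.codRestrict d.hom.range hall)
  let v : R' ⟶ Q := CommRingCat.ofHom d.hom.rangeRestrict
  let ι : Q ⟶ S' := CommRingCat.ofHom (Subring.subtype _)
  have huv : a ≫ u = b ≫ v := by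
    ext r
    have := congr($(h.w).hom r)
    simp only [CommRingCat.hom_comp, RingHom.coe_comp, Function.comp_apply] at this ⊢
    exact this
  let w : S' ⟶ Q := h.desc u v huv
  have hw : w ≫ ι = 𝟙 S' := by
    apply h.hom_ext
    · rw [← Category.assoc, h.inl_desc]; ext s; rfl
    · rw [← Category.assoc, h.inr_desc]; ext s; rfl
  intro x
  have hx : ι.hom (w.hom x) = x := congr($(hw).hom x)
  obtain ⟨y, hy⟩ := (w.hom x).2
  exact ⟨y, hy.trans hx⟩

end ring

section affine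

variable {J : Type u} [SmallCategory J] [IsCofiltered J] (E' E : J ⥤ Scheme.{u})
  [∀ j, IsAffine (E'.obj j)] [∀ j, IsAffine (E.obj j)]
  (α : E' ⟶ E)
  (hα : ∀ {j k : J} (φ : j ⟶ k), IsPullback (E'.map φ) (α.app j) (α.app k) (E.map φ))
  (cE' : Cone E') (hcE' : IsLimit cE') (cE : Cone E) (hcE : IsLimit cE)
  (F : cE'.pt ⟶ cE.pt) (hF : ∀ k, cE'.π.app k ≫ α.app k = F ≫ cE.π.app k)

include hcE' hcE hF in
/-- a section at stage `k₁` of the source system whose image in the limit comes from the target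
limit comes from the target system at some stage -/
theorem exists_appTop_eq_of_isAffine (hsurj : Function.Surjective F.appTop) (k₁ : J)
    (t : Γ(E'.obj k₁, ⊤)) :
    ∃ (m : J) (ψ : m ⟶ k₁) (r : Γ(E.obj m, ⊤)), (α.app m).appTop r = (E'.map ψ).appTop t := by
  obtain ⟨s, hs⟩ := hsurj ((cE'.π.app k₁).appTop t)
  obtain ⟨l, sl, hsl⟩ := exists_appTop_π_eq_of_isAffine_of_isLimit E cE hcE s
  let l' := IsCofiltered.min l k₁
  let p : l' ⟶ l := IsCofiltered.minToLeft l k₁
  let q : l' ⟶ k₁ := IsCofiltered.minToRight l k₁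
  have e1 : (E.map p).appTop ≫ (α.app l').appTop ≫ (cE'.π.app l').appTop =
      (cE.π.app l).appTop ≫ F.appTop := by
    simp only [← Scheme.Hom.comp_appTop]
    rw [hF l', Category.assoc, cE.w]
  have e2 : (E'.map q).appTop ≫ (cE'.π.app l').appTop = (cE'.π.app k₁).appTop := by
    simp only [← Scheme.Hom.comp_appTop]
    rw [cE'.w]
  let x : Γ(E'.obj l', ⊤) := (α.app l').appTop ((E.map p).appTop sl)
  let y : Γ(E'.obj l', ⊤) := (E'.map q).appTop t
  have hxy : (cE'.π.app l').appTop (x - y) = 0 := by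
    rw [map_sub, sub_eq_zero]
    have h1 := congr($e1 sl)
    have h2 := congr($e2 t)
    simp only [CommRingCat.comp_apply] at h1 h2
    rw [h1, h2, hsl, hs]
  obtain ⟨m, f, hm⟩ := exists_appTop_map_eq_zero_of_isAffine_of_isLimit E' cE' hcE' l' (x - y) hxy
  rw [map_sub, sub_eq_zero] at hm
  refine ⟨m, f ≫ q, (E.map f).appTop ((E.map p).appTop sl), ?_⟩
  have e3 : (α.app l').appTop ≫ (E'.map f).appTop = (E.map f).appTop ≫ (α.app m).appTop := by
    simp only [← Scheme.Hom.comp_appTop]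
    rw [α.naturality]
  have e4 : (E'.map q).appTop ≫ (E'.map f).appTop = (E'.map (f ≫ q)).appTop := by
    simp only [← Scheme.Hom.comp_appTop]
    rw [E'.map_comp]
  have h3 := congr($e3 ((E.map p).appTop sl))
  have h4 := congr($e4 t)
  simp only [CommRingCat.comp_apply] at h3 h4
  rw [← h3, ← h4]
  exact hm

include hα hcE' hcE hF in
/-- closed immersions descend to a stage: the case of systems of affine schemes -/
theorem exists_forall_isClosedImmersion_of_isAffine [IsClosedImmersion F] (k₁ : J)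
    [LocallyOfFiniteType (α.app k₁)] :
    ∃ (l : J) (_ : l ⟶ k₁), ∀ (n : J) (_ : n ⟶ l), IsClosedImmersion (α.app n) := by
  have : IsAffine cE.pt := Scheme.isAffine_of_isLimit _ hcE
  have hsurj : Function.Surjective F.appTop :=
    (IsClosedImmersion.isAffine_surjective_of_isAffine F).2
  have hft : RingHom.FiniteType (α.app k₁).appTop.hom :=
    (HasRingHomProperty.iff_of_isAffine (P := @LocallyOfFiniteType)).mp inferInstance
  obtain ⟨T, hT⟩ : ∃ T : Finset Γ(E'.obj k₁, ⊤),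
      Subring.closure (Set.range (α.app k₁).appTop.hom ∪ (T : Set Γ(E'.obj k₁, ⊤))) = ⊤ := by
    algebraize [(α.app k₁).appTop.hom]
    obtain ⟨T, hT⟩ := (Algebra.FiniteType.out : (⊤ : Subalgebra Γ(E.obj k₁, ⊤) Γ(E'.obj k₁, ⊤)).FG)
    refine ⟨T, ?_⟩
    have h1 := congrArg Subalgebra.toSubring hT
    rw [Algebra.adjoin_eq_ring_closure, Algebra.top_toSubring] at h1
    exact h1
  have pers : ∀ {m n : J} (ψ : m ⟶ k₁) (χ : n ⟶ m) (t : Γ(E'.obj k₁, ⊤)),
      (E'.map ψ).appTop.hom t ∈ (α.app m).appTop.hom.range →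
      (E'.map (χ ≫ ψ)).appTop.hom t ∈ (α.app n).appTop.hom.range := by
    rintro m n ψ χ t ⟨r, hr⟩
    refine ⟨(E.map χ).appTop.hom r, ?_⟩
    have e3 : (α.app m).appTop ≫ (E'.map χ).appTop = (E.map χ).appTop ≫ (α.app n).appTop := by
      simp only [← Scheme.Hom.comp_appTop]
      rw [α.naturality]
    have e4 : (E'.map ψ).appTop ≫ (E'.map χ).appTop = (E'.map (χ ≫ ψ)).appTop := by
      simp only [← Scheme.Hom.comp_appTop]
      rw [E'.map_comp]
    have h3 := congr($e3 r)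
    have h4 := congr($e4 t)
    simp only [CommRingCat.comp_apply] at h3 h4
    change (α.app n).appTop ((E.map χ).appTop r) = (E'.map (χ ≫ ψ)).appTop t
    rw [← h3, ← h4]
    exact congrArg _ hr
  have key : ∀ T : Finset Γ(E'.obj k₁, ⊤), ∃ (m : J) (ψ : m ⟶ k₁), ∀ t ∈ T,
      (E'.map ψ).appTop.hom t ∈ (α.app m).appTop.hom.range := by
    classical
    intro T
    induction T using Finset.induction_on with
    | empty => exact ⟨k₁, 𝟙 _, by simp⟩
    | insert t T' _ ih =>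
      obtain ⟨m₁, ψ₁, h₁⟩ := ih
      obtain ⟨m₂, ψ₂, r, hr⟩ := exists_appTop_eq_of_isAffine E' E α cE' hcE' cE hcE F hF hsurj k₁ t
      obtain ⟨m, χ₁, χ₂, hχ⟩ := IsCofiltered.cospan ψ₁ ψ₂
      refine ⟨m, χ₁ ≫ ψ₁, ?_⟩
      intro t' ht'
      rw [Finset.mem_insert] at ht'
      rcases ht' with rfl | ht'
      · rw [hχ]
        exact pers ψ₂ χ₂ t' ⟨r, hr⟩
      · exact pers ψ₁ χ₁ t' (h₁ t' ht')
  obtain ⟨m, ψ, hm⟩ := key T
  refine ⟨m, ψ, fun n χ => ?_⟩
  have hpo := isPushout_appTop_of_isPullback (hα (χ ≫ ψ))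
  have hs := surjective_of_isPushout hpo (T : Set Γ(E'.obj k₁, ⊤)) hT
    (fun t ht => pers ψ χ t (hm t ht))
  exact IsClosedImmersion.of_surjective_of_isAffine _ hs

end affine

section general

theorem isClosedImmersion_resLE_of_eq {X Y : Scheme.{u}} (f : X ⟶ Y) (U : Y.Opens) (V : X.Opens)
    (e : V = f ⁻¹ᵁ U) [IsClosedImmersion f] : IsClosedImmersion (f.resLE U V e.le) := by
  subst e
  rw [Scheme.Hom.resLE_eq_morphismRestrict]
  infer_instance

theorem morphismRestrict_of_resLE (P : MorphismProperty Scheme.{u}) {X Y : Scheme.{u}} (f : X ⟶ Y)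
    (U : Y.Opens) (V : X.Opens) (e : V = f ⁻¹ᵁ U) (h : P (f.resLE U V e.le)) : P (f ∣_ U) := by
  subst e
  rwa [Scheme.Hom.resLE_eq_morphismRestrict] at h

variable {J : Type u} [SmallCategory J] (E' E : J ⥤ Scheme.{u}) (α : E' ⟶ E)

set_option backward.isDefEq.respectTransparency false in
/-- the transformation induced by `α` between the diagrams of preimages of an open -/
noncomputable def opensNat (k₁ : J) (V : (E.obj k₁).Opens) :
    opensDiagram E' k₁ (α.app k₁ ⁻¹ᵁ V) ⟶ opensDiagram E k₁ V where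
  app j := (α.app j.left).resLE (E.map j.hom ⁻¹ᵁ V) (E'.map j.hom ⁻¹ᵁ (α.app k₁ ⁻¹ᵁ V))
    (by rw [← Scheme.Hom.comp_preimage, ← Scheme.Hom.comp_preimage, α.naturality])
  naturality j k f := by
    simp only [opensDiagram_map, opensDiagram_obj, Scheme.Hom.resLE_comp_resLE, α.naturality]

variable [IsCofiltered J]
  [∀ {i j} (f : i ⟶ j), IsAffineHom (E'.map f)] [∀ {i j} (f : i ⟶ j), IsAffineHom (E.map f)]
  (hα : ∀ {j k : J} (φ : j ⟶ k), IsPullback (E'.map φ) (α.app j) (α.app k) (E.map φ))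
  (cE' : Cone E') (hcE' : IsLimit cE') (cE : Cone E) (hcE : IsLimit cE)
  (F : cE'.pt ⟶ cE.pt) (hF : ∀ k, cE'.π.app k ≫ α.app k = F ≫ cE.π.app k)

set_option backward.isDefEq.respectTransparency false in
include hα hcE' hcE hF in
/-- closed immersions descend to a stage, over an affine open of the target -/
theorem exists_forall_isClosedImmersion_opensNat [IsClosedImmersion F] (k₁ : J)
    [IsAffineHom (α.app k₁)] [LocallyOfFiniteType (α.app k₁)] (V : (E.obj k₁).Opens)
    (hV : IsAffineOpen V) :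
    ∃ (l : Over k₁), ∀ (n : Over k₁) (_ : n ⟶ l),
      IsClosedImmersion ((opensNat E' E α k₁ V).app n) := by
  have hU : IsAffineOpen (α.app k₁ ⁻¹ᵁ V) := hV.preimage (α.app k₁)
  have hA : ∀ j, IsAffine ((opensDiagram E k₁ V).obj j) := fun j => hV.preimage (E.map j.hom)
  have hA' : ∀ j, IsAffine ((opensDiagram E' k₁ (α.app k₁ ⁻¹ᵁ V)).obj j) := fun j => hU.preimage (E'.map j.hom)
  have hpb : ∀ {j k : Over k₁} (f : j ⟶ k),
      IsPullback ((opensDiagram E' k₁ (α.app k₁ ⁻¹ᵁ V)).map f) ((opensNat E' E α k₁ V).app j)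
        ((opensNat E' E α k₁ V).app k) ((opensDiagram E k₁ V).map f) := by
    intro j k f
    refine Scheme.Hom.isPullback_resLE (hα f.left) _ _ ?_
    have e1 : E'.map f.left ⁻¹ᵁ (E'.map k.hom ⁻¹ᵁ (α.app k₁ ⁻¹ᵁ V)) = E'.map j.hom ⁻¹ᵁ (α.app k₁ ⁻¹ᵁ V) := by
      rw [← Scheme.Hom.comp_preimage, ← E'.map_comp, Over.w f]
    have e2 : E'.map j.hom ⁻¹ᵁ (α.app k₁ ⁻¹ᵁ V) ≤ α.app j.left ⁻¹ᵁ (E.map j.hom ⁻¹ᵁ V) := by
      rw [← Scheme.Hom.comp_preimage, ← Scheme.Hom.comp_preimage, α.naturality]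
    rw [e1]
    exact (inf_eq_left.mpr e2).symm
  have eF : cE'.π.app k₁ ⁻¹ᵁ (α.app k₁ ⁻¹ᵁ V) = F ⁻¹ᵁ (cE.π.app k₁ ⁻¹ᵁ V) := by
    rw [← Scheme.Hom.comp_preimage, ← Scheme.Hom.comp_preimage, hF]
  let FV : (opensCone E' cE' k₁ (α.app k₁ ⁻¹ᵁ V)).pt ⟶ (opensCone E cE k₁ V).pt :=
    F.resLE (cE.π.app k₁ ⁻¹ᵁ V) (cE'.π.app k₁ ⁻¹ᵁ (α.app k₁ ⁻¹ᵁ V)) eF.le
  have hFV : IsClosedImmersion FV := isClosedImmersion_resLE_of_eq F _ _ eF
  have hcomp : ∀ j, (opensCone E' cE' k₁ (α.app k₁ ⁻¹ᵁ V)).π.app j ≫ (opensNat E' E α k₁ V).app j =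
      FV ≫ (opensCone E cE k₁ V).π.app j := by
    intro j
    simp only [opensCone_pt, opensCone_π_app, opensNat, FV, Scheme.Hom.resLE_comp_resLE, hF]
  have hlft : LocallyOfFiniteType ((opensNat E' E α k₁ V).app (Over.mk (𝟙 k₁))) := by
    haveI : LocallyOfFiniteType (α.app (Over.mk (𝟙 k₁)).left) := ‹LocallyOfFiniteType (α.app k₁)›
    simp only [opensNat]; infer_instance
  obtain ⟨l, _, hl⟩ := exists_forall_isClosedImmersion_of_isAffine (opensDiagram E' k₁ (α.app k₁ ⁻¹ᵁ V))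
    (opensDiagram E k₁ V) (opensNat E' E α k₁ V) hpb (opensCone E' cE' k₁ (α.app k₁ ⁻¹ᵁ V))
    (isLimitOpensCone E' cE' hcE' k₁ (α.app k₁ ⁻¹ᵁ V)) (opensCone E cE k₁ V) (isLimitOpensCone E cE hcE k₁ V)
    FV hcomp (Over.mk (𝟙 k₁))
  exact ⟨l, hl⟩

include hα hcE' hcE hF in
/-- **closed immersions descend to a stage**: for a cartesian transformation `α : E' ⟶ E` of
cofiltered systems with affine transition maps whose limit is a closed immersion, if `α` is affine
and locally of finite type at a quasi-compact stage, then it is a closed immersion at a later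
stage. -/
theorem exists_isClosedImmersion_stage [IsClosedImmersion F] (k₁ : J) [CompactSpace (E.obj k₁)]
    [IsAffineHom (α.app k₁)] [LocallyOfFiniteType (α.app k₁)] :
    ∃ (l : J) (_ : l ⟶ k₁), IsClosedImmersion (α.app l) := by
  classical
  have hcov : ∀ y : E.obj k₁, ∃ V : (E.obj k₁).Opens, IsAffineOpen V ∧ y ∈ V := by
    intro y
    obtain ⟨_, ⟨V, hV, rfl⟩, hyV, -⟩ := (E.obj k₁).isBasis_affineOpens.exists_subset_of_mem_open
      (Set.mem_univ y) isOpen_univ
    exact ⟨V, hV, hyV⟩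
  choose V hV hyV using hcov
  obtain ⟨t, ht⟩ := CompactSpace.elim_nhds_subcover
    (fun y => ((V y : (E.obj k₁).Opens) : Set (E.obj k₁))) (fun y => (V y).2.mem_nhds (hyV y))
  choose l hl using fun y => exists_forall_isClosedImmersion_opensNat E' E α hα cE' hcE' cE hcE
    F hF k₁ (V y) (hV y)
  obtain ⟨m, hm⟩ := IsCofiltered.inf_objs_exists (t.image l)
  refine ⟨m.left, m.hom, ?_⟩
  apply IsZariskiLocalAtTarget.of_forall_exists_morphismRestrict (P := @IsClosedImmersion)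
  intro y
  have hy : (E.map m.hom) y ∈ (⊤ : Set (E.obj k₁)) := trivial
  rw [← ht] at hy
  obtain ⟨a, hat, hya⟩ := Set.mem_iUnion₂.1 hy
  obtain ⟨χ⟩ := hm (Finset.mem_image_of_mem l hat)
  refine ⟨E.map m.hom ⁻¹ᵁ V a, hya, ?_⟩
  have := hl a m χ
  exact morphismRestrict_of_resLE @IsClosedImmersion (α.app m.left) (E.map m.hom ⁻¹ᵁ V a)
    (E'.map m.hom ⁻¹ᵁ (α.app k₁ ⁻¹ᵁ V a))
    (by rw [← Scheme.Hom.comp_preimage, ← Scheme.Hom.comp_preimage, α.naturality]) this

end general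

section stage

open Groth.Agent.Helper7.LimBC Groth.Agent.Helper4.LimStage Groth.Agent.Helper4.LimAff
  Groth.Agent.Helper4.LimOImm

variable {I : Type u} [SmallCategory I] [IsCofiltered I] (D : I ⥤ Scheme.{u})
  [∀ {i j} (f : i ⟶ j), IsAffineHom (D.map f)] (c : Cone D) (hc : IsLimit c)

omit [IsCofiltered I] [∀ {i j} (f : i ⟶ j), IsAffineHom (D.map f)] in
/-- the base change maps `pbMap` form a natural transformation -/
noncomputable def pbNat (i₀ : I) {X₀ Y₀ : Scheme.{u}} (f₀ : X₀ ⟶ Y₀) (g₀ : Y₀ ⟶ D.obj i₀) :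
    pbDiagram D i₀ (f₀ ≫ g₀) ⟶ pbDiagram D i₀ g₀ where
  app k := pbMap (D.map k.hom) f₀ g₀
  naturality _ _ φ := (isPullback_pbMap_map D i₀ f₀ g₀ φ).w

set_option backward.isDefEq.respectTransparency false in
include hc in
/-- closed immersions descend to a stage; `f₀` only locally of finite type -/
theorem exists_isClosedImmersion_pbMap (i₀ : I) [CompactSpace (D.obj i₀)]
    [QuasiSeparatedSpace (D.obj i₀)]
    {X₀ Y₀ : Scheme.{u}} (f₀ : X₀ ⟶ Y₀) (g₀ : Y₀ ⟶ D.obj i₀)
    [CompactSpace X₀] [QuasiSeparatedSpace X₀] [CompactSpace Y₀] [QuasiSeparatedSpace Y₀]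
    [LocallyOfFiniteType f₀]
    {X Y : Scheme.{u}} (f : X ⟶ Y) (g : Y ⟶ c.pt) (qY : Y ⟶ Y₀) (qX : X ⟶ X₀)
    (hY : IsPullback qY g g₀ (c.π.app i₀)) (hX : IsPullback qX f f₀ qY) [IsClosedImmersion f] :
    ∃ (j : I) (φ : j ⟶ i₀), IsClosedImmersion (pbMap (D.map φ) f₀ g₀) := by
  have : QuasiCompact g₀ := inferInstance
  have : QuasiSeparated g₀ := inferInstance
  have : QuasiCompact (f₀ ≫ g₀) := inferInstance
  have : QuasiSeparated (f₀ ≫ g₀) := inferInstance
  obtain ⟨j₁, φ₁, haff⟩ := exists_isAffineHom_stage D c hc i₀ f₀ g₀ f g qY qX hY hX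
  let k₁ : Over i₀ := Over.mk φ₁
  have hF : IsClosedImmersion (pbMap (c.π.app i₀) f₀ g₀) :=
    canonical_of_isPullback @IsClosedImmersion (c.π.app i₀) f₀ g₀ f g qY qX hY hX inferInstance
  have h1 : IsAffineHom ((pbNat D i₀ f₀ g₀).app k₁) := haff
  have h2 : LocallyOfFiniteType ((pbNat D i₀ f₀ g₀).app k₁) :=
    MorphismProperty.of_isPullback (P := @LocallyOfFiniteType)
      (isPullback_pbMap (D.map k₁.hom) f₀ g₀) inferInstance
  obtain ⟨l, _, hl⟩ := exists_isClosedImmersion_stage (pbDiagram D i₀ (f₀ ≫ g₀))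
    (pbDiagram D i₀ g₀) (pbNat D i₀ f₀ g₀) (fun φ => isPullback_pbMap_map D i₀ f₀ g₀ φ)
    (pbCone D c i₀ (f₀ ≫ g₀)) (isLimitPbCone D c hc i₀ (f₀ ≫ g₀)) (pbCone D c i₀ g₀)
    (isLimitPbCone D c hc i₀ g₀) (pbMap (c.π.app i₀) f₀ g₀) (fun k => by
      apply pullback.hom_ext <;> simp [pbNat]) k₁
  exact ⟨l.left, l.hom, hl⟩

end stage

end Groth.Agent.Helper4.LimCI
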