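import Mathlib
import Groth.Agent.Lib.Helper4.LimCI

/-!
# Closed immersions descend to a stage: non-cartesian systems (helper4)
-/

set_option autoImplicit false
universe u
open AlgebraicGeometry CategoryTheory CategoryTheory.Limits

namespace Groth.Agent.Helper4.LimCI2

open Groth.Agent.Helper4.LimCI

section ring

/-- two ring maps into `S'` jointly generate `S'` -/
def JointlyGen {S R' S' : CommRingCat.{u}} (c : S ⟶ S') (d : R' ⟶ S') : Prop :=
  Subring.closure (Set.range c.hom ∪ Set.range d.hom) = ⊤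

theorem JointlyGen.of_surjective_left {S R' S' : CommRingCat.{u}} {c : S ⟶ S'} (d : R' ⟶ S')
    (hc : Function.Surjective c.hom) : JointlyGen c d := by
  rw [JointlyGen, eq_top_iff]
  intro x _
  obtain ⟨s, rfl⟩ := hc x
  exact Subring.subset_closure (Or.inl ⟨s, rfl⟩)

theorem jointlyGen_of_isPushout {R S R' S' : CommRingCat.{u}} {a : R ⟶ S} {b : R ⟶ R'}
    {c : S ⟶ S'} {d : R' ⟶ S'} (h : IsPushout a b c d) : JointlyGen c d := by
  let Qs : Subring S' := Subring.closure (Set.range c.hom ∪ Set.range d.hom)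
  let Q : CommRingCat.{u} := CommRingCat.of Qs
  let u : S ⟶ Q := CommRingCat.ofHom (c.hom.codRestrict Qs
    (fun s => Subring.subset_closure (Or.inl ⟨s, rfl⟩)))
  let v : R' ⟶ Q := CommRingCat.ofHom (d.hom.codRestrict Qs
    (fun s => Subring.subset_closure (Or.inr ⟨s, rfl⟩)))
  let ι : Q ⟶ S' := CommRingCat.ofHom (Subring.subtype _)
  have huv : a ≫ u = b ≫ v := by
    ext r
    have := congr($(h.w).hom r)
    simp only [CommRingCat.hom_comp, RingHom.coe_comp, Function.comp_apply] at this ⊢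
    exact this
  let w : S' ⟶ Q := h.desc u v huv
  have hw : w ≫ ι = 𝟙 S' := by
    apply h.hom_ext
    · rw [← Category.assoc, h.inl_desc]; ext s; rfl
    · rw [← Category.assoc, h.inr_desc]; ext s; rfl
  rw [JointlyGen, eq_top_iff]
  intro x _
  have hx : ι.hom (w.hom x) = x := congr($(hw).hom x)
  rw [← hx]
  exact (w.hom x).2

theorem surjective_of_jointlyGen {R S R' S' : CommRingCat.{u}} {a : R ⟶ S} {b : R ⟶ R'}
    {c : S ⟶ S'} {d : R' ⟶ S'} (hw : a ≫ c = b ≫ d) (hJ : JointlyGen c d) (T : Set S)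
    (hT : Subring.closure (Set.range a.hom ∪ T) = ⊤) (hc : ∀ t ∈ T, c.hom t ∈ d.hom.range) :
    Function.Surjective d.hom := by
  have hall : ∀ s : S, c.hom s ∈ d.hom.range := by
    have hle : Subring.closure (Set.range a.hom ∪ T) ≤ (d.hom.range).comap c.hom := by
      rw [Subring.closure_le]
      rintro s (⟨r, rfl⟩ | hs)
      · refine ⟨b.hom r, ?_⟩
        have := congr($(hw).hom r)
        simpa using this.symm
      · exact hc s hs
    intro s
    have : s ∈ Subring.closure (Set.range a.hom ∪ T) := by rw [hT]; trivial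
    exact hle this
  have hle2 : Subring.closure (Set.range c.hom ∪ Set.range d.hom) ≤ d.hom.range := by
    rw [Subring.closure_le]
    rintro x (⟨s, rfl⟩ | ⟨r, rfl⟩)
    · exact hall s
    · exact ⟨r, rfl⟩
  intro x
  have : x ∈ Subring.closure (Set.range c.hom ∪ Set.range d.hom) := by rw [hJ]; trivial
  exact hle2 this

end ring

section affine

variable {J : Type u} [SmallCategory J] [IsCofiltered J] (E' E : J ⥤ Scheme.{u})
  [∀ j, IsAffine (E'.obj j)] [∀ j, IsAffine (E.obj j)]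
  (α : E' ⟶ E)
  (cE' : Cone E') (hcE' : IsLimit cE') (cE : Cone E) (hcE : IsLimit cE)
  (F : cE'.pt ⟶ cE.pt) (hF : ∀ k, cE'.π.app k ≫ α.app k = F ≫ cE.π.app k)

include hcE' hcE hF in
/-- closed immersions descend to a stage: systems of affine schemes, with a joint generation
hypothesis in place of cartesianness -/
theorem exists_forall_isClosedImmersion_of_isAffine' [IsClosedImmersion F] (k₁ : J)
    [LocallyOfFiniteType (α.app k₁)]
    (hJG : ∀ (n : J) (ψ : n ⟶ k₁), JointlyGen (E'.map ψ).appTop (α.app n).appTop) :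
    ∃ (l : J) (_ : l ⟶ k₁), ∀ (n : J) (_ : n ⟶ l), IsClosedImmersion (α.app n) := by
  have : IsAffine cE.pt := Scheme.isAffine_of_isLimit _ hcE
  have hsurj : Function.Surjective F.appTop :=
    (IsClosedImmersion.isAffine_surjective_of_isAffine F).2
  have hft : RingHom.FiniteType (α.app k₁).appTop.hom :=
    (HasRingHomProperty.iff_of_isAffine (P := @LocallyOfFiniteType)).mp inferInstance
  obtain ⟨T, hT⟩ : ∃ T : Finset Γ(E'.obj k₁, ⊤),
      Subring.closure (Set.range (α.app k₁).appTop.hom ∪ (T : Set Γ(E'.obj k₁, ⊤))) = ⊤ := by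
    algebraize [(α.app k₁).appTop.hom]
    obtain ⟨T, hT⟩ := (Algebra.FiniteType.out : (⊤ : Subalgebra Γ(E.obj k₁, ⊤) Γ(E'.obj k₁, ⊤)).FG)
    refine ⟨T, ?_⟩
    have h1 := congrArg Subalgebra.toSubring hT
    rw [Algebra.adjoin_eq_ring_closure, Algebra.top_toSubring] at h1
    exact h1
  have pers : ∀ {m n : J} (ψ : m ⟶ k₁) (χ : n ⟶ m) (t : Γ(E'.obj k₁, ⊤)),
      (E'.map ψ).appTop.hom t ∈ (α.app m).appTop.hom.range →
      (E'.map (χ ≫ ψ)).appTop.hom t ∈ (α.app n).appTop.hom.range := by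
    rintro m n ψ χ t ⟨r, hr⟩
    refine ⟨(E.map χ).appTop.hom r, ?_⟩
    have e3 : (α.app m).appTop ≫ (E'.map χ).appTop = (E.map χ).appTop ≫ (α.app n).appTop := by
      simp only [← Scheme.Hom.comp_appTop]
      rw [α.naturality]
    have e4 : (E'.map ψ).appTop ≫ (E'.map χ).appTop = (E'.map (χ ≫ ψ)).appTop := by
      simp only [← Scheme.Hom.comp_appTop]
      rw [E'.map_comp]
    have h3 := congr($e3 r)
    have h4 := congr($e4 t)
    simp only [CommRingCat.comp_apply] at h3 h4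
    change (α.app n).appTop ((E.map χ).appTop r) = (E'.map (χ ≫ ψ)).appTop t
    rw [← h3, ← h4]
    exact congrArg _ hr
  have key : ∀ T : Finset Γ(E'.obj k₁, ⊤), ∃ (m : J) (ψ : m ⟶ k₁), ∀ t ∈ T,
      (E'.map ψ).appTop.hom t ∈ (α.app m).appTop.hom.range := by
    classical
    intro T
    induction T using Finset.induction_on with
    | empty => exact ⟨k₁, 𝟙 _, by simp⟩
    | insert t T' _ ih =>
      obtain ⟨m₁, ψ₁, h₁⟩ := ih
      obtain ⟨m₂, ψ₂, r, hr⟩ := exists_appTop_eq_of_isAffine E' E α cE' hcE' cE hcE F hF hsurj k₁ t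
      obtain ⟨m, χ₁, χ₂, hχ⟩ := IsCofiltered.cospan ψ₁ ψ₂
      refine ⟨m, χ₁ ≫ ψ₁, ?_⟩
      intro t' ht'
      rw [Finset.mem_insert] at ht'
      rcases ht' with rfl | ht'
      · rw [hχ]
        exact pers ψ₂ χ₂ t' ⟨r, hr⟩
      · exact pers ψ₁ χ₁ t' (h₁ t' ht')
  obtain ⟨m, ψ, hm⟩ := key T
  refine ⟨m, ψ, fun n χ => ?_⟩
  have hw : (α.app k₁).appTop ≫ (E'.map (χ ≫ ψ)).appTop =
      (E.map (χ ≫ ψ)).appTop ≫ (α.app n).appTop := by
    simp only [← Scheme.Hom.comp_appTop]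
    rw [α.naturality]
  have hs := surjective_of_jointlyGen hw (hJG n (χ ≫ ψ)) (T : Set Γ(E'.obj k₁, ⊤)) hT
    (fun t ht => pers ψ χ t (hm t ht))
  exact IsClosedImmersion.of_surjective_of_isAffine _ hs

end affine

section general

variable {J : Type u} [SmallCategory J] (E' E : J ⥤ Scheme.{u}) (α : E' ⟶ E)
  [IsCofiltered J]
  [∀ {i j} (f : i ⟶ j), IsAffineHom (E'.map f)] [∀ {i j} (f : i ⟶ j), IsAffineHom (E.map f)]
  (cE' : Cone E') (hcE' : IsLimit cE') (cE : Cone E) (hcE : IsLimit cE)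
  (F : cE'.pt ⟶ cE.pt) (hF : ∀ k, cE'.π.app k ≫ α.app k = F ≫ cE.π.app k)

set_option backward.isDefEq.respectTransparency false in
include hcE' hcE hF in
theorem exists_forall_isClosedImmersion_opensNat' [IsClosedImmersion F] (k₁ : J)
    [IsAffineHom (α.app k₁)] [LocallyOfFiniteType (α.app k₁)] (V : (E.obj k₁).Opens)
    (hV : IsAffineOpen V)
    (hJG : ∀ (n : Over k₁) (ψ : n ⟶ Over.mk (𝟙 k₁)),
      JointlyGen ((opensDiagram E' k₁ (α.app k₁ ⁻¹ᵁ V)).map ψ).appTop
        ((opensNat E' E α k₁ V).app n).appTop) :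
    ∃ (l : Over k₁), ∀ (n : Over k₁) (_ : n ⟶ l),
      IsClosedImmersion ((opensNat E' E α k₁ V).app n) := by
  have hU : IsAffineOpen (α.app k₁ ⁻¹ᵁ V) := hV.preimage (α.app k₁)
  have hA : ∀ j, IsAffine ((opensDiagram E k₁ V).obj j) := fun j => hV.preimage (E.map j.hom)
  have hA' : ∀ j, IsAffine ((opensDiagram E' k₁ (α.app k₁ ⁻¹ᵁ V)).obj j) :=
    fun j => hU.preimage (E'.map j.hom)
  have eF : cE'.π.app k₁ ⁻¹ᵁ (α.app k₁ ⁻¹ᵁ V) = F ⁻¹ᵁ (cE.π.app k₁ ⁻¹ᵁ V) := by
    rw [← Scheme.Hom.comp_preimage, ← Scheme.Hom.comp_preimage, hF]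
  let FV : (opensCone E' cE' k₁ (α.app k₁ ⁻¹ᵁ V)).pt ⟶ (opensCone E cE k₁ V).pt :=
    F.resLE (cE.π.app k₁ ⁻¹ᵁ V) (cE'.π.app k₁ ⁻¹ᵁ (α.app k₁ ⁻¹ᵁ V)) eF.le
  have hFV : IsClosedImmersion FV := isClosedImmersion_resLE_of_eq F _ _ eF
  have hcomp : ∀ j, (opensCone E' cE' k₁ (α.app k₁ ⁻¹ᵁ V)).π.app j ≫
      (opensNat E' E α k₁ V).app j = FV ≫ (opensCone E cE k₁ V).π.app j := by
    intro j
    simp only [opensCone_pt, opensCone_π_app, opensNat, FV, Scheme.Hom.resLE_comp_resLE, hF]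
  have hlft : LocallyOfFiniteType ((opensNat E' E α k₁ V).app (Over.mk (𝟙 k₁))) := by
    have : LocallyOfFiniteType (α.app (Over.mk (𝟙 k₁)).left) := ‹LocallyOfFiniteType (α.app k₁)›
    simp only [opensNat]; infer_instance
  obtain ⟨l, _, hl⟩ := exists_forall_isClosedImmersion_of_isAffine'
    (opensDiagram E' k₁ (α.app k₁ ⁻¹ᵁ V))
    (opensDiagram E k₁ V) (opensNat E' E α k₁ V) (opensCone E' cE' k₁ (α.app k₁ ⁻¹ᵁ V))
    (isLimitOpensCone E' cE' hcE' k₁ (α.app k₁ ⁻¹ᵁ V)) (opensCone E cE k₁ V)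
    (isLimitOpensCone E cE hcE k₁ V) FV hcomp (Over.mk (𝟙 k₁)) hJG
  exact ⟨l, hl⟩

include hcE' hcE hF in
/-- closed immersions descend to a stage, with a joint generation hypothesis on affine pieces in
place of cartesianness -/
theorem exists_isClosedImmersion_stage' [IsClosedImmersion F] (k₁ : J) [CompactSpace (E.obj k₁)]
    [IsAffineHom (α.app k₁)] [LocallyOfFiniteType (α.app k₁)]
    (hJG : ∀ (V : (E.obj k₁).Opens), IsAffineOpen V → ∀ (n : Over k₁) (ψ : n ⟶ Over.mk (𝟙 k₁)),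
      JointlyGen ((opensDiagram E' k₁ (α.app k₁ ⁻¹ᵁ V)).map ψ).appTop
        ((opensNat E' E α k₁ V).app n).appTop) :
    ∃ (l : J) (_ : l ⟶ k₁), IsClosedImmersion (α.app l) := by
  classical
  have hcov : ∀ y : E.obj k₁, ∃ V : (E.obj k₁).Opens, IsAffineOpen V ∧ y ∈ V := by
    intro y
    obtain ⟨_, ⟨V, hV, rfl⟩, hyV, -⟩ := (E.obj k₁).isBasis_affineOpens.exists_subset_of_mem_open
      (Set.mem_univ y) isOpen_univ
    exact ⟨V, hV, hyV⟩
  choose V hV hyV using hcov
  obtain ⟨t, ht⟩ := CompactSpace.elim_nhds_subcover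
    (fun y => ((V y : (E.obj k₁).Opens) : Set (E.obj k₁))) (fun y => (V y).2.mem_nhds (hyV y))
  choose l hl using fun y => exists_forall_isClosedImmersion_opensNat' E' E α cE' hcE' cE hcE
    F hF k₁ (V y) (hV y) (hJG (V y) (hV y))
  obtain ⟨m, hm⟩ := IsCofiltered.inf_objs_exists (t.image l)
  refine ⟨m.left, m.hom, ?_⟩
  apply IsZariskiLocalAtTarget.of_forall_exists_morphismRestrict (P := @IsClosedImmersion)
  intro y
  have hy : (E.map m.hom) y ∈ (⊤ : Set (E.obj k₁)) := trivial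
  rw [← ht] at hy
  obtain ⟨a, hat, hya⟩ := Set.mem_iUnion₂.1 hy
  obtain ⟨χ⟩ := hm (Finset.mem_image_of_mem l hat)
  refine ⟨E.map m.hom ⁻¹ᵁ V a, hya, ?_⟩
  have := hl a m χ
  exact morphismRestrict_of_resLE @IsClosedImmersion (α.app m.left) (E.map m.hom ⁻¹ᵁ V a)
    (E'.map m.hom ⁻¹ᵁ (α.app k₁ ⁻¹ᵁ V a))
    (by rw [← Scheme.Hom.comp_preimage, ← Scheme.Hom.comp_preimage, α.naturality]) this

end general

section applications

theorem isIso_resLE_of_eq {X Y : Scheme.{u}} (f : X ⟶ Y) [IsIso f] (U : Y.Opens) (V : X.Opens)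
    (e : V = f ⁻¹ᵁ U) : IsIso (f.resLE U V e.le) := by
  subst e
  rw [Scheme.Hom.resLE_eq_morphismRestrict]
  infer_instance

attribute [local instance] IsCofiltered.isConnected

set_option backward.isDefEq.respectTransparency false in
/-- a closed immersion into a cofiltered limit, locally of finite type over the base, is a closed
immersion into a stage -/
theorem exists_isClosedImmersion_into_stage {I : Type u} [SmallCategory I] [IsCofiltered I]
    (S : Scheme.{u}) (D : I ⥤ Over S) (c : Cone D) (hc : IsLimit c)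
    [∀ (i j : I) (f : i ⟶ j), IsAffineHom (D.map f).left] [∀ i, CompactSpace (D.obj i).left]
    {Y : Scheme.{u}} (h : Y ⟶ c.pt.left) [IsClosedImmersion h]
    [LocallyOfFiniteType (h ≫ c.pt.hom)] :
    ∃ i : I, IsClosedImmersion (h ≫ (c.π.app i).left) := by
  let E : I ⥤ Scheme.{u} := D ⋙ Over.forget S
  let cE : Cone E := (Over.forget S).mapCone c
  have hcE : IsLimit cE := isLimitOfPreserves (Over.forget S) hc
  haveI : ∀ {i j : I} (f : i ⟶ j), IsAffineHom (E.map f) :=
    fun f => inferInstanceAs (IsAffineHom (D.map f).left)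
  let E' : I ⥤ Scheme.{u} := (Functor.const I).obj Y
  haveI : ∀ {i j : I} (f : i ⟶ j), IsAffineHom (E'.map f) :=
    fun f => inferInstanceAs (IsAffineHom (𝟙 Y))
  let cE' : Cone E' := constCone I Y
  have hcE' : IsLimit cE' := isLimitConstCone I Y
  let α : E' ⟶ E :=
    { app := fun i => h ≫ (c.π.app i).left
      naturality := fun i j f => by
        have := congr(($(c.w f)).left)
        simp only [Over.comp_left] at this
        simp [E', E, ← this] }
  obtain ⟨k₁⟩ := IsCofiltered.nonempty (C := I)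
  have hπ : IsAffineHom (c.π.app k₁).left := isAffineHom_π_app E cE hcE k₁
  haveI : IsAffineHom (α.app k₁) := inferInstanceAs (IsAffineHom (h ≫ (c.π.app k₁).left))
  haveI : LocallyOfFiniteType (α.app k₁) := by
    have e : (h ≫ (c.π.app k₁).left) ≫ (D.obj k₁).hom = h ≫ c.pt.hom := by
      rw [Category.assoc, Over.w]
      rfl
    have : LocallyOfFiniteType ((h ≫ (c.π.app k₁).left) ≫ (D.obj k₁).hom) := by
      rw [e]; infer_instance
    exact locallyOfFiniteType_of_comp (h ≫ (c.π.app k₁).left) (D.obj k₁).hom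
  haveI : CompactSpace (E.obj k₁) := inferInstanceAs (CompactSpace (D.obj k₁).left)
  obtain ⟨l, _, hl⟩ := exists_isClosedImmersion_stage' E' E α cE' hcE' cE hcE h
    (fun k => by simp only [cE', cE, α, constCone_π, NatTrans.id_app]; exact Category.id_comp _)
    k₁ (fun V hV n ψ => by
      apply JointlyGen.of_surjective_left
      have : IsIso (E'.map ψ.left) := inferInstanceAs (IsIso (𝟙 Y))
      have : IsIso ((opensDiagram E' k₁ (α.app k₁ ⁻¹ᵁ V)).map ψ) :=
        isIso_resLE_of_eq (E'.map ψ.left) _ _ rfl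
      exact (ConcreteCategory.bijective_of_isIso _).2)
  exact ⟨l, hl⟩

end applications

end Groth.Agent.Helper4.LimCI2
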