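import Mathlib
import Groth.Agent.Lib.Helper4.LimCI2

/-!
# Closed immersions descend to a stage: systems over a fixed base (helper4)
-/

set_option autoImplicit false
universe u
open AlgebraicGeometry CategoryTheory CategoryTheory.Limits

namespace Groth.Agent.Helper4.LimCI3

open Groth.Agent.Helper4.LimCI Groth.Agent.Helper4.LimCI2 Groth.Agent.Helper4.LimAff

attribute [local instance] IsCofiltered.isConnected

variable {I : Type u} [SmallCategory I] [IsCofiltered I] (S : Scheme.{u})
  (D : I ⥤ Scheme.{u}) (t : D ⟶ (Functor.const I).obj S) (c : Cone D) (hc : IsLimit c)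

omit [IsCofiltered I] in
theorem map_comp_app {i j : I} (f : i ⟶ j) : D.map f ≫ t.app j = t.app i := by
  have := t.naturality f
  simp only [Functor.const_obj_obj, Functor.const_obj_map, Category.comp_id] at this
  exact this

theorem π_comp_app_eq (i j : I) : c.π.app i ≫ t.app i = c.π.app j ≫ t.app j := by
  let l := IsCofiltered.min i j
  rw [← c.w (IsCofiltered.minToLeft i j), ← c.w (IsCofiltered.minToRight i j), Category.assoc,
    Category.assoc, map_comp_app, map_comp_app]

include hc in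
/-- affineness over a fixed quasi-compact quasi-separated base descends to a stage -/
theorem exists_isAffineHom_app [CompactSpace S] [QuasiSeparatedSpace S]
    [∀ {i j : I} (f : i ⟶ j), IsAffineHom (D.map f)]
    [∀ i, CompactSpace (D.obj i)] [∀ i, QuasiSeparatedSpace (D.obj i)] (i₀ : I)
    [IsAffineHom (c.π.app i₀ ≫ t.app i₀)] :
    ∃ (m : I) (_ : m ⟶ i₀), IsAffineHom (t.app m) := by
  classical
  have key : ∀ V : S.Opens, IsAffineOpen V → ∃ (l : Over i₀), ∀ (l' : Over i₀) (_ : l' ⟶ l),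
      IsAffineOpen (t.app l'.left ⁻¹ᵁ V) := by
    intro V hV
    have hqc : QuasiCompact (t.app i₀) := by
      haveI : QuasiSeparatedSpace ↥(((Functor.const I).obj S).obj i₀) := ‹QuasiSeparatedSpace S›
      infer_instance
    have hU : IsCompact ((t.app i₀ ⁻¹ᵁ V : (D.obj i₀).Opens) : Set (D.obj i₀)) :=
      QuasiCompact.isCompact_preimage _ V.2 hV.isCompact
    have hW : IsAffineOpen (c.π.app i₀ ⁻¹ᵁ (t.app i₀ ⁻¹ᵁ V)) := by
      rw [← Scheme.Hom.comp_preimage]
      exact hV.preimage _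
    obtain ⟨l, ψ, hl⟩ := exists_isAffineOpen_map_preimage D c hc i₀ _ hU hW
    refine ⟨Over.mk ψ, fun l' χ => ?_⟩
    have e1 : D.map χ.left ≫ D.map ψ ≫ t.app i₀ = t.app l'.left := by
      rw [map_comp_app S D t ψ]
      exact map_comp_app S D t χ.left
    have e : t.app l'.left ⁻¹ᵁ V = D.map χ.left ⁻¹ᵁ (D.map ψ ⁻¹ᵁ (t.app i₀ ⁻¹ᵁ V)) := by
      rw [← Scheme.Hom.comp_preimage, ← Scheme.Hom.comp_preimage, Category.assoc, e1]
    rw [e]
    exact hl.preimage (D.map χ.left)
  have hcov : ∀ y : S, ∃ V : S.Opens, IsAffineOpen V ∧ y ∈ V := by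
    intro y
    obtain ⟨_, ⟨V, hV, rfl⟩, hyV, -⟩ := S.isBasis_affineOpens.exists_subset_of_mem_open
      (Set.mem_univ y) isOpen_univ
    exact ⟨V, hV, hyV⟩
  choose V hV hyV using hcov
  obtain ⟨s, hs⟩ := CompactSpace.elim_nhds_subcover (fun y => ((V y : S.Opens) : Set S))
    (fun y => (V y).2.mem_nhds (hyV y))
  choose l hl using fun y => key (V y) (hV y)
  obtain ⟨m, hm⟩ := IsCofiltered.inf_objs_exists (s.image l)
  refine ⟨m.left, m.hom, ?_⟩
  apply isAffineHom_of_forall_exists_isAffineOpen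
  intro y
  have hy : y ∈ (⊤ : Set S) := trivial
  rw [← hs] at hy
  obtain ⟨a, has, hya⟩ := Set.mem_iUnion₂.1 hy
  obtain ⟨χ⟩ := hm (Finset.mem_image_of_mem l has)
  exact ⟨V a, hya, hV a, hl a m χ⟩

set_option backward.isDefEq.respectTransparency false in
include hc in
/-- a cofiltered limit of schemes locally of finite type over a fixed base with closed immersions
as transition maps: if the limit is a closed subscheme of the base, so is some stage -/
theorem exists_isClosedImmersion_app [CompactSpace S] [QuasiSeparatedSpace S]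
    [∀ {i j : I} (f : i ⟶ j), IsClosedImmersion (D.map f)]
    [∀ i, CompactSpace (D.obj i)] [∀ i, QuasiSeparatedSpace (D.obj i)]
    [∀ i, LocallyOfFiniteType (t.app i)] (i₀ : I)
    [IsClosedImmersion (c.π.app i₀ ≫ t.app i₀)] :
    ∃ i : I, IsClosedImmersion (t.app i) := by
  haveI : ∀ {i j : I} (f : i ⟶ j), IsAffineHom (D.map f) := fun f => inferInstance
  obtain ⟨k₁, _, hk₁⟩ := exists_isAffineHom_app S D t c hc i₀
  let E : I ⥤ Scheme.{u} := (Functor.const I).obj S
  haveI : ∀ {i j : I} (f : i ⟶ j), IsAffineHom (E.map f) :=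
    fun f => inferInstanceAs (IsAffineHom (𝟙 S))
  let cE : Cone E := constCone I S
  have hcE : IsLimit cE := isLimitConstCone I S
  haveI : CompactSpace (E.obj k₁) := ‹CompactSpace S›
  obtain ⟨l, _, hl⟩ := exists_isClosedImmersion_stage' D E t c hc cE hcE
    (c.π.app i₀ ≫ t.app i₀)
    (fun k => by
      simp only [cE, constCone_π, NatTrans.id_app]
      rw [π_comp_app_eq S D t c k i₀]
      exact (Category.comp_id _).symm)
    k₁ (fun V hV n ψ => by
      apply JointlyGen.of_surjective_left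
      have hU : IsAffineOpen (t.app k₁ ⁻¹ᵁ V) := hV.preimage (t.app k₁)
      have e : D.map n.hom ⁻¹ᵁ (t.app k₁ ⁻¹ᵁ V) =
          D.map ψ.left ⁻¹ᵁ (D.map (Over.mk (𝟙 k₁)).hom ⁻¹ᵁ (t.app k₁ ⁻¹ᵁ V)) := by
        have e0 : D.map ψ.left ≫ D.map (Over.mk (𝟙 k₁)).hom = D.map n.hom := by
          rw [← D.map_comp, Over.w ψ]
        rw [← e0, Scheme.Hom.comp_preimage]
      have h1 : IsClosedImmersion ((opensDiagram D k₁ (t.app k₁ ⁻¹ᵁ V)).map ψ) :=
        isClosedImmersion_resLE_of_eq (D.map ψ.left) _ _ e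
      have h2 : IsAffine ((opensDiagram D k₁ (t.app k₁ ⁻¹ᵁ V)).obj (Over.mk (𝟙 k₁))) :=
        hU.preimage (D.map (Over.mk (𝟙 k₁)).hom)
      exact (IsClosedImmersion.isAffine_surjective_of_isAffine
        ((opensDiagram D k₁ (t.app k₁ ⁻¹ᵁ V)).map ψ)).2)
  exact ⟨l, hl⟩

end Groth.Agent.Helper4.LimCI3
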