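import Mathlib
import Groth.Agent.Lib.Helper4.LimCI3

/-!
# Finite morphisms descend to a stage of a cofiltered limit (helper4)
-/

set_option autoImplicit false
universe u
open AlgebraicGeometry CategoryTheory CategoryTheory.Limits

namespace Groth.Agent.Helper4.LimFin

open Groth.Agent.Helper4.LimCI Groth.Agent.Helper4.LimCI2

section ring

theorem isIntegral_of_jointly {R S R' S' : CommRingCat.{u}} {a : R ⟶ S} {b : R ⟶ R'}
    {c : S ⟶ S'} {d : R' ⟶ S'} (hw : a ≫ c = b ≫ d)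
    (hQ : (Subring.closure (Set.range c.hom ∪ Set.range d.hom)).subtype.IsIntegral)
    (T : Set S) (hT : Subring.closure (Set.range a.hom ∪ T) = ⊤)
    (hc : ∀ t ∈ T, d.hom.IsIntegralElem (c.hom t)) : d.hom.IsIntegral := by
  algebraize [d.hom]
  let A : Subalgebra R' S' := integralClosure R' S'
  have hall : ∀ s : S, c.hom s ∈ A := by
    have hle : Subring.closure (Set.range a.hom ∪ T) ≤ A.toSubring.comap c.hom := by
      rw [Subring.closure_le]
      rintro s (⟨r, rfl⟩ | hs)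
      · have := congr($(hw).hom r)
        simp only [CommRingCat.hom_comp, RingHom.coe_comp, Function.comp_apply] at this
        change c.hom (a.hom r) ∈ A
        rw [this]
        exact A.algebraMap_mem (b.hom r)
      · exact hc s hs
    intro s
    have : s ∈ Subring.closure (Set.range a.hom ∪ T) := by rw [hT]; trivial
    exact hle this
  have hQA : Subring.closure (Set.range c.hom ∪ Set.range d.hom) ≤ A.toSubring := by
    rw [Subring.closure_le]
    rintro x (⟨s, rfl⟩ | ⟨r, rfl⟩)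
    · exact hall s
    · exact A.algebraMap_mem r
  intro x
  obtain ⟨p, hp, hpx⟩ := hQ x
  let incl : Subring.closure (Set.range c.hom ∪ Set.range d.hom) →+* A :=
    Subring.inclusion hQA
  have hxA : IsIntegral A x := by
    refine ⟨p.map incl, hp.map incl, ?_⟩
    rw [Polynomial.eval₂_map]
    exact hpx
  exact isIntegral_trans (R := R') (A := A) x hxA

end ring

section affine

variable {J : Type u} [SmallCategory J] [IsCofiltered J] (E' E : J ⥤ Scheme.{u})
  [∀ j, IsAffine (E'.obj j)] [∀ j, IsAffine (E.obj j)]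
  (α : E' ⟶ E)
  (cE' : Cone E') (hcE' : IsLimit cE') (cE : Cone E) (hcE : IsLimit cE)
  (F : cE'.pt ⟶ cE.pt) (hF : ∀ k, cE'.π.app k ≫ α.app k = F ≫ cE.π.app k)

/-- the pullback of sections to the limit, with the expected type -/
noncomputable def πTop (l : J) : Γ(E.obj l, ⊤) →+* Γ(cE.pt, ⊤) := (cE.π.app l).appTop.hom

include hcE in
theorem exists_forall_mem_range (A : Finset Γ(cE.pt, ⊤)) :
    ∃ l : J, ∀ a ∈ A, a ∈ Set.range (πTop E cE l) := by
  classical
  induction A using Finset.induction_on with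
  | empty => exact ⟨Classical.choice IsCofiltered.nonempty, by simp⟩
  | insert a A' _ ih =>
    obtain ⟨l₁, h₁⟩ := ih
    obtain ⟨l₂, b, hb⟩ := exists_appTop_π_eq_of_isAffine_of_isLimit E cE hcE a
    let l := IsCofiltered.min l₁ l₂
    have key : ∀ (l' : J) (f : l ⟶ l') (x : Γ(cE.pt, ⊤)),
        x ∈ Set.range (πTop E cE l') → x ∈ Set.range (πTop E cE l) := by
      rintro l' f x ⟨y, rfl⟩
      refine ⟨(E.map f).appTop.hom y, ?_⟩
      have e : (E.map f).appTop ≫ (cE.π.app l).appTop = (cE.π.app l').appTop := by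
        rw [← Scheme.Hom.comp_appTop, cE.w]
      exact congr($e y)
    refine ⟨l, fun x hx => ?_⟩
    rw [Finset.mem_insert] at hx
    rcases hx with rfl | hx
    · exact key l₂ (IsCofiltered.minToRight l₁ l₂) _ ⟨b, hb⟩
    · exact key l₁ (IsCofiltered.minToLeft l₁ l₂) _ (h₁ x hx)

include hcE in
theorem exists_monic_lift (p : Polynomial Γ(cE.pt, ⊤)) (hp : p.Monic) :
    ∃ (l : J) (q : Polynomial Γ(E.obj l, ⊤)), q.Monic ∧ q.map (πTop E cE l) = p := by
  classical
  obtain ⟨l, hl⟩ := exists_forall_mem_range E cE hcE p.coeffs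
  rcases subsingleton_or_nontrivial Γ(cE.pt, ⊤) with hs | hn
  · exact ⟨l, 1, Polynomial.monic_one, Subsingleton.elim _ _⟩
  · have hlift : p ∈ Polynomial.lifts (πTop E cE l) := by
      rw [Polynomial.lifts_iff_coeff_lifts]
      intro n
      by_cases h0 : p.coeff n = 0
      · exact ⟨0, by rw [h0, map_zero]⟩
      · exact hl _ (Polynomial.coeff_mem_coeffs h0)
    obtain ⟨q, hq, -, hqm⟩ := Polynomial.lifts_and_degree_eq_and_monic hlift hp
    exact ⟨l, q, hqm, hq⟩

/-- the pullback of sections to the limit, source system -/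
noncomputable def πTop' (l : J) : Γ(E'.obj l, ⊤) →+* Γ(cE'.pt, ⊤) := (cE'.π.app l).appTop.hom

include hcE' hcE hF in
theorem exists_isIntegralElem_of_isAffine (hint : F.appTop.hom.IsIntegral) (k₁ : J)
    (t : Γ(E'.obj k₁, ⊤)) :
    ∃ (m : J) (ψ : m ⟶ k₁), (α.app m).appTop.hom.IsIntegralElem ((E'.map ψ).appTop.hom t) := by
  obtain ⟨p, hp, hpt⟩ := hint (πTop' E' cE' k₁ t)
  obtain ⟨l, q, hqm, hq⟩ := exists_monic_lift E cE hcE p hp
  let l' := IsCofiltered.min l k₁
  let pl : l' ⟶ l := IsCofiltered.minToLeft l k₁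
  let ql : l' ⟶ k₁ := IsCofiltered.minToRight l k₁
  have r1 : (πTop' E' cE' l').comp (α.app l').appTop.hom = F.appTop.hom.comp (πTop E cE l') := by
    have e : (α.app l').appTop ≫ (cE'.π.app l').appTop = (cE.π.app l').appTop ≫ F.appTop := by
      simp only [← Scheme.Hom.comp_appTop]
      rw [hF l']
    exact congrArg CommRingCat.Hom.hom e
  have r2 : (πTop E cE l').comp (E.map pl).appTop.hom = πTop E cE l := by
    have e : (E.map pl).appTop ≫ (cE.π.app l').appTop = (cE.π.app l).appTop := by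
      rw [← Scheme.Hom.comp_appTop, cE.w]
    exact congrArg CommRingCat.Hom.hom e
  have r3 : (πTop' E' cE' l').comp (E'.map ql).appTop.hom = πTop' E' cE' k₁ := by
    have e : (E'.map ql).appTop ≫ (cE'.π.app l').appTop = (cE'.π.app k₁).appTop := by
      rw [← Scheme.Hom.comp_appTop, cE'.w]
    exact congrArg CommRingCat.Hom.hom e
  let q' : Polynomial Γ(E.obj l', ⊤) := q.map (E.map pl).appTop.hom
  let y : Γ(E'.obj l', ⊤) := (E'.map ql).appTop.hom t
  let z : Γ(E'.obj l', ⊤) := Polynomial.eval₂ (α.app l').appTop.hom y q'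
  have hz : πTop' E' cE' l' z = 0 := by
    have h1 : πTop' E' cE' l' z =
        Polynomial.eval₂ ((πTop' E' cE' l').comp (α.app l').appTop.hom) (πTop' E' cE' l' y) q' :=
      Polynomial.hom_eval₂ q' (α.app l').appTop.hom (πTop' E' cE' l') y
    have h2 : πTop' E' cE' l' y = πTop' E' cE' k₁ t := congr($r3 t)
    rw [h1, h2, r1, ← Polynomial.eval₂_map, Polynomial.map_map, r2, hq]
    exact hpt
  obtain ⟨m, f, hm⟩ := exists_appTop_map_eq_zero_of_isAffine_of_isLimit E' cE' hcE' l' z hz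
  refine ⟨m, f ≫ ql, q'.map (E.map f).appTop.hom, (hqm.map _).map _, ?_⟩
  have r4 : (E'.map f).appTop.hom.comp (α.app l').appTop.hom =
      (α.app m).appTop.hom.comp (E.map f).appTop.hom := by
    have e : (α.app l').appTop ≫ (E'.map f).appTop = (E.map f).appTop ≫ (α.app m).appTop := by
      simp only [← Scheme.Hom.comp_appTop]
      rw [α.naturality]
    exact congrArg CommRingCat.Hom.hom e
  have r5 : (E'.map f).appTop.hom.comp (E'.map ql).appTop.hom = (E'.map (f ≫ ql)).appTop.hom := by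
    have e : (E'.map ql).appTop ≫ (E'.map f).appTop = (E'.map (f ≫ ql)).appTop := by
      rw [← Scheme.Hom.comp_appTop, E'.map_comp]
    exact congrArg CommRingCat.Hom.hom e
  have h3 : (E'.map f).appTop.hom z =
      Polynomial.eval₂ ((E'.map f).appTop.hom.comp (α.app l').appTop.hom)
        ((E'.map f).appTop.hom y) q' :=
    Polynomial.hom_eval₂ q' (α.app l').appTop.hom (E'.map f).appTop.hom y
  have h4 : (E'.map f).appTop.hom y = (E'.map (f ≫ ql)).appTop.hom t := congr($r5 t)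
  rw [Polynomial.eval₂_map, ← r4, ← h4, ← h3]
  exact hm

set_option backward.isDefEq.respectTransparency.types false in
include hcE' hcE hF in
/-- finite morphisms descend to a stage: systems of affine schemes -/
theorem exists_forall_isFinite_of_isAffine [IsIntegralHom F] (k₁ : J)
    (hft : ∀ (n : J) (_ : n ⟶ k₁), LocallyOfFiniteType (α.app n))
    (hJI : ∀ (n : J) (ψ : n ⟶ k₁), (Subring.closure (Set.range (E'.map ψ).appTop.hom ∪
      Set.range (α.app n).appTop.hom)).subtype.IsIntegral) :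
    ∃ (l : J) (_ : l ⟶ k₁), ∀ (n : J) (_ : n ⟶ l), IsFinite (α.app n) := by
  have : IsAffine cE.pt := Scheme.isAffine_of_isLimit _ hcE
  have hint : F.appTop.hom.IsIntegral :=
    ((HasAffineProperty.iff_of_isAffine (P := @IsIntegralHom)).mp inferInstance).2
  have hft1 : LocallyOfFiniteType (α.app k₁) := hft k₁ (𝟙 _)
  have hft' : RingHom.FiniteType (α.app k₁).appTop.hom :=
    (HasRingHomProperty.iff_of_isAffine (P := @LocallyOfFiniteType)).mp inferInstance
  obtain ⟨T, hT⟩ : ∃ T : Finset Γ(E'.obj k₁, ⊤),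
      Subring.closure (Set.range (α.app k₁).appTop.hom ∪ (T : Set Γ(E'.obj k₁, ⊤))) = ⊤ := by
    algebraize [(α.app k₁).appTop.hom]
    obtain ⟨T, hT⟩ := (Algebra.FiniteType.out : (⊤ : Subalgebra Γ(E.obj k₁, ⊤) Γ(E'.obj k₁, ⊤)).FG)
    refine ⟨T, ?_⟩
    have h1 := congrArg Subalgebra.toSubring hT
    rw [Algebra.adjoin_eq_ring_closure, Algebra.top_toSubring] at h1
    exact h1
  have pers : ∀ {m n : J} (ψ : m ⟶ k₁) (χ : n ⟶ m) (t : Γ(E'.obj k₁, ⊤)),
      (α.app m).appTop.hom.IsIntegralElem ((E'.map ψ).appTop.hom t) →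
      (α.app n).appTop.hom.IsIntegralElem ((E'.map (χ ≫ ψ)).appTop.hom t) := by
    rintro m n ψ χ t ⟨p, hp, hpt⟩
    refine ⟨p.map (E.map χ).appTop.hom, hp.map _, ?_⟩
    have r4 : (E'.map χ).appTop.hom.comp (α.app m).appTop.hom =
        (α.app n).appTop.hom.comp (E.map χ).appTop.hom := by
      have e : (α.app m).appTop ≫ (E'.map χ).appTop = (E.map χ).appTop ≫ (α.app n).appTop := by
        simp only [← Scheme.Hom.comp_appTop]
        rw [α.naturality]
      exact congrArg CommRingCat.Hom.hom e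
    have r5 : (E'.map χ).appTop.hom.comp (E'.map ψ).appTop.hom =
        (E'.map (χ ≫ ψ)).appTop.hom := by
      have e : (E'.map ψ).appTop ≫ (E'.map χ).appTop = (E'.map (χ ≫ ψ)).appTop := by
        rw [← Scheme.Hom.comp_appTop, E'.map_comp]
      exact congrArg CommRingCat.Hom.hom e
    have h3 := Polynomial.hom_eval₂ p (α.app m).appTop.hom (E'.map χ).appTop.hom
      ((E'.map ψ).appTop.hom t)
    have h4 : (E'.map χ).appTop.hom ((E'.map ψ).appTop.hom t) =
        (E'.map (χ ≫ ψ)).appTop.hom t := congr($r5 t)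
    rw [Polynomial.eval₂_map, ← r4, ← h4, ← h3, hpt, map_zero]
  have key : ∀ T : Finset Γ(E'.obj k₁, ⊤), ∃ (m : J) (ψ : m ⟶ k₁), ∀ t ∈ T,
      (α.app m).appTop.hom.IsIntegralElem ((E'.map ψ).appTop.hom t) := by
    classical
    intro T
    induction T using Finset.induction_on with
    | empty => exact ⟨k₁, 𝟙 _, by simp⟩
    | insert t T' _ ih =>
      obtain ⟨m₁, ψ₁, h₁⟩ := ih
      obtain ⟨m₂, ψ₂, hr⟩ := exists_isIntegralElem_of_isAffine E' E α cE' hcE' cE hcE F hF hint k₁ t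
      obtain ⟨m, χ₁, χ₂, hχ⟩ := IsCofiltered.cospan ψ₁ ψ₂
      refine ⟨m, χ₁ ≫ ψ₁, ?_⟩
      intro t' ht'
      rw [Finset.mem_insert] at ht'
      rcases ht' with rfl | ht'
      · rw [hχ]
        exact pers ψ₂ χ₂ t' hr
      · exact pers ψ₁ χ₁ t' (h₁ t' ht')
  obtain ⟨m, ψ, hm⟩ := key T
  refine ⟨m, ψ, fun n χ => ?_⟩
  have hw : (α.app k₁).appTop ≫ (E'.map (χ ≫ ψ)).appTop =
      (E.map (χ ≫ ψ)).appTop ≫ (α.app n).appTop := by
    simp only [← Scheme.Hom.comp_appTop]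
    rw [α.naturality]
  have hi := isIntegral_of_jointly hw (hJI n (χ ≫ ψ)) (T : Set Γ(E'.obj k₁, ⊤)) hT
    (fun t ht => pers ψ χ t (hm t ht))
  have hftn : LocallyOfFiniteType (α.app n) := hft n (χ ≫ ψ)
  have hftn' : RingHom.FiniteType (α.app n).appTop.hom :=
    (HasRingHomProperty.iff_of_isAffine (P := @LocallyOfFiniteType)).mp inferInstance
  exact (HasAffineProperty.iff_of_isAffine (P := @IsFinite)).mpr
    ⟨inferInstance, hi.to_finite hftn'⟩

end affine

section general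

set_option backward.isDefEq.respectTransparency.types false in
theorem isFinite_resLE_of_eq {X Y : Scheme.{u}} (f : X ⟶ Y) (U : Y.Opens) (V : X.Opens)
    (e : V = f ⁻¹ᵁ U) [IsFinite f] : IsFinite (f.resLE U V e.le) := by
  subst e
  rw [Scheme.Hom.resLE_eq_morphismRestrict]
  exact IsZariskiLocalAtTarget.restrict ‹_› U

theorem isIntegralHom_resLE_of_eq {X Y : Scheme.{u}} (f : X ⟶ Y) (U : Y.Opens) (V : X.Opens)
    (e : V = f ⁻¹ᵁ U) [IsIntegralHom f] : IsIntegralHom (f.resLE U V e.le) := by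
  subst e
  rw [Scheme.Hom.resLE_eq_morphismRestrict]
  infer_instance

variable {J : Type u} [SmallCategory J] (E' E : J ⥤ Scheme.{u}) (α : E' ⟶ E)
  [IsCofiltered J]
  [∀ {i j} (f : i ⟶ j), IsAffineHom (E'.map f)] [∀ {i j} (f : i ⟶ j), IsAffineHom (E.map f)]
  (cE' : Cone E') (hcE' : IsLimit cE') (cE : Cone E) (hcE : IsLimit cE)
  (F : cE'.pt ⟶ cE.pt) (hF : ∀ k, cE'.π.app k ≫ α.app k = F ≫ cE.π.app k)

set_option backward.isDefEq.respectTransparency false in
include hcE' hcE hF in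
theorem exists_forall_isFinite_opensNat [IsIntegralHom F] (k₁ : J)
    [IsAffineHom (α.app k₁)] (V : (E.obj k₁).Opens) (hV : IsAffineOpen V)
    (hft : ∀ (n : Over k₁), LocallyOfFiniteType (α.app n.left))
    (hJI : ∀ (n : Over k₁) (ψ : n ⟶ Over.mk (𝟙 k₁)),
      (Subring.closure (Set.range ((opensDiagram E' k₁ (α.app k₁ ⁻¹ᵁ V)).map ψ).appTop.hom ∪
        Set.range ((opensNat E' E α k₁ V).app n).appTop.hom)).subtype.IsIntegral) :
    ∃ (l : Over k₁), ∀ (n : Over k₁) (_ : n ⟶ l),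
      IsFinite ((opensNat E' E α k₁ V).app n) := by
  have hU : IsAffineOpen (α.app k₁ ⁻¹ᵁ V) := hV.preimage (α.app k₁)
  have hA : ∀ j, IsAffine ((opensDiagram E k₁ V).obj j) := fun j => hV.preimage (E.map j.hom)
  have hA' : ∀ j, IsAffine ((opensDiagram E' k₁ (α.app k₁ ⁻¹ᵁ V)).obj j) :=
    fun j => hU.preimage (E'.map j.hom)
  have eF : cE'.π.app k₁ ⁻¹ᵁ (α.app k₁ ⁻¹ᵁ V) = F ⁻¹ᵁ (cE.π.app k₁ ⁻¹ᵁ V) := by
    rw [← Scheme.Hom.comp_preimage, ← Scheme.Hom.comp_preimage, hF]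
  let FV : (opensCone E' cE' k₁ (α.app k₁ ⁻¹ᵁ V)).pt ⟶ (opensCone E cE k₁ V).pt :=
    F.resLE (cE.π.app k₁ ⁻¹ᵁ V) (cE'.π.app k₁ ⁻¹ᵁ (α.app k₁ ⁻¹ᵁ V)) eF.le
  have hFV : IsIntegralHom FV := isIntegralHom_resLE_of_eq F _ _ eF
  have hcomp : ∀ j, (opensCone E' cE' k₁ (α.app k₁ ⁻¹ᵁ V)).π.app j ≫
      (opensNat E' E α k₁ V).app j = FV ≫ (opensCone E cE k₁ V).π.app j := by
    intro j
    simp only [opensCone_pt, opensCone_π_app, opensNat, FV, Scheme.Hom.resLE_comp_resLE, hF]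
  have hlft : ∀ (n : Over k₁) (_ : n ⟶ Over.mk (𝟙 k₁)),
      LocallyOfFiniteType ((opensNat E' E α k₁ V).app n) := by
    intro n _
    have := hft n
    simp only [opensNat]; infer_instance
  obtain ⟨l, _, hl⟩ := exists_forall_isFinite_of_isAffine
    (opensDiagram E' k₁ (α.app k₁ ⁻¹ᵁ V))
    (opensDiagram E k₁ V) (opensNat E' E α k₁ V) (opensCone E' cE' k₁ (α.app k₁ ⁻¹ᵁ V))
    (isLimitOpensCone E' cE' hcE' k₁ (α.app k₁ ⁻¹ᵁ V)) (opensCone E cE k₁ V)
    (isLimitOpensCone E cE hcE k₁ V) FV hcomp (Over.mk (𝟙 k₁)) hlft hJI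
  exact ⟨l, hl⟩

set_option backward.isDefEq.respectTransparency.types false in
include hcE' hcE hF in
/-- finite morphisms descend to a stage -/
theorem exists_isFinite_stage [IsIntegralHom F] (k₁ : J) [CompactSpace (E.obj k₁)]
    [IsAffineHom (α.app k₁)]
    (hft : ∀ (n : Over k₁), LocallyOfFiniteType (α.app n.left))
    (hJI : ∀ (V : (E.obj k₁).Opens), IsAffineOpen V → ∀ (n : Over k₁) (ψ : n ⟶ Over.mk (𝟙 k₁)),
      (Subring.closure (Set.range ((opensDiagram E' k₁ (α.app k₁ ⁻¹ᵁ V)).map ψ).appTop.hom ∪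
        Set.range ((opensNat E' E α k₁ V).app n).appTop.hom)).subtype.IsIntegral) :
    ∃ (l : Over k₁), ∀ (n : Over k₁) (_ : n ⟶ l), IsFinite (α.app n.left) := by
  classical
  have hcov : ∀ y : E.obj k₁, ∃ V : (E.obj k₁).Opens, IsAffineOpen V ∧ y ∈ V := by
    intro y
    obtain ⟨_, ⟨V, hV, rfl⟩, hyV, -⟩ := (E.obj k₁).isBasis_affineOpens.exists_subset_of_mem_open
      (Set.mem_univ y) isOpen_univ
    exact ⟨V, hV, hyV⟩
  choose V hV hyV using hcov
  obtain ⟨t, ht⟩ := CompactSpace.elim_nhds_subcover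
    (fun y => ((V y : (E.obj k₁).Opens) : Set (E.obj k₁))) (fun y => (V y).2.mem_nhds (hyV y))
  choose l hl using fun y => exists_forall_isFinite_opensNat E' E α cE' hcE' cE hcE
    F hF k₁ (V y) (hV y) hft (hJI (V y) (hV y))
  obtain ⟨m, hm⟩ := IsCofiltered.inf_objs_exists (t.image l)
  refine ⟨m, fun n ν => ?_⟩
  apply IsZariskiLocalAtTarget.of_forall_exists_morphismRestrict (P := @IsFinite)
  intro y
  have hy : (E.map n.hom) y ∈ (⊤ : Set (E.obj k₁)) := trivial
  rw [← ht] at hy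
  obtain ⟨a, hat, hya⟩ := Set.mem_iUnion₂.1 hy
  obtain ⟨χ⟩ := hm (Finset.mem_image_of_mem l hat)
  refine ⟨E.map n.hom ⁻¹ᵁ V a, hya, ?_⟩
  have := hl a n (ν ≫ χ)
  exact morphismRestrict_of_resLE @IsFinite (α.app n.left) (E.map n.hom ⁻¹ᵁ V a)
    (E'.map n.hom ⁻¹ᵁ (α.app k₁ ⁻¹ᵁ V a))
    (by rw [← Scheme.Hom.comp_preimage, ← Scheme.Hom.comp_preimage, α.naturality]) this

end general

section cartesian

theorem isIntegral_subtype_of_eq_top {S' : Type*} [CommRing S'] (Q : Subring S') (hQ : Q = ⊤) :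
    Q.subtype.IsIntegral := by
  intro x
  have hx : x ∈ Q := by rw [hQ]; trivial
  exact RingHom.isIntegralElem_map Q.subtype (x := ⟨x, hx⟩)

variable {J : Type u} [SmallCategory J] (E' E : J ⥤ Scheme.{u}) (α : E' ⟶ E)
  (hα : ∀ {j k : J} (φ : j ⟶ k), IsPullback (E'.map φ) (α.app j) (α.app k) (E.map φ))

set_option backward.isDefEq.respectTransparency false in
include hα in
theorem isPullback_opensNat (k₁ : J) (V : (E.obj k₁).Opens) {j k : Over k₁} (f : j ⟶ k) :
    IsPullback ((opensDiagram E' k₁ (α.app k₁ ⁻¹ᵁ V)).map f) ((opensNat E' E α k₁ V).app j)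
      ((opensNat E' E α k₁ V).app k) ((opensDiagram E k₁ V).map f) := by
  refine Scheme.Hom.isPullback_resLE (hα f.left) _ _ ?_
  have e1 : E'.map f.left ⁻¹ᵁ (E'.map k.hom ⁻¹ᵁ (α.app k₁ ⁻¹ᵁ V)) =
      E'.map j.hom ⁻¹ᵁ (α.app k₁ ⁻¹ᵁ V) := by
    rw [← Scheme.Hom.comp_preimage, ← E'.map_comp, Over.w f]
  have e2 : E'.map j.hom ⁻¹ᵁ (α.app k₁ ⁻¹ᵁ V) ≤ α.app j.left ⁻¹ᵁ (E.map j.hom ⁻¹ᵁ V) := by
    rw [← Scheme.Hom.comp_preimage, ← Scheme.Hom.comp_preimage, α.naturality]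
  rw [e1]
  exact (inf_eq_left.mpr e2).symm

variable [∀ {i j} (f : i ⟶ j), IsAffineHom (E'.map f)] [∀ {i j} (f : i ⟶ j), IsAffineHom (E.map f)]

set_option backward.isDefEq.respectTransparency false in
include hα in
theorem isIntegral_subtype_of_cartesian (k₁ : J) [IsAffineHom (α.app k₁)] (V : (E.obj k₁).Opens)
    (hV : IsAffineOpen V) (n : Over k₁) (ψ : n ⟶ Over.mk (𝟙 k₁)) :
    (Subring.closure (Set.range ((opensDiagram E' k₁ (α.app k₁ ⁻¹ᵁ V)).map ψ).appTop.hom ∪
      Set.range ((opensNat E' E α k₁ V).app n).appTop.hom)).subtype.IsIntegral := by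
  have hU : IsAffineOpen (α.app k₁ ⁻¹ᵁ V) := hV.preimage (α.app k₁)
  have hA : ∀ j, IsAffine ((opensDiagram E k₁ V).obj j) := fun j => hV.preimage (E.map j.hom)
  have hA' : ∀ j, IsAffine ((opensDiagram E' k₁ (α.app k₁ ⁻¹ᵁ V)).obj j) :=
    fun j => hU.preimage (E'.map j.hom)
  have hpo := isPushout_appTop_of_isPullback (isPullback_opensNat E' E α hα k₁ V ψ)
  exact isIntegral_subtype_of_eq_top _ (jointlyGen_of_isPushout hpo)

end cartesian

section stage

open Groth.Agent.Helper7.LimBC Groth.Agent.Helper4.LimStage Groth.Agent.Helper4.LimAff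
  Groth.Agent.Helper4.LimOImm

variable {I : Type u} [SmallCategory I] [IsCofiltered I] (D : I ⥤ Scheme.{u})
  [∀ {i j} (f : i ⟶ j), IsAffineHom (D.map f)] (c : Cone D) (hc : IsLimit c)

set_option backward.isDefEq.respectTransparency false in
include hc in
/-- finite morphisms descend to a stage; `f₀` only locally of finite type -/
theorem exists_isFinite_pbMap (i₀ : I) [CompactSpace (D.obj i₀)]
    [QuasiSeparatedSpace (D.obj i₀)]
    {X₀ Y₀ : Scheme.{u}} (f₀ : X₀ ⟶ Y₀) (g₀ : Y₀ ⟶ D.obj i₀)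
    [CompactSpace X₀] [QuasiSeparatedSpace X₀] [CompactSpace Y₀] [QuasiSeparatedSpace Y₀]
    [LocallyOfFiniteType f₀]
    {X Y : Scheme.{u}} (f : X ⟶ Y) (g : Y ⟶ c.pt) (qY : Y ⟶ Y₀) (qX : X ⟶ X₀)
    (hY : IsPullback qY g g₀ (c.π.app i₀)) (hX : IsPullback qX f f₀ qY) [IsIntegralHom f] :
    ∃ (j : I) (φ : j ⟶ i₀), IsFinite (pbMap (D.map φ) f₀ g₀) := by
  have : QuasiCompact g₀ := inferInstance
  have : QuasiSeparated g₀ := inferInstance
  have : QuasiCompact (f₀ ≫ g₀) := inferInstance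
  have : QuasiSeparated (f₀ ≫ g₀) := inferInstance
  obtain ⟨j₁, φ₁, haff⟩ := exists_isAffineHom_stage D c hc i₀ f₀ g₀ f g qY qX hY hX
  let k₁ : Over i₀ := Over.mk φ₁
  have hF : IsIntegralHom (pbMap (c.π.app i₀) f₀ g₀) :=
    canonical_of_isPullback @IsIntegralHom (c.π.app i₀) f₀ g₀ f g qY qX hY hX inferInstance
  have h1 : IsAffineHom ((pbNat D i₀ f₀ g₀).app k₁) := haff
  have h2 : ∀ n : Over k₁, LocallyOfFiniteType ((pbNat D i₀ f₀ g₀).app n.left) := fun n =>
    MorphismProperty.of_isPullback (P := @LocallyOfFiniteType)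
      (isPullback_pbMap (D.map n.left.hom) f₀ g₀) inferInstance
  obtain ⟨l, hl⟩ := exists_isFinite_stage (pbDiagram D i₀ (f₀ ≫ g₀))
    (pbDiagram D i₀ g₀) (pbNat D i₀ f₀ g₀)
    (pbCone D c i₀ (f₀ ≫ g₀)) (isLimitPbCone D c hc i₀ (f₀ ≫ g₀)) (pbCone D c i₀ g₀)
    (isLimitPbCone D c hc i₀ g₀) (pbMap (c.π.app i₀) f₀ g₀) (fun k => by
      apply pullback.hom_ext <;> simp [pbNat]) k₁ h2
    (fun V hV n ψ => isIntegral_subtype_of_cartesian _ _ (pbNat D i₀ f₀ g₀)
      (fun φ => isPullback_pbMap_map D i₀ f₀ g₀ φ) k₁ V hV n ψ)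
  exact ⟨l.left.left, l.left.hom, hl l (𝟙 _)⟩

end stage

end Groth.Agent.Helper4.LimFin
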