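import Mathlib
import Groth.Agent.Lib.Helper7.SmoothQuot

/-!
# Formal smoothness of localizations of a quotient of a formally smooth algebra, general submonoid
(helper4; generalises helper7's `SmoothQuot.formallySmooth_localization_iff` from `AtPrime` to an
arbitrary submonoid), and the Jacobian criterion TFAE (EGA 0_IV 22.6.4).
-/

open TensorProduct

namespace Groth.Agent.Helper4.SmoothQuotGen

open Groth.Agent.Helper7.SmoothQuot Groth.Agent.Helper7.LeftInv

universe u v w

variable {A : Type u} {C : Type v} [CommRing A] [CommRing C] [Algebra A C]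

/-- For an extension `P` of `C` by a formally smooth `A`-algebra, `C_p` is formally smooth over `A`
iff the localization at `p` of the cotangent complex `I/I² → C ⊗ Ω` is left invertible. -/
theorem formallySmooth_localization_iff' (P : Algebra.Extension.{w} A C)
    [Algebra.FormallySmooth A P.Ring] (S : Submonoid C) :
    Algebra.FormallySmooth A (Localization S) ↔
      ∃ w : LocalizedModule S P.CotangentSpace →ₗ[C]
          LocalizedModule S P.Cotangent,
        w ∘ₗ (LocalizedModule.map S P.cotangentComplex).restrictScalars C =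
          LinearMap.id := by
  set Cp := Localization S with hCp
  let e1 : LocalizedModule S (Algebra.H1Cotangent A C) ≃ₗ[C] Algebra.H1Cotangent A Cp :=
    IsLocalizedModule.iso S (Algebra.H1Cotangent.map A A C Cp)
  let e2 : LocalizedModule S Ω[C⁄A] ≃ₗ[Cp] Ω[Cp⁄A] :=
    (IsLocalizedModule.iso S (KaehlerDifferential.map A A C Cp)).extendScalarsOfIsLocalization S Cp
  let e3 : P.H1Cotangent ≃ₗ[C] Algebra.H1Cotangent A C := P.equivH1CotangentOfFormallySmooth
  -- vanishing of `H¹` of the localization in terms of the kernel
  have hK : Subsingleton (Algebra.H1Cotangent A Cp) ↔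
      ∀ h ∈ LinearMap.ker P.cotangentComplex, ∃ t ∈ S, t • h = 0 := by
    rw [← e1.subsingleton_congr, LocalizedModule.subsingleton_iff]
    constructor
    · intro H h hh
      obtain ⟨t, htS, ht⟩ := H (e3 ⟨h, hh⟩)
      refine ⟨t, htS, ?_⟩
      rw [← map_smul, LinearEquiv.map_eq_zero_iff] at ht
      exact congrArg Subtype.val ht
    · intro H m
      obtain ⟨⟨h, hh⟩, rfl⟩ := e3.surjective m
      obtain ⟨t, htS, ht⟩ := H h hh
      refine ⟨t, htS, ?_⟩
      rw [← map_smul, LinearEquiv.map_eq_zero_iff]
      exact Subtype.ext ht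
  have hInj : (∀ h ∈ LinearMap.ker P.cotangentComplex, ∃ t ∈ S, t • h = 0) ↔
      Function.Injective (LocalizedModule.map S P.cotangentComplex) := by
    constructor
    · intro H
      rw [injective_iff_map_eq_zero]
      intro x hx
      induction x using LocalizedModule.induction_on with | _ m s
      rw [LocalizedModule.map_mk, mk_eq_zero_iff] at hx
      obtain ⟨t, ht⟩ := hx
      have hmem : (t : C) • m ∈ LinearMap.ker P.cotangentComplex := by
        rw [LinearMap.mem_ker, map_smul]; exact ht
      obtain ⟨t', ht'S, ht'⟩ := H _ hmem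
      rw [mk_eq_zero_iff]
      exact ⟨⟨t', ht'S⟩ * t, by rw [Submonoid.smul_def, Submonoid.coe_mul, mul_smul]; exact ht'⟩
    · intro H h hh
      have : LocalizedModule.mk h (1 : S) = 0 := by
        apply H
        rw [LocalizedModule.map_mk, map_zero, LinearMap.mem_ker.1 hh, LocalizedModule.zero_mk]
      rw [mk_eq_zero_iff] at this
      obtain ⟨t, ht⟩ := this
      exact ⟨t, t.2, ht⟩
  have hex : Function.Exact (LocalizedModule.map S P.cotangentComplex)
      (LocalizedModule.map S P.toKaehler) :=
    LocalizedModule.map_exact S _ _ P.exact_cotangentComplex_toKaehler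
  have hsurj : Function.Surjective (LocalizedModule.map S P.toKaehler) :=
    LocalizedModule.map_surjective S _ P.toKaehler_surjective
  rw [Algebra.formallySmooth_iff]
  constructor
  · rintro ⟨hproj, hsub⟩
    have hproj' : Module.Projective Cp (LocalizedModule S Ω[C⁄A]) :=
      Module.Projective.of_equiv e2.symm
    have hinj := hInj.1 (hK.1 hsub)
    obtain ⟨l, hl⟩ := Module.projective_lifting_property (LocalizedModule.map S P.toKaehler)
      LinearMap.id hsurj
    have tfae := @Function.Exact.split_tfae' (Localization S) (LocalizedModule S P.Cotangent)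
      (LocalizedModule S P.CotangentSpace) (LocalizedModule S Ω[C⁄A]) _ _ _ _ _ _ _
      (LocalizedModule.map S P.cotangentComplex) (LocalizedModule.map S P.toKaehler) hex
    have h01 := tfae.out 0 1 rfl rfl
    obtain ⟨-, w, hw⟩ := h01.1 ⟨hinj, l, hl⟩
    exact ⟨w.restrictScalars C, by ext x; exact LinearMap.congr_fun hw x⟩
  · rintro ⟨w, hw⟩
    have hw' : (w.extendScalarsOfIsLocalization S Cp) ∘ₗ
        LocalizedModule.map S P.cotangentComplex = LinearMap.id := by
      ext x
      exact LinearMap.congr_fun hw x
    have tfae := @Function.Exact.split_tfae' (Localization S) (LocalizedModule S P.Cotangent)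
      (LocalizedModule S P.CotangentSpace) (LocalizedModule S Ω[C⁄A]) _ _ _ _ _ _ _
      (LocalizedModule.map S P.cotangentComplex) (LocalizedModule.map S P.toKaehler) hex
    have h10 := tfae.out 1 0 rfl rfl
    obtain ⟨hinj, l, hl⟩ := h10.1 ⟨hsurj, _, hw'⟩
    refine ⟨?_, hK.2 (hInj.2 hinj)⟩
    have : Module.Projective Cp (LocalizedModule S Ω[C⁄A]) :=
      Module.Projective.of_split l (LocalizedModule.map S P.toKaehler) hl
    exact Module.Projective.of_equiv e2

/-- Formal smoothness of a localization in terms of the split ideal of the cotangent complex. -/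
theorem formallySmooth_localization_iff_splitIdeal (P : Algebra.Extension.{w} A C)
    [Algebra.FormallySmooth A P.Ring] [Module.Finite C P.Cotangent] (S : Submonoid C) :
    Algebra.FormallySmooth A (Localization S) ↔ ∃ c ∈ S, c ∈ splitIdeal P.cotangentComplex := by
  rw [formallySmooth_localization_iff' P S, exists_leftInverse_localized_iff]

section Transfer

variable {B' C' : Type*} [CommRing B'] [CommRing C'] [Algebra B' C']

/-- For a surjection `B' → C'`, tensoring over `B'` or over `C'` is the same: injectivity of
`κ ⊗ u` transfers. -/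
theorem lTensor_injective_iff_of_surjective (hsurj : Function.Surjective (algebraMap B' C'))
    (κ : Type*) [AddCommGroup κ] [Module C' κ] [Module B' κ] [IsScalarTower B' C' κ]
    {X Y X' Y' : Type*} [AddCommGroup X] [Module C' X] [Module B' X] [IsScalarTower B' C' X]
    [AddCommGroup Y] [Module C' Y] [Module B' Y] [IsScalarTower B' C' Y]
    [AddCommGroup X'] [Module B' X'] [AddCommGroup Y'] [Module B' Y']
    (uC : X →ₗ[C'] Y) (uB : X' →ₗ[B'] Y') (eX : X ≃ₗ[B'] X') (eY : Y ≃ₗ[B'] Y')
    (h : ∀ x, eY (uC x) = uB (eX x)) :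
    Function.Injective (uC.lTensor κ) ↔ Function.Injective (uB.lTensor κ) := by
  haveI hcX : TensorProduct.CompatibleSMul B' C' κ X := ⟨fun c m n => by
    obtain ⟨b, rfl⟩ := hsurj c
    rw [algebraMap_smul, algebraMap_smul, TensorProduct.smul_tmul]⟩
  haveI hcY : TensorProduct.CompatibleSMul B' C' κ Y := ⟨fun c m n => by
    obtain ⟨b, rfl⟩ := hsurj c
    rw [algebraMap_smul, algebraMap_smul, TensorProduct.smul_tmul]⟩
  let θX : κ ⊗[C'] X ≃ₗ[B'] κ ⊗[B'] X' :=
    (TensorProduct.equivOfCompatibleSMul B' C' B' κ X).trans (LinearEquiv.lTensor κ eX)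
  let θY : κ ⊗[C'] Y ≃ₗ[B'] κ ⊗[B'] Y' :=
    (TensorProduct.equivOfCompatibleSMul B' C' B' κ Y).trans (LinearEquiv.lTensor κ eY)
  have hnat : ∀ z : κ ⊗[C'] X, θY (uC.lTensor κ z) = uB.lTensor κ (θX z) := by
    intro z
    induction z using TensorProduct.induction_on with
    | zero => simp
    | tmul c x =>
      simp only [θX, θY, LinearMap.lTensor_tmul, LinearEquiv.trans_apply]
      change (LinearEquiv.lTensor κ eY) (c ⊗ₜ[B'] uC x) =
        uB.lTensor κ ((LinearEquiv.lTensor κ eX) (c ⊗ₜ[B'] x))
      rw [LinearEquiv.lTensor_tmul, LinearEquiv.lTensor_tmul, LinearMap.lTensor_tmul, h]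
    | add x y hx hy => simp only [map_add, hx, hy]
  constructor
  · intro hinj a b hab
    obtain ⟨a, rfl⟩ := θX.surjective a
    obtain ⟨b, rfl⟩ := θX.surjective b
    rw [← hnat, ← hnat] at hab
    rw [hinj (θY.injective hab)]
  · intro hinj a b hab
    apply θX.injective
    apply hinj
    rw [← hnat, ← hnat, hab]

end Transfer

/-- EGA 0_IV 22.6.4: Jacobian criterion, in terms of an extension `P` of `C`. -/
theorem tfae_aux {A C : Type u} [CommRing A] [CommRing C] [Algebra A C]
    (P : Algebra.Extension.{u} A C) [Algebra.FormallySmooth A P.Ring]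
    [Module.Finite C P.Cotangent] (p : Ideal C) [p.IsPrime] :
    [Algebra.FormallySmooth A (Localization.AtPrime p),
     Function.Injective ((KaehlerDifferential.kerCotangentToTensor A P.Ring C).lTensor p.ResidueField),
     ∃ f : C, f ∉ p ∧ Algebra.FormallySmooth A (Localization.Away f)].TFAE := by
  have h12 : Algebra.FormallySmooth A (Localization.AtPrime p) ↔
      Function.Injective ((KaehlerDifferential.kerCotangentToTensor A P.Ring C).lTensor p.ResidueField) := by
    rw [formallySmooth_localization_iff P p,
      exists_leftInverse_localized_atPrime_iff_lTensor p P.cotangentComplex]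
    exact lTensor_injective_iff_of_surjective P.algebraMap_surjective p.ResidueField
      P.cotangentComplex (KaehlerDifferential.kerCotangentToTensor A P.Ring C) P.cotangentEquivCotangentKer
      (LinearEquiv.refl _ _) (fun x => rfl)
  have h1 : Algebra.FormallySmooth A (Localization.AtPrime p) ↔
      ∃ c ∈ p.primeCompl, c ∈ splitIdeal P.cotangentComplex :=
    formallySmooth_localization_iff_splitIdeal P p.primeCompl
  have h13 : Algebra.FormallySmooth A (Localization.AtPrime p) ↔
      ∃ f : C, f ∉ p ∧ Algebra.FormallySmooth A (Localization.Away f) := by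
    rw [h1]
    constructor
    · rintro ⟨c, hcp, hc⟩
      refine ⟨c, hcp, ?_⟩
      exact (formallySmooth_localization_iff_splitIdeal P (Submonoid.powers c)).2
        ⟨c, Submonoid.mem_powers c, hc⟩
    · rintro ⟨f, hfp, hf⟩
      obtain ⟨c, ⟨n, rfl⟩, hc⟩ :=
        (formallySmooth_localization_iff_splitIdeal P (Submonoid.powers f)).1 hf
      exact ⟨f ^ n, fun h => hfp (Ideal.IsPrime.mem_of_pow_mem inferInstance n h), hc⟩
  tfae_have 1 ↔ 2 := h12
  tfae_have 1 ↔ 3 := h13
  tfae_finish

end Groth.Agent.Helper4.SmoothQuotGen
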