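import Groth.Agent.Lib.Helper14.SmoothReg
import Groth.Agent.Lib.Lead.RLR1

/-!
# Schemes smooth over a regular ring have regular local rings (helper4)
-/

set_option autoImplicit false
universe u
open AlgebraicGeometry CategoryTheory CategoryTheory.Limits

namespace Groth.Agent.Helper4.SmoothRegSch

/-- If `X` is smooth over `Spec R` with `R` regular, then every local ring of `X` is regular. -/
theorem isRegularLocalRing_stalk (R : Type u) [CommRing R] [IsRegularRing R] {X : Scheme.{u}}
    (pX : X ⟶ Spec (CommRingCat.of R)) [Smooth pX] (x : X) :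
    IsRegularLocalRing (X.presheaf.stalk x) := by
  obtain ⟨_, ⟨W, hW, rfl⟩, hxW, -⟩ :=
    X.isBasis_affineOpens.exists_subset_of_mem_open (Set.mem_univ x) isOpen_univ
  have hsm : (pX.appLE ⊤ W le_top).hom.Smooth :=
    Smooth.smooth_appLE pX (isAffineOpen_top _) hW le_top
  haveI : IsRegularRing Γ(Spec (CommRingCat.of R), ⊤) :=
    IsRegularRing.of_ringEquiv (Scheme.ΓSpecIso (CommRingCat.of R)).commRingCatIsoToRingEquiv.symm
  algebraize [(pX.appLE ⊤ W le_top).hom]
  haveI : IsRegularRing Γ(X, W) :=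
    Groth.Agent.Helper14.SmoothReg.isRegularRing_of_smooth Γ(Spec (CommRingCat.of R), ⊤) Γ(X, W)
  letI := TopCat.Presheaf.algebra_section_stalk X.presheaf (⟨x, hxW⟩ : W)
  haveI := hW.isLocalization_stalk ⟨x, hxW⟩
  haveI := (hW.primeIdealOf ⟨x, hxW⟩).isPrime
  exact IsRegularLocalRing.of_ringEquiv
    (IsLocalization.algEquiv (hW.primeIdealOf ⟨x, hxW⟩).asIdeal.primeCompl
      (Localization.AtPrime (hW.primeIdealOf ⟨x, hxW⟩).asIdeal) (X.presheaf.stalk x)).toRingEquiv

end Groth.Agent.Helper4.SmoothRegSch
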