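import Mathlib
import Groth.Agent.Lib.Helper4.CurveExt
import Groth.Agent.Lib.Lead.RLR1

/-!
# Extending rational maps to proper schemes over points of codimension one (helper4)
-/

set_option autoImplicit false
universe u
open AlgebraicGeometry CategoryTheory CategoryTheory.Limits

namespace Groth.Agent.Helper4.CurveExt

/-- a regular local ring of dimension at most one is a valuation ring -/
theorem valuationRing_of_regular (R : Type u) [CommRing R] [IsRegularLocalRing R]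
    (h : ringKrullDim R ≤ 1) : ∃ (_ : IsDomain R), ValuationRing R := by
  have hdom : IsDomain R := Groth.Agent.Lead.RLR.isDomain R
  refine ⟨hdom, ?_⟩
  by_cases hf : IsField R
  · letI := hf.toField
    infer_instance
  · have hfin : ((IsLocalRing.maximalIdeal R).spanFinrank : WithBot ℕ∞) ≤ 1 := by
      rw [IsRegularLocalRing.spanFinrank_maximalIdeal]
      exact h
    have hfin' : (IsLocalRing.maximalIdeal R).spanFinrank ≤ 1 := by
      exact_mod_cast hfin
    have hfg : (IsLocalRing.maximalIdeal R).FG := IsNoetherian.noetherian _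
    have hprin : (IsLocalRing.maximalIdeal R).IsPrincipal := by
      have hcard := Submodule.FG.generators_ncard hfg
      have hspan := Submodule.span_generators (IsLocalRing.maximalIdeal R)
      have hfinite : (IsLocalRing.maximalIdeal R).generators.Finite :=
        Submodule.FG.finite_generators hfg
      rw [← hcard] at hfin'
      rcases Nat.le_one_iff_eq_zero_or_eq_one.mp hfin' with h0 | h1
      · rw [Set.ncard_eq_zero hfinite] at h0
        refine ⟨⟨0, ?_⟩⟩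
        rw [← hspan, h0]
        simp
      · obtain ⟨x, hx⟩ := Set.ncard_eq_one.mp h1
        refine ⟨⟨x, ?_⟩⟩
        rw [← hspan, hx]
    have hdvr : IsDiscreteValuationRing R :=
      ((IsDiscreteValuationRing.TFAE R hf).out 0 4).mpr hprin
    infer_instance

section family

variable {X Y S : Scheme.{u}} (pX : X ⟶ S) (pY : Y ⟶ S)

/-- gluing a family of local extensions of a morphism defined on a dense open of a reduced
scheme -/
theorem exists_extension_of_family [IsReduced X] [IsSeparated pY]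
    (U : X.Opens) (hU : Dense (U : Set X)) (g : (U : Scheme.{u}) ⟶ Y) (hg : g ≫ pY = U.ι ≫ pX)
    {ι : Type*} (V : ι → X.Opens) (v : ∀ i, (V i : Scheme.{u}) ⟶ Y)
    (hv1 : ∀ i, v i ≫ pY = (V i).ι ≫ pX)
    (hv2 : ∀ i {Q : Scheme.{u}} (a : Q ⟶ U) (b : Q ⟶ V i), a ≫ U.ι = b ≫ (V i).ι →
      b ≫ v i = a ≫ g) :
    ∃ (W : X.Opens) (hUW : U ≤ W) (g' : (W : Scheme.{u}) ⟶ Y), g' ≫ pY = W.ι ≫ pX ∧
      X.homOfLE hUW ≫ g' = g ∧ ∀ i, V i ≤ W := by
  let W : X.Opens := U ⊔ ⨆ i, V i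
  have hUW : U ≤ W := le_sup_left
  have hVW : ∀ i, V i ≤ W := fun i => (le_iSup V i).trans le_sup_right
  let U' : (W : Scheme.{u}).Opens := W.ι ⁻¹ᵁ U
  have hU' : Dense (U' : Set (W : Scheme.{u})) :=
    hU.preimage W.ι.isOpenEmbedding.isOpenMap
  let gW : (U' : Scheme.{u}) ⟶ Y := (W.ι ∣_ U) ≫ g
  have hgW : gW ≫ pY = U'.ι ≫ W.ι ≫ pX := by
    simp only [gW, Category.assoc, hg]
    rw [morphismRestrict_ι_assoc]
  have hloc : ∀ x : (W : Scheme.{u}), ∃ (V' : (W : Scheme.{u}).Opens)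
      (v' : (V' : Scheme.{u}) ⟶ Y), x ∈ V' ∧ v' ≫ pY = V'.ι ≫ W.ι ≫ pX ∧
      ∀ {Q : Scheme.{u}} (a : Q ⟶ U') (b : Q ⟶ V'), a ≫ U'.ι = b ≫ V'.ι → b ≫ v' = a ≫ gW := by
    rintro ⟨x, hx⟩
    rcases hx with hx | hx
    · exact ⟨U', gW, hx, hgW, fun a b hab => by
        rw [(cancel_mono U'.ι).mp hab]⟩
    · obtain ⟨i, hi⟩ := TopologicalSpace.Opens.mem_iSup.mp hx
      refine ⟨W.ι ⁻¹ᵁ V i, (W.ι ∣_ V i) ≫ v i, hi, ?_, ?_⟩
      · simp only [Category.assoc, hv1]
        rw [morphismRestrict_ι_assoc]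
      · intro Q a b hab
        have := hv2 i (a ≫ (W.ι ∣_ U)) (b ≫ (W.ι ∣_ V i)) (by
          simp only [Category.assoc, morphismRestrict_ι]
          rw [reassoc_of% hab])
        simpa only [Category.assoc, gW] using this
  obtain ⟨g', ⟨hg'1, hg'2⟩, -⟩ :=
    existsUnique_extension_of_local (W.ι ≫ pX) pY U' hU' gW hgW hloc
  refine ⟨W, hUW, g', hg'2, ?_, hVW⟩
  let a : (U : Scheme.{u}) ⟶ (U' : Scheme.{u}) := IsOpenImmersion.lift U'.ι (X.homOfLE hUW) (by
    rw [Scheme.Opens.range_ι]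
    rintro _ ⟨u, rfl⟩
    change W.ι ((X.homOfLE hUW) u) ∈ U
    rw [← Scheme.Hom.comp_apply, Scheme.homOfLE_ι]
    exact u.2)
  have ha : a ≫ U'.ι = X.homOfLE hUW := IsOpenImmersion.lift_fac _ _ _
  have ha2 : a ≫ (W.ι ∣_ U) = 𝟙 _ := by
    rw [← cancel_mono U.ι, Category.assoc, morphismRestrict_ι, reassoc_of% ha]
    simp
  rw [← ha, Category.assoc, hg'1]
  simp only [gW]
  rw [reassoc_of% ha2]

end family

/-- a rational map to a proper scheme is defined at the points of codimension at most one where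
the source is regular -/
theorem exists_extension_codim_one {S X Y : Scheme.{u}}
    (p : X ⟶ S) [IsProper p] (q : Y ⟶ S) [IsLocallyNoetherian Y] [IsReduced Y]
    (hreg : ∀ y : Y, ringKrullDim (Y.presheaf.stalk y) ≤ 1 →
      IsRegularLocalRing (Y.presheaf.stalk y))
    (V : Y.Opens) (hV : Dense (V : Set Y)) (g : (V : Scheme.{u}) ⟶ X) (hg : g ≫ p = V.ι ≫ q) :
    ∃ (U : Y.Opens) (hVU : V ≤ U) (g' : (U : Scheme.{u}) ⟶ X), g' ≫ p = U.ι ≫ q ∧
      Y.homOfLE hVU ≫ g' = g ∧ ∀ y : Y, ringKrullDim (Y.presheaf.stalk y) ≤ 1 → y ∈ U := by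
  have key : ∀ y : {y : Y // ringKrullDim (Y.presheaf.stalk y) ≤ 1},
      ∃ (V' : Y.Opens) (v : (V' : Scheme.{u}) ⟶ X), y.1 ∈ V' ∧ v ≫ p = V'.ι ≫ q ∧
        ∀ {Q : Scheme.{u}} (a : Q ⟶ V) (b : Q ⟶ V'), a ≫ V.ι = b ≫ V'.ι → b ≫ v = a ≫ g := by
    rintro ⟨y, hy⟩
    haveI := hreg y hy
    obtain ⟨hdom, hval⟩ := valuationRing_of_regular (Y.presheaf.stalk y) hy
    exact exists_local_extension q p V hV g hg y
  choose V' v hyV' hv1 hv2 using key
  obtain ⟨U, hVU, g', h1, h2, h3⟩ := exists_extension_of_family q p V hV g hg V' v hv1 hv2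
  exact ⟨U, hVU, g', h1, h2, fun y hy => h3 ⟨y, hy⟩ (hyV' ⟨y, hy⟩)⟩

end Groth.Agent.Helper4.CurveExt
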