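import Groth.Agent.Lib.Helper4.CurveMor
import Groth.Agent.S4442

/-!
# The function field of an integral curve over a field (helper4)
-/

set_option autoImplicit false
universe u
open AlgebraicGeometry CategoryTheory CategoryTheory.Limits

namespace Groth.Agent.Helper4.FunField

attribute [local instance] Curv2.stalkAlgebra Curv2.resAlgebra

theorem isIso_toStalk_field (k : Type u) [Field k] (y : Spec (CommRingCat.of k)) :
    IsIso (StructureSheaf.toStalk (CommRingCat.of k) y) := by
  obtain rfl : y = IsLocalRing.closedPoint k := Subsingleton.elim _ _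
  rw [← stalkClosedPointIso_inv]
  infer_instance

theorem stalkMap_eq (k : Type u) [Field k] (X : Scheme.{u}) [X.Over (Spec (CommRingCat.of k))]
    (x : X) :
    CommRingCat.ofHom (Curv2.stalkMap k X x) =
      StructureSheaf.toStalk (CommRingCat.of k) ((X ↘ Spec (CommRingCat.of k)) x) ≫
        (X ↘ Spec (CommRingCat.of k)).stalkMap x := by
  apply Spec.map_injective
  rw [← Groth.Agent.Helper4.CurveMor.fromSpecStalk_over, Spec.map_comp,
    ← Spec.fromSpecStalk_eq']
  exact (Scheme.SpecMap_stalkMap_fromSpecStalk _).symm

theorem essFiniteType_stalkMap (k : Type u) [Field k] (X : Scheme.{u})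
    [X.Over (Spec (CommRingCat.of k))] [LocallyOfFiniteType (X ↘ Spec (CommRingCat.of k))]
    (x : X) : (Curv2.stalkMap k X x).EssFiniteType := by
  have h1 : Curv2.stalkMap k X x =
      ((X ↘ Spec (CommRingCat.of k)).stalkMap x).hom.comp
        (StructureSheaf.toStalk (CommRingCat.of k) ((X ↘ Spec (CommRingCat.of k)) x)).hom :=
    congrArg CommRingCat.Hom.hom (stalkMap_eq k X x)
  rw [h1]
  refine RingHom.EssFiniteType.stableUnderComposition _ _ ?_
    (LocallyOfFiniteType.stalkMap (X ↘ Spec (CommRingCat.of k)) x)
  haveI := isIso_toStalk_field k ((X ↘ Spec (CommRingCat.of k)) x)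
  have hb : Function.Bijective
      (StructureSheaf.toStalk (CommRingCat.of k) ((X ↘ Spec (CommRingCat.of k)) x)).hom :=
    ConcreteCategory.bijective_of_isIso _
  exact RingHom.FiniteType.essFiniteType (RingHom.FiniteType.of_surjective _ hb.2)

theorem fg_functionField (k : Type u) [Field k] (X : Scheme.{u})
    [X.Over (Spec (CommRingCat.of k))] [LocallyOfFiniteType (X ↘ Spec (CommRingCat.of k))]
    [IsIntegral X] :
    letI : Field (X.presheaf.stalk (genericPoint X)) := (inferInstance : Field X.functionField)
    (⊤ : IntermediateField k (X.presheaf.stalk (genericPoint X))).FG := by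
  letI : Field (X.presheaf.stalk (genericPoint X)) := (inferInstance : Field X.functionField)
  rw [IntermediateField.fg_top_iff]
  exact essFiniteType_stalkMap k X (genericPoint X)

theorem trdeg_functionField (k : Type u) [Field k] (X : Scheme.{u})
    [X.Over (Spec (CommRingCat.of k))] [LocallyOfFiniteType (X ↘ Spec (CommRingCat.of k))]
    [QuasiCompact (X ↘ Spec (CommRingCat.of k))] [IsIntegral X]
    (hcurve : ∀ x : X, IsClosed ({x} : Set X) → ringKrullDim (X.presheaf.stalk x) = 1) :
    Algebra.trdeg k (X.presheaf.stalk (genericPoint X)) = 1 := by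
  letI : Field (X.presheaf.stalk (genericPoint X)) := (inferInstance : Field X.functionField)
  have h1 := (Groth.Agent.S4442.result k X).mpr hcurve (genericPoint X) (by
    rw [(genericPoint_spec X).def, irreducibleComponents_eq_singleton]
    rfl)
  have hbij : Function.Bijective (X.residue (genericPoint X)).hom :=
    ⟨RingHom.injective _, Scheme.residue_surjective _ _⟩
  let e : X.presheaf.stalk (genericPoint X) ≃ₐ[k] X.residueField (genericPoint X) :=
    { RingEquiv.ofBijective _ hbij with
      commutes' := fun r => rfl }
  rw [e.trdeg_eq]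
  exact h1

end Groth.Agent.Helper4.FunField
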