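import Mathlib
import Groth.Agent.Lib.Helper4.NormalDecomp
import Groth.Agent.Lib.Helper4.SmoothRegSch
import Groth.Agent.Lib.Helper4.GeomConnSep
import Groth.Agent.Lib.Lead.RLR1
import Groth.Agent.Lib.Helper16.Sch.GenGS3

set_option autoImplicit false
universe u
open AlgebraicGeometry CategoryTheory CategoryTheory.Limits TopologicalSpace Topology

namespace Groth.Agent.Helper4.SmoothRat

/-- a connected Noetherian scheme all of whose local rings are domains is irreducible -/
theorem irreducibleSpace_of_connected (X : Scheme.{u}) [NoetherianSpace X] [ConnectedSpace X]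
    (hdom : ∀ x : X, IsDomain (X.presheaf.stalk x)) : IrreducibleSpace X := by
  obtain ⟨x₀⟩ : Nonempty X := inferInstance
  have hZ := irreducibleComponent_mem_irreducibleComponents x₀
  have hop := Groth.Agent.Helper4.NormalDecomp.isOpen_of_mem_irreducibleComponents X hdom hZ
  have hcl : IsClosed (irreducibleComponent x₀) := isClosed_irreducibleComponent
  have huniv : irreducibleComponent x₀ = Set.univ :=
    IsClopen.eq_univ ⟨hcl, hop⟩ ⟨x₀, mem_irreducibleComponent⟩
  haveI : PreirreducibleSpace X :=
    ⟨huniv ▸ (isIrreducible_irreducibleComponent (x := x₀)).isPreirreducible⟩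
  exact ⟨inferInstance⟩

variable {k : Type u} [Field k] {X : Scheme.{u}}

set_option backward.isDefEq.respectTransparency false in
/-- a connected quasi-compact smooth `k`-scheme with a rational point is geometrically irreducible -/
theorem geometricallyIrreducible_of_smooth (f : X ⟶ Spec (CommRingCat.of k)) [Smooth f]
    [QuasiCompact f] [ConnectedSpace X] (x : X) (φ : k →+* X.residueField x)
    (hφ : Spec.map (CommRingCat.ofHom φ) = X.fromSpecResidueField x ≫ f)
    (hsurj : Function.Surjective φ) : GeometricallyIrreducible f := by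
  haveI hgc : GeometricallyConnected f :=
    Groth.Agent.Helper4.GeomConnSep.geometricallyConnected_of_point f x φ hφ
      (fun α _ => hsurj α)
  refine ⟨fun K _ y Z fst snd h => ?_⟩
  haveI : ConnectedSpace Z := hgc.geometrically_connectedSpace y fst snd h
  haveI : Smooth snd := MorphismProperty.of_isPullback (P := @Smooth) h inferInstance
  haveI : QuasiCompact snd := MorphismProperty.of_isPullback (P := @QuasiCompact) h inferInstance
  haveI : IsLocallyNoetherian Z := LocallyOfFiniteType.isLocallyNoetherian snd
  haveI : CompactSpace Z := QuasiCompact.compactSpace_of_compactSpace snd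
  haveI : IsNoetherian Z := ⟨⟩
  refine irreducibleSpace_of_connected Z (fun z => ?_)
  haveI := Groth.Agent.Helper4.SmoothRegSch.isRegularLocalRing_stalk K snd z
  exact Groth.Agent.Lead.RLR.isDomain _

/-- geometric irreducibility can be checked on a dense open subscheme -/
theorem geometricallyIrreducible_of_dense_open (f : X ⟶ Spec (CommRingCat.of k)) (U : X.Opens)
    (hU : Dense (U : Set X)) [GeometricallyIrreducible (U.ι ≫ f)] :
    GeometricallyIrreducible f := by
  refine ⟨fun K _ y Z fst snd h => ?_⟩
  have h1 : IsPullback (fst ∣_ U) (fst ⁻¹ᵁ U).ι U.ι fst := isPullback_morphismRestrict fst U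
  have h2 := h1.paste_vert h
  haveI hW : IrreducibleSpace ↥((fst ⁻¹ᵁ U : Z.Opens).toScheme) :=
    (GeometricallyIrreducible.geometrically_irreducibleSpace (f := U.ι ≫ f)) y _ _ h2
  haveI : UniversallyOpen y := by
    rw [← Spec.map_preimage y]
    infer_instance
  haveI : UniversallyOpen fst :=
    MorphismProperty.of_isPullback (P := @UniversallyOpen) h.flip inferInstance
  have hdense : Dense ((fst ⁻¹ᵁ U : Z.Opens) : Set Z) := hU.preimage fst.isOpenMap
  have hirr : IsIrreducible ((fst ⁻¹ᵁ U : Z.Opens) : Set Z) := by
    have := (IrreducibleSpace.isIrreducible_univ ↥((fst ⁻¹ᵁ U : Z.Opens).toScheme)).image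
      (fst ⁻¹ᵁ U : Z.Opens).ι (fst ⁻¹ᵁ U : Z.Opens).ι.continuous.continuousOn
    rwa [Set.image_univ, Scheme.Opens.range_ι] at this
  have hcl := hirr.closure
  rw [hdense.closure_eq] at hcl
  haveI : Nonempty Z := hcl.nonempty.to_subtype.map Subtype.val
  haveI : PreirreducibleSpace Z := ⟨hcl.isPreirreducible⟩
  exact ⟨inferInstance⟩

set_option backward.isDefEq.respectTransparency false in
/-- an integral quasi-compact `k`-scheme locally of finite type with a rational point in the smooth
locus is geometrically integral -/
theorem geometricallyIntegral_of_smooth_ratPt (f : X ⟶ Spec (CommRingCat.of k)) [IsIntegral X]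
    [LocallyOfFiniteType f] [QuasiCompact f] (x : X) (φ : k →+* X.residueField x)
    (hφ : Spec.map (CommRingCat.ofHom φ) = X.fromSpecResidueField x ≫ f)
    (hsurj : Function.Surjective φ) (hsm : x ∈ f.smoothLocus) : GeometricallyIntegral f := by
  haveI : LocallyOfFinitePresentation f :=
    LocallyOfFinitePresentation.iff_locallyOfFiniteType.mpr inferInstance
  have hUne : ((f.smoothLocus : X.Opens) : Set X).Nonempty := ⟨x, hsm⟩
  have hUd : Dense ((f.smoothLocus : X.Opens) : Set X) := f.smoothLocus.isOpen.dense hUne
  haveI : IsDominant f.smoothLocus.ι := ⟨by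
    show DenseRange _
    rw [DenseRange, Scheme.Opens.range_ι]
    exact hUd⟩
  haveI : IsSchemeTheoreticallyDominant f.smoothLocus.ι :=
    IsSchemeTheoreticallyDominant.of_isDominant f.smoothLocus.ι
  haveI hred : GeometricallyReduced f :=
    Groth.Agent.Helper16.GenGS.geometricallyReduced_of_smoothLocus k f
  haveI : Smooth (f.smoothLocus.ι ≫ f) := Groth.Agent.Helper16.GenGS.smooth_smoothLocus_ι_comp f
  haveI : IsLocallyNoetherian X := LocallyOfFiniteType.isLocallyNoetherian f
  haveI : CompactSpace X := QuasiCompact.compactSpace_of_compactSpace f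
  haveI : IsNoetherian X := ⟨⟩
  haveI : QuasiCompact (f.smoothLocus.ι ≫ f) := by
    haveI : QuasiCompact f.smoothLocus.ι := inferInstance
    infer_instance
  haveI : Nonempty ↥(f.smoothLocus.toScheme) := ⟨⟨x, hsm⟩⟩
  haveI : IrreducibleSpace ↥(f.smoothLocus.toScheme) := by
    haveI : IsIntegral f.smoothLocus.toScheme := inferInstance
    infer_instance
  let x' : ↥(f.smoothLocus.toScheme) := ⟨x, hsm⟩
  let ψ : X.residueField x ⟶ f.smoothLocus.toScheme.residueField x' :=
    f.smoothLocus.ι.residueFieldMap x'
  haveI : IsIso ψ := inferInstanceAs (IsIso (f.smoothLocus.ι.residueFieldMap x'))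
  have hψ : Spec.map ψ ≫ X.fromSpecResidueField x =
      f.smoothLocus.toScheme.fromSpecResidueField x' ≫ f.smoothLocus.ι :=
    Scheme.Hom.SpecMap_residueFieldMap_fromSpecResidueField f.smoothLocus.ι x'
  haveI : GeometricallyIrreducible (f.smoothLocus.ι ≫ f) := by
    refine geometricallyIrreducible_of_smooth (f.smoothLocus.ι ≫ f) x' (ψ.hom.comp φ) ?_ ?_
    · have : CommRingCat.ofHom (ψ.hom.comp φ) = CommRingCat.ofHom φ ≫ ψ := rfl
      rw [this, Spec.map_comp, hφ, ← Category.assoc, hψ, Category.assoc]
    · exact ((ConcreteCategory.bijective_of_isIso ψ).surjective).comp hsurj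
  haveI : GeometricallyIrreducible f :=
    geometricallyIrreducible_of_dense_open f f.smoothLocus hUd
  exact GeometricallyIntegral.of_geometricallyReduced_of_geometricallyIrreducible f

end Groth.Agent.Helper4.SmoothRat
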