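import Mathlib
import Groth.Agent.Lib.Helper4.UCAff2

/-!
# Universally closed via affine spaces, part 3: infinite affine spaces from finite ones
-/

set_option autoImplicit false

universe u

open TensorProduct CategoryTheory CategoryTheory.Limits AlgebraicGeometry

namespace Groth.Agent.Helper4.UCAff

variable {R : Type u} [CommRing R] {X : Scheme.{u}} (f : X ⟶ Spec (CommRingCat.of R))

/-- One chart, phrased with an arbitrary open immersion from an affine scheme. -/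
theorem chart_lemma' (Λ : Type u) {Y : Scheme.{u}} [IsAffine Y] (k : Y ⟶ X) [IsOpenImmersion k]
    (Z : Set ↥(pullback f (gσ R Λ))) (hZ : IsClosed Z)
    (t : ↥(Spec (CommRingCat.of (MvPolynomial Λ R))))
    (ht : t ∉ (pullback.snd f (gσ R Λ)) '' Z) :
    ∃ s : Finset Λ, ∀ s' : Finset Λ, s ⊆ s' →
      ∃ O : Set ↥(pullback f (gσ R s')), IsOpen O ∧
        (∀ z ∈ Z, π Λ f s' z ∉ O) ∧
        (∀ x, pullback.fst f (gσ R s') x ∈ Set.range k →
          pullback.snd f (gσ R s') x = pr Λ s' t → x ∈ O) := by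
  let A : Type u := Γ(Y, ⊤)
  let q : Spec (CommRingCat.of A) ⟶ X := Y.isoSpec.inv ≫ k
  letI : Algebra R A := (Spec.preimage (q ≫ f)).hom.toAlgebra
  have hq : q ≫ f = Spec.map (CommRingCat.ofHom (algebraMap R A)) :=
    (Spec.map_preimage (q ≫ f)).symm
  obtain ⟨s, hs⟩ := chart_lemma Λ f A q hq Z hZ t ht
  refine ⟨s, fun s' hs' => ?_⟩
  obtain ⟨O, hO, h1, h2⟩ := hs s' hs'
  refine ⟨O, hO, h1, fun x hx hxt => h2 x ?_ hxt⟩
  rw [Scheme.Pullback.range_map]
  refine ⟨?_, ⟨_, rfl⟩⟩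
  obtain ⟨y, hy⟩ := hx
  refine ⟨Y.isoSpec.hom y, ?_⟩
  change q (Y.isoSpec.hom y) = _
  rw [← hy, ← Scheme.Hom.comp_apply, Iso.hom_inv_id_assoc]

set_option maxHeartbeats 800000 in
/-- **Key step**: closedness over all finite-dimensional affine spaces implies closedness over
infinite-dimensional ones. -/
theorem isClosedMap_snd_of_finite [QuasiCompact f] (Λ : Type u)
    (hfin : ∀ s : Finset Λ, IsClosedMap (pullback.snd f (gσ R s))) :
    IsClosedMap (pullback.snd f (gσ R Λ)) := by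
  classical
  haveI : CompactSpace X := QuasiCompact.compactSpace_of_compactSpace f
  let 𝒰 := X.affineCover.finiteSubcover
  haveI : Finite 𝒰.I₀ := inferInstance
  letI : Fintype 𝒰.I₀ := Fintype.ofFinite _
  intro Z hZ
  rw [← isOpen_compl_iff, isOpen_iff_forall_mem_open]
  intro t ht
  have hchart : ∀ i : 𝒰.I₀, ∃ s : Finset Λ, ∀ s' : Finset Λ, s ⊆ s' →
      ∃ O : Set ↥(pullback f (gσ R s')), IsOpen O ∧
        (∀ z ∈ Z, π Λ f s' z ∉ O) ∧
        (∀ x, pullback.fst f (gσ R s') x ∈ Set.range (𝒰.f i) →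
          pullback.snd f (gσ R s') x = pr Λ s' t → x ∈ O) :=
    fun i => chart_lemma' f Λ (𝒰.f i) Z hZ t ht
  choose si hsi using hchart
  let S : Finset Λ := Finset.univ.sup si
  have hS : ∀ i, si i ⊆ S := fun i => Finset.le_sup (f := si) (Finset.mem_univ i)
  have hO : ∀ i, ∃ O : Set ↥(pullback f (gσ R S)), IsOpen O ∧
        (∀ z ∈ Z, π Λ f S z ∉ O) ∧
        (∀ x, pullback.fst f (gσ R S) x ∈ Set.range (𝒰.f i) →
          pullback.snd f (gσ R S) x = pr Λ S t → x ∈ O) := fun i => hsi i S (hS i)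
  choose O hOopen hOZ hOfib using hO
  let Z₀ : Set ↥(pullback f (gσ R S)) := (⋃ i, O i)ᶜ
  have hZ₀ : IsClosed Z₀ := (isOpen_iUnion hOopen).isClosed_compl
  have htS : pr Λ S t ∉ (pullback.snd f (gσ R S)) '' Z₀ := by
    rintro ⟨x, hx, hxt⟩
    apply hx
    have hcov := 𝒰.covers (pullback.fst f (gσ R S) x)
    exact Set.mem_iUnion.mpr ⟨_, hOfib _ x hcov hxt⟩
  have hcl : IsClosed ((pullback.snd f (gσ R S)) '' Z₀) := hfin S Z₀ hZ₀
  refine ⟨(pr Λ S) ⁻¹' ((pullback.snd f (gσ R S)) '' Z₀)ᶜ, ?_,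
    hcl.isOpen_compl.preimage (pr Λ S).continuous, htS⟩
  rintro t₁ ht₁ ⟨z, hz, rfl⟩
  apply ht₁
  refine ⟨π Λ f S z, ?_, ?_⟩
  · intro hmem
    obtain ⟨i, hi⟩ := Set.mem_iUnion.mp hmem
    exact hOZ i z hz hi
  · rw [← Scheme.Hom.comp_apply, π_snd, Scheme.Hom.comp_apply]

end Groth.Agent.Helper4.UCAff
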