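import Mathlib
import Groth.Agent.Lib.Helper4.UCAff3

/-!
# Universally closed via affine spaces, part 4: base change lemmas
-/

set_option autoImplicit false

universe u

open TensorProduct CategoryTheory CategoryTheory.Limits AlgebraicGeometry

namespace Groth.Agent.Helper4.UCAff

variable {X S : Scheme.{u}} (f : X ⟶ S)

/-- Closedness of the base change is inherited by open subschemes of the test scheme. -/
theorem isClosedMap_snd_comp_of_isOpenImmersion {T T' : Scheme.{u}} (g : T ⟶ S) (i : T' ⟶ T)
    [IsOpenImmersion i] (h : IsClosedMap (pullback.snd f g)) :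
    IsClosedMap (pullback.snd f (i ≫ g)) := by
  have h1 : topologically @IsClosedMap (pullback.snd (pullback.snd f g) i) :=
    IsZariskiLocalAtTarget.of_isPullback (P := topologically @IsClosedMap)
      (IsPullback.of_hasPullback (pullback.snd f g) i) h
  have h2 : pullback.snd f (i ≫ g) =
      (pullbackLeftPullbackSndIso f g i).inv ≫ pullback.snd (pullback.snd f g) i :=
    (pullbackLeftPullbackSndIso_inv_snd_snd f g i).symm
  rw [h2]
  change IsClosedMap ((pullback.snd (pullback.snd f g) i) ∘ (pullbackLeftPullbackSndIso f g i).inv)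
  exact IsClosedMap.comp h1 (pullbackLeftPullbackSndIso f g i).inv.homeomorph.isClosedMap

/-- Closedness of the base change is inherited by closed subschemes of the test scheme. -/
theorem isClosedMap_snd_comp_of_isClosedImmersion {T T' : Scheme.{u}} (g : T ⟶ S) (i : T' ⟶ T)
    [IsClosedImmersion i] (h : IsClosedMap (pullback.snd f g)) :
    IsClosedMap (pullback.snd f (i ≫ g)) := by
  -- the closed immersion `X_{T'} ⟶ X_T`
  let m : pullback f (i ≫ g) ⟶ pullback f g :=
    (pullbackLeftPullbackSndIso f g i).inv ≫ pullback.fst (pullback.snd f g) i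
  have hm : IsClosedMap m := m.isClosedMap
  have hms : m ≫ pullback.snd f g = pullback.snd f (i ≫ g) ≫ i := by
    rw [Category.assoc, pullback.condition, ← Category.assoc, pullbackLeftPullbackSndIso_inv_snd_snd]
  have hinj : Function.Injective i := i.isClosedEmbedding.injective
  intro Z hZ
  have hset : (pullback.snd f (i ≫ g)) '' Z = i ⁻¹' ((pullback.snd f g) '' (m '' Z)) := by
    ext t'
    constructor
    · rintro ⟨z, hz, rfl⟩
      refine ⟨m z, ⟨z, hz, rfl⟩, ?_⟩
      rw [← Scheme.Hom.comp_apply, hms, Scheme.Hom.comp_apply]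
    · rintro ⟨_, ⟨z, hz, rfl⟩, hzt⟩
      refine ⟨z, hz, hinj ?_⟩
      rw [← hzt, ← Scheme.Hom.comp_apply, ← hms, Scheme.Hom.comp_apply]
  rw [hset]
  exact (h _ (hm Z hZ)).preimage i.continuous

section Affine

variable {R : Type u} [CommRing R] {X : Scheme.{u}} (f : X ⟶ Spec (CommRingCat.of R))

/-- Reindexing: closedness over `Spec R[Fin n]` gives closedness over `Spec R[σ]` for finite `σ`. -/
theorem isClosedMap_snd_of_finite_type
    (h : ∀ n : ℕ, IsClosedMap (pullback.snd f (gσ R (ULift.{u} (Fin n))))) (σ : Type u)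
    [Finite σ] : IsClosedMap (pullback.snd f (gσ R σ)) := by
  let n := Nat.card σ
  let e : σ ≃ ULift.{u} (Fin n) := (Finite.equivFin σ).trans Equiv.ulift.symm
  let ρ : MvPolynomial (ULift.{u} (Fin n)) R ≃ₐ[R] MvPolynomial σ R :=
    MvPolynomial.renameEquiv R e.symm
  let i : Spec (CommRingCat.of (MvPolynomial σ R)) ⟶
      Spec (CommRingCat.of (MvPolynomial (ULift.{u} (Fin n)) R)) :=
    Spec.map (ρ.toRingEquiv.toCommRingCatIso).hom
  have hi : i ≫ gσ R (ULift.{u} (Fin n)) = gσ R σ := by
    rw [← Spec.map_comp]
    congr 1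
    apply CommRingCat.hom_ext
    apply RingHom.ext
    intro r
    exact ρ.commutes r
  rw [← hi]
  exact isClosedMap_snd_comp_of_isOpenImmersion f _ i (h n)

/-- Closedness over all finite-dimensional affine spaces implies closedness of every affine base
change. -/
theorem isClosedMap_snd_specMap [QuasiCompact f]
    (h : ∀ n : ℕ, IsClosedMap (pullback.snd f (gσ R (ULift.{u} (Fin n)))))
    (B : Type u) [CommRing B] (φ : R →+* B) :
    IsClosedMap (pullback.snd f (Spec.map (CommRingCat.ofHom φ))) := by
  letI : Algebra R B := φ.toAlgebra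
  let ψ : MvPolynomial B R →ₐ[R] B := MvPolynomial.aeval id
  have hψ : Function.Surjective ψ := fun b => ⟨MvPolynomial.X b, by simp [ψ]⟩
  let i : Spec (CommRingCat.of B) ⟶ Spec (CommRingCat.of (MvPolynomial B R)) :=
    Spec.map (CommRingCat.ofHom ψ.toRingHom)
  haveI : IsClosedImmersion i := IsClosedImmersion.spec_of_surjective _ hψ
  have hi : i ≫ gσ R B = Spec.map (CommRingCat.ofHom φ) := by
    rw [← Spec.map_comp]
    congr 1
    apply CommRingCat.hom_ext
    apply RingHom.ext
    intro r
    exact ψ.commutes r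
  rw [← hi]
  refine isClosedMap_snd_comp_of_isClosedImmersion f _ i ?_
  exact isClosedMap_snd_of_finite f B fun s => isClosedMap_snd_of_finite_type f h s

end Affine

end Groth.Agent.Helper4.UCAff
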