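import Mathlib
import Groth.Agent.Lib.Helper4.UCAff4

/-!
# Universally closed via affine spaces, part 5: the criterion
-/

set_option autoImplicit false

universe u

open TensorProduct CategoryTheory CategoryTheory.Limits AlgebraicGeometry

namespace Groth.Agent.Helper4.UCAff

section Affine

variable {R : Type u} [CommRing R] {X : Scheme.{u}} (f : X ⟶ Spec (CommRingCat.of R))

/-- Closedness of all base changes to affine test schemes. -/
theorem isClosedMap_snd_of_isAffine [QuasiCompact f]
    (h : ∀ n : ℕ, IsClosedMap (pullback.snd f (gσ R (ULift.{u} (Fin n)))))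
    {T : Scheme.{u}} [IsAffine T] (g : T ⟶ Spec (CommRingCat.of R)) :
    IsClosedMap (pullback.snd f g) := by
  let φ := Spec.preimage (T.isoSpec.inv ≫ g)
  have hg : g = T.isoSpec.hom ≫ Spec.map (CommRingCat.ofHom φ.hom) := by
    change g = T.isoSpec.hom ≫ Spec.map φ
    rw [Spec.map_preimage, Iso.hom_inv_id_assoc]
  rw [hg]
  exact isClosedMap_snd_comp_of_isOpenImmersion f _ T.isoSpec.hom
    (isClosedMap_snd_specMap f h _ φ.hom)

/-- Affine base: universally closed. -/
theorem universallyClosed_of_affine [QuasiCompact f]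
    (h : ∀ n : ℕ, IsClosedMap (pullback.snd f (gσ R (ULift.{u} (Fin n))))) :
    UniversallyClosed f := by
  rw [universallyClosed_eq]
  apply MorphismProperty.universally_mk'
  intro T g _
  -- closedness is local on the target `T`
  rw [IsZariskiLocalAtTarget.iff_of_openCover (P := topologically @IsClosedMap) T.affineCover]
  intro k
  -- the restriction over the affine open `T.affineCover.X k`
  change IsClosedMap (pullback.snd (pullback.fst g f) (T.affineCover.f k))
  have h1 : IsClosedMap (pullback.snd f (T.affineCover.f k ≫ g)) :=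
    isClosedMap_snd_of_isAffine f h _
  -- identify the two base changes
  let e1 : pullback (pullback.fst g f) (T.affineCover.f k) ≅
      pullback (T.affineCover.f k) (pullback.fst g f) := pullbackSymmetry _ _
  let e2 : pullback (T.affineCover.f k) (pullback.fst g f) ≅
      pullback (T.affineCover.f k ≫ g) f := pullbackRightPullbackFstIso g f (T.affineCover.f k)
  let e3 : pullback (T.affineCover.f k ≫ g) f ≅ pullback f (T.affineCover.f k ≫ g) :=
    pullbackSymmetry _ _
  have h2 : pullback.snd (pullback.fst g f) (T.affineCover.f k) =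
      (e1 ≪≫ e2 ≪≫ e3).hom ≫ pullback.snd f (T.affineCover.f k ≫ g) := by
    simp only [Iso.trans_hom, Category.assoc, e1, e2, e3, pullbackSymmetry_hom_comp_snd,
      pullbackRightPullbackFstIso_hom_fst, pullbackSymmetry_hom_comp_fst]
  rw [h2]
  change IsClosedMap ((pullback.snd f (T.affineCover.f k ≫ g)) ∘ (e1 ≪≫ e2 ≪≫ e3).hom)
  exact IsClosedMap.comp h1 (e1 ≪≫ e2 ≪≫ e3).hom.homeomorph.isClosedMap

end Affine

section General

variable {X S : Scheme.{u}} (f : X ⟶ S)

/-- Transport along an isomorphism of the base. -/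
theorem isClosedMap_snd_comp_iso {S' T : Scheme.{u}} (e : S ≅ S') (b : T ⟶ S')
    (h : IsClosedMap (pullback.snd f (b ≫ e.inv))) :
    IsClosedMap (pullback.snd (f ≫ e.hom) b) := by
  let m : pullback (f ≫ e.hom) b ⟶ pullback f (b ≫ e.inv) :=
    pullback.map (f ≫ e.hom) b f (b ≫ e.inv) (𝟙 _) (𝟙 _) e.inv (by simp) (by simp)
  have hm : m ≫ pullback.snd f (b ≫ e.inv) = pullback.snd (f ≫ e.hom) b := by
    rw [pullback.lift_snd, Category.comp_id]
  rw [← hm]
  change IsClosedMap ((pullback.snd f (b ≫ e.inv)) ∘ m)
  exact IsClosedMap.comp h m.homeomorph.isClosedMap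

/-- Transport to an open subscheme of the base. -/
theorem isClosedMap_snd_snd {S₀ T : Scheme.{u}} (i : S₀ ⟶ S) (b : T ⟶ S₀)
    (h : IsClosedMap (pullback.snd f (b ≫ i))) :
    IsClosedMap (pullback.snd (pullback.snd f i) b) := by
  have h2 : pullback.snd (pullback.snd f i) b =
      (pullbackLeftPullbackSndIso f i b).hom ≫ pullback.snd f (b ≫ i) :=
    (pullbackLeftPullbackSndIso_hom_snd f i b).symm
  rw [h2]
  change IsClosedMap ((pullback.snd f (b ≫ i)) ∘ (pullbackLeftPullbackSndIso f i b).hom)
  exact IsClosedMap.comp h (pullbackLeftPullbackSndIso f i b).hom.homeomorph.isClosedMap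

/-- **Stacks 0205 / EGA II 5.6.3**: a quasi-compact morphism is universally closed as soon as its
base changes to all affine spaces `𝔸ⁿ_S` are closed maps. -/
theorem universallyClosed_of_affineSpace [QuasiCompact f]
    (H : ∀ n : ℕ, IsClosedMap (pullback.snd f (𝔸(ULift.{u} (Fin n); S) ↘ S))) :
    UniversallyClosed f := by
  rw [IsZariskiLocalAtTarget.iff_of_openCover (P := @UniversallyClosed) S.affineCover]
  intro k
  change UniversallyClosed (pullback.snd f (S.affineCover.f k))
  set i := S.affineCover.f k with hi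
  let Sk := S.affineCover.X k
  let e : Sk ≅ Spec (CommRingCat.of Γ(Sk, ⊤)) := Sk.isoSpec
  rw [← MorphismProperty.cancel_right_of_respectsIso @UniversallyClosed _ e.hom]
  apply universallyClosed_of_affine
  intro n
  apply isClosedMap_snd_comp_iso
  apply isClosedMap_snd_snd
  -- the test morphism is an open subscheme of affine space over `S`
  let j : Spec (CommRingCat.of (MvPolynomial (ULift.{u} (Fin n)) Γ(Sk, ⊤))) ⟶
      𝔸(ULift.{u} (Fin n); S) :=
    (AffineSpace.SpecIso (ULift.{u} (Fin n)) (CommRingCat.of Γ(Sk, ⊤))).inv ≫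
      AffineSpace.map (ULift.{u} (Fin n)) (e.inv ≫ i)
  haveI : IsOpenImmersion (AffineSpace.map (ULift.{u} (Fin n)) (e.inv ≫ i)) :=
    MorphismProperty.of_isPullback (P := @IsOpenImmersion)
      (AffineSpace.isPullback_map (n := ULift.{u} (Fin n)) (e.inv ≫ i)).flip inferInstance
  have hj : (gσ Γ(Sk, ⊤) (ULift.{u} (Fin n)) ≫ e.inv) ≫ i =
      j ≫ (𝔸(ULift.{u} (Fin n); S) ↘ S) := by
    rw [Category.assoc, Category.assoc, AffineSpace.map_over,
      AffineSpace.SpecIso_inv_over_assoc]
    rfl
  rw [hj]
  exact isClosedMap_snd_comp_of_isOpenImmersion f _ j (H n)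

end General

end Groth.Agent.Helper4.UCAff
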