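import Mathlib
import Groth.Agent.Lib.Helper4.UCAff5
import Groth.Agent.Lib.Helper4.DVRSpec

/-!
# Valuative criterion of universal closedness with DVRs (EGA II 7.3.8, locally Noetherian case)
-/

set_option autoImplicit false

universe u

open CategoryTheory CategoryTheory.Limits AlgebraicGeometry

namespace Groth.Agent.Helper4.DVRUC

/-- The existence part of the valuative criterion, tested on discrete valuation rings only. -/
def DVRExistence {X S : Scheme.{u}} (f : X ⟶ S) : Prop :=
  ∀ (A : Type u) [CommRing A] [IsDomain A] [IsDiscreteValuationRing A]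
    (x : Spec (CommRingCat.of (FractionRing A)) ⟶ X) (y : Spec (CommRingCat.of A) ⟶ S),
    x ≫ f = Spec.map (CommRingCat.ofHom (algebraMap A (FractionRing A))) ≫ y →
      ∃ l : Spec (CommRingCat.of A) ⟶ X, l ≫ f = y ∧
        Spec.map (CommRingCat.ofHom (algebraMap A (FractionRing A))) ≫ l = x

variable {X S : Scheme.{u}} (f : X ⟶ S)

theorem DVRExistence.baseChange (hf : DVRExistence f) {T : Scheme.{u}} (g : T ⟶ S) :
    DVRExistence (pullback.snd f g) := by
  intro A _ _ _ x' y' hxy
  obtain ⟨l, hl₁, hl₂⟩ := hf A (x' ≫ pullback.fst f g) (y' ≫ g) (by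
    rw [Category.assoc, pullback.condition, ← Category.assoc, hxy, Category.assoc])
  refine ⟨pullback.lift l y' hl₁, pullback.lift_snd _ _ _, ?_⟩
  apply pullback.hom_ext
  · rw [Category.assoc, pullback.lift_fst, hl₂]
  · rw [Category.assoc, pullback.lift_snd, hxy]

set_option maxHeartbeats 800000 in
/-- Over a locally Noetherian base, DVR-existence for a morphism locally of finite type implies that it
is a specializing map. -/
theorem DVRExistence.specializingMap [IsLocallyNoetherian S] [LocallyOfFiniteType f]
    (hf : DVRExistence f) : SpecializingMap f := by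
  intro x t hxt
  by_cases ht : t = f x
  · exact ⟨x, specializes_rfl, ht.symm⟩
  obtain ⟨A, h, hA, hclosed, hcomm⟩ :=
    DVRSpec.exists_dvr_through_specialization f x t hxt ht
  haveI := hA
  let e : FractionRing A ≃ₐ[A] X.residueField x := FractionRing.algEquiv A (X.residueField x)
  have hfac : Spec.map (CommRingCat.ofHom (algebraMap A (FractionRing A))) =
      Spec.map (CommRingCat.ofHom (e.symm : X.residueField x →+* FractionRing A)) ≫
        Spec.map (CommRingCat.ofHom A.subtype) := by
    rw [← Spec.map_comp]
    congr 1
    ext a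
    exact (e.symm.commutes a).symm
  obtain ⟨l, hl₁, hl₂⟩ := hf A
    (Spec.map (CommRingCat.ofHom (e.symm : X.residueField x →+* FractionRing A)) ≫
      X.fromSpecResidueField x) h (by
    rw [hfac, Category.assoc, Category.assoc, hcomm])
  refine ⟨l (IsLocalRing.closedPoint A), ?_, ?_⟩
  · -- the generic point of `Spec A` maps to `x`
    let η : Spec (CommRingCat.of A) :=
      (Spec.map (CommRingCat.ofHom (algebraMap A (FractionRing A))))
        (IsLocalRing.closedPoint (FractionRing A))
    have hη : l η = x := by
      change l ((Spec.map (CommRingCat.ofHom (algebraMap A (FractionRing A))))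
        (IsLocalRing.closedPoint (FractionRing A))) = x
      rw [← Scheme.Hom.comp_apply, hl₂, Scheme.Hom.comp_apply,
        Scheme.fromSpecResidueField_apply]
    have h3 := (IsLocalRing.specializes_closedPoint η).map l.continuous
    rw [hη] at h3
    exact h3
  · rw [← Scheme.Hom.comp_apply, hl₁]
    exact hclosed

/-- **EGA II 7.3.8** (existence part). -/
theorem universallyClosed_of_dvrExistence [IsLocallyNoetherian S] [LocallyOfFiniteType f]
    [QuasiCompact f] (hf : DVRExistence f) : UniversallyClosed f := by
  apply UCAff.universallyClosed_of_affineSpace f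
  intro n
  haveI : IsLocallyNoetherian 𝔸(ULift.{u} (Fin n); S) :=
    LocallyOfFiniteType.isLocallyNoetherian (𝔸(ULift.{u} (Fin n); S) ↘ S)
  rw [isClosedMap_iff_specializingMap]
  exact (hf.baseChange f _).specializingMap

end Groth.Agent.Helper4.DVRUC
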