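import Mathlib
import Groth.Agent.Lib.Helper4.DVRSpec
import Groth.Agent.Lib.Helper4.SpecCl

/-!
# Refined valuative criterion of separatedness with general valuation rings (helper4)
-/

set_option autoImplicit false
universe u
open CategoryTheory CategoryTheory.Limits AlgebraicGeometry

namespace Groth.Agent.Helper4.ValSep

open Groth.Agent.Helper4.DVRSpec

/-- a specialization of the image of a point is reached by a valuation ring of the residue field -/
theorem exists_valuationSubring_through_specialization {X Y : Scheme.{u}}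
    (p : X ⟶ Y) (x : X) (y' : Y) (hsp : p.base x ⤳ y') :
    ∃ (A : ValuationSubring (X.residueField x)) (h : Spec (CommRingCat.of A) ⟶ Y),
      h.base (IsLocalRing.closedPoint A) = y' ∧
      Spec.map (CommRingCat.ofHom A.subtype) ≫ h = X.fromSpecResidueField x ≫ p := by
  let Φ : Y.presheaf.stalk y' ⟶ X.residueField x :=
    Y.presheaf.stalkSpecializes hsp ≫ p.stalkMap x ≫ X.residue x
  have hΦ : Spec.map Φ ≫ Y.fromSpecStalk y' = X.fromSpecResidueField x ≫ p :=
    specMap_comp_fromSpecStalk p x y' hsp
  obtain ⟨R, hR, hloc⟩ := IsLocalRing.exists_factor_valuationRing Φ.hom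
  let ψ' : Y.presheaf.stalk y' →+* R := Φ.hom.codRestrict R.toSubring hR
  refine ⟨R, Spec.map (CommRingCat.ofHom ψ') ≫ Y.fromSpecStalk y', ?_, ?_⟩
  · have h1 : (Spec.map (CommRingCat.ofHom ψ')) (IsLocalRing.closedPoint R) =
        IsLocalRing.closedPoint (Y.presheaf.stalk y') := IsLocalRing.comap_closedPoint ψ'
    exact (congrArg (Y.fromSpecStalk y').base h1).trans Scheme.fromSpecStalk_closedPoint
  · rw [← Category.assoc, ← Spec.map_comp]
    have h1 : CommRingCat.ofHom ψ' ≫ CommRingCat.ofHom R.subtype = Φ := by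
      ext a
      rfl
    rw [h1]
    exact hΦ

set_option maxHeartbeats 800000 in
theorem isSeparated_of_valuationSubring {X Y U : Scheme.{u}} (f : X ⟶ Y) [QuasiSeparated f]
    (h : U ⟶ X) (hG : ∀ x : X, ∃ u₀ : U, h u₀ ⤳ x)
    (H : ∀ (u₀ : U) (A : ValuationSubring (U.residueField u₀)),
      ∀ l₁ l₂ : Spec (CommRingCat.of A) ⟶ X, l₁ ≫ f = l₂ ≫ f →
        Spec.map (CommRingCat.ofHom A.subtype) ≫ l₁ = U.fromSpecResidueField u₀ ≫ h →
        Spec.map (CommRingCat.ofHom A.subtype) ≫ l₂ = U.fromSpecResidueField u₀ ≫ h → l₁ = l₂) :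
    IsSeparated f := by
  have hqs : QuasiSeparated f := inferInstance
  have hΔqc : QuasiCompact (pullback.diagonal f) := hqs.1
  constructor
  have hcl : IsClosedMap (pullback.diagonal f) := by
    rw [isClosedMap_iff_specializingMap]
    intro x z' hxz'
    suffices hex : ∃ x'' : X, (pullback.diagonal f) x'' = z' by
      obtain ⟨x'', hx''⟩ := hex
      refine ⟨x'', ?_, hx''⟩
      have hxz'' : (pullback.diagonal f) x ⤳ z' := hxz'
      rw [← hx''] at hxz''
      exact ((pullback.diagonal f).isEmbedding.isInducing.specializes_iff).mp hxz''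
    obtain ⟨u₀, hu₀x⟩ := hG x
    have hsp : (h ≫ pullback.diagonal f) u₀ ⤳ z' := by
      rw [Scheme.Hom.comp_apply]
      exact (hu₀x.map (pullback.diagonal f).continuous).trans hxz'
    obtain ⟨A, k, hclosed, hcomm⟩ :=
      exists_valuationSubring_through_specialization (h ≫ pullback.diagonal f) u₀ z' hsp
    let l₁ : Spec (CommRingCat.of A) ⟶ X := k ≫ pullback.fst f f
    let l₂ : Spec (CommRingCat.of A) ⟶ X := k ≫ pullback.snd f f
    have hι₁ : Spec.map (CommRingCat.ofHom A.subtype) ≫ l₁ = U.fromSpecResidueField u₀ ≫ h := by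
      change Spec.map (CommRingCat.ofHom A.subtype) ≫ k ≫ pullback.fst f f = _
      rw [← Category.assoc, hcomm, Category.assoc, Category.assoc, pullback.diagonal_fst,
        Category.comp_id]
    have hι₂ : Spec.map (CommRingCat.ofHom A.subtype) ≫ l₂ = U.fromSpecResidueField u₀ ≫ h := by
      change Spec.map (CommRingCat.ofHom A.subtype) ≫ k ≫ pullback.snd f f = _
      rw [← Category.assoc, hcomm, Category.assoc, Category.assoc, pullback.diagonal_snd,
        Category.comp_id]
    have h12 : l₁ = l₂ := by
      apply H u₀ A l₁ l₂ _ hι₁ hι₂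
      change (k ≫ pullback.fst f f) ≫ f = (k ≫ pullback.snd f f) ≫ f
      rw [Category.assoc, Category.assoc, pullback.condition]
    have hk : k = l₁ ≫ pullback.diagonal f := by
      apply pullback.hom_ext
      · rw [Category.assoc, pullback.diagonal_fst, Category.comp_id]
      · rw [Category.assoc, pullback.diagonal_snd, Category.comp_id, h12]
    refine ⟨l₁ (IsLocalRing.closedPoint A), ?_⟩
    have h3 : (l₁ ≫ pullback.diagonal f) (IsLocalRing.closedPoint A) = z' := by
      rw [← hk]; exact hclosed
    exact h3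
  exact .of_isPreimmersion _ hcl.isClosed_range

end Groth.Agent.Helper4.ValSep
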