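import Mathlib
import Groth.Agent.Lib.Helper4.DVRDom
import Groth.Agent.Lib.Helper19.ValEx3
import Groth.Agent.Lib.Helper19.ValEx2
import Groth.Agent.Lib.Helper4.SpecCl

/-!
# From discrete valuation rings to all valuation rings (helper4)

If a morphism `f : X ⟶ S` (quasi-compact, `S` locally Noetherian) has the lifting property for all
discrete valuation subrings of a field `L` that is finitely generated over `S`, it has it for all
valuation subrings of `L`.
-/

set_option autoImplicit false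
universe u
open CategoryTheory CategoryTheory.Limits AlgebraicGeometry IsLocalRing

namespace Groth.Agent.Helper4.DVRVal

section Algebra

variable {R : Type u} [CommRing R] [IsNoetherianRing R] {L : Type u} [Field L]

theorem inv_mem_nonunits_of_notMem (B : ValuationSubring L) {c : L} (hc : c ∉ B) :
    c⁻¹ ∈ B.nonunits := by
  rw [ValuationSubring.inv_mem_nonunits_iff]
  exact Or.inr hc

theorem false_of_mem_of_inv_mem_nonunits (A : ValuationSubring L) {c : L} (hc0 : c ≠ 0)
    (hc : c ∈ A) (hc' : c⁻¹ ∈ A.nonunits) : False := by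
  rw [ValuationSubring.inv_mem_nonunits_iff] at hc'
  rcases hc' with h | h
  · exact hc0 h
  · exact h hc

/-- A discrete valuation ring of `L` containing the image of `R` in which finitely many given
non-units of `B` are non-units. -/
theorem exists_dvr_nonunits (ρ : R →+* L) (σ : Finset L)
    (hσ : Subfield.closure (Set.range ρ ∪ (σ : Set L)) = ⊤)
    (B : ValuationSubring L) (hB : ∀ r, ρ r ∈ B) (G : Finset L) (hG : ∀ g ∈ G, g ∈ B.nonunits)
    (hG0 : ∀ g ∈ G, g ≠ 0) (hne : G.Nonempty) :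
    ∃ A : ValuationSubring L, IsDiscreteValuationRing A ∧ (∀ r, ρ r ∈ A) ∧
      ∀ g ∈ G, g ∈ A.nonunits := by
  classical
  let D₀ : Subring L := ρ.range
  have : IsNoetherianRing D₀ := inferInstance
  let R₁ : Subalgebra D₀ L := Algebra.adjoin D₀ (G : Set L)
  have : IsNoetherianRing R₁ := DVRDom.isNoetherianRing_adjoin D₀ G
  have hR₁B : ∀ x ∈ R₁, x ∈ B := by
    apply DVRDom.adjoin_le_valuationSubring D₀ B
    · rintro ⟨_, r, rfl⟩
      exact hB r
    · intro g hg
      exact B.nonunits_subset (hG g hg)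
  have hcl : Subfield.closure (Set.range (algebraMap R₁ L) ∪ (σ : Set L)) = ⊤ := by
    rw [eq_top_iff, ← hσ]
    apply Subfield.closure_mono
    apply Set.union_subset_union_left
    rintro _ ⟨r, rfl⟩
    exact ⟨⟨ρ r, Subalgebra.algebraMap_mem R₁ (⟨ρ r, r, rfl⟩ : D₀)⟩, rfl⟩
  let ι₁ : R₁ →+* B := (R₁.val : R₁ →+* L).codRestrict B.toSubring (fun x => hR₁B x x.2)
  let I : Ideal R₁ := Ideal.span {x : R₁ | (x : L) ∈ G}
  have hIle : I ≤ Ideal.comap ι₁ (maximalIdeal B) := by
    apply Ideal.span_le.mpr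
    intro x hx
    have h1 := hG _ hx
    rw [ValuationSubring.mem_nonunits_iff_exists_mem_maximalIdeal] at h1
    obtain ⟨ha, hm⟩ := h1
    exact hm
  have hI : I ≠ ⊤ := by
    intro hI
    rw [hI, top_le_iff] at hIle
    exact Ideal.comap_ne_top ι₁ (maximalIdeal.isMaximal B).ne_top hIle
  obtain ⟨g₀, hg₀⟩ := hne
  obtain ⟨A, hA, hA1, hA2⟩ := DVRDom.exists_dvr R₁ Subtype.val_injective σ hcl I hI
    ⟨g₀, Algebra.subset_adjoin hg₀⟩ (Ideal.subset_span hg₀)
    (fun h => hG0 g₀ hg₀ (congrArg Subtype.val h))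
  refine ⟨A, hA, ?_, ?_⟩
  · intro r
    exact hA1 ⟨ρ r, Subalgebra.algebraMap_mem R₁ (⟨ρ r, r, rfl⟩ : D₀)⟩
  · intro g hg
    exact hA2 ⟨g, Algebra.subset_adjoin hg⟩ (Ideal.subset_span hg)

end Algebra

end Groth.Agent.Helper4.DVRVal

namespace Groth.Agent.Helper4.DVRVal

section FG

set_option maxHeartbeats 800000 in
/-- the residue field of a point of a scheme locally of finite type over `S` is finitely generated
over the coordinate ring of any affine chart of `S` through which the point factors -/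
theorem exists_finset_closure_eq_top {U S : Scheme.{u}} (p : U ⟶ S) [LocallyOfFiniteType p] (u : U)
    (V : S.Opens) (hV : IsAffineOpen V) (ρ : Γ(S, V) ⟶ CommRingCat.of (U.residueField u))
    (hρ : Spec.map ρ ≫ hV.fromSpec = U.fromSpecResidueField u ≫ p) :
    ∃ σ : Finset (U.residueField u),
      Subfield.closure (Set.range ρ.hom ∪ (σ : Set (U.residueField u))) = ⊤ := by
  classical
  let L := U.residueField u
  have hpu : p u ∈ V := by
    have h1 : (Spec.map ρ ≫ hV.fromSpec) (closedPoint L) = (U.fromSpecResidueField u ≫ p)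
        (closedPoint L) := by rw [hρ]
    rw [Scheme.Hom.comp_apply, Scheme.Hom.comp_apply, Scheme.fromSpecResidueField_apply] at h1
    rw [← h1, ← SetLike.mem_coe, ← hV.range_fromSpec]
    exact ⟨_, rfl⟩
  let ρ₀ : Γ(S, V) ⟶ CommRingCat.of L := S.presheaf.germ V (p u) hpu ≫ p.stalkMap u ≫ U.residue u
  have hρ₀ : Spec.map ρ₀ ≫ hV.fromSpec = U.fromSpecResidueField u ≫ p := by
    have h1 : Spec.map (S.presheaf.germ V (p u) hpu) ≫ hV.fromSpec = S.fromSpecStalk (p u) :=
      hV.fromSpecStalk_eq_fromSpecStalk hpu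
    rw [Spec.map_comp, Spec.map_comp, Category.assoc, Category.assoc, h1,
      Scheme.SpecMap_stalkMap_fromSpecStalk, Scheme.fromSpecResidueField, Category.assoc]
  have hρeq : ρ = ρ₀ := by
    apply Spec.map_injective
    rw [← cancel_mono hV.fromSpec, hρ, hρ₀]
  let ψ : S.presheaf.stalk (p u) →+* L := (p.stalkMap u ≫ U.residue u).hom
  have hψ : ψ.EssFiniteType := by
    have h1 : (p.stalkMap u).hom.EssFiniteType := LocallyOfFiniteType.stalkMap p u
    have h2 : (U.residue u).hom.EssFiniteType :=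
      RingHom.FiniteType.essFiniteType
        (RingHom.FiniteType.of_surjective _ (U.residue_surjective u))
    exact RingHom.EssFiniteType.comp h1 h2
  letI : Algebra (S.presheaf.stalk (p u)) L := ψ.toAlgebra
  have hψ' : Algebra.EssFiniteType (S.presheaf.stalk (p u)) L := hψ
  obtain ⟨σ, hσ⟩ := hψ'.cond
  rw [Algebra.essFiniteType_cond_iff] at hσ
  refine ⟨σ, ?_⟩
  rw [eq_top_iff]
  intro s _
  set F := Subfield.closure (Set.range ρ.hom ∪ (σ : Set L)) with hF
  have h1 : ∀ a, ρ.hom a ∈ F := fun a => Subfield.subset_closure (Or.inl ⟨a, rfl⟩)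
  have hρψ : ∀ a, ρ.hom a = ψ ((S.presheaf.germ V (p u) hpu).hom a) := by
    intro a
    rw [hρeq]
    rfl
  have h2 : ∀ b, ψ b ∈ F := by
    intro b
    letI := S.presheaf.algebra_section_stalk ⟨p u, hpu⟩
    have hloc := hV.isLocalization_stalk ⟨p u, hpu⟩
    obtain ⟨⟨a, s'⟩, has⟩ := IsLocalization.surj (hV.primeIdealOf ⟨p u, hpu⟩).asIdeal.primeCompl b
    have hgerm : ∀ t : Γ(S, V), algebraMap Γ(S, V) (S.presheaf.stalk (p u)) t =
        (S.presheaf.germ V (p u) hpu).hom t := fun t => rfl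
    have hu : IsUnit ((S.presheaf.germ V (p u) hpu).hom s'.1) := by
      rw [← hgerm]
      exact IsLocalization.map_units _ s'
    have h3 : ψ b * ρ.hom s'.1 = ρ.hom a := by
      rw [hρψ, hρψ, ← map_mul, ← hgerm, ← hgerm]
      exact congrArg ψ has
    have h4 : ρ.hom s'.1 ≠ 0 := by
      rw [hρψ]
      exact (hu.map ψ).ne_zero
    rw [eq_div_of_mul_eq h4 h3]
    exact F.div_mem (h1 _) (h1 _)
  have h3 : ∀ t ∈ Algebra.adjoin (S.presheaf.stalk (p u)) (σ : Set L), t ∈ F := by
    intro t ht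
    induction ht using Algebra.adjoin_induction with
    | mem t ht => exact Subfield.subset_closure (Or.inr ht)
    | algebraMap r => exact h2 r
    | add _ _ _ _ h h' => exact F.add_mem h h'
    | mul _ _ _ _ h h' => exact F.mul_mem h h'
  obtain ⟨t, ht, htu, hst⟩ := hσ s
  have h5 : s = (s * t) / t := (mul_div_cancel_right₀ s htu.ne_zero).symm
  rw [h5]
  exact F.div_mem (h3 _ hst) (h3 _ ht)

end FG

end Groth.Agent.Helper4.DVRVal

namespace Groth.Agent.Helper4.DVRVal

section Lift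

open Groth.Agent.Lib.Helper19.ValEx

variable {X S : Scheme.{u}} [IsLocallyNoetherian S] (f : X ⟶ S) [QuasiCompact f]
  {L : Type u} [Field L] (gL : Spec (CommRingCat.of L) ⟶ X)

set_option maxHeartbeats 1600000 in
/-- **From DVRs to all valuation rings.** -/
theorem exists_lift_of_dvr
    (hfg : ∀ (V : S.Opens) (hV : IsAffineOpen V) (ρ : Γ(S, V) ⟶ CommRingCat.of L),
      Spec.map ρ ≫ hV.fromSpec = gL ≫ f →
        ∃ σ : Finset L, Subfield.closure (Set.range ρ.hom ∪ (σ : Set L)) = ⊤)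
    (HD : ∀ A : ValuationSubring L, IsDiscreteValuationRing A →
      ∀ y : Spec (CommRingCat.of A) ⟶ S,
        Spec.map (CommRingCat.ofHom A.subtype) ≫ y = gL ≫ f →
        ∃ l : Spec (CommRingCat.of A) ⟶ X, l ≫ f = y ∧
          Spec.map (CommRingCat.ofHom A.subtype) ≫ l = gL)
    (B : ValuationSubring L) (y : Spec (CommRingCat.of B) ⟶ S)
    (hy : Spec.map (CommRingCat.ofHom B.subtype) ≫ y = gL ≫ f) :
    ∃ l : Spec (CommRingCat.of B) ⟶ X, l ≫ f = y ∧
      Spec.map (CommRingCat.ofHom B.subtype) ≫ l = gL := by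
  classical
  -- chart of S
  obtain ⟨_, ⟨V, hV, rfl⟩, htV, -⟩ := S.isBasis_affineOpens.exists_subset_of_mem_open
    (Set.mem_univ (y (closedPoint B))) isOpen_univ
  haveI : IsNoetherianRing Γ(S, V) := IsLocallyNoetherian.component_noetherian ⟨V, hV⟩
  have htj : y.base (closedPoint B) ∈ Set.range hV.fromSpec.base := by
    rw [hV.range_fromSpec]; exact htV
  obtain ⟨ρB, hρB⟩ := exists_factor_of_isLocalRing y hV.fromSpec htj
  let ρL : Γ(S, V) ⟶ CommRingCat.of L := ρB ≫ CommRingCat.ofHom B.subtype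
  have hρL : Spec.map ρL ≫ hV.fromSpec = gL ≫ f := by
    rw [Spec.map_comp, Category.assoc, ← hρB, hy]
  obtain ⟨σ, hσ⟩ := hfg V hV ρL hρL
  -- compact preimage and finite affine cover
  have hK : IsCompact (f ⁻¹ᵁ V : Set X) := (quasiCompact_iff_forall_isAffineOpen.mp ‹_›) V hV
  obtain ⟨T, hT⟩ := hK.elim_finite_subcover
    (fun W : {W : X.affineOpens // W.1 ≤ f ⁻¹ᵁ V} => (W.1.1 : Set X)) (fun W => W.1.1.2) (by
    intro x hx
    obtain ⟨_, ⟨W, hW, rfl⟩, hxW, hWV⟩ :=
      X.isBasis_affineOpens.exists_subset_of_mem_open hx (f ⁻¹ᵁ V).2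
    exact Set.mem_iUnion.mpr ⟨⟨⟨W, hW⟩, hWV⟩, hxW⟩)
  have hθ : ∀ (W : {W : X.affineOpens // W.1 ≤ f ⁻¹ᵁ V}) (μ : Γ(X, W.1.1) ⟶ CommRingCat.of L),
      Spec.map μ ≫ W.1.2.fromSpec = gL → f.appLE V W.1.1 W.2 ≫ μ = ρL := by
    intro W μ hμ
    apply Spec.map_injective
    rw [← cancel_mono hV.fromSpec, Spec.map_comp, Category.assoc,
      IsAffineOpen.SpecMap_appLE_fromSpec f hV W.1.2 W.2, ← Category.assoc, hμ, hρL]
  -- a good chart exists
  have hgood : ∃ (W : {W : X.affineOpens // W.1 ≤ f ⁻¹ᵁ V}) (μ : Γ(X, W.1.1) ⟶ CommRingCat.of L),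
      Spec.map μ ≫ W.1.2.fromSpec = gL ∧ ∀ a, μ.hom a ∈ B := by
    by_contra hcon
    push Not at hcon
    -- the generic point lies in `f⁻¹ V`
    have hηV : gL (closedPoint L) ∈ (f ⁻¹ᵁ V : Set X) := by
      show f (gL (closedPoint L)) ∈ V
      have h1 : (Spec.map ρL ≫ hV.fromSpec) (closedPoint L) ∈ Set.range hV.fromSpec := ⟨_, rfl⟩
      rw [hρL, hV.range_fromSpec] at h1
      exact h1
    let T' := T.filter (fun W => gL (closedPoint L) ∈ W.1.1)
    have hT'ne : T'.Nonempty := by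
      obtain ⟨W, hW⟩ := Set.mem_iUnion.mp (hT hηV)
      obtain ⟨hWT, hηW⟩ := Set.mem_iUnion.mp hW
      exact ⟨W, Finset.mem_filter.mpr ⟨hWT, hηW⟩⟩
    have hbad : ∀ W ∈ T', ∃ c : L, c ∉ B ∧ ∃ (μ : Γ(X, W.1.1) ⟶ CommRingCat.of L),
        Spec.map μ ≫ W.1.2.fromSpec = gL ∧ ∃ a, μ.hom a = c := by
      intro W hW
      have hηW := (Finset.mem_filter.mp hW).2
      obtain ⟨μ, hμ⟩ := exists_factor_of_isLocalRing gL W.1.2.fromSpec (by
        rw [W.1.2.range_fromSpec]; exact hηW)
      obtain ⟨a, ha⟩ := hcon W μ hμ.symm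
      exact ⟨μ.hom a, ha, μ, hμ.symm, a, rfl⟩
    choose! c hc using hbad
    let G : Finset L := T'.image (fun W => (c W)⁻¹)
    have hGB : ∀ g ∈ G, g ∈ B.nonunits := by
      intro g hg
      obtain ⟨W, hW, rfl⟩ := Finset.mem_image.mp hg
      exact inv_mem_nonunits_of_notMem B (hc W hW).1
    have hG0 : ∀ g ∈ G, g ≠ 0 := by
      intro g hg
      obtain ⟨W, hW, rfl⟩ := Finset.mem_image.mp hg
      have : c W ≠ 0 := fun h0 => (hc W hW).1 (h0 ▸ B.zero_mem)
      exact inv_ne_zero this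
    obtain ⟨A, hA, hAρ, hAG⟩ := exists_dvr_nonunits ρL.hom σ hσ B (fun r => (ρB.hom r).2) G hGB hG0
      (hT'ne.image _)
    let ρA : Γ(S, V) ⟶ CommRingCat.of A :=
      CommRingCat.ofHom (ρL.hom.codRestrict A.toSubring hAρ)
    have hρA : ρA ≫ CommRingCat.ofHom A.subtype = ρL := by
      ext a; rfl
    obtain ⟨l, hl1, hl2⟩ := HD A hA (Spec.map ρA ≫ hV.fromSpec) (by
      rw [← Category.assoc, ← Spec.map_comp, hρA, hρL])
    have hlV : l (closedPoint A) ∈ (f ⁻¹ᵁ V : Set X) := by
      show f (l (closedPoint A)) ∈ V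
      rw [← Scheme.Hom.comp_apply, hl1, Scheme.Hom.comp_apply, ← SetLike.mem_coe,
        ← hV.range_fromSpec]
      exact ⟨_, rfl⟩
    obtain ⟨W, hW⟩ := Set.mem_iUnion.mp (hT hlV)
    obtain ⟨hWT, hlW⟩ := Set.mem_iUnion.mp hW
    obtain ⟨lam, hlam⟩ := exists_factor_of_isLocalRing l W.1.2.fromSpec (by
      rw [W.1.2.range_fromSpec]; exact hlW)
    have hμ' : Spec.map (lam ≫ CommRingCat.ofHom A.subtype) ≫ W.1.2.fromSpec = gL := by
      rw [Spec.map_comp, Category.assoc, ← hlam, hl2]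
    have hηW : gL (closedPoint L) ∈ W.1.1 := by
      rw [← hμ', Scheme.Hom.comp_apply, ← SetLike.mem_coe, ← W.1.2.range_fromSpec]
      exact ⟨_, rfl⟩
    have hWT' : W ∈ T' := Finset.mem_filter.mpr ⟨hWT, hηW⟩
    obtain ⟨hcB, μ, hμ, a, ha⟩ := hc W hWT'
    have hμeq : μ = lam ≫ CommRingCat.ofHom A.subtype := by
      apply Spec.map_injective
      rw [← cancel_mono W.1.2.fromSpec, hμ, hμ']
    have hcA : c W ∈ A := by
      rw [← ha, hμeq]
      exact (lam.hom a).2
    have hc0 : c W ≠ 0 := fun h0 => hcB (h0 ▸ B.zero_mem)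
    exact false_of_mem_of_inv_mem_nonunits A hc0 hcA (hAG _ (Finset.mem_image_of_mem _ hWT'))
  obtain ⟨W, μ, hμ, hμB⟩ := hgood
  let βr : Γ(X, W.1.1) ⟶ CommRingCat.of B :=
    CommRingCat.ofHom (μ.hom.codRestrict B.toSubring hμB)
  have hβμ : βr ≫ CommRingCat.ofHom B.subtype = μ := by
    ext a; rfl
  refine ⟨Spec.map βr ≫ W.1.2.fromSpec, ?_, ?_⟩
  · rw [Category.assoc, ← IsAffineOpen.SpecMap_appLE_fromSpec f hV W.1.2 W.2, ← Category.assoc,
      ← Spec.map_comp, hρB]
    congr 2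
    ext a
    have h1 := hθ W μ hμ
    have h2 := congrArg (fun φ => φ.hom a) h1
    rw [← hβμ] at h2
    exact h2
  · rw [← Category.assoc, ← Spec.map_comp, hβμ, hμ]

end Lift

end Groth.Agent.Helper4.DVRVal

namespace Groth.Agent.Helper4.DVRVal

section Glue

open Groth.Agent.Lib.Helper19.ValEx

/-- uniqueness of lifts for separated morphisms, in the `ValuationSubring` form -/
theorem lift_unique {X S : Scheme.{u}} (f : X ⟶ S) [IsSeparated f] {L : Type u} [Field L]
    (gL : Spec (CommRingCat.of L) ⟶ X) (A : ValuationSubring L)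
    (l₁ l₂ : Spec (CommRingCat.of A) ⟶ X) (h12 : l₁ ≫ f = l₂ ≫ f)
    (h1 : Spec.map (CommRingCat.ofHom A.subtype) ≫ l₁ = gL)
    (h2 : Spec.map (CommRingCat.ofHom A.subtype) ≫ l₂ = gL) : l₁ = l₂ := by
  have hU := IsSeparated.valuativeCriterion f
  let sq : ValuativeCommSq f :=
    { R := A
      K := L
      i₁ := gL
      i₂ := l₁ ≫ f
      commSq := ⟨by
        rw [← h1, Category.assoc]
        rfl⟩ }
  have hS : Subsingleton sq.commSq.LiftStruct := hU sq
  let k₁ : sq.commSq.LiftStruct := ⟨l₁, h1, rfl⟩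
  let k₂ : sq.commSq.LiftStruct := ⟨l₂, h2, h12.symm⟩
  have hk : k₁ = k₂ := Subsingleton.elim _ _
  exact congrArg CommSq.LiftStruct.l hk

/-- translate a lifting hypothesis on abstract DVRs to discrete valuation subrings -/
theorem lift_of_fractionRing {X S : Scheme.{u}} (f : X ⟶ S) {L : Type u} [Field L]
    (gL : Spec (CommRingCat.of L) ⟶ X) (A : ValuationSubring L)
    (y : Spec (CommRingCat.of A) ⟶ S)
    (hy : Spec.map (CommRingCat.ofHom A.subtype) ≫ y = gL ≫ f)
    (H : ∀ (u : Spec (CommRingCat.of (FractionRing A)) ⟶ X),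
      (∃ v : Spec (CommRingCat.of (FractionRing A)) ⟶ Spec (CommRingCat.of L), u = v ≫ gL) →
      u ≫ f = Spec.map (CommRingCat.ofHom (algebraMap A (FractionRing A))) ≫ y →
        ∃ l : Spec (CommRingCat.of A) ⟶ X, l ≫ f = y ∧
          Spec.map (CommRingCat.ofHom (algebraMap A (FractionRing A))) ≫ l = u) :
    ∃ l : Spec (CommRingCat.of A) ⟶ X, l ≫ f = y ∧
      Spec.map (CommRingCat.ofHom A.subtype) ≫ l = gL := by
  let e : FractionRing A ≃ₐ[A] L := FractionRing.algEquiv A L
  have hfac : Spec.map (CommRingCat.ofHom (algebraMap A (FractionRing A))) =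
      Spec.map (CommRingCat.ofHom (e.symm : L →+* FractionRing A)) ≫
        Spec.map (CommRingCat.ofHom A.subtype) := by
    rw [← Spec.map_comp]
    congr 1
    ext a
    exact (e.symm.commutes a).symm
  have hiso : Spec.map (CommRingCat.ofHom (e : FractionRing A →+* L)) ≫
      Spec.map (CommRingCat.ofHom (e.symm : L →+* FractionRing A)) = 𝟙 _ := by
    rw [← Spec.map_comp, ← Spec.map_id]
    congr 1
    ext a
    exact e.apply_symm_apply a
  obtain ⟨l, hl1, hl2⟩ := H (Spec.map (CommRingCat.ofHom (e.symm : L →+* FractionRing A)) ≫ gL)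
    ⟨_, rfl⟩ (by rw [hfac, Category.assoc, Category.assoc, hy])
  refine ⟨l, hl1, ?_⟩
  rw [hfac, Category.assoc] at hl2
  have h3 := congrArg (fun φ => Spec.map (CommRingCat.ofHom (e : FractionRing A →+* L)) ≫ φ) hl2
  simp only [← Category.assoc, hiso, Category.id_comp] at h3
  exact h3

end Glue

end Groth.Agent.Helper4.DVRVal

namespace Groth.Agent.Helper4.DVRVal

section Main

open Groth.Agent.Lib.Helper19.ValEx

set_option maxHeartbeats 800000 in
/-- **S9209**: DVR existence through a dense finite type `U → X` implies properness. -/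
theorem isProper_of_dvr_through_dense {X S U : Scheme.{u}} [IsLocallyNoetherian S] (f : X ⟶ S)
    [IsSeparated f] [LocallyOfFiniteType f] [QuasiCompact f] (h : U ⟶ X) [LocallyOfFiniteType h]
    [QuasiCompact h] (hd : DenseRange h.base)
    (H : ∀ (A : Type u) [CommRing A] [IsDomain A] [IsDiscreteValuationRing A]
      (u : Spec (CommRingCat.of (FractionRing A)) ⟶ U) (y : Spec (CommRingCat.of A) ⟶ S),
      u ≫ h ≫ f = Spec.map (CommRingCat.ofHom (algebraMap A (FractionRing A))) ≫ y →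
        ∃ l : Spec (CommRingCat.of A) ⟶ X, l ≫ f = y ∧
          Spec.map (CommRingCat.ofHom (algebraMap A (FractionRing A))) ≫ l = u ≫ h) :
    IsProper f := by
  have hG : ∀ x : X, ∃ u : U, h.base u ⤳ x := fun x =>
    Groth.Agent.Helper4.SpecCl.exists_specializes_of_mem_closure_range h x
      (by rw [hd.closure_range]; trivial)
  have HV : ∀ (u : U) (A : ValuationSubring (U.residueField u))
      (φ : Spec (CommRingCat.of A) ⟶ S),
      Spec.map (CommRingCat.ofHom A.subtype) ≫ φ = U.fromSpecResidueField u ≫ h ≫ f →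
      ∃! φ' : Spec (CommRingCat.of A) ⟶ X,
        Spec.map (CommRingCat.ofHom A.subtype) ≫ φ' = U.fromSpecResidueField u ≫ h ∧
          φ' ≫ f = φ := by
    intro u A φ hφ
    obtain ⟨l, hl1, hl2⟩ := exists_lift_of_dvr f (U.fromSpecResidueField u ≫ h)
      (fun V hV ρ hρ => exists_finset_closure_eq_top (h ≫ f) u V hV ρ
        (hρ.trans (Category.assoc _ _ _)))
      (fun A' hA' y hy => by
        haveI := hA'
        apply lift_of_fractionRing f (U.fromSpecResidueField u ≫ h) A' y hy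
        rintro w ⟨v, rfl⟩ hw
        obtain ⟨l, hl1, hl2⟩ := H A' (v ≫ U.fromSpecResidueField u) y (by
          rw [← hw]; simp only [Category.assoc])
        exact ⟨l, hl1, by rw [hl2]; simp only [Category.assoc]⟩)
      A φ (by rw [Category.assoc]; exact hφ)
    refine ⟨l, ⟨hl2, hl1⟩, ?_⟩
    rintro l' ⟨h1, h2⟩
    exact lift_unique f (U.fromSpecResidueField u ≫ h) A l' l (h2.trans hl1.symm) h1 hl2
  have hex := existence f h hG HV
  haveI : UniversallyClosed f := UniversallyClosed.of_valuativeCriterion f hex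
  exact {}

end Main

end Groth.Agent.Helper4.DVRVal
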