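import Mathlib
import Groth.Agent.Lib.Helper4.LimCI

/-!
# Separatedness descends to a stage of a cofiltered limit, no finiteness (helper4)
-/

set_option autoImplicit false
universe u
open AlgebraicGeometry CategoryTheory CategoryTheory.Limits

namespace Groth.Agent.Helper4.LimSep2

open Groth.Agent.Helper7.LimBC Groth.Agent.Helper4.LimStage Groth.Agent.Helper4.LimAff
  Groth.Agent.Helper4.LimOImm Groth.Agent.Helper7.LimSep Groth.Agent.Helper4.LimCI

variable {I : Type u} [SmallCategory I] [IsCofiltered I] (D : I ⥤ Scheme.{u})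
  [∀ {i j} (f : i ⟶ j), IsAffineHom (D.map f)] (c : Cone D) (hc : IsLimit c)

set_option backward.isDefEq.respectTransparency false in
include hc in
theorem exists_isSeparated_stage' (i₀ : I) [CompactSpace (D.obj i₀)]
    [QuasiSeparatedSpace (D.obj i₀)] {X₀ Y₀ : Scheme.{u}} (f₀ : X₀ ⟶ Y₀)
    (g₀ : Y₀ ⟶ D.obj i₀) [CompactSpace X₀] [QuasiSeparatedSpace X₀] [CompactSpace Y₀]
    [QuasiSeparatedSpace Y₀]
    {X Y : Scheme.{u}} (f : X ⟶ Y) (g : Y ⟶ c.pt) (qY : Y ⟶ Y₀) (qX : X ⟶ X₀)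
    (hY : IsPullback qY g g₀ (c.π.app i₀)) (hX : IsPullback qX f f₀ qY) [IsSeparated f] :
    ∃ (j : I) (φ : j ⟶ i₀), IsSeparated (pullback.snd f₀ (pullback.fst g₀ (D.map φ))) := by
  let Z₀ := pullback f₀ f₀
  let Δ₀ : X₀ ⟶ Z₀ := pullback.diagonal f₀
  let h₀ : Z₀ ⟶ D.obj i₀ := pullback.fst f₀ f₀ ≫ f₀ ≫ g₀
  have hqc0 : QuasiCompact f₀ := inferInstance
  have hqs0 : QuasiSeparated f₀ := inferInstance
  have hqc : QuasiCompact (pullback.fst f₀ f₀) :=
    MorphismProperty.pullback_fst (P := @QuasiCompact) _ _ inferInstance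
  have hqs : QuasiSeparated (pullback.fst f₀ f₀) :=
    MorphismProperty.pullback_fst (P := @QuasiSeparated) _ _ inferInstance
  have : CompactSpace ↥Z₀ := QuasiCompact.compactSpace_of_compactSpace (pullback.fst f₀ f₀)
  have : QuasiSeparatedSpace ↥Z₀ := quasiSeparatedSpace_of_quasiSeparated (pullback.fst f₀ f₀)
  have hΔ3 : IsImmersion Δ₀ := inferInstance
  have hΔ1 : LocallyOfFiniteType Δ₀ := inferInstance
  -- the diagonal of `f`
  let ρ := pullback.map f f f₀ f₀ qX qX qY hX.w.symm hX.w.symm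
  have hsq : IsPullback qX (pullback.diagonal f) Δ₀ ρ := isPullback_diagonal hX
  have hcl : IsClosedImmersion (pullback.snd Δ₀ ρ) :=
    (snd_iff_of_isPullback @IsClosedImmersion hsq).1 inferInstance
  let y : pullback (c.π.app i₀) h₀ ⟶ Y :=
    hY.lift (pullback.snd _ _ ≫ pullback.fst f₀ f₀ ≫ f₀) (pullback.fst _ _)
      (by rw [Category.assoc, Category.assoc]; exact pullback.condition.symm)
  let v₁ : pullback (c.π.app i₀) h₀ ⟶ X :=
    hX.lift (pullback.snd _ _ ≫ pullback.fst f₀ f₀) y (by simp [y])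
  let v₂ : pullback (c.π.app i₀) h₀ ⟶ X :=
    hX.lift (pullback.snd _ _ ≫ pullback.snd f₀ f₀) y (by simp [y, pullback.condition])
  let ε : pullback (c.π.app i₀) h₀ ⟶ pullback f f := pullback.lift v₁ v₂ (by simp [v₁, v₂])
  have hε : pullback.snd (c.π.app i₀) h₀ = ε ≫ ρ := by
    apply pullback.hom_ext <;> simp [ε, ρ, v₁, v₂]
  have hcl' : IsClosedImmersion (pullback.snd Δ₀ (pullback.snd (c.π.app i₀) h₀)) :=
    snd_comp @IsClosedImmersion Δ₀ ρ ε _ hcl hε
  obtain ⟨k, φk, hk⟩ := exists_isClosedImmersion_pbMap D c hc i₀ Δ₀ h₀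
    (pullback.snd Δ₀ (pullback.snd (c.π.app i₀) h₀)) (pullback.fst (c.π.app i₀) h₀)
    (pullback.snd (c.π.app i₀) h₀) (pullback.fst Δ₀ (pullback.snd (c.π.app i₀) h₀))
    (IsPullback.of_hasPullback _ _).flip (IsPullback.of_hasPullback _ _)
  have hk' : IsClosedImmersion (pullback.snd Δ₀ (pullback.snd (D.map φk) h₀)) :=
    (snd_iff_of_isPullback @IsClosedImmersion (isPullback_pbMap (D.map φk) Δ₀ h₀)).1 hk
  refine ⟨k, φk, ?_⟩
  let pY := pullback.fst g₀ (D.map φk)
  let fk := pullback.snd f₀ pY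
  have hXk : IsPullback (pullback.fst f₀ pY) fk f₀ pY := IsPullback.of_hasPullback _ _
  let ρk := pullback.map fk fk f₀ f₀ _ _ pY hXk.w.symm hXk.w.symm
  have hsqk : IsPullback _ (pullback.diagonal fk) Δ₀ ρk := isPullback_diagonal hXk
  change IsSeparated fk
  rw [isSeparated_iff, snd_iff_of_isPullback @IsClosedImmersion hsqk]
  let εk : pullback fk fk ⟶ pullback (D.map φk) h₀ :=
    pullback.lift (pullback.fst fk fk ≫ fk ≫ pullback.snd g₀ (D.map φk)) ρk (by
      have e1 : ρk ≫ pullback.fst f₀ f₀ = pullback.fst fk fk ≫ pullback.fst f₀ pY :=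
        pullback.lift_fst _ _ _
      have e2 : pullback.fst f₀ pY ≫ f₀ = fk ≫ pY := pullback.condition
      have e3 : pY ≫ g₀ = pullback.snd g₀ (D.map φk) ≫ D.map φk := pullback.condition
      simp only [Category.assoc, h₀]
      rw [reassoc_of% e1, reassoc_of% e2, e3])
  exact snd_comp @IsClosedImmersion Δ₀ _ εk _ hk' (by simp [εk])

end Groth.Agent.Helper4.LimSep2
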