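import Mathlib

/-!
# Unramified maps between smooth algebras of the same relative dimension are étale

`R → A → B` with `A`, `B` standard smooth over `R` of the same relative dimension and
`Ω_{B/A} = 0`: then `B` is formally smooth (hence flat) over `A` (EGA IV 17.11.1-type criterion,
through the Jacobi–Zariski sequence).
-/

universe u

open Algebra KaehlerDifferential TensorProduct

namespace Groth.Agent.Helper4.SmEt

/-- `R → A → B`, `B` formally smooth over `R`, `Ω_{B/A} = 0` and `B ⊗_A Ω_{A/R} → Ω_{B/R}`
injective: then `B` is formally smooth over `A`. -/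
theorem formallySmooth_of_injective_mapBaseChange (R A B : Type u) [CommRing R] [CommRing A]
    [CommRing B] [Algebra R A] [Algebra R B] [Algebra A B] [IsScalarTower R A B]
    [Algebra.FormallySmooth R B] [Subsingleton Ω[B⁄A]]
    (hinj : Function.Injective (KaehlerDifferential.mapBaseChange R A B)) :
    Algebra.FormallySmooth A B := by
  refine ⟨inferInstance, ?_⟩
  have h1 := Algebra.H1Cotangent.exact_map_δ R A B
  have h2 := Algebra.H1Cotangent.exact_δ_mapBaseChange R A B
  have hδinj : Function.Injective (Algebra.H1Cotangent.δ R A B) := by
    rw [← LinearMap.ker_eq_bot, h1.linearMap_ker_eq, LinearMap.range_eq_bot]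
    ext x
    have : x = 0 := Subsingleton.elim _ _
    simp [this]
  have hδ0 : ∀ x, Algebra.H1Cotangent.δ R A B x = 0 := by
    intro x
    apply hinj
    rw [map_zero]
    exact h2.apply_apply_eq_zero x
  exact ⟨fun a b => hδinj (by rw [hδ0 a, hδ0 b])⟩

/-- A surjection between finite free modules of the same rank is injective. -/
theorem injective_of_surjective_of_finrank_eq {B M N : Type u} [CommRing B]
    [AddCommGroup M] [Module B M] [AddCommGroup N] [Module B N]
    [Module.Free B M] [Module.Finite B M] [Module.Free B N] [Module.Finite B N]
    (hr : Module.finrank B M = Module.finrank B N) (φ : M →ₗ[B] N)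
    (hφ : Function.Surjective φ) : Function.Injective φ := by
  cases subsingleton_or_nontrivial B
  · haveI : Subsingleton M := Module.subsingleton B M
    exact Function.injective_of_subsingleton _
  let e : N ≃ₗ[B] M := LinearEquiv.ofFinrankEq N M hr.symm
  have h1 : Function.Surjective (φ ∘ₗ e.toLinearMap) := hφ.comp e.surjective
  have h2 : Function.Injective (φ ∘ₗ e.toLinearMap) :=
    OrzechProperty.injective_of_surjective_endomorphism _ h1
  intro a b hab
  have : e.symm a = e.symm b := h2 (by simpa using hab)
  exact e.symm.injective this

theorem formallySmooth_of_standardSmooth (n : ℕ) (R A B : Type u) [CommRing R] [CommRing A]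
    [CommRing B] [Algebra R A] [Algebra R B] [Algebra A B] [IsScalarTower R A B]
    [Algebra.IsStandardSmoothOfRelativeDimension n R A]
    [Algebra.IsStandardSmoothOfRelativeDimension n R B]
    [Algebra.FormallyUnramified A B] :
    Algebra.FormallySmooth A B := by
  cases subsingleton_or_nontrivial B
  · infer_instance
  haveI : Nontrivial A := (algebraMap A B).domain_nontrivial
  haveI : Algebra.IsStandardSmooth R A :=
    Algebra.IsStandardSmoothOfRelativeDimension.isStandardSmooth n
  haveI : Algebra.IsStandardSmooth R B :=
    Algebra.IsStandardSmoothOfRelativeDimension.isStandardSmooth n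
  have hrA : Module.finrank A Ω[A⁄R] = n := by
    have := Algebra.IsStandardSmoothOfRelativeDimension.rank_kaehlerDifferential (R := R) (S := A) n
    exact Module.finrank_eq_of_rank_eq this
  have hrB : Module.finrank B Ω[B⁄R] = n := by
    have := Algebra.IsStandardSmoothOfRelativeDimension.rank_kaehlerDifferential (R := R) (S := B) n
    exact Module.finrank_eq_of_rank_eq this
  apply formallySmooth_of_injective_mapBaseChange R A B
  apply injective_of_surjective_of_finrank_eq
  · rw [Module.finrank_baseChange, hrA, hrB]
  · intro y
    have hex := KaehlerDifferential.exact_mapBaseChange_map R A B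
    exact (hex y).mp (Subsingleton.elim _ _)

/-- RingHom version: `φ : R → A` and `ψ ∘ φ : R → B` standard smooth of the same relative
dimension and `ψ : A → B` formally unramified: then `ψ` is flat (even étale). -/
theorem flat_of_ringHom {R A B : Type u} [CommRing R] [CommRing A] [CommRing B]
    (φ : R →+* A) (ψ : A →+* B) (n : ℕ) (hφ : φ.IsStandardSmoothOfRelativeDimension n)
    (hψφ : (ψ.comp φ).IsStandardSmoothOfRelativeDimension n) (hψ : ψ.FormallyUnramified) :
    ψ.Flat := by
  letI := φ.toAlgebra
  letI := ψ.toAlgebra
  letI := (ψ.comp φ).toAlgebra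
  haveI : IsScalarTower R A B := IsScalarTower.of_algebraMap_eq' rfl
  haveI : Algebra.IsStandardSmoothOfRelativeDimension n R A := hφ
  haveI : Algebra.IsStandardSmoothOfRelativeDimension n R B := hψφ
  haveI : Algebra.FormallyUnramified A B := hψ
  haveI : Algebra.IsStandardSmooth R A :=
    Algebra.IsStandardSmoothOfRelativeDimension.isStandardSmooth n
  haveI : Algebra.IsStandardSmooth R B :=
    Algebra.IsStandardSmoothOfRelativeDimension.isStandardSmooth n
  haveI : Algebra.FormallySmooth A B := formallySmooth_of_standardSmooth n R A B
  haveI : Algebra.FinitePresentation A B :=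
    Algebra.FinitePresentation.of_restrict_scalars_finitePresentation R A B
  haveI : Algebra.Smooth A B := ⟨inferInstance, inferInstance⟩
  exact Algebra.Smooth.flat A B

end Groth.Agent.Helper4.SmEt
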