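import Mathlib
import Groth.Prelude.Def_FDesc
import Groth.Agent.Lib.Helper13.FinType

/-!
# Quasi-flat morphisms are generalizing (helper4)

* `exists_prime_comap_eq_of_faithfullyFlat_module`: lying over for a ring map `A → B` carrying a
  `B`-module which is faithfully flat over `A`.
* `faithfullyFlat_of_local`: a nonzero finite module over a local `A`-algebra `B` (local hom) which is
  flat over `A` is faithfully flat over `A`.
* `finite_stalk`: stalks of finite type `O_X`-modules are finite.
* `generalizingMap_of_isQuasiFlat`.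
-/

set_option autoImplicit false
universe u
open CategoryTheory AlgebraicGeometry TensorProduct IsLocalRing

namespace Groth.Agent.Helper4.QuasiFlat

theorem exists_prime_comap_eq_of_faithfullyFlat_module {A B N : Type*} [CommRing A] [CommRing B]
    [Algebra A B] [AddCommGroup N] [Module A N] [Module B N] [IsScalarTower A B N]
    [Module.FaithfullyFlat A N] (p : Ideal A) [p.IsPrime] :
    ∃ q : Ideal B, q.IsPrime ∧ q.comap (algebraMap A B) = p := by
  rw [← Ideal.comap_map_eq_self_iff_of_isPrime]
  refine le_antisymm ?_ Ideal.le_comap_map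
  intro a ha
  rw [Ideal.mem_comap] at ha
  have h1 : ∀ n : N, a • n ∈ (p • (⊤ : Submodule A N)) := by
    intro n
    have h2 : (algebraMap A B a) • n ∈ (p.map (algebraMap A B)) • (⊤ : Submodule B N) :=
      Submodule.smul_mem_smul ha trivial
    rw [algebraMap_smul] at h2
    have h3 := Ideal.smul_restrictScalars (R := A) (S := B) p (⊤ : Submodule B N)
    have h4 : a • n ∈ ((p.map (algebraMap A B)) • (⊤ : Submodule B N)).restrictScalars A := h2
    rw [h3, Submodule.restrictScalars_top] at h4
    exact h4
  have h5 : (LinearMap.lsmul A (A ⧸ p) a).rTensor N = 0 := by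
    apply TensorProduct.ext'
    intro x n
    rw [LinearMap.rTensor_tmul, LinearMap.zero_apply, LinearMap.lsmul_apply,
      TensorProduct.smul_tmul]
    refine Submodule.smul_induction_on (h1 n) ?_ ?_
    · intro r hr m _
      rw [← TensorProduct.smul_tmul]
      have : r • x = 0 := by
        obtain ⟨x, rfl⟩ := Ideal.Quotient.mk_surjective x
        rw [Algebra.smul_def, Ideal.Quotient.algebraMap_eq, ← map_mul]
        exact Ideal.Quotient.eq_zero_iff_mem.2 (p.mul_mem_right _ hr)
      rw [this, TensorProduct.zero_tmul]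
    · intro y z hy hz
      rw [TensorProduct.tmul_add, hy, hz, add_zero]
  have h6 : LinearMap.lsmul A (A ⧸ p) a = 0 :=
    (Module.FaithfullyFlat.zero_iff_rTensor_zero A N _).2 h5
  have h7 : a • (1 : A ⧸ p) = 0 := by
    have := congr($h6 1)
    simpa using this
  rw [Algebra.smul_def, mul_one, Ideal.Quotient.algebraMap_eq] at h7
  exact Ideal.Quotient.eq_zero_iff_mem.1 h7

theorem faithfullyFlat_of_local {A B N : Type*} [CommRing A] [CommRing B] [IsLocalRing A]
    [IsLocalRing B] [Algebra A B] [IsLocalHom (algebraMap A B)] [AddCommGroup N] [Module A N]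
    [Module B N] [IsScalarTower A B N] [Module.Finite B N] [Nontrivial N] [Module.Flat A N] :
    Module.FaithfullyFlat A N := by
  refine ⟨?_⟩
  intro m hm htop
  have hm' : m = maximalIdeal A := IsLocalRing.eq_maximalIdeal hm
  rw [hm'] at htop
  have h2 : (maximalIdeal B) • (⊤ : Submodule B N) = ⊤ := by
    rw [eq_top_iff]
    intro n _
    have hn : n ∈ (maximalIdeal A) • (⊤ : Submodule A N) := by rw [htop]; trivial
    refine Submodule.smul_induction_on hn ?_ ?_
    · intro r hr m _
      rw [← algebraMap_smul B r m]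
      refine Submodule.smul_mem_smul ?_ trivial
      exact (IsLocalRing.mem_maximalIdeal _).2
        ((map_mem_nonunits_iff (algebraMap A B) r).2 ((IsLocalRing.mem_maximalIdeal _).1 hr))
    · intro x y hx hy
      exact Submodule.add_mem _ hx hy
  have h3 : (⊤ : Submodule B N) = ⊥ :=
    Submodule.eq_bot_of_le_smul_of_le_jacobson_bot (maximalIdeal B) ⊤ Module.Finite.fg_top
      (le_of_eq h2.symm) (IsLocalRing.maximalIdeal_le_jacobson ⊥)
  exact top_ne_bot h3

theorem finite_stalk {X : Scheme.{u}} (M : X.Modules)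
    (hM : SheafOfModules.IsFiniteType (R := X.ringCatSheaf) M) (x : X) :
    Module.Finite (X.presheaf.stalk x) (M.presheaf.stalk x) := by
  haveI := hM
  obtain ⟨U, hxU, I, hI, s, hs⟩ := Groth.Agent.Helper13.FinType.exists_genOn_of_isFiniteType M x
  have h := hs x hxU
  exact Module.finite_def.2 (h ▸ Submodule.fg_span (Set.finite_range _))

theorem generalizingMap_of_isQuasiFlat {X Y : Scheme.{u}} (f : X ⟶ Y)
    (hf : FDesc.IsQuasiFlat f) : GeneralizingMap f.base := by
  obtain ⟨M, ⟨hqc, hft⟩, hflat, hnt⟩ := hf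
  intro x y' hy'
  letI : Algebra (Y.presheaf.stalk (f.base x)) (X.presheaf.stalk x) := (f.stalkMap x).hom.toAlgebra
  letI : Module (Y.presheaf.stalk (f.base x)) (M.presheaf.stalk x) :=
    FlatMod.moduleStalkOver f M x
  haveI : IsScalarTower (Y.presheaf.stalk (f.base x)) (X.presheaf.stalk x) (M.presheaf.stalk x) :=
    IsScalarTower.of_algebraMap_smul (fun a n => rfl)
  haveI : IsLocalHom (algebraMap (Y.presheaf.stalk (f.base x)) (X.presheaf.stalk x)) :=
    inferInstanceAs (IsLocalHom (f.stalkMap x).hom)
  haveI : Module.Finite (X.presheaf.stalk x) (M.presheaf.stalk x) := finite_stalk M hft x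
  haveI : Nontrivial (M.presheaf.stalk x) := hnt x
  haveI : Module.Flat (Y.presheaf.stalk (f.base x)) (M.presheaf.stalk x) := hflat x
  haveI : Module.FaithfullyFlat (Y.presheaf.stalk (f.base x)) (M.presheaf.stalk x) :=
    faithfullyFlat_of_local (B := X.presheaf.stalk x)
  have hy'r : y' ∈ Set.range (Y.fromSpecStalk (f.base x)) := by
    rw [Scheme.range_fromSpecStalk]; exact hy'
  obtain ⟨p', hp'⟩ := hy'r
  obtain ⟨q, hq, hqp⟩ := exists_prime_comap_eq_of_faithfullyFlat_module
    (A := Y.presheaf.stalk (f.base x)) (B := X.presheaf.stalk x) (N := M.presheaf.stalk x)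
    p'.asIdeal
  refine ⟨X.fromSpecStalk x ⟨q, hq⟩, ?_, ?_⟩
  · have h1 : X.fromSpecStalk x ⟨q, hq⟩ ∈ Set.range (X.fromSpecStalk x) := ⟨_, rfl⟩
    rw [Scheme.range_fromSpecStalk] at h1
    exact h1
  · have h := Scheme.SpecMap_stalkMap_fromSpecStalk f (x := x)
    have h2 := congr($h ⟨q, hq⟩)
    have h3 : (Spec.map (f.stalkMap x)) ⟨q, hq⟩ = p' := PrimeSpectrum.ext hqp
    simp only [Scheme.Hom.comp_base, TopCat.coe_comp, Function.comp_apply] at h2
    rw [h3, hp'] at h2
    exact h2.symm

end Groth.Agent.Helper4.QuasiFlat
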