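import Mathlib
import Groth.Agent.Lib.Helper3.RigClosed

/-!
# Quasi-finite local algebras over complete local rings are finite (helper4)
-/

set_option autoImplicit false
universe u
open IsLocalRing TensorProduct

namespace Groth.Agent.Helper4.ComplFin

/-- a quasi-finite Noetherian local algebra, local over a complete Noetherian local ring,
is finite -/
theorem finite_of_quasiFinite_of_complete (A B : Type u) [CommRing A] [IsLocalRing A]
    [IsNoetherianRing A] [IsAdicComplete (maximalIdeal A) A] [CommRing B] [IsLocalRing B]
    [IsNoetherianRing B] [Algebra A B] [IsLocalHom (algebraMap A B)] [Algebra.QuasiFinite A B] :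
    Module.Finite A B := by
  haveI : IsHausdorff (maximalIdeal A) B := by
    have hne : (maximalIdeal A).map (algebraMap A B) ≠ ⊤ := by
      intro h
      have hle : (maximalIdeal A).map (algebraMap A B) ≤ maximalIdeal B :=
        ((IsLocalRing.local_hom_TFAE (algebraMap A B)).out 0 2).mp ‹_›
      rw [h] at hle
      exact (maximalIdeal.isMaximal B).ne_top (top_le_iff.mp hle)
    have h1 : IsHausdorff ((maximalIdeal A).map (algebraMap A B)) B :=
      IsHausdorff.of_isLocalRing _ _ hne
    exact IsHausdorff.map_algebraMap_iff.mp h1
  apply Groth.Agent.Helper3.RigClosed.finite_of_finite_quotient (maximalIdeal A) B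
  haveI : Algebra.QuasiFinite (A ⧸ maximalIdeal A) ((A ⧸ maximalIdeal A) ⊗[A] B) := inferInstance
  letI : Field (A ⧸ maximalIdeal A) := Ideal.Quotient.field _
  haveI : Module.Finite (A ⧸ maximalIdeal A) ((A ⧸ maximalIdeal A) ⊗[A] B) :=
    Module.Finite.of_quasiFinite
  haveI : Module.Finite A ((A ⧸ maximalIdeal A) ⊗[A] B) :=
    Module.Finite.trans (A ⧸ maximalIdeal A) _
  exact Module.Finite.equiv (TensorProduct.quotTensorEquivQuotSMul B (maximalIdeal A))

end Groth.Agent.Helper4.ComplFin
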