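import Mathlib
import Groth.Agent.Lib.Helper4.ComplFin

/-!
# Isolated points of the closed fibre over a complete local ring split off (helper4)
-/

set_option autoImplicit false
universe u
open AlgebraicGeometry CategoryTheory CategoryTheory.Limits TopologicalSpace

namespace Groth.Agent.Helper4.ComplFin

/-- (as in helper16's `SmoothLocusBC`) the canonical morphism `Spec 𝒪_{X,x} ⟶ X` is flat -/
theorem flat_fromSpecStalk (X : Scheme.{u}) (x : X) : Flat (X.fromSpecStalk x) := by
  obtain ⟨U, hU, hxU, -⟩ :=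
    Opens.isBasis_iff_nbhd.mp X.isBasis_affineOpens (show x ∈ (⊤ : X.Opens) from trivial)
  have hU : IsAffineOpen U := hU
  rw [← hU.fromSpecStalk_eq_fromSpecStalk hxU]
  unfold IsAffineOpen.fromSpecStalk
  haveI h1 : Flat (Spec.map (X.presheaf.germ U x hxU)) := by
    letI : Algebra Γ(X, U) (X.presheaf.stalk x) := (X.presheaf.germ U x hxU).hom.toAlgebra
    haveI := hU.isLocalization_stalk ⟨x, hxU⟩
    rw [HasRingHomProperty.Spec_iff (P := @Flat)]
    exact RingHom.flat_algebraMap_iff.mpr
      (IsLocalization.flat _ (hU.primeIdealOf ⟨x, hxU⟩).asIdeal.primeCompl)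
  exact MorphismProperty.comp_mem _ _ _ h1 inferInstance

/-- the composite `Spec 𝒪_{X,x} ⟶ X ⟶ Spec R` in ring terms -/
theorem fromSpecStalk_toSpec (R : CommRingCat.{u}) {X : Scheme.{u}} (f : X ⟶ Spec R) (x : X) :
    X.fromSpecStalk x ≫ f =
      Spec.map ((Scheme.ΓSpecIso R).inv ≫ f.appTop ≫ X.presheaf.germ ⊤ x trivial) := by
  apply ext_of_isAffine
  rw [← cancel_epi (Scheme.ΓSpecIso R).inv,
    ← cancel_mono (Scheme.ΓSpecIso (X.presheaf.stalk x)).hom]
  rw [Category.assoc, Category.assoc, Scheme.ΓSpecIso_naturality, Iso.inv_hom_id_assoc,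
    Scheme.Hom.comp_appTop, Scheme.fromSpecStalk_appTop]
  simp only [Category.assoc]
  have h1 : (Spec (X.presheaf.stalk x)).presheaf.map
      (homOfLE (le_top : (⊤ : (Spec (X.presheaf.stalk x)).Opens) ≤ ⊤)).op = 𝟙 _ := by
    exact (Spec (X.presheaf.stalk x)).presheaf.map_id _
  rw [h1, Category.id_comp, Iso.inv_hom_id, Category.comp_id]

theorem main (A : Type u) [CommRing A] [IsLocalRing A] [IsNoetherianRing A]
    [IsAdicComplete (IsLocalRing.maximalIdeal A) A] (X : Scheme.{u})
    (f : X ⟶ Spec (CommRingCat.of A)) [LocallyOfFiniteType f] [IsSeparated f]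
    (x : X) (hx : f x = IsLocalRing.closedPoint A) (hq : f.QuasiFiniteAt x) :
    ((Scheme.ΓSpecIso (CommRingCat.of A)).inv ≫ f.appTop ≫
        X.presheaf.germ ⊤ x trivial).hom.Finite ∧
      IsOpenImmersion (X.fromSpecStalk x) ∧ IsClosedImmersion (X.fromSpecStalk x) := by
  have hfac := fromSpecStalk_toSpec (CommRingCat.of A) f x
  set φ := (Scheme.ΓSpecIso (CommRingCat.of A)).inv ≫ f.appTop ≫
    X.presheaf.germ ⊤ x trivial with hφ
  haveI : IsLocallyNoetherian X := LocallyOfFiniteType.isLocallyNoetherian f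
  have hqf : φ.hom.QuasiFinite := by
    rw [Scheme.Hom.quasiFiniteAt_iff, hfac,
      HasRingHomProperty.Spec_iff (P := @LocallyQuasiFinite)] at hq
    exact hq
  have hloc : IsLocalHom φ.hom := by
    apply ((IsLocalRing.local_hom_TFAE φ.hom).out 0 4).mpr
    have h1 : (Spec.map φ) (IsLocalRing.closedPoint (X.presheaf.stalk x)) =
        IsLocalRing.closedPoint A := by
      rw [← hfac, Scheme.Hom.comp_apply, Scheme.fromSpecStalk_closedPoint, hx]
    exact congrArg PrimeSpectrum.asIdeal h1
  have hfin : φ.hom.Finite := by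
    letI := φ.hom.toAlgebra
    haveI : IsLocalHom (algebraMap A (X.presheaf.stalk x)) := hloc
    haveI : Algebra.QuasiFinite A (X.presheaf.stalk x) := hqf
    exact finite_of_quasiFinite_of_complete A (X.presheaf.stalk x)
  haveI hF : IsFinite (X.fromSpecStalk x ≫ f) := by
    rw [hfac]
    exact (HasAffineProperty.SpecMap_iff_of_affineAnd (P := @IsFinite) (Q := RingHom.Finite)
      inferInstance RingHom.finite_respectsIso _).mpr hfin
  haveI : IsProper (X.fromSpecStalk x) := IsProper.of_comp (X.fromSpecStalk x) f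
  haveI : Flat (X.fromSpecStalk x) := flat_fromSpecStalk X x
  haveI : LocallyOfFiniteType (X.fromSpecStalk x) := inferInstance
  haveI : LocallyOfFinitePresentation (X.fromSpecStalk x) := inferInstance
  exact ⟨hfin, IsOpenImmersion.of_flat_of_mono _,
    (IsClosedImmersion.iff_isProper_and_mono _).mpr ⟨inferInstance, inferInstance⟩⟩

end Groth.Agent.Helper4.ComplFin
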