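import Mathlib
import Groth.Prelude.Def_AlgGrp
import Groth.Agent.Lib.Helper28.AlgGrpShear
import Groth.Agent.Lib.Helper4.GrpConn

/-!
# Homogeneous spaces under a group scheme over a field, I: the action groupoid pointwise (helper4)

For an action `a` of a group scheme `G` over a field on `X`, pointwise versions of the unit,
inverse and composition of the action groupoid `G × X ⇉ X`, the flatness of the action map and the
pointwise form of the surjectivity of `(g, x) ↦ (g x, x)`.
-/

set_option autoImplicit false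
set_option linter.style.haveILetI false
set_option linter.unusedSectionVars false
universe u v
open CategoryTheory CategoryTheory.Limits AlgebraicGeometry MonoidalCategory CartesianMonoidalCategory
  MonObj GrpObj

namespace Groth.Agent.Helper4.Homog

open Groth.Agent.Helper28.AlgGrpShear

section Cat

variable {S : Scheme.{u}} {G X : Over S} [GrpObj G] (a : AlgGrp.Action G X)

/-- the inverse of the action groupoid `(g, x) ↦ (g⁻¹, g x)` -/
noncomputable def invHom : G ⊗ X ⟶ G ⊗ X := lift ((fst G X)⁻¹) a.act

theorem invHom_fst : invHom a ≫ fst G X = fst G X ≫ ι[G] := by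
  rw [invHom, lift_fst, Hom.inv_def]

theorem invHom_snd : invHom a ≫ snd G X = a.act := lift_snd _ _

theorem invHom_act : invHom a ≫ a.act = snd G X := by
  have e2 := act_mul a ((fst G X)⁻¹) (fst G X) (snd G X)
  rw [lift_fst_snd, Category.id_comp, inv_mul_cancel, act_one] at e2
  exact e2.symm

/-- the unit of the action groupoid `x ↦ (e, x)` -/
noncomputable def unitHom : X ⟶ G ⊗ X := lift (toUnit X ≫ η[G]) (𝟙 X)

theorem unitHom_fst : unitHom (G := G) (X := X) ≫ fst G X = toUnit X ≫ η[G] := lift_fst _ _

theorem unitHom_snd : unitHom (G := G) (X := X) ≫ snd G X = 𝟙 X := lift_snd _ _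

theorem unitHom_act : unitHom (G := G) (X := X) ≫ a.act = 𝟙 X := by
  have := act_one a (𝟙 X)
  rwa [Hom.one_def] at this

/-- the composition of the action groupoid `(g₂, (g₁, x)) ↦ (g₂ g₁, x)` -/
noncomputable def compHom : G ⊗ (G ⊗ X) ⟶ G ⊗ X := (α_ G G X).inv ≫ (μ[G] ▷ X)

/-- `(g₂, (g₁, x)) ↦ (g₂, g₁)` -/
noncomputable def pairHom : G ⊗ (G ⊗ X) ⟶ G ⊗ G := (α_ G G X).inv ≫ fst (G ⊗ G) X

theorem compHom_act : compHom (G := G) (X := X) ≫ a.act = (G ◁ a.act) ≫ a.act := by
  rw [compHom, Category.assoc, a.mul_act, Iso.inv_hom_id_assoc]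

theorem compHom_snd : compHom (G := G) (X := X) ≫ snd G X = snd G (G ⊗ X) ≫ snd G X := by
  simp [compHom]

theorem compHom_fst : compHom (G := G) (X := X) ≫ fst G X = pairHom (G := G) (X := X) ≫ μ[G] := by
  simp [compHom, pairHom]

theorem pairHom_fst : pairHom (G := G) (X := X) ≫ fst G G = (G ◁ a.act) ≫ fst G X := by
  simp [pairHom]

theorem pairHom_snd : pairHom (G := G) (X := X) ≫ snd G G = snd G (G ⊗ X) ≫ fst G X := by
  simp [pairHom]

end Cat

section Pts

variable {k : Type u} [Field k] {G X : Over (Spec (CommRingCat.of k))} [GrpObj G]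
  (a : AlgGrp.Action G X)

open Groth.Agent.Helper4.GrpConn

/-- the unit of the action groupoid, pointwise -/
theorem exists_unit (x : X.left) : ∃ w : (G ⊗ X).left, (fst G X).left w = ept G ∧
    (snd G X).left w = x ∧ a.act.left w = x := by
  refine ⟨(unitHom (G := G) (X := X)).left x, ?_, ?_, ?_⟩
  · rw [← Scheme.Hom.comp_apply, ← Over.comp_left, unitHom_fst, Over.comp_left,
      Scheme.Hom.comp_apply]
    exact congrArg _ (Subsingleton.elim (α := PrimeSpectrum k) _ _)
  · rw [← Scheme.Hom.comp_apply, ← Over.comp_left, unitHom_snd]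
    rfl
  · rw [← Scheme.Hom.comp_apply, ← Over.comp_left, unitHom_act]
    rfl

/-- the inverse of the action groupoid, pointwise -/
theorem exists_inv (w : (G ⊗ X).left) : ∃ w' : (G ⊗ X).left,
    (fst G X).left w' = ι[G].left ((fst G X).left w) ∧
    (snd G X).left w' = a.act.left w ∧ a.act.left w' = (snd G X).left w := by
  refine ⟨(invHom a).left w, ?_, ?_, ?_⟩
  · rw [← Scheme.Hom.comp_apply, ← Over.comp_left, invHom_fst, Over.comp_left,
      Scheme.Hom.comp_apply]
  · rw [← Scheme.Hom.comp_apply, ← Over.comp_left, invHom_snd]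
  · rw [← Scheme.Hom.comp_apply, ← Over.comp_left, invHom_act]

/-- the composition of the action groupoid, pointwise -/
theorem exists_comp (w₁ w₂ : (G ⊗ X).left) (h : a.act.left w₁ = (snd G X).left w₂) :
    ∃ (w : (G ⊗ X).left) (p : (G ⊗ G).left), (fst G G).left p = (fst G X).left w₂ ∧
      (snd G G).left p = (fst G X).left w₁ ∧ (fst G X).left w = μ[G].left p ∧
      (snd G X).left w = (snd G X).left w₁ ∧ a.act.left w = a.act.left w₂ := by
  have sq := (isPullback_snd G a.act).map (Over.forget _)
  obtain ⟨t, ht1, ht2⟩ := Scheme.exists_preimage_of_isPullback sq w₁ w₂ h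
  have ht1' : (snd G (G ⊗ X)).left t = w₁ := ht1
  have ht2' : (G ◁ a.act).left t = w₂ := ht2
  refine ⟨(compHom (G := G) (X := X)).left t, (pairHom (G := G) (X := X)).left t, ?_, ?_, ?_, ?_, ?_⟩
  · rw [← Scheme.Hom.comp_apply, ← Over.comp_left, pairHom_fst a, Over.comp_left,
      Scheme.Hom.comp_apply, ht2']
  · rw [← Scheme.Hom.comp_apply, ← Over.comp_left, pairHom_snd, Over.comp_left,
      Scheme.Hom.comp_apply, ht1']
  · rw [← Scheme.Hom.comp_apply, ← Over.comp_left, compHom_fst, Over.comp_left,
      Scheme.Hom.comp_apply]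
  · rw [← Scheme.Hom.comp_apply, ← Over.comp_left, compHom_snd, Over.comp_left,
      Scheme.Hom.comp_apply, ht1']
  · rw [← Scheme.Hom.comp_apply, ← Over.comp_left, compHom_act, Over.comp_left,
      Scheme.Hom.comp_apply, ht2']

/-- the action map is flat -/
instance flat_act : Flat a.act.left := by
  rw [act_left]
  haveI : IsIso (shear a).hom.left := inferInstanceAs (IsIso ((Over.forget _).map (shear a).hom))
  haveI : Flat (snd G X).left := inferInstanceAs (Flat (pullback.snd G.hom X.hom))
  infer_instance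

theorem generalizingMap_act : GeneralizingMap a.act.left := Flat.generalizingMap _

/-- a point of `X × X` over a given pair of points -/
theorem exists_pair (x y : X.left) :
    ∃ p : (X ⊗ X).left, (fst X X).left p = x ∧ (snd X X).left p = y := by
  have h : X.hom x = X.hom y := Subsingleton.elim (α := PrimeSpectrum k) _ _
  obtain ⟨z, hz1, hz2⟩ := Scheme.Pullback.exists_preimage_pullback x y h
  exact ⟨z, hz1, hz2⟩

/-- pointwise form of the surjectivity of `(g, x) ↦ (g x, x)` -/
theorem exists_act_eq (hΦ : Surjective (lift a.act (snd G X)).left) (x y : X.left) :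
    ∃ v : (G ⊗ X).left, a.act.left v = x ∧ (snd G X).left v = y := by
  obtain ⟨q, hq1, hq2⟩ := exists_pair x y
  obtain ⟨v, rfl⟩ := hΦ.surj q
  refine ⟨v, ?_, ?_⟩
  · rw [← hq1, ← Scheme.Hom.comp_apply, ← Over.comp_left, lift_fst]
  · rw [← hq2, ← Scheme.Hom.comp_apply, ← Over.comp_left, lift_snd]

end Pts

end Groth.Agent.Helper4.Homog
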