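import Mathlib
import Groth.Agent.Lib.Helper4.Homog1

/-!
# Homogeneous spaces under a group scheme over a field, II (helper4)

* the identity component `C⁰` of `G` is stable under inversion and multiplication;
* `C⁰ · Z ⊆ Z` for every irreducible component `Z` of `X`;
* over an algebraically closed field: every point of a homogeneous space lies on exactly one
  irreducible component, and `C⁰` acts transitively on each irreducible component relative to its
  generic point.
-/

set_option autoImplicit false
set_option linter.style.haveILetI false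
set_option linter.unusedSectionVars false
universe u v
open CategoryTheory CategoryTheory.Limits AlgebraicGeometry MonoidalCategory CartesianMonoidalCategory
  MonObj GrpObj

namespace Groth.Agent.Helper4.Homog

open Groth.Agent.Helper28.AlgGrpShear Groth.Agent.Helper4.GrpConn Groth.Agent.Helper16.GrpIrr

section Top

/-- a generization of the generic point of an irreducible component is that generic point -/
theorem eq_of_specializes_generic {X : Type*} [TopologicalSpace X] [T0Space X] {Z : Set X}
    (hZ : Z ∈ irreducibleComponents X) {ξ y : X} (hξ : closure {ξ} = Z) (h : y ⤳ ξ) : y = ξ := by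
  have h1 : Z ⊆ closure {y} := by
    rw [← hξ]
    exact specializes_iff_closure_subset.mp h
  have h2 : closure {y} ⊆ Z := hZ.2 isIrreducible_singleton.closure h1
  have h3 : ξ ⤳ y := by
    rw [specializes_iff_mem_closure, hξ]
    exact h2 (subset_closure rfl)
  exact (h.antisymm h3).eq

/-- a generization of a point with a unique irreducible component lies on that component -/
theorem mem_of_specializes_of_unique {X : Type*} [TopologicalSpace X] {x y : X}
    (h : ∀ Z₁ Z₂ : Set X, Z₁ ∈ irreducibleComponents X → Z₂ ∈ irreducibleComponents X →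
      x ∈ Z₁ → x ∈ Z₂ → Z₁ = Z₂) (hy : y ⤳ x) : y ∈ irreducibleComponent x := by
  have h1 : closure {y} ⊆ irreducibleComponent x :=
    subset_of_unique_irreducibleComponent x h _ (irreducibleComponent_mem_irreducibleComponents x)
      mem_irreducibleComponent _ isIrreducible_singleton.closure
      (specializes_iff_mem_closure.mp hy)
  exact h1 (subset_closure rfl)

end Top

section Grp

variable {k : Type u} [Field k] (G : Over (Spec (CommRingCat.of k))) [GrpObj G]

theorem inv_inv_apply (g : G.left) : ι[G].left (ι[G].left g) = g := by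
  rw [← Scheme.Hom.comp_apply, ← Over.comp_left, GrpObj.inv_comp_inv]
  rfl

theorem inv_ept : ι[G].left (ept G) = ept G := by
  unfold ept
  rw [← Scheme.Hom.comp_apply, ← Over.comp_left, GrpObj.one_inv]

/-- the identity component is stable under inversion -/
theorem inv_mem_unit {g : G.left} (hg : g ∈ irreducibleComponent (ept G)) :
    ι[G].left g ∈ irreducibleComponent (ept G) := by
  have hirr : IsIrreducible (ι[G].left '' irreducibleComponent (ept G)) :=
    isIrreducible_irreducibleComponent.image _ ι[G].left.continuous.continuousOn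
  exact subset_of_unique_irreducibleComponent (ept G) (irreducibleComponent_unit_unique G) _
    (irreducibleComponent_mem_irreducibleComponents _) mem_irreducibleComponent _ hirr
    ⟨ept G, mem_irreducibleComponent, inv_ept G⟩ ⟨g, hg, rfl⟩

theorem fst_lift_id_inv (g : G.left) : (fst G G).left ((lift (𝟙 G) ι[G]).left g) = g := by
  rw [← Scheme.Hom.comp_apply, ← Over.comp_left, lift_fst]
  rfl

theorem snd_lift_id_inv (g : G.left) :
    (snd G G).left ((lift (𝟙 G) ι[G]).left g) = ι[G].left g := by
  rw [← Scheme.Hom.comp_apply, ← Over.comp_left, lift_snd]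

theorem mul_lift_id_inv (g : G.left) : μ[G].left ((lift (𝟙 G) ι[G]).left g) = ept G := by
  rw [← Scheme.Hom.comp_apply, ← Over.comp_left, GrpObj.right_inv, Over.comp_left,
    Scheme.Hom.comp_apply]
  exact congrArg _ (Subsingleton.elim (α := PrimeSpectrum k) _ _)

/-- over an algebraically closed field, `Γ · Γ⁻¹ ⊆ C⁰` for every irreducible component `Γ` -/
theorem mul_inv_subset [IsAlgClosed k] {C : Set G.left} (hC : C ∈ irreducibleComponents G.left) :
    μ[G].left '' ((fst G G).left ⁻¹' C ∩ (snd G G).left ⁻¹' (ι[G].left ⁻¹' C)) ⊆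
      irreducibleComponent (ept G) := by
  obtain ⟨c, hc⟩ := hC.1.nonempty
  have hCc : IsClosed C := isClosed_of_mem_irreducibleComponents _ hC
  have hB : ι[G].left ⁻¹' C = ι[G].left '' C := by
    ext g
    constructor
    · intro hg
      exact ⟨ι[G].left g, hg, inv_inv_apply G g⟩
    · rintro ⟨c', hc', rfl⟩
      show ι[G].left (ι[G].left c') ∈ C
      rw [inv_inv_apply]
      exact hc'
  have hBirr : IsIrreducible (ι[G].left ⁻¹' C) := by
    rw [hB]
    exact hC.1.image _ ι[G].left.continuous.continuousOn
  have hBc : IsClosed (ι[G].left ⁻¹' C) := hCc.preimage ι[G].left.continuous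
  refine subset_of_unique_irreducibleComponent (ept G) (irreducibleComponent_unit_unique G) _
    (irreducibleComponent_mem_irreducibleComponents _) mem_irreducibleComponent _
    (isIrreducible_image G μ[G] C _ hC.1 hCc hBirr hBc) ?_
  refine ⟨(lift (𝟙 G) ι[G]).left c, ⟨?_, ?_⟩, mul_lift_id_inv G c⟩
  · rw [Set.mem_preimage, fst_lift_id_inv]
    exact hc
  · rw [Set.mem_preimage, snd_lift_id_inv, Set.mem_preimage, inv_inv_apply]
    exact hc

end Grp

section Prod

variable {k : Type u} [Field k]

/-- the product of a geometrically irreducible closed set and an irreducible closed set is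
irreducible -/
theorem isIrreducible_inter_preimage_of_geom {X Y : Scheme.{u}} (f : X ⟶ Spec (CommRingCat.of k))
    (g : Y ⟶ Spec (CommRingCat.of k)) {T₁ : Scheme.{u}} (i₁ : T₁ ⟶ X)
    [GeometricallyIrreducible (i₁ ≫ f)] (Z₂ : Set Y) (h2 : IsIrreducible Z₂) (h2c : IsClosed Z₂) :
    IsIrreducible (pullback.fst f g ⁻¹' Set.range i₁ ∩ pullback.snd f g ⁻¹' Z₂) := by
  obtain ⟨T₂, i₂, _, _, hr₂⟩ := exists_closedImmersion_of_isIrreducible Z₂ h2 h2c
  haveI : UniversallyOpen (i₁ ≫ f) := inferInstance
  haveI : IrreducibleSpace ↥(pullback (i₁ ≫ f) (i₂ ≫ g)) := inferInstance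
  have h := Scheme.Pullback.range_map (i₁ ≫ f) (i₂ ≫ g) f g i₁ i₂ (𝟙 _) (by simp) (by simp)
  rw [hr₂] at h
  rw [← h, ← Set.image_univ]
  exact (IrreducibleSpace.isIrreducible_univ _).image _ (Scheme.Hom.continuous _).continuousOn

end Prod

section Stable

variable {k : Type u} [Field k] {G X : Over (Spec (CommRingCat.of k))} [GrpObj G]
  (a : AlgGrp.Action G X)

/-- `C⁰ × Z` is irreducible for `Z` irreducible and closed -/
theorem isIrreducible_unit_prod (Z : Set X.left) (hZ : IsIrreducible Z) (hZc : IsClosed Z) :
    IsIrreducible ((fst G X).left ⁻¹' irreducibleComponent (ept G) ∩ (snd G X).left ⁻¹' Z) := by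
  obtain ⟨T, i, _, _, hr⟩ := exists_closedImmersion_of_isIrreducible
    (irreducibleComponent (ept G)) isIrreducible_irreducibleComponent isClosed_irreducibleComponent
  haveI : GeometricallyIrreducible (i ≫ G.hom) :=
    geometricallyIrreducible_component G T i
      (by rw [hr]; exact irreducibleComponent_mem_irreducibleComponents _)
      (by rw [hr]; exact mem_irreducibleComponent)
  have := isIrreducible_inter_preimage_of_geom G.hom X.hom i Z hZ hZc
  rw [hr] at this
  exact this

/-- `C⁰ · Z ⊆ Z` for every irreducible component `Z` of `X` -/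
theorem act_mem_of_mem_unit {Z : Set X.left} (hZ : Z ∈ irreducibleComponents X.left)
    (w : (G ⊗ X).left) (h1 : (fst G X).left w ∈ irreducibleComponent (ept G))
    (h2 : (snd G X).left w ∈ Z) : a.act.left w ∈ Z := by
  have hirr : IsIrreducible (a.act.left ''
      ((fst G X).left ⁻¹' irreducibleComponent (ept G) ∩ (snd G X).left ⁻¹' Z)) :=
    (isIrreducible_unit_prod Z hZ.1 (isClosed_of_mem_irreducibleComponents _ hZ)).image _
      a.act.left.continuous.continuousOn
  have hle : Z ⊆ a.act.left ''
      ((fst G X).left ⁻¹' irreducibleComponent (ept G) ∩ (snd G X).left ⁻¹' Z) := by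
    intro z hz
    obtain ⟨w₀, hw1, hw2, hw3⟩ := exists_unit a z
    refine ⟨w₀, ⟨?_, ?_⟩, hw3⟩
    · rw [Set.mem_preimage, hw1]
      exact mem_irreducibleComponent
    · rw [Set.mem_preimage, hw2]
      exact hz
  exact hZ.2 hirr hle ⟨w, ⟨h1, h2⟩, rfl⟩

/-- left translation of `G` on itself -/
noncomputable def selfAct (G : Over (Spec (CommRingCat.of k))) [GrpObj G] : AlgGrp.Action G G where
  act := μ[G]
  one_act := MonObj.one_mul G
  mul_act := MonObj.mul_assoc G

/-- `C⁰ · C⁰ ⊆ C⁰` -/
theorem mul_mem_unit (G : Over (Spec (CommRingCat.of k))) [GrpObj G] (p : (G ⊗ G).left)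
    (h1 : (fst G G).left p ∈ irreducibleComponent (ept G))
    (h2 : (snd G G).left p ∈ irreducibleComponent (ept G)) :
    μ[G].left p ∈ irreducibleComponent (ept G) :=
  act_mem_of_mem_unit (selfAct G) (irreducibleComponent_mem_irreducibleComponents _) p h1 h2

end Stable

end Groth.Agent.Helper4.Homog
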