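import Mathlib
import Groth.Agent.Lib.Helper4.Homog2

/-!
# Homogeneous spaces under a group scheme over a field, III: algebraically closed base (helper4)
-/

set_option autoImplicit false
set_option linter.style.haveILetI false
set_option linter.unusedSectionVars false
universe u v
open CategoryTheory CategoryTheory.Limits AlgebraicGeometry MonoidalCategory CartesianMonoidalCategory
  MonObj GrpObj

namespace Groth.Agent.Helper4.Homog

open Groth.Agent.Helper28.AlgGrpShear Groth.Agent.Helper4.GrpConn Groth.Agent.Helper16.GrpIrr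

section AlgClosed

variable {k : Type u} [Field k] [IsAlgClosed k] {G X : Over (Spec (CommRingCat.of k))} [GrpObj G]
  (a : AlgGrp.Action G X)

/-- over an algebraically closed field, every point of a homogeneous space lies on at most one
irreducible component -/
theorem irreducibleComponent_unique_ac (hΦ : Surjective (lift a.act (snd G X)).left)
    (x : X.left) (Z₁ Z₂ : Set X.left)
    (h1 : Z₁ ∈ irreducibleComponents X.left) (h2 : Z₂ ∈ irreducibleComponents X.left)
    (hx1 : x ∈ Z₁) (hx2 : x ∈ Z₂) : Z₁ = Z₂ := by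
  have hZ1c : IsClosed Z₁ := isClosed_of_mem_irreducibleComponents _ h1
  have hZ2c : IsClosed Z₂ := isClosed_of_mem_irreducibleComponents _ h2
  obtain ⟨ζ₁, hζ₁⟩ := QuasiSober.sober h1.1 hZ1c
  obtain ⟨ζ₂, hζ₂⟩ := QuasiSober.sober h2.1 hZ2c
  have hζ₁cl : closure {ζ₁} = Z₁ := hζ₁
  have hζ₂cl : closure {ζ₂} = Z₂ := hζ₂
  obtain ⟨v, hv1, hv2⟩ := exists_act_eq a hΦ x ζ₁
  set Γ := irreducibleComponent ((fst G X).left v) with hΓ
  have hΓmem : Γ ∈ irreducibleComponents G.left := irreducibleComponent_mem_irreducibleComponents _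
  have hW : IsIrreducible (a.act.left '' ((fst G X).left ⁻¹' Γ ∩ (snd G X).left ⁻¹' Z₁)) :=
    (isIrreducible_inter_preimage G.hom X.hom Γ Z₁ hΓmem.1
      (isClosed_of_mem_irreducibleComponents _ hΓmem) h1.1 hZ1c).image _
      a.act.left.continuous.continuousOn
  -- every generic point specializing to `x` lies in the image
  have key : ∀ ζ : X.left, ζ ⤳ x →
      ζ ∈ a.act.left '' ((fst G X).left ⁻¹' Γ ∩ (snd G X).left ⁻¹' Z₁) := by
    intro ζ hζ
    rw [← hv1] at hζ
    obtain ⟨v', hv', rfl⟩ := generalizingMap_act a hζ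
    have hs : (snd G X).left v' ⤳ ζ₁ := by
      rw [← hv2]
      exact hv'.map (snd G X).left.continuous
    have hs' : (snd G X).left v' = ζ₁ := eq_of_specializes_generic h1 hζ₁cl hs
    have hf : (fst G X).left v' ⤳ (fst G X).left v := hv'.map (fst G X).left.continuous
    refine ⟨v', ⟨?_, ?_⟩, rfl⟩
    · exact mem_of_specializes_of_unique (irreducibleComponent_unique G _) hf
    · rw [Set.mem_preimage, hs', ← hζ₁cl]
      exact subset_closure rfl
  have hcl : IsIrreducible (closure (a.act.left ''
      ((fst G X).left ⁻¹' Γ ∩ (snd G X).left ⁻¹' Z₁))) := hW.closure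
  have e1 : Z₁ = closure (a.act.left '' ((fst G X).left ⁻¹' Γ ∩ (snd G X).left ⁻¹' Z₁)) := by
    have hle : Z₁ ⊆ closure (a.act.left '' ((fst G X).left ⁻¹' Γ ∩ (snd G X).left ⁻¹' Z₁)) := by
      have hmem := key ζ₁ (by rw [specializes_iff_mem_closure, hζ₁cl]; exact hx1)
      intro y hy
      rw [← hζ₁cl] at hy
      exact closure_mono (Set.singleton_subset_iff.mpr hmem) hy
    exact subset_antisymm hle (h1.2 hcl hle)
  have e2 : Z₂ = closure (a.act.left '' ((fst G X).left ⁻¹' Γ ∩ (snd G X).left ⁻¹' Z₁)) := by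
    have hle : Z₂ ⊆ closure (a.act.left '' ((fst G X).left ⁻¹' Γ ∩ (snd G X).left ⁻¹' Z₁)) := by
      have hmem := key ζ₂ (by rw [specializes_iff_mem_closure, hζ₂cl]; exact hx2)
      intro y hy
      rw [← hζ₂cl] at hy
      exact closure_mono (Set.singleton_subset_iff.mpr hmem) hy
    exact subset_antisymm hle (h2.2 hcl hle)
  rw [e1, e2]

/-- over an algebraically closed field, the identity component carries the generic point of an
irreducible component to each of its points -/
theorem exists_act_generic_ac (hΦ : Surjective (lift a.act (snd G X)).left)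
    {Z : Set X.left} (hZ : Z ∈ irreducibleComponents X.left) {ξ : X.left}
    (hξ : closure {ξ} = Z) {z : X.left} (hz : z ∈ Z) :
    ∃ w : (G ⊗ X).left, (fst G X).left w ∈ irreducibleComponent (ept G) ∧
      (snd G X).left w = ξ ∧ a.act.left w = z := by
  obtain ⟨v, hv1, hv2⟩ := exists_act_eq a hΦ z ξ
  have hspec : ξ ⤳ a.act.left v := by
    rw [hv1, specializes_iff_mem_closure, hξ]
    exact hz
  obtain ⟨v', hv', hv'1⟩ := generalizingMap_act a hspec
  have hs : (snd G X).left v' ⤳ ξ := by
    rw [← hv2]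
    exact hv'.map (snd G X).left.continuous
  have hs' : (snd G X).left v' = ξ := eq_of_specializes_generic hZ hξ hs
  have hf : (fst G X).left v' ⤳ (fst G X).left v := hv'.map (fst G X).left.continuous
  have hΓmem := irreducibleComponent_mem_irreducibleComponents ((fst G X).left v)
  have hg' : (fst G X).left v' ∈ irreducibleComponent ((fst G X).left v) :=
    mem_of_specializes_of_unique (irreducibleComponent_unique G _) hf
  obtain ⟨w₁, hw1a, hw1b, hw1c⟩ := exists_inv a v'
  obtain ⟨w, p, hp1, hp2, hw1, hw2, hw3⟩ := exists_comp a w₁ v (by rw [hw1c, hs', hv2])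
  refine ⟨w, ?_, ?_, ?_⟩
  · rw [hw1]
    refine mul_inv_subset G hΓmem ⟨p, ⟨?_, ?_⟩, rfl⟩
    · rw [Set.mem_preimage, hp1]
      exact mem_irreducibleComponent
    · rw [Set.mem_preimage, Set.mem_preimage, hp2, hw1a, inv_inv_apply]
      exact hg'
  · rw [hw2, hw1b, hv'1]
  · rw [hw3, hv1]

end AlgClosed

end Groth.Agent.Helper4.Homog
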