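import Mathlib
import Groth.Prelude.Def_ActBC
import Groth.Agent.Lib.Helper4.Homog3

/-!
# Homogeneous spaces under a group scheme over a field, IV: base change (helper4)
-/

set_option autoImplicit false
set_option linter.style.haveILetI false
set_option linter.unusedSectionVars false
universe u v
open CategoryTheory CategoryTheory.Limits AlgebraicGeometry MonoidalCategory CartesianMonoidalCategory
  MonObj GrpObj

namespace Groth.Agent.Helper4.Homog

open Groth.Agent.Helper28.AlgGrpShear Groth.Agent.Helper4.GrpConn Groth.Agent.Helper16.GrpIrr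

section BC

variable {S S' : Scheme.{u}} (f : S' ⟶ S) {G X : Over S} [GrpObj G] (a : AlgGrp.Action G X)

/-- the projection `G_{S'} ×_{S'} X_{S'} ⟶ G ×_S X` -/
noncomputable def rho (G X : Over S) : (Red.bc f G ⊗ Red.bc f X).left ⟶ (G ⊗ X).left :=
  (Functor.LaxMonoidal.μ (Over.pullback f) G X).left ≫ pullback.fst (G ⊗ X).hom f

theorem rho_fst : rho f G X ≫ (fst G X).left =
    (fst (Red.bc f G) (Red.bc f X)).left ≫ pullback.fst G.hom f := by
  rw [rho, Category.assoc]
  exact ActBC.μ_left_fst_fst f G X

theorem rho_snd : rho f G X ≫ (snd G X).left =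
    (snd (Red.bc f G) (Red.bc f X)).left ≫ pullback.fst X.hom f := by
  rw [rho, Category.assoc]
  exact ActBC.μ_left_fst_snd f G X

theorem rho_act : rho f G X ≫ a.act.left = (a.bc f).act.left ≫ pullback.fst X.hom f := by
  rw [rho, AlgGrp.Action.bc_act, Over.comp_left, Category.assoc, Category.assoc,
    ActBC.pullback_map_left_fst]

/-- base change of a morphism over `S` is a base change -/
theorem isPullback_map_left {A B : Over S} (φ : A ⟶ B) :
    IsPullback ((Over.pullback f).map φ).left (pullback.fst A.hom f) (pullback.fst B.hom f)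
      φ.left := by
  refine IsPullback.of_right ?_ (ActBC.pullback_map_left_fst f φ)
    (IsPullback.of_hasPullback B.hom f).flip
  have h1 : ((Over.pullback f).map φ).left ≫ pullback.snd B.hom f = pullback.snd A.hom f :=
    Over.w ((Over.pullback f).map φ)
  rw [h1, Over.w φ]
  exact (IsPullback.of_hasPullback A.hom f).flip

/-- the homogeneity hypothesis is stable under base change -/
theorem surjective_bc (hΦ : Surjective (lift a.act (snd G X)).left) :
    Surjective (lift (a.bc f).act (snd (Red.bc f G) (Red.bc f X))).left := by
  have key : lift (a.bc f).act (snd _ _) ≫ Functor.LaxMonoidal.μ (Over.pullback f) X X =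
      Functor.LaxMonoidal.μ (Over.pullback f) G X ≫
        (Over.pullback f).map (lift a.act (snd G X)) := by
    rw [← Functor.Monoidal.lift_μ, comp_lift_assoc, Functor.Monoidal.μ_snd, AlgGrp.Action.bc_act]
  have h1 : Surjective ((Over.pullback f).map (lift a.act (snd G X))).left :=
    MorphismProperty.of_isPullback (P := @Surjective) (isPullback_map_left f _).flip hΦ
  have h2 : lift (a.bc f).act (snd (Red.bc f G) (Red.bc f X)) =
      Functor.LaxMonoidal.μ (Over.pullback f) G X ≫
        (Over.pullback f).map (lift a.act (snd G X)) ≫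
          inv (Functor.LaxMonoidal.μ (Over.pullback f) X X) := by
    rw [← Category.assoc, ← key, Category.assoc, IsIso.hom_inv_id, Category.comp_id]
  rw [h2, Over.comp_left, Over.comp_left]
  haveI : IsIso (Functor.LaxMonoidal.μ (Over.pullback f) G X).left :=
    inferInstanceAs (IsIso ((Over.forget _).map (Functor.LaxMonoidal.μ (Over.pullback f) G X)))
  haveI : IsIso (inv (Functor.LaxMonoidal.μ (Over.pullback f) X X)).left :=
    inferInstanceAs (IsIso ((Over.forget _).map (inv (Functor.LaxMonoidal.μ (Over.pullback f) X X))))
  haveI := h1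
  infer_instance

end BC

end Groth.Agent.Helper4.Homog
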