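import Mathlib
import Groth.Agent.Lib.Helper4.BCTower
import Groth.Agent.Lib.Helper3.IrrLocFin

/-!
# Irreducible components of `X_L` over an irreducible component of `X` (helper4)
-/

set_option autoImplicit false
set_option linter.style.haveILetI false
universe u
open AlgebraicGeometry CategoryTheory CategoryTheory.Limits TensorProduct

namespace Groth.Agent.Helper4.IrrCompBC

open Groth.Agent.Helper4.BCTower

variable {k : Type u} [Field k] {X : Scheme.{u}} (f : X ⟶ Spec (CommRingCat.of k))
  (L : Type u) [Field L] [Algebra k L]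

/-- an irreducible component of `X_L` mapping into an irreducible component `T` of `X` maps onto
`T` -/
theorem image_eq_of_image_subset {T : Set ↥X} (hT : T ∈ irreducibleComponents ↥X)
    {T' : Set ↥(pullback f (yK L))} (hT' : T' ∈ irreducibleComponents ↥(pullback f (yK L)))
    (h : (pullback.fst f (yK L)).base '' T' ⊆ T) : (pullback.fst f (yK L)).base '' T' = T := by
  have h1 := image_fst_mem_irreducibleComponents f L hT'
  exact subset_antisymm h (h1.2 hT.1 h)

/-- every point over an irreducible component `T` of `X` lies in an irreducible component of `X_L`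
mapping onto `T` -/
theorem exists_mem_irreducibleComponents {T : Set ↥X} (hT : T ∈ irreducibleComponents ↥X)
    (u : ↥(pullback f (yK L))) (hu : (pullback.fst f (yK L)).base u ∈ T) :
    ∃ T' ∈ irreducibleComponents ↥(pullback f (yK L)), u ∈ T' ∧
      (pullback.fst f (yK L)).base '' T' = T := by
  set π := pullback.fst f (yK L) with hπ
  obtain ⟨ξ, hξ⟩ := QuasiSober.sober hT.1 (isClosed_of_mem_irreducibleComponents T hT)
  have h1 : ξ ⤳ π.base u := by
    rw [specializes_iff_mem_closure, hξ.def]
    exact hu
  obtain ⟨u', hu', hu'ξ⟩ := (Flat.generalizingMap π) h1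
  have hT' := irreducibleComponent_mem_irreducibleComponents u'
  refine ⟨_, hT', ?_, ?_⟩
  · have : closure {u'} ⊆ irreducibleComponent u' :=
      closure_minimal (Set.singleton_subset_iff.mpr mem_irreducibleComponent)
        isClosed_irreducibleComponent
    exact this hu'.mem_closure
  · have h2 := image_fst_mem_irreducibleComponents f L hT'
    have h3 : T ⊆ π.base '' irreducibleComponent u' := by
      rw [← hξ.def]
      apply closure_minimal _ (isClosed_of_mem_irreducibleComponents _ h2)
      rw [Set.singleton_subset_iff]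
      exact ⟨u', mem_irreducibleComponent, hu'ξ⟩
    exact subset_antisymm (hT.2 h2.1 h3) h3

/-- the preimage of an irreducible component is the union of the irreducible components over it -/
theorem preimage_eq_sUnion {T : Set ↥X} (hT : T ∈ irreducibleComponents ↥X) :
    (pullback.fst f (yK L)).base ⁻¹' T =
      ⋃₀ {T' : Set ↥(pullback f (yK L)) | T' ∈ irreducibleComponents ↥(pullback f (yK L)) ∧
        (pullback.fst f (yK L)).base '' T' ⊆ T} := by
  apply subset_antisymm
  · intro u hu
    obtain ⟨T', hT', huT', h⟩ := exists_mem_irreducibleComponents f L hT u hu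
    exact ⟨T', ⟨hT', h.le⟩, huT'⟩
  · rintro u ⟨T', ⟨-, h⟩, huT'⟩
    exact h ⟨u, huT', rfl⟩

/-- finitely many irreducible components of `X_L` lie over a given irreducible component of `X`, when
`X_L` is locally Noetherian -/
theorem finite_over [IsLocallyNoetherian (pullback f (yK L))] {T : Set ↥X}
    (hT : T ∈ irreducibleComponents ↥X) :
    {T' : Set ↥(pullback f (yK L)) | T' ∈ irreducibleComponents ↥(pullback f (yK L)) ∧
        (pullback.fst f (yK L)).base '' T' ⊆ T}.Finite := by
  set π := pullback.fst f (yK L) with hπ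
  obtain ⟨ξ, hξ⟩ := QuasiSober.sober hT.1 (isClosed_of_mem_irreducibleComponents T hT)
  have hF : IsCompact (π.base ⁻¹' {ξ}) := π.isCompact_preimage_singleton ξ
  -- Noetherian affine open neighbourhoods
  have hex : ∀ w : ↥(pullback f (yK L)), ∃ V : (pullback f (yK L)).Opens, w ∈ V ∧
      {T' | T' ∈ irreducibleComponents ↥(pullback f (yK L)) ∧ (T' ∩ (V : Set _)).Nonempty}.Finite := by
    intro w
    obtain ⟨_, ⟨V, hV, rfl⟩, hwV, -⟩ :=
      (pullback f (yK L)).isBasis_affineOpens.exists_subset_of_mem_open (Set.mem_univ w)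
        isOpen_univ
    have hV' : IsAffineOpen V := hV
    haveI : IsNoetherianRing Γ(pullback f (yK L), V) :=
      IsLocallyNoetherian.component_noetherian ⟨V, hV'⟩
    haveI hN : TopologicalSpace.NoetherianSpace ((V : Set ↥(pullback f (yK L))) : Type u) :=
      noetherianSpace_of_isAffineOpen V hV'
    exact ⟨V, hwV, Groth.Agent.Helper3.IrrLocFin.finite_irreducibleComponents_meeting
      (V : Set ↥(pullback f (yK L))) V.2⟩
  choose V hV using hex
  obtain ⟨S, -, hcov⟩ := hF.elim_nhds_subcover (fun w => (V w : Set _))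
    (fun w _ => (V w).2.mem_nhds (hV w).1)
  refine (Set.Finite.biUnion S.finite_toSet (fun w _ => (hV w).2)).subset ?_
  rintro T' ⟨hT', h⟩
  have h1 := image_eq_of_image_subset f L hT hT' h
  have hξT : ξ ∈ π.base '' T' := h1 ▸ hξ.mem
  obtain ⟨w₀, hw₀T', hw₀⟩ := hξT
  obtain ⟨w, hwS, hw₀V⟩ := Set.mem_iUnion₂.mp (hcov (show w₀ ∈ π.base ⁻¹' {ξ} from hw₀))
  exact Set.mem_biUnion hwS ⟨hT', ⟨w₀, hw₀T', hw₀V⟩⟩

end Groth.Agent.Helper4.IrrCompBC
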