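import Mathlib
import Groth.Agent.Lib.Helper4.Homog4
import Groth.Agent.Lib.Helper4.IrrCompBC

/-!
# Homogeneous spaces under a group scheme over a field, V: arbitrary base field (helper4)
-/

set_option autoImplicit false
set_option linter.style.haveILetI false
set_option linter.unusedSectionVars false
universe u v
open CategoryTheory CategoryTheory.Limits AlgebraicGeometry MonoidalCategory CartesianMonoidalCategory
  MonObj GrpObj

namespace Groth.Agent.Helper4.Homog

open Groth.Agent.Helper28.AlgGrpShear Groth.Agent.Helper4.GrpConn Groth.Agent.Helper16.GrpIrr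
open Groth.Agent.Helper4.BCTower

section General

variable {k : Type u} [Field k] {G X : Over (Spec (CommRingCat.of k))} [GrpObj G]
  (a : AlgGrp.Action G X)

/-- **every point of a homogeneous space over a field lies on at most one irreducible
component** -/
theorem irreducibleComponent_unique' (hΦ : Surjective (lift a.act (snd G X)).left)
    (x : X.left) (Z₁ Z₂ : Set X.left)
    (h1 : Z₁ ∈ irreducibleComponents X.left) (h2 : Z₂ ∈ irreducibleComponents X.left)
    (hx1 : x ∈ Z₁) (hx2 : x ∈ Z₂) : Z₁ = Z₂ := by
  obtain ⟨x', hx'⟩ := fst_surjective X.hom (AlgebraicClosure k) x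
  have hx'' : pullback.fst X.hom (yK (k := k) (AlgebraicClosure k)) x' = x := hx'
  refine irreducibleComponent_unique_of_generalizingMap
    (pullback.fst X.hom (yK (k := k) (AlgebraicClosure k))) (Flat.generalizingMap _) x'
    (irreducibleComponent_unique_ac (a.bc (yK (k := k) (AlgebraicClosure k)))
      (surjective_bc _ a hΦ) x') Z₁ Z₂ h1 h2 ?_ ?_
  · rw [hx'']; exact hx1
  · rw [hx'']; exact hx2

/-- the image of the identity component of `G_K` lies in the identity component of `G` -/
theorem fst_mem_unit {K : Type u} [Field K]
    (c : Spec (CommRingCat.of K) ⟶ Spec (CommRingCat.of k)) {g : (Red.bc c G).left}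
    (hg : g ∈ irreducibleComponent (ept (Red.bc c G))) :
    pullback.fst G.hom c g ∈ irreducibleComponent (ept G) := by
  have hirr : IsIrreducible (pullback.fst G.hom c '' irreducibleComponent (ept (Red.bc c G))) :=
    isIrreducible_irreducibleComponent.image _ (pullback.fst G.hom c).continuous.continuousOn
  exact subset_of_unique_irreducibleComponent (ept G) (irreducibleComponent_unit_unique G) _
    (irreducibleComponent_mem_irreducibleComponents _) mem_irreducibleComponent _ hirr
    ⟨_, mem_irreducibleComponent, fst_unit_baseChange G c⟩ ⟨g, hg, rfl⟩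

/-- descent of `exists_act_generic_ac` along a base change to an algebraically closed field -/
theorem exists_act_generic_of_bc (hΦ : Surjective (lift a.act (snd G X)).left)
    {K : Type u} [Field K] [IsAlgClosed K]
    (c : Spec (CommRingCat.of K) ⟶ Spec (CommRingCat.of k))
    (hsurj : Function.Surjective (pullback.fst X.hom c))
    (himg' : ∀ T ∈ irreducibleComponents ↥(pullback X.hom c),
      pullback.fst X.hom c '' T ∈ irreducibleComponents X.left)
    {Z : Set X.left} (hZ : Z ∈ irreducibleComponents X.left) {ξ : X.left}
    (hξ : closure {ξ} = Z) {z : X.left} (hz : z ∈ Z) :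
    ∃ w : (G ⊗ X).left, (fst G X).left w ∈ irreducibleComponent (ept G) ∧
      (snd G X).left w = ξ ∧ a.act.left w = z := by
  obtain ⟨z', hz''⟩ := hsurj z
  have hZ' := irreducibleComponent_mem_irreducibleComponents z'
  obtain ⟨ξ', hξ'⟩ := QuasiSober.sober hZ'.1 (isClosed_of_mem_irreducibleComponents _ hZ')
  have hξ'cl : closure {ξ'} = irreducibleComponent z' := hξ'
  have himg : pullback.fst X.hom c '' irreducibleComponent z' ∈ irreducibleComponents X.left :=
    himg' _ hZ'
  have himgeq : pullback.fst X.hom c '' irreducibleComponent z' = Z :=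
    irreducibleComponent_unique' a hΦ z _ _ himg hZ ⟨z', mem_irreducibleComponent, hz''⟩ hz
  have hπξ : pullback.fst X.hom c ξ' = ξ := by
    apply eq_of_specializes_generic hZ hξ
    rw [specializes_iff_mem_closure]
    have h1 : pullback.fst X.hom c '' closure {ξ'} ⊆ closure (pullback.fst X.hom c '' {ξ'}) :=
      image_closure_subset_closure_image (pullback.fst X.hom c).continuous
    rw [hξ'cl, himgeq, Set.image_singleton] at h1
    apply h1
    rw [← hξ]
    exact subset_closure rfl
  obtain ⟨w', hw'1, hw'2, hw'3⟩ := exists_act_generic_ac (a.bc c) (surjective_bc c a hΦ) hZ' hξ'cl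
    (mem_irreducibleComponent (x := z'))
  refine ⟨rho c G X w', ?_, ?_, ?_⟩
  · rw [← Scheme.Hom.comp_apply, rho_fst, Scheme.Hom.comp_apply]
    exact fst_mem_unit c hw'1
  · rw [← Scheme.Hom.comp_apply, rho_snd, Scheme.Hom.comp_apply, hw'2, hπξ]
  · rw [← Scheme.Hom.comp_apply, rho_act, Scheme.Hom.comp_apply, hw'3, hz'']

/-- **the identity component carries the generic point of an irreducible component to each of its
points** -/
theorem exists_act_generic (hΦ : Surjective (lift a.act (snd G X)).left)
    {Z : Set X.left} (hZ : Z ∈ irreducibleComponents X.left) {ξ : X.left}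
    (hξ : closure {ξ} = Z) {z : X.left} (hz : z ∈ Z) :
    ∃ w : (G ⊗ X).left, (fst G X).left w ∈ irreducibleComponent (ept G) ∧
      (snd G X).left w = ξ ∧ a.act.left w = z :=
  exists_act_generic_of_bc a hΦ (yK (k := k) (AlgebraicClosure k))
    (fst_surjective X.hom (AlgebraicClosure k))
    (fun _ hT => image_fst_mem_irreducibleComponents X.hom (AlgebraicClosure k) hT) hZ hξ hz

end General

end Groth.Agent.Helper4.Homog
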