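import Mathlib
import Groth.Agent.Lib.Helper4.Homog5

/-!
# Homogeneous spaces under a group scheme over a field, VI: `C⁰ · U` (helper4)
-/

set_option autoImplicit false
set_option linter.style.haveILetI false
set_option linter.unusedSectionVars false
universe u v
open CategoryTheory CategoryTheory.Limits AlgebraicGeometry MonoidalCategory CartesianMonoidalCategory
  MonObj GrpObj

namespace Groth.Agent.Helper4.Homog

open Groth.Agent.Helper28.AlgGrpShear Groth.Agent.Helper4.GrpConn Groth.Agent.Helper16.GrpIrr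
open Groth.Agent.Helper4.BCTower

section Open

variable {k : Type u} [Field k] {G X : Over (Spec (CommRingCat.of k))} [GrpObj G]
  (a : AlgGrp.Action G X)

theorem fst_shear (w : (G ⊗ X).left) :
    (fst G X).left ((shear a).hom.left w) = (fst G X).left w := by
  rw [← Scheme.Hom.comp_apply, ← Over.comp_left, shear_hom_fst]

theorem snd_shear (w : (G ⊗ X).left) :
    (snd G X).left ((shear a).hom.left w) = a.act.left w := by
  rw [← Scheme.Hom.comp_apply, ← Over.comp_left, shear_hom_snd]

theorem shear_hom_inv_apply (w : (G ⊗ X).left) :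
    (shear a).hom.left ((shear a).inv.left w) = w := by
  rw [← Scheme.Hom.comp_apply, ← Over.comp_left, Iso.inv_hom_id]
  rfl

theorem shear_inv_hom_apply (w : (G ⊗ X).left) :
    (shear a).inv.left ((shear a).hom.left w) = w := by
  rw [← Scheme.Hom.comp_apply, ← Over.comp_left, Iso.hom_inv_id]
  rfl

/-- `Zs · U` is open, for `Zs ⊆ G` closed and `U ⊆ X` open -/
theorem isOpen_act (Zs : Set G.left) (hZs : IsClosed Zs) (U : Set X.left) (hU : IsOpen U) :
    IsOpen (a.act.left '' ((fst G X).left ⁻¹' Zs ∩ (snd G X).left ⁻¹' U)) := by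
  obtain ⟨T, i, hi, hrange⟩ := Groth.Agent.Helper4.GalOrbit.exists_closedImmersion Zs hZs
  haveI := hi
  let j : pullback (i ≫ G.hom) X.hom ⟶ pullback G.hom X.hom :=
    pullback.map (i ≫ G.hom) X.hom G.hom X.hom i (𝟙 _) (𝟙 _) (by simp) (by simp)
  have hrj : Set.range j = (pullback.fst G.hom X.hom) ⁻¹' Zs := by
    have h := Scheme.Pullback.range_map (i ≫ G.hom) X.hom G.hom X.hom i (𝟙 _) (𝟙 _)
      (by simp) (by simp)
    have h2 : Set.range j = (pullback.fst G.hom X.hom) ⁻¹' Set.range i ∩
        (pullback.snd G.hom X.hom) ⁻¹' Set.range (𝟙 X.left :) := h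
    rw [h2, hrange]
    ext t
    simp only [Set.mem_inter_iff, Set.mem_preimage, and_iff_left_iff_imp]
    intro _
    exact ⟨_, rfl⟩
  have hjs : j ≫ pullback.snd G.hom X.hom = pullback.snd (i ≫ G.hom) X.hom :=
    (pullback.lift_snd _ _ _).trans (Category.comp_id _)
  haveI : UniversallyOpen (i ≫ G.hom) := inferInstance
  have hopen : IsOpenMap (pullback.snd (i ≫ G.hom) X.hom) :=
    (pullback.snd (i ≫ G.hom) X.hom).isOpenMap
  have hO : IsOpen ((shear a).inv.left ⁻¹' ((snd G X).left ⁻¹' U)) :=
    (hU.preimage (snd G X).left.continuous).preimage (shear a).inv.left.continuous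
  have key : a.act.left '' ((fst G X).left ⁻¹' Zs ∩ (snd G X).left ⁻¹' U) =
      pullback.snd (i ≫ G.hom) X.hom ''
        (j ⁻¹' ((shear a).inv.left ⁻¹' ((snd G X).left ⁻¹' U))) := by
    ext x
    constructor
    · rintro ⟨w, ⟨hw1, hw2⟩, rfl⟩
      have hmem : (shear a).hom.left w ∈ Set.range j := by
        rw [hrj]
        show (fst G X).left _ ∈ Zs
        rw [fst_shear]
        exact hw1
      obtain ⟨t, ht⟩ := hmem
      refine ⟨t, ?_, ?_⟩
      · show (snd G X).left ((shear a).inv.left (j t)) ∈ U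
        rw [ht, shear_inv_hom_apply]
        exact hw2
      · rw [← hjs, Scheme.Hom.comp_apply, ht]
        exact snd_shear a w
    · rintro ⟨t, ht, rfl⟩
      refine ⟨(shear a).inv.left (j t), ⟨?_, ht⟩, ?_⟩
      · show (fst G X).left _ ∈ Zs
        rw [← fst_shear, shear_hom_inv_apply]
        have h3 : j t ∈ Set.range j := ⟨t, rfl⟩
        rw [hrj] at h3
        exact h3
      · rw [← snd_shear, shear_hom_inv_apply, ← hjs, Scheme.Hom.comp_apply]
        rfl
  rw [key]
  exact hopen _ (hO.preimage j.continuous)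

end Open

section Retro

theorem exists_specializes_of_mem_closure_range_comap {A R : Type*} [CommRing A] [CommRing R]
    (φ : A →+* R) (x : PrimeSpectrum A)
    (hx : x ∈ closure (Set.range (PrimeSpectrum.comap φ))) :
    ∃ y ∈ Set.range (PrimeSpectrum.comap φ), y ⤳ x := by
  rw [PrimeSpectrum.closure_range_comap] at hx
  have h1 : RingHom.ker φ ≤ x.asIdeal := hx
  obtain ⟨p, hp, hpx⟩ := Ideal.exists_minimalPrimes_le h1
  have hp' : p ∈ (Ideal.comap φ ⊥).minimalPrimes := hp
  obtain ⟨p', hp'prime, -, hp'eq⟩ := Ideal.exists_comap_eq_of_mem_minimalPrimes φ p hp'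
  refine ⟨PrimeSpectrum.comap φ ⟨p', hp'prime⟩, ⟨_, rfl⟩, ?_⟩
  rw [← PrimeSpectrum.le_iff_specializes]
  show Ideal.comap φ p' ≤ x.asIdeal
  rw [hp'eq]
  exact hpx


theorem exists_specializes_of_mem_closure {X : Scheme.{u}} (U : X.Opens)
    (hU : IsRetrocompact (U : Set X)) (x : X) (hx : x ∈ closure (U : Set X)) :
    ∃ u ∈ U, u ⤳ x := by
  obtain ⟨_, ⟨W, hW, rfl⟩, hxW, -⟩ :=
    X.isBasis_affineOpens.exists_subset_of_mem_open (Set.mem_univ x) isOpen_univ
  have hUW : IsCompact ((U ⊓ W : X.Opens) : Set X) := hU hW.isCompact W.isOpen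
  obtain ⟨R, g, hg⟩ := isCompact_iff_exists.mp hUW
  have hle : Set.range g ⊆ Set.range hW.fromSpec := by
    rw [hg, hW.range_fromSpec]
    exact Set.inter_subset_right
  obtain ⟨g', hg'⟩ : ∃ g' : Spec R ⟶ Spec Γ(X, W), g' ≫ hW.fromSpec = g :=
    ⟨IsOpenImmersion.lift hW.fromSpec g hle, IsOpenImmersion.lift_fac _ _ _⟩
  obtain ⟨x₀, hx₀⟩ : x ∈ Set.range hW.fromSpec := by
    rw [hW.range_fromSpec]
    exact hxW
  have hxcl : x ∈ closure ((U ⊓ W : X.Opens) : Set X) := by
    rw [mem_closure_iff]
    intro o ho hxo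
    obtain ⟨y, hy1, hy2⟩ := mem_closure_iff.mp hx (o ∩ W) (ho.inter W.isOpen) ⟨hxo, hxW⟩
    exact ⟨y, hy1.1, hy2, hy1.2⟩
  have hx₀cl : x₀ ∈ closure (Set.range g') := by
    rw [hW.fromSpec.isOpenEmbedding.isEmbedding.closure_eq_preimage_closure_image]
    show hW.fromSpec x₀ ∈ closure (hW.fromSpec '' Set.range g')
    rw [hx₀, ← Set.range_comp]
    have : (⇑hW.fromSpec ∘ ⇑g') = ⇑g := by
      rw [← hg']
      rfl
    rw [this, hg]
    exact hxcl
  obtain ⟨φ, rfl⟩ : ∃ φ, g' = Spec.map φ := ⟨Spec.preimage g', (Spec.map_preimage g').symm⟩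
  obtain ⟨y, ⟨r, rfl⟩, hy⟩ := exists_specializes_of_mem_closure_range_comap φ.hom x₀ hx₀cl
  refine ⟨hW.fromSpec (PrimeSpectrum.comap φ.hom r), ?_, ?_⟩
  · have h1 : hW.fromSpec (PrimeSpectrum.comap φ.hom r) ∈ Set.range g := by
      rw [← hg']
      exact ⟨r, rfl⟩
    rw [hg] at h1
    exact h1.1
  · rw [← hx₀]
    exact hy.map hW.fromSpec.continuous

end Retro

section Main

variable {k : Type u} [Field k] {G X : Over (Spec (CommRingCat.of k))} [GrpObj G]
  (a : AlgGrp.Action G X)

/-- `C⁰ · U` is the union of the irreducible components whose generic point lies in `U` -/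
theorem unit_act_eq_sUnion (hΦ : Surjective (lift a.act (snd G X)).left) (U : X.left.Opens) :
    a.act.left '' ((fst G X).left ⁻¹' irreducibleComponent (ept G) ∩
      (snd G X).left ⁻¹' (U : Set X.left)) =
    ⋃₀ {Z : Set X.left | Z ∈ irreducibleComponents X.left ∧ ∃ ξ ∈ U, closure {ξ} = Z} := by
  apply subset_antisymm
  · rintro _ ⟨w, ⟨hw1, hw2⟩, rfl⟩
    have hZ := irreducibleComponent_mem_irreducibleComponents ((snd G X).left w)
    obtain ⟨ξ, hξ⟩ := QuasiSober.sober hZ.1 (isClosed_of_mem_irreducibleComponents _ hZ)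
    have hξcl : closure {ξ} = irreducibleComponent ((snd G X).left w) := hξ
    have hspec : ξ ⤳ (snd G X).left w := by
      rw [specializes_iff_mem_closure, hξcl]
      exact mem_irreducibleComponent
    refine ⟨_, ⟨hZ, ξ, hspec.mem_open U.isOpen hw2, hξcl⟩, ?_⟩
    exact act_mem_of_mem_unit a hZ w hw1 mem_irreducibleComponent
  · rintro z ⟨Z, ⟨hZ, ξ, hξU, hξ⟩, hz⟩
    obtain ⟨w, hw1, hw2, hw3⟩ := exists_act_generic a hΦ hZ hξ hz
    exact ⟨w, ⟨hw1, by rw [Set.mem_preimage, hw2]; exact hξU⟩, hw3⟩

/-- if `U` is retrocompact then `C⁰ · U` is the closure of `U` -/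
theorem unit_act_eq_closure (hΦ : Surjective (lift a.act (snd G X)).left) (U : X.left.Opens)
    (hU : IsRetrocompact (U : Set X.left)) :
    a.act.left '' ((fst G X).left ⁻¹' irreducibleComponent (ept G) ∩
      (snd G X).left ⁻¹' (U : Set X.left)) = closure (U : Set X.left) := by
  rw [unit_act_eq_sUnion a hΦ U]
  apply subset_antisymm
  · rintro z ⟨Z, ⟨-, ξ, hξU, hξ⟩, hz⟩
    rw [← hξ] at hz
    exact closure_mono (Set.singleton_subset_iff.mpr hξU) hz
  · intro x hx
    obtain ⟨u, hu, hux⟩ := exists_specializes_of_mem_closure U hU x hx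
    have hZ := irreducibleComponent_mem_irreducibleComponents u
    obtain ⟨ξ, hξ⟩ := QuasiSober.sober hZ.1 (isClosed_of_mem_irreducibleComponents _ hZ)
    have hξcl : closure {ξ} = irreducibleComponent u := hξ
    have hspec : ξ ⤳ u := by
      rw [specializes_iff_mem_closure, hξcl]
      exact mem_irreducibleComponent
    refine ⟨_, ⟨hZ, ξ, hspec.mem_open U.isOpen hu, hξcl⟩, ?_⟩
    have h1 : closure {u} ⊆ irreducibleComponent u :=
      closure_minimal (Set.singleton_subset_iff.mpr mem_irreducibleComponent)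
        isClosed_irreducibleComponent
    exact h1 (specializes_iff_mem_closure.mp hux)

/-- **on a quasi-separated homogeneous space, connected components are irreducible
components** -/
theorem connectedComponent_eq_irreducibleComponent [QuasiSeparatedSpace X.left]
    (hΦ : Surjective (lift a.act (snd G X)).left) (x : X.left) :
    connectedComponent x = irreducibleComponent x := by
  apply subset_antisymm
  · intro y hy
    by_contra hyZ
    have hZ' := irreducibleComponent_mem_irreducibleComponents y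
    obtain ⟨ξ', hξ'⟩ := QuasiSober.sober hZ'.1 (isClosed_of_mem_irreducibleComponents _ hZ')
    have hξ'cl : closure {ξ'} = irreducibleComponent y := hξ'
    have hξ'Z : ξ' ∈ (irreducibleComponent x)ᶜ := by
      intro h
      apply hyZ
      have h1 : closure {ξ'} ⊆ irreducibleComponent x :=
        closure_minimal (Set.singleton_subset_iff.mpr h) isClosed_irreducibleComponent
      rw [hξ'cl] at h1
      exact h1 mem_irreducibleComponent
    obtain ⟨_, ⟨U, hUaff, rfl⟩, hξ'U, hUsub⟩ :=
      X.left.isBasis_affineOpens.exists_subset_of_mem_open hξ'Z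
        isClosed_irreducibleComponent.isOpen_compl
    have hUretro : IsRetrocompact (U : Set X.left) := hUaff.isCompact.isRetrocompact U.isOpen
    have hopen := isOpen_act a (irreducibleComponent (ept G)) isClosed_irreducibleComponent
      (U : Set X.left) U.isOpen
    have hclosed : IsClosed (a.act.left '' ((fst G X).left ⁻¹' irreducibleComponent (ept G) ∩
        (snd G X).left ⁻¹' (U : Set X.left))) := by
      rw [unit_act_eq_closure a hΦ U hUretro]
      exact isClosed_closure
    have hclopen : IsClopen (a.act.left '' ((fst G X).left ⁻¹' irreducibleComponent (ept G) ∩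
        (snd G X).left ⁻¹' (U : Set X.left))) := ⟨hclosed, hopen⟩
    have hyV : y ∈ a.act.left '' ((fst G X).left ⁻¹' irreducibleComponent (ept G) ∩
        (snd G X).left ⁻¹' (U : Set X.left)) := by
      rw [unit_act_eq_sUnion a hΦ U]
      exact ⟨_, ⟨hZ', ξ', hξ'U, hξ'cl⟩, mem_irreducibleComponent⟩
    have hxV : x ∈ a.act.left '' ((fst G X).left ⁻¹' irreducibleComponent (ept G) ∩
        (snd G X).left ⁻¹' (U : Set X.left)) := by
      have h1 := hclopen.connectedComponent_subset hyV
      rw [← connectedComponent_eq hy] at h1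
      exact h1 mem_connectedComponent
    rw [unit_act_eq_sUnion a hΦ U] at hxV
    obtain ⟨Z'', ⟨hZ'', ξ'', hξ''U, hξ''⟩, hxZ''⟩ := hxV
    have heq : Z'' = irreducibleComponent x :=
      irreducibleComponent_unique' a hΦ x _ _ hZ''
        (irreducibleComponent_mem_irreducibleComponents x) hxZ'' mem_irreducibleComponent
    apply hUsub hξ''U
    rw [← heq, ← hξ'']
    exact subset_closure rfl
  · exact irreducibleComponent_subset_connectedComponent

end Main

end Groth.Agent.Helper4.Homog
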