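import Mathlib

/-!
# Base change of a cofiltered limit of schemes over `B` along `X ⟶ B` (helper4)
-/

set_option autoImplicit false
set_option backward.isDefEq.respectTransparency false
universe u
open AlgebraicGeometry CategoryTheory CategoryTheory.Limits TopologicalSpace Opposite

namespace Groth.Agent.Helper4.LimBC

section general

variable {C : Type*} [Category C] [HasPullbacks C]

/-- the map between base changes is a base change -/
lemma isPullback_map {X B T T' : C} (x : X ⟶ B) (t : T ⟶ B) (t' : T' ⟶ B) (s : T' ⟶ T)
    (hs : s ≫ t = t') :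
    IsPullback (pullback.map x t' x t (𝟙 X) s (𝟙 B) (by simp) (by simp [hs]))
      (pullback.snd x t') (pullback.snd x t) s := by
  refine IsPullback.of_right ?_ (by simp [pullback.map]) (IsPullback.of_hasPullback x t)
  have h1 : pullback.map x t' x t (𝟙 X) s (𝟙 B) (by simp) (by simp [hs]) ≫ pullback.fst x t =
      pullback.fst x t' := by simp [pullback.map]
  rw [h1, hs]
  exact (IsPullback.of_hasPullback x t')

variable {I : Type*} [Category I] {X B : C} (x : X ⟶ B) (D : I ⥤ C)
  (t : D ⟶ (Functor.const I).obj B)

lemma t_nat {i j : I} (f : i ⟶ j) : D.map f ≫ t.app j = t.app i := by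
  have := t.naturality f
  simpa using this

/-- the base-changed diagram -/
noncomputable def FX : I ⥤ C where
  obj i := pullback x (t.app i)
  map {i j} f := pullback.map x (t.app i) x (t.app j) (𝟙 X) (D.map f) (𝟙 B) (by simp)
    (by simp [t_nat D t f])
  map_id i := by
    apply pullback.hom_ext <;> simp [pullback.map]
  map_comp f g := by
    apply pullback.hom_ext <;> simp [pullback.map]

/-- the projection to `D` -/
noncomputable def α : FX x D t ⟶ D where
  app i := pullback.snd x (t.app i)
  naturality i j f := by simp [FX, pullback.map]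

variable (c : Cone D)

/-- the structure map of the cone point -/
noncomputable abbrev tc [Nonempty I] : c.pt ⟶ B :=
  c.π.app (Classical.arbitrary I) ≫ t.app (Classical.arbitrary I)

lemma tc_eq [IsConnected I] (i : I) : c.π.app i ≫ t.app i = tc D t c := by
  have := constant_of_preserves_morphisms (fun i => c.π.app i ≫ t.app i) (fun j₁ j₂ g => by
    have h1 := t_nat D t g
    have h2 := c.w g
    show c.π.app j₁ ≫ t.app j₁ = c.π.app j₂ ≫ t.app j₂
    rw [← h1, ← h2, Category.assoc]) i (Classical.arbitrary I)
  exact this

/-- the base-changed cone, with a specified structure map -/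
noncomputable def coneX (tc' : c.pt ⟶ B) (h : ∀ i, c.π.app i ≫ t.app i = tc') :
    Cone (FX x D t) where
  pt := pullback x tc'
  π :=
    { app i := pullback.map x tc' x (t.app i) (𝟙 X) (c.π.app i) (𝟙 B) (by simp) (by simp [h i])
      naturality i j f := by
        apply pullback.hom_ext
        · simp [FX, pullback.map]
        · simp [FX, pullback.map] }

lemma coneX_π_fst (tc' : c.pt ⟶ B) (h : ∀ i, c.π.app i ≫ t.app i = tc') (i : I) :
    (coneX x D t c tc' h).π.app i ≫ pullback.fst x (t.app i) = pullback.fst x tc' := by
  simp [coneX, pullback.map]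

lemma coneX_π_snd (tc' : c.pt ⟶ B) (h : ∀ i, c.π.app i ≫ t.app i = tc') (i : I) :
    (coneX x D t c tc' h).π.app i ≫ pullback.snd x (t.app i) = pullback.snd x tc' ≫ c.π.app i := by
  simp [coneX, pullback.map]

lemma coneX_isPullback (tc' : c.pt ⟶ B) (h : ∀ i, c.π.app i ≫ t.app i = tc') (i : I) :
    IsPullback ((coneX x D t c tc' h).π.app i) (pullback.snd x tc') (pullback.snd x (t.app i))
      (c.π.app i) :=
  isPullback_map x (t.app i) tc' (c.π.app i) (h i)

/-- the base-changed cone is a limit cone -/
noncomputable def isLimitX [IsConnected I] (tc' : c.pt ⟶ B)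
    (h : ∀ i, c.π.app i ≫ t.app i = tc') (hc : IsLimit c) :
    IsLimit (coneX x D t c tc' h) :=
  isLimitOfIsPullbackOfIsConnected (α x D t) (coneX x D t c tc' h) c
    ⟨pullback.snd x tc', fun i => by simp [coneX, α, pullback.map]⟩
    (fun i => coneX_isPullback x D t c tc' h i) hc

lemma FX_map_isPullback {i j : I} (f : i ⟶ j) :
    IsPullback ((FX x D t).map f) (pullback.snd x (t.app i)) (pullback.snd x (t.app j))
      (D.map f) :=
  isPullback_map x (t.app j) (t.app i) (D.map f) (t_nat D t f)

end general

section scheme

variable {I : Type u} [Category.{u} I] {X B : Scheme.{u}} (x : X ⟶ B) (D : I ⥤ Scheme.{u})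
  (t : D ⟶ (Functor.const I).obj B)

instance [∀ {i j : I} (f : i ⟶ j), IsAffineHom (D.map f)] {i j : I} (f : i ⟶ j) :
    IsAffineHom ((FX x D t).map f) :=
  MorphismProperty.of_isPullback (P := @IsAffineHom) (FX_map_isPullback x D t f).flip
    inferInstance

end scheme

end Groth.Agent.Helper4.LimBC
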