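import Mathlib
import Groth.Agent.Lib.Helper4.GrpConn
import Groth.Agent.Lib.Helper4.Homog2
import Groth.Agent.Lib.Helper23.LocConn

/-!
# Finitely many closed points of a group scheme locally of finite type over an algebraically closed
field lie in a common affine open (helper4)
-/

set_option autoImplicit false
set_option linter.style.haveILetI false
set_option linter.unusedSectionVars false
universe u v
open CategoryTheory CategoryTheory.Limits AlgebraicGeometry MonoidalCategory CartesianMonoidalCategory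
  MonObj GrpObj

namespace Groth.Agent.Helper4.GrpAff

open Groth.Agent.Helper16.GrpIrr Groth.Agent.Helper4.GrpConn

section Top

theorem homeomorph_image_cc {X Y : Type*} [TopologicalSpace X] [TopologicalSpace Y] (h : X ≃ₜ Y)
    (x : X) : h '' connectedComponent x = connectedComponent (h x) := by
  apply subset_antisymm (h.continuous.image_connectedComponent_subset x)
  intro y hy
  have h1 := h.symm.continuous.image_connectedComponent_subset (h x) ⟨y, hy, rfl⟩
  rw [h.symm_apply_apply] at h1
  exact ⟨h.symm y, h1, h.apply_symm_apply y⟩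

end Top

section Pts

variable {K : Type u} [Field K] (G : Over (Spec (CommRingCat.of K))) [GrpObj G]

/-- the point underlying a rational point -/
noncomputable abbrev ptOf (ψ : 𝟙_ (Over (Spec (CommRingCat.of K))) ⟶ G) : G.left :=
  ψ.left (IsLocalRing.closedPoint K)

theorem ptOf_comp (ψ : 𝟙_ (Over (Spec (CommRingCat.of K))) ⟶ G) (f : G ⟶ G) :
    ptOf G (ψ ≫ f) = f.left (ptOf G ψ) := by
  simp only [ptOf, Over.comp_left, Scheme.Hom.comp_apply]

theorem comp_trans (ψ φ : 𝟙_ (Over (Spec (CommRingCat.of K))) ⟶ G) :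
    ψ ≫ Groth.Agent.Helper16.GrpIrr.trans G φ = φ * ψ := by
  unfold Groth.Agent.Helper16.GrpIrr.trans
  rw [MonObj.comp_mul, Category.comp_id, ← Category.assoc, toUnit_unique (ψ ≫ toUnit G) (𝟙 _),
    Category.id_comp]

theorem trans_ptOf (ψ φ : 𝟙_ (Over (Spec (CommRingCat.of K))) ⟶ G) :
    (Groth.Agent.Helper16.GrpIrr.trans G φ).left (ptOf G ψ) = ptOf G (φ * ψ) := by
  rw [← ptOf_comp, comp_trans]

theorem inv_ptOf (ψ : 𝟙_ (Over (Spec (CommRingCat.of K))) ⟶ G) :
    ι[G].left (ptOf G ψ) = ptOf G ψ⁻¹ := by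
  rw [← ptOf_comp, Hom.inv_def]

theorem ptOf_one : ptOf G 1 = ept G := by
  have : (1 : 𝟙_ (Over (Spec (CommRingCat.of K))) ⟶ G) = η[G] := by
    rw [Hom.one_def, toUnit_unique (toUnit (𝟙_ _)) (𝟙 _), Category.id_comp]
  rw [this]

theorem trans_ept (φ : 𝟙_ (Over (Spec (CommRingCat.of K))) ⟶ G) :
    (Groth.Agent.Helper16.GrpIrr.trans G φ).left (ept G) = ptOf G φ := by
  rw [← ptOf_one, trans_ptOf, _root_.mul_one]

instance isIso_trans_left (φ : 𝟙_ (Over (Spec (CommRingCat.of K))) ⟶ G) :
    IsIso (Groth.Agent.Helper16.GrpIrr.trans G φ).left :=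
  inferInstanceAs (IsIso ((Over.forget _).map (transIso G φ).hom))

instance isIso_inv_left : IsIso ι[G].left :=
  inferInstanceAs (IsIso ((Over.forget _).map ι[G]))

/-- translation carries the connected component of the unit onto that of the point -/
theorem trans_image_cc (φ : 𝟙_ (Over (Spec (CommRingCat.of K))) ⟶ G) :
    (Groth.Agent.Helper16.GrpIrr.trans G φ).left '' connectedComponent (ept G) = connectedComponent (ptOf G φ) := by
  have := homeomorph_image_cc (Groth.Agent.Helper16.GrpIrr.trans G φ).left.homeomorph (ept G)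
  rw [← trans_ept]
  exact this

/-- the connected component of the unit is stable under inversion -/
theorem inv_preimage_cc : ι[G].left ⁻¹' connectedComponent (ept G) ⊆ connectedComponent (ept G) := by
  intro x hx
  have h1 : ι[G].left '' connectedComponent (ept G) ⊆ connectedComponent (ept G) := by
    have hconn : _root_.IsPreconnected (ι[G].left '' connectedComponent (ept G)) :=
      isPreconnected_connectedComponent.image _ ι[G].left.continuous.continuousOn
    have := hconn.subset_connectedComponent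
      ⟨ept G, mem_connectedComponent, Groth.Agent.Helper4.Homog.inv_ept G⟩
    exact this
  have h2 : x = ι[G].left (ι[G].left x) := (Groth.Agent.Helper4.Homog.inv_inv_apply G x).symm
  rw [h2]
  exact h1 ⟨_, hx, rfl⟩

end Pts

section Main

variable {K : Type u} [Field K] [IsAlgClosed K] (G : Over (Spec (CommRingCat.of K))) [GrpObj G]
  [LocallyOfFiniteType G.hom]

theorem exists_rational (x : G.left) (hx : IsClosed ({x} : Set G.left)) :
    ∃ ψ : 𝟙_ (Over (Spec (CommRingCat.of K))) ⟶ G, ptOf G ψ = x :=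
  ⟨Over.homMk (pointOfClosedPoint G.hom x hx) (pointOfClosedPoint_comp G.hom x hx),
    pointOfClosedPoint_apply G.hom x hx _⟩

theorem locNoeth : Groth.Agent.Helper23.LocConn.LocNoeth G.left := by
  haveI : IsLocallyNoetherian G.left := LocallyOfFiniteType.isLocallyNoetherian G.hom
  intro x
  obtain ⟨_, ⟨W, hW, rfl⟩, hxW, -⟩ :=
    G.left.isBasis_affineOpens.exists_subset_of_mem_open (Set.mem_univ x) isOpen_univ
  refine ⟨W, W.isOpen, hxW, ?_⟩
  haveI : IsNoetherian (W : Scheme.{u}) :=
    { toIsLocallyNoetherian := inferInstance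
      toCompactSpace := isCompact_iff_compactSpace.mp hW.isCompact }
  exact inferInstanceAs (TopologicalSpace.NoetherianSpace (W : Scheme.{u}))

theorem isOpen_cc (x : G.left) : IsOpen (connectedComponent x) :=
  Groth.Agent.Helper23.LocConn.isOpen_connectedComponent (locNoeth G) x

theorem isIrreducible_cc (φ : 𝟙_ (Over (Spec (CommRingCat.of K))) ⟶ G) :
    IsIrreducible (connectedComponent (ptOf G φ)) := by
  rw [← trans_image_cc, connectedComponent_unit_eq]
  exact isIrreducible_irreducibleComponent.image _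
    (Groth.Agent.Helper16.GrpIrr.trans G φ).left.continuous.continuousOn

theorem exists_affine_of_component (n : ℕ) (g : Fin n → G.left)
    (hg : ∀ i, IsClosed ({g i} : Set G.left)) (C : Set G.left)
    (hC : ∃ i, C = connectedComponent (g i)) :
    ∃ U : G.left.Opens, IsAffineOpen U ∧ (U : Set G.left) ⊆ C ∧ ∀ j, g j ∈ C → g j ∈ U := by
  choose gam hgam using fun i => exists_rational G (g i) (hg i)
  obtain ⟨_, ⟨U₀, hU₀, rfl⟩, heU₀, hU₀sub⟩ :=
    G.left.isBasis_affineOpens.exists_subset_of_mem_open
      (mem_connectedComponent (x := ept G)) (isOpen_cc G (ept G))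
  let A : Fin n → Set G.left := fun j =>
    (Groth.Agent.Helper16.GrpIrr.trans G (gam j)).left '' (ι[G].left ⁻¹' (U₀ : Set G.left))
  have hAopen : ∀ j, IsOpen (A j) := fun j =>
    (Groth.Agent.Helper16.GrpIrr.trans G (gam j)).left.homeomorph.isOpenMap _
      (U₀.isOpen.preimage ι[G].left.continuous)
  have hgA : ∀ j, g j ∈ A j := by
    intro j
    refine ⟨ept G, ?_, ?_⟩
    · show ι[G].left (ept G) ∈ (U₀ : Set G.left)
      rw [Groth.Agent.Helper4.Homog.inv_ept]
      exact heU₀
    · rw [trans_ept, hgam]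
  obtain ⟨i₀, rfl⟩ := hC
  have hCirr : IsIrreducible (connectedComponent (g i₀)) := by
    rw [← hgam i₀]
    exact isIrreducible_cc G (gam i₀)
  classical
  let J : Finset (Fin n) := Finset.univ.filter (fun j => g j ∈ connectedComponent (g i₀))
  have hne := isIrreducible_iff_sInter.mp hCirr (J.image A)
    (by
      intro u hu
      obtain ⟨j, -, rfl⟩ := Finset.mem_image.mp hu
      exact hAopen j)
    (by
      intro u hu
      obtain ⟨j, hj, rfl⟩ := Finset.mem_image.mp hu
      exact ⟨g j, (Finset.mem_filter.mp hj).2, hgA j⟩)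
  have hopen : IsOpen (connectedComponent (g i₀) ∩ ⋂₀ (↑(J.image A) : Set (Set G.left))) := by
    refine (isOpen_cc G _).inter ((J.image A).finite_toSet.isOpen_sInter ?_)
    intro u hu
    obtain ⟨j, -, rfl⟩ := Finset.mem_image.mp (Finset.mem_coe.mp hu)
    exact hAopen j
  haveI : JacobsonSpace G.left := LocallyOfFiniteType.jacobsonSpace G.hom
  obtain ⟨h, ⟨hhC, hhA⟩, hhcl⟩ := nonempty_inter_closedPoints hne hopen.isLocallyClosed
  obtain ⟨ψ, hψ⟩ := exists_rational G h hhcl
  refine ⟨(Groth.Agent.Helper16.GrpIrr.trans G ψ).left ''ᵁ U₀,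
    hU₀.image_of_isOpenImmersion _, ?_, ?_⟩
  · rintro _ ⟨u, hu, rfl⟩
    have h1 : (Groth.Agent.Helper16.GrpIrr.trans G ψ).left u ∈ connectedComponent (ptOf G ψ) := by
      rw [← trans_image_cc]
      exact ⟨u, hU₀sub hu, rfl⟩
    rw [hψ] at h1
    rw [connectedComponent_eq hhC]
    exact h1
  · intro j hj
    have hjJ : j ∈ J := Finset.mem_filter.mpr ⟨Finset.mem_univ _, hj⟩
    have hhAj : h ∈ A j := hhA (A j) (Finset.mem_coe.mpr (Finset.mem_image_of_mem A hjJ))
    obtain ⟨u, hu, huh⟩ := hhAj
    have hu' : u = ptOf G ((gam j)⁻¹ * ψ) := by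
      have h2 : (Groth.Agent.Helper16.GrpIrr.trans G (gam j)⁻¹).left
          ((Groth.Agent.Helper16.GrpIrr.trans G (gam j)).left u) = u := by
        rw [← Scheme.Hom.comp_apply, ← Over.comp_left]
        have := (transIso G (gam j)).hom_inv_id
        change Groth.Agent.Helper16.GrpIrr.trans G (gam j) ≫
          Groth.Agent.Helper16.GrpIrr.trans G (gam j)⁻¹ = 𝟙 G at this
        rw [this]
        rfl
      rw [← h2, huh, ← hψ, trans_ptOf]
    refine ⟨ι[G].left u, hu, ?_⟩
    show (Groth.Agent.Helper16.GrpIrr.trans G ψ).left (ι[G].left u) = g j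
    rw [hu', inv_ptOf, trans_ptOf, ← hgam j]
    congr 1
    group

/-- **finitely many closed points of a group scheme locally of finite type over an algebraically
closed field lie in a common affine open** -/
theorem main (n : ℕ) (g : Fin n → G.left) (hg : ∀ i, IsClosed ({g i} : Set G.left)) :
    ∃ U : G.left.Opens, IsAffineOpen U ∧ ∀ i, g i ∈ U := by
  classical
  let s : Set (Set G.left) := Set.range (fun i => connectedComponent (g i))
  have hs : s.Finite := Set.finite_range _
  have hex : ∀ C : Set G.left, ∃ U : G.left.Opens, C ∈ s →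
      (IsAffineOpen U ∧ (U : Set G.left) ⊆ C ∧ ∀ j, g j ∈ C → g j ∈ U) := by
    intro C
    by_cases hC : C ∈ s
    · obtain ⟨i, hi⟩ := hC
      obtain ⟨U, hU⟩ := exists_affine_of_component G n g hg C ⟨i, hi.symm⟩
      exact ⟨U, fun _ => hU⟩
    · exact ⟨⊥, fun h => absurd h hC⟩
  choose V hV using hex
  refine ⟨⨆ C ∈ s, V C, IsAffineOpen.biSup_of_disjoint hs (fun C hC => (hV C hC).1) ?_, ?_⟩
  · intro C hC C' hC' hne
    show Disjoint (V C) (V C')
    rw [← TopologicalSpace.Opens.coe_disjoint]
    refine Set.disjoint_of_subset (hV C hC).2.1 (hV C' hC').2.1 ?_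
    obtain ⟨i, rfl⟩ := hC
    obtain ⟨i', rfl⟩ := hC'
    exact connectedComponent_disjoint hne
  · intro i
    have hi : connectedComponent (g i) ∈ s := ⟨i, rfl⟩
    have h1 := (hV _ hi).2.2 i mem_connectedComponent
    exact TopologicalSpace.Opens.mem_iSup.mpr ⟨_, TopologicalSpace.Opens.mem_iSup.mpr ⟨hi, h1⟩⟩

end Main

end Groth.Agent.Helper4.GrpAff
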