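import Mathlib
import Groth.Agent.Lib.Helper4.LimDesc3
import Groth.Agent.Lib.Helper4.LimSm2

/-!
# Descent of coverings along cofiltered limits (helper4)

Towards S20011 (étale coverings) and S18756 (fppf coverings).
-/

set_option autoImplicit false
universe u
open AlgebraicGeometry CategoryTheory CategoryTheory.Limits TopologicalSpace

namespace Groth.Agent.Helper4.LimCover

open Groth.Agent.Helper4.LimDesc Groth.Agent.Helper4.LimSm Groth.Agent.Helper4.LimSmRing

variable {I : Type u} [SmallCategory I] [IsCofiltered I] {D : I ⥤ Scheme.{u}} {c : Cone D}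
  [∀ {i j} (f : i ⟶ j), IsAffineHom (D.map f)]
variable {P : MorphismProperty Scheme.{u}}
  {Q : ∀ {R S : Type u} [CommRing R] [CommRing S], (R →+* S) → Prop}

/-- `P` descends to a reindexed model -/
theorem exists_reindex_of (hc : IsLimit c) [HasRingHomProperty P Q] (hP : Nice P)
    (hD : TensorDescends @Q) {V : Scheme.{u}} {v : V ⟶ c.pt} {i : I} (M : Model D c v i)
    (h : P v) : ∃ (j : I) (φ : j ⟶ i), P (M.reindex φ).m := by
  have hY : IsPullback (c.π.app i) (𝟙 c.pt) (𝟙 (D.obj i)) (c.π.app i) :=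
    IsPullback.of_id_snd
  obtain ⟨j, φ, Xj, Yj, fj, gj, pY, pX, h1, h2, h3⟩ :=
    exists_stage D c hc hP hD i M.m (𝟙 _) v (𝟙 _) (c.π.app i) M.g hY M.pb h
  refine ⟨j, φ, ?_⟩
  have hgj : IsIso gj :=
    MorphismProperty.of_isPullback (P := MorphismProperty.isomorphisms Scheme.{u}) h1
      (inferInstanceAs (IsIso (𝟙 (D.obj i))))
  have h4 : IsPullback pX (fj ≫ gj) M.m (D.map φ) := by
    have := h2.paste_vert h1
    rwa [Category.comp_id] at this
  have := hP.respectsIso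
  have := hP.comp
  let e := h4.flip.isoPullback
  have he : pullback.fst (D.map φ) M.m = e.inv ≫ fj ≫ gj := by
    rw [Iso.eq_inv_comp]
    exact h4.flip.isoPullback_hom_fst
  show P (pullback.fst (D.map φ) M.m)
  rw [he]
  exact (P.cancel_left_of_respectsIso _ _).mpr (P.comp_mem _ _ h3 (hP.oi gj))


set_option backward.isDefEq.respectTransparency false in
/-- Descent of `P`-coverings of finite presentation, all stages qcqs, model form. -/
theorem cover_descends_qcqs (hc : IsLimit c) [∀ i, CompactSpace (D.obj i)]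
    [∀ i, QuasiSeparatedSpace (D.obj i)]
    [HasRingHomProperty P Q] (hP : Nice P) (hD : TensorDescends @Q)
    (hopen : ∀ {X Y : Scheme.{u}} (f : X ⟶ Y), P f → LocallyOfFinitePresentation f → IsOpenMap f)
    {ι : Type u} (U : ι → Scheme.{u}) (u : ∀ a, U a ⟶ c.pt)
    (hu : ∀ a, P (u a)) [∀ a, LocallyOfFinitePresentation (u a)] [∀ a, QuasiCompact (u a)]
    [∀ a, QuasiSeparated (u a)]
    (hcov : ∀ x : c.pt, ∃ (a : ι) (y : U a), (u a).base y = x) :
    ∃ (i : I) (n : ℕ) (a : Fin n → ι) (M : ∀ j, Model D c (u (a j)) i),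
      (∀ j, P (M j).m) ∧ ∀ x : D.obj i, ∃ (j : Fin n) (y : (M j).M), (M j).m y = x := by
  classical
  have hbc := hP.bc
  have hcpt : CompactSpace c.pt := Scheme.compactSpace_of_isLimit D c hc
  have hOo : ∀ a, IsOpen (Set.range (u a)) := fun a =>
    (hopen (u a) (hu a) inferInstance).isOpen_range
  have hOcov : (Set.univ : Set c.pt) ⊆ ⋃ a, Set.range (u a) := by
    intro x _
    obtain ⟨a, y, rfl⟩ := hcov x
    exact Set.mem_iUnion.mpr ⟨a, ⟨y, rfl⟩⟩
  obtain ⟨t, ht⟩ := isCompact_univ.elim_finite_subcover _ hOo hOcov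
  have hmod : ∀ a : ι, ∃ (i : I) (M : Model D c (u a) i), P M.m := by
    intro a
    obtain ⟨i, ⟨M⟩⟩ := exists_model_top hc (u a)
    obtain ⟨j, φ, hj⟩ := exists_reindex_of hc hP hD M (hu a)
    exact ⟨j, M.reindex φ, hj⟩
  choose iA MA hMA using hmod
  obtain ⟨k₀, hk₀⟩ := IsCofiltered.inf_objs_exists (t.image iA)
  have fA : ∀ a ∈ t, k₀ ⟶ iA a := fun a ha => (hk₀ (Finset.mem_image_of_mem _ ha)).some
  let M₀ : ∀ a : t, Model D c (u a.1) k₀ := fun a => (MA a.1).reindex (fA a.1 a.2)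
  have hM₀ : ∀ a : t, P (M₀ a).m := fun a => by
    show P (pullback.fst (D.map (fA a.1 a.2)) (MA a.1).m)
    exact P.pullback_fst _ _ (hMA a.1)
  have hWo : ∀ a : t, IsOpen (Set.range (M₀ a).m) := fun a =>
    (hopen _ (hM₀ a) inferInstance).isOpen_range
  let W : (D.obj k₀).Opens := ⨆ a : t, ⟨Set.range (M₀ a).m, hWo a⟩
  have hWtop : c.π.app k₀ ⁻¹ᵁ W = ⊤ := by
    rw [eq_top_iff]
    intro x _
    have hx := ht (Set.mem_univ x)
    simp only [Set.mem_iUnion] at hx
    obtain ⟨a, ha, y, rfl⟩ := hx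
    show c.π.app k₀ (u a y) ∈ W
    refine TopologicalSpace.Opens.mem_iSup.mpr ⟨⟨a, ha⟩, ?_⟩
    show c.π.app k₀ (u a y) ∈ Set.range (M₀ ⟨a, ha⟩).m
    refine ⟨(M₀ ⟨a, ha⟩).g y, ?_⟩
    rw [← Scheme.Hom.comp_apply, (M₀ ⟨a, ha⟩).pb.w, Scheme.Hom.comp_apply]
    rfl
  obtain ⟨k, fk, hk⟩ := exists_map_preimage_le_map_preimage D c hc (i := k₀) (U := ⊤) (V := W)
    isCompact_univ (by rw [hWtop]; exact le_top)
  have hsurj : ∀ (a : t) (x : D.obj k), D.map fk x ∈ Set.range (M₀ a).m →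
      ∃ y : ((M₀ a).reindex fk).M, ((M₀ a).reindex fk).m y = x := by
    rintro a x ⟨y, hy⟩
    obtain ⟨p, hp1, -⟩ := exists_preimage_of_isPullback
      (IsPullback.of_hasPullback (D.map fk) (M₀ a).m) x y hy.symm
    exact ⟨p, hp1⟩
  let n := t.card
  let E : ↥t ≃ Fin n := t.equivFin
  refine ⟨k, n, fun j => (E.symm j).1, fun j => (M₀ (E.symm j)).reindex fk, ?_, ?_⟩
  · intro j
    show P (pullback.fst (D.map fk) (M₀ (E.symm j)).m)
    exact P.pullback_fst _ _ (hM₀ _)
  · intro x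
    have hx : D.map fk x ∈ W := hk (show x ∈ D.map fk ⁻¹ᵁ ⊤ from trivial)
    obtain ⟨a, ha⟩ := TopologicalSpace.Opens.mem_iSup.mp hx
    have ha' : D.map fk x ∈ Set.range (M₀ a).m := ha
    refine ⟨E a, hsurj (E.symm (E a)) x ?_⟩
    rw [E.symm_apply_apply a]
    exact ha'


set_option backward.isDefEq.respectTransparency false in
/-- Descent of `P`-coverings of finite presentation: only one stage is assumed qcqs. -/
theorem cover_descends (hc : IsLimit c) (i₀ : I) [CompactSpace (D.obj i₀)]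
    [QuasiSeparatedSpace (D.obj i₀)]
    [HasRingHomProperty P Q] (hP : Nice P) (hD : TensorDescends @Q)
    (hopen : ∀ {X Y : Scheme.{u}} (f : X ⟶ Y), P f → LocallyOfFinitePresentation f → IsOpenMap f)
    {ι : Type u} (U : ι → Scheme.{u}) (u : ∀ a, U a ⟶ c.pt)
    (hu : ∀ a, P (u a)) [∀ a, LocallyOfFinitePresentation (u a)] [∀ a, QuasiCompact (u a)]
    [∀ a, QuasiSeparated (u a)]
    (hcov : ∀ x : c.pt, ∃ (a : ι) (y : U a), (u a).base y = x) :
    ∃ (i : I) (n : ℕ) (V : Fin n → Scheme.{u}) (v : ∀ j, V j ⟶ D.obj i) (a : Fin n → ι)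
      (e : ∀ j, U (a j) ⟶ V j),
      (∀ j, P (v j) ∧ LocallyOfFinitePresentation (v j) ∧ QuasiCompact (v j) ∧
        QuasiSeparated (v j)) ∧
      (∀ x : D.obj i, ∃ (j : Fin n) (y : V j), (v j).base y = x) ∧
      ∀ j, IsPullback (e j) (u (a j)) (v j) (c.π.app i) := by
  let D' : Over i₀ ⥤ Scheme.{u} := Over.forget i₀ ⋙ D
  let c' : Cone D' := c.whisker (Over.forget i₀)
  have hc' : IsLimit c' := (Functor.Initial.isLimitWhiskerEquiv (Over.forget i₀) c).symm hc
  have h1 : ∀ {j k : Over i₀} (f : j ⟶ k), IsAffineHom (D'.map f) := fun f =>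
    inferInstanceAs (IsAffineHom (D.map f.left))
  have h2 : ∀ j : Over i₀, CompactSpace (D'.obj j) := fun j =>
    QuasiCompact.compactSpace_of_compactSpace (D.map j.hom)
  have h3 : ∀ j : Over i₀, QuasiSeparatedSpace (D'.obj j) := fun j =>
    quasiSeparatedSpace_of_quasiSeparated (D.map j.hom)
  obtain ⟨j, n, a, M, hM, hs⟩ :=
    cover_descends_qcqs (D := D') (c := c') hc' hP hD hopen U u hu hcov
  refine ⟨j.left, n, fun k => (M k).M, fun k => (M k).m, a, fun k => (M k).g, ?_, hs,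
    fun k => (M k).pb⟩
  intro k
  have h4 : QuasiSeparatedSpace (D.obj j.left) := h3 j
  have h5 : CompactSpace (M k).M := (M k).cpt
  have h6 : QuasiSeparatedSpace (M k).M := (M k).qs
  have h7 : QuasiCompact (M k).m := quasiCompact_of_compactSpace (M k).m
  have h8 : QuasiSeparated (M k).m := (quasiSeparated_iff_quasiSeparatedSpace (M k).m).mpr h6
  exact ⟨hM k, (M k).lfp, h7, h8⟩

end Groth.Agent.Helper4.LimCover
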