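import Mathlib
import Groth.Agent.Lib.Helper4.LimCI

/-!
# Immersions descend to a stage of a cofiltered limit (helper4)
-/

set_option autoImplicit false
universe u
open AlgebraicGeometry CategoryTheory CategoryTheory.Limits

namespace Groth.Agent.Helper4.LimImm

open Groth.Agent.Helper7.LimBC Groth.Agent.Helper4.LimStage Groth.Agent.Helper4.LimAff
  Groth.Agent.Helper4.LimOImm Groth.Agent.Helper7.LimSep Groth.Agent.Helper4.LimCI

section restrict

variable {Xm Ym Sm T YT XT : Scheme.{u}} (αm : Xm ⟶ Ym) (gm : Ym ⟶ Sm) (W : Ym.Opens)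
  (hW : Set.range αm ⊆ (W : Set Ym))
  {u : T ⟶ Sm} {pY : YT ⟶ Ym} {gT : YT ⟶ T} {pX : XT ⟶ Xm} {αT : XT ⟶ YT}

include hW in
theorem range_subset_preimage (hXT : IsPullback pX αT αm pY) :
    Set.range αT ⊆ ((pY ⁻¹ᵁ W : YT.Opens) : Set YT) := by
  rintro _ ⟨x, rfl⟩
  change pY (αT x) ∈ W
  rw [← Scheme.Hom.comp_apply, ← hXT.w, Scheme.Hom.comp_apply]
  exact hW ⟨_, rfl⟩

/-- the lift of a morphism whose range lies in an open -/
noncomputable def liftOpen : Xm ⟶ W := IsOpenImmersion.lift W.ι αm (by simpa using hW)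

@[reassoc (attr := simp)]
theorem liftOpen_ι : liftOpen αm W hW ≫ W.ι = αm := IsOpenImmersion.lift_fac _ _ _

theorem isPullback_restrict_bot (hYT : IsPullback pY gT gm u) :
    IsPullback (pY ∣_ W) ((pY ⁻¹ᵁ W).ι ≫ gT) (W.ι ≫ gm) u :=
  (isPullback_morphismRestrict pY W).paste_vert hYT

theorem isPullback_restrict_top (hXT : IsPullback pX αT αm pY) :
    IsPullback pX (liftOpen αT (pY ⁻¹ᵁ W) (range_subset_preimage αm W hW hXT))
      (liftOpen αm W hW) (pY ∣_ W) := by
  refine IsPullback.of_bot ?_ ?_ (isPullback_morphismRestrict pY W)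
  · rw [liftOpen_ι, liftOpen_ι]
    exact hXT
  · rw [← cancel_mono W.ι, Category.assoc, Category.assoc, liftOpen_ι, morphismRestrict_ι,
      liftOpen_ι_assoc]
    exact hXT.w

end restrict

section squares

/-- base change in two steps -/
theorem isPullback_lift_fst {T Sm S₀ Y₀ : Scheme.{u}} (u' : T ⟶ Sm) (w : Sm ⟶ S₀) (v : T ⟶ S₀)
    (hv : u' ≫ w = v) (g₀ : Y₀ ⟶ S₀) :
    IsPullback (pullback.lift (pullback.fst v g₀ ≫ u') (pullback.snd v g₀)
        (by rw [Category.assoc, hv, pullback.condition]))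
      (pullback.fst v g₀) (pullback.fst w g₀) u' := by
  have hbig : IsPullback (pullback.snd v g₀) (pullback.fst v g₀) g₀ v :=
    (IsPullback.of_hasPullback _ _).flip
  have hr : IsPullback (pullback.snd w g₀) (pullback.fst w g₀) g₀ w :=
    (IsPullback.of_hasPullback _ _).flip
  refine IsPullback.of_right ?_ (pullback.lift_fst _ _ _) hr
  rw [pullback.lift_snd, hv]
  exact hbig

/-- the converse of `canonical_of_isPullback` -/
theorem of_canonical (P : MorphismProperty Scheme.{u}) [P.RespectsIso]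
    {T C : Scheme.{u}} (u : T ⟶ C) {X₀ Y₀ : Scheme.{u}} (f₀ : X₀ ⟶ Y₀) (g₀ : Y₀ ⟶ C)
    {X Y : Scheme.{u}} (f : X ⟶ Y) (g : Y ⟶ T) (qY : Y ⟶ Y₀) (qX : X ⟶ X₀)
    (hY : IsPullback qY g g₀ u) (hX : IsPullback qX f f₀ qY) (h : P (pbMap u f₀ g₀)) :
    P f := by
  let e : Y ≅ pullback u g₀ := hY.flip.isoPullback
  have he : e.hom ≫ pullback.snd u g₀ = qY := hY.flip.isoPullback_hom_snd
  have h1 : IsPullback qX (f ≫ e.hom) f₀ (pullback.snd u g₀) := by
    refine IsPullback.of_iso hX (Iso.refl _) (Iso.refl _) e (Iso.refl _) (by simp) (by simp)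
      (by simp) (by simp [he])
  have h2 := (snd_iff_of_isPullback P (isPullback_pbMap u f₀ g₀)).1 h
  exact (P.cancel_right_of_respectsIso f e.hom).1 ((snd_iff_of_isPullback P h1).2 h2)

end squares

section main

theorem exists_isCompact_opens_between {X : Scheme.{u}} {K : Set X} (hK : IsCompact K)
    (U : X.Opens) (hKU : K ⊆ (U : Set X)) :
    ∃ W : X.Opens, IsCompact (W : Set X) ∧ K ⊆ (W : Set X) ∧ W ≤ U := by
  classical
  have hcov : ∀ x : X, x ∈ K → ∃ V : X.Opens, IsAffineOpen V ∧ x ∈ V ∧ V ≤ U := by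
    intro x hx
    obtain ⟨_, ⟨V, hV, rfl⟩, hxV, hVU⟩ := X.isBasis_affineOpens.exists_subset_of_mem_open
      (hKU hx) U.2
    exact ⟨V, hV, hxV, hVU⟩
  choose V hV hxV hVU using hcov
  obtain ⟨t, ht⟩ := hK.elim_nhds_subcover' (fun x hx => ((V x hx : X.Opens) : Set X))
    (fun x hx => (V x hx).2.mem_nhds (hxV x hx))
  refine ⟨⨆ x ∈ t, V x.1 x.2, ?_, ?_, ?_⟩
  · simp only [TopologicalSpace.Opens.coe_iSup]
    exact t.isCompact_biUnion fun x _ => (hV x.1 x.2).isCompact
  · simpa only [TopologicalSpace.Opens.coe_iSup] using ht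
  · exact iSup₂_le fun x _ => hVU x.1 x.2

variable {I : Type u} [SmallCategory I] [IsCofiltered I] (D : I ⥤ Scheme.{u})
  [∀ {i j} (f : i ⟶ j), IsAffineHom (D.map f)] (c : Cone D) (hc : IsLimit c)

set_option backward.isDefEq.respectTransparency false in
set_option maxHeartbeats 800000 in
include hc in
/-- immersions descend to a stage; `f₀` only locally of finite type -/
theorem exists_isImmersion_pbMap (i₀ : I) [CompactSpace (D.obj i₀)]
    [QuasiSeparatedSpace (D.obj i₀)]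
    {X₀ Y₀ : Scheme.{u}} (f₀ : X₀ ⟶ Y₀) (g₀ : Y₀ ⟶ D.obj i₀)
    [CompactSpace X₀] [QuasiSeparatedSpace X₀] [CompactSpace Y₀] [QuasiSeparatedSpace Y₀]
    [LocallyOfFiniteType f₀]
    {X Y : Scheme.{u}} (f : X ⟶ Y) (g : Y ⟶ c.pt) (qY : Y ⟶ Y₀) (qX : X ⟶ X₀)
    (hY : IsPullback qY g g₀ (c.π.app i₀)) (hX : IsPullback qX f f₀ qY) [IsImmersion f] :
    ∃ (j : I) (φ : j ⟶ i₀), IsImmersion (pbMap (D.map φ) f₀ g₀) := by
  classical
  let E := pbDiagram D i₀ g₀
  let E' := pbDiagram D i₀ (f₀ ≫ g₀)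
  let cE := pbCone D c i₀ g₀
  let cE' := pbCone D c i₀ (f₀ ≫ g₀)
  have hcE : IsLimit cE := isLimitPbCone D c hc i₀ g₀
  have hcE' : IsLimit cE' := isLimitPbCone D c hc i₀ (f₀ ≫ g₀)
  let F : cE'.pt ⟶ cE.pt := pbMap (c.π.app i₀) f₀ g₀
  have hFimm : IsImmersion F :=
    canonical_of_isPullback @IsImmersion (c.π.app i₀) f₀ g₀ f g qY qX hY hX inferInstance
  have hFcomp : ∀ k, cE'.π.app k ≫ pbMap (D.map k.hom) f₀ g₀ = F ≫ cE.π.app k := fun k => by
    apply pullback.hom_ext <;> simp [F, cE, cE']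
  -- Step 1: a quasi-compact open of the limit in which the image is closed, defined at a stage
  have : CompactSpace cE'.pt := Scheme.compactSpace_of_isLimit E' cE' hcE'
  obtain ⟨Winf, hWc, hWr, hWle⟩ := exists_isCompact_opens_between
    (isCompact_range F.continuous) F.coborderRange subset_coborder
  obtain ⟨k, Wk, hWkc, hWk⟩ := exists_preimage_eq E cE hcE Winf hWc
  -- Step 2: at a later stage the image lands in the open
  have H : cE'.π.app k ⁻¹ᵁ ⊤ ≤ cE'.π.app k ⁻¹ᵁ (pbMap (D.map k.hom) f₀ g₀ ⁻¹ᵁ Wk) := by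
    intro x _
    have e : (cE'.π.app k ≫ pbMap (D.map k.hom) f₀ g₀) x = (F ≫ cE.π.app k) x :=
      congr($(hFcomp k) x)
    have h2 : F x ∈ Winf := hWr ⟨x, rfl⟩
    rw [← hWk] at h2
    have h3 : (F ≫ cE.π.app k) x ∈ Wk := h2
    rw [← e] at h3
    exact h3
  obtain ⟨m, ψ, hm⟩ := exists_map_preimage_le_map_preimage E' cE' hcE' (i := k) (U := ⊤)
    isCompact_univ H
  -- the data at stage `m`
  let αm : E'.obj m ⟶ E.obj m := pbMap (D.map m.hom) f₀ g₀
  let gm : E.obj m ⟶ D.obj m.left := pullback.fst (D.map m.hom) g₀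
  let Wm : (E.obj m).Opens := E.map ψ ⁻¹ᵁ Wk
  have hsq := (isPullback_pbMap_map D i₀ f₀ g₀ ψ).w
  have hWm : Set.range αm ⊆ (Wm : Set (E.obj m)) := by
    rintro _ ⟨x, rfl⟩
    have hx : x ∈ E'.map ψ ⁻¹ᵁ (pbMap (D.map k.hom) f₀ g₀ ⁻¹ᵁ Wk) := hm trivial
    have hx' : (E'.map ψ ≫ pbMap (D.map k.hom) f₀ g₀) x ∈ Wk := hx
    have e : (E'.map ψ ≫ pbMap (D.map k.hom) f₀ g₀) x = (αm ≫ E.map ψ) x := congr($hsq x)
    rw [e] at hx'
    exact hx'
  have hS1 : CompactSpace (D.obj m.left) :=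
    QuasiCompact.compactSpace_of_compactSpace (D.map m.hom)
  have hS2 : QuasiSeparatedSpace (D.obj m.left) :=
    quasiSeparatedSpace_of_quasiSeparated (D.map m.hom)
  have hX1 : CompactSpace (E'.obj m) := inferInstance
  have hX2 : QuasiSeparatedSpace (E'.obj m) := by
    have : IsAffineHom (pullback.snd (D.map m.hom) (f₀ ≫ g₀)) :=
      MorphismProperty.pullback_snd (P := @IsAffineHom) _ _ inferInstance
    exact quasiSeparatedSpace_of_quasiSeparated (pullback.snd (D.map m.hom) (f₀ ≫ g₀))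
  have hY2 : QuasiSeparatedSpace (E.obj m) := by
    have : IsAffineHom (pullback.snd (D.map m.hom) g₀) :=
      MorphismProperty.pullback_snd (P := @IsAffineHom) _ _ inferInstance
    exact quasiSeparatedSpace_of_quasiSeparated (pullback.snd (D.map m.hom) g₀)
  have hW1 : CompactSpace Wm :=
    isCompact_iff_compactSpace.mp (QuasiCompact.isCompact_preimage _ Wk.2 hWkc)
  have hW2 : QuasiSeparatedSpace Wm := quasiSeparatedSpace_of_quasiSeparated Wm.ι
  let βm : E'.obj m ⟶ Wm := liftOpen αm Wm hWm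
  have hαm : LocallyOfFiniteType αm :=
    MorphismProperty.of_isPullback (P := @LocallyOfFiniteType)
      (isPullback_pbMap (D.map m.hom) f₀ g₀) inferInstance
  have hβm : LocallyOfFiniteType βm := by
    have : LocallyOfFiniteType (βm ≫ Wm.ι) := by rw [liftOpen_ι]; exact hαm
    exact locallyOfFiniteType_of_comp βm Wm.ι
  -- the squares to the limit
  have hYT : IsPullback (cE.π.app m) (pullback.fst (c.π.app i₀) g₀) gm (c.π.app m.left) :=
    isPullback_lift_fst (c.π.app m.left) (D.map m.hom) (c.π.app i₀) (c.w m.hom) g₀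
  have hXT : IsPullback (cE'.π.app m) F αm (cE.π.app m) := by
    refine IsPullback.of_right ?_ (hFcomp m) (isPullback_pbMap (D.map m.hom) f₀ g₀)
    have e1 : cE'.π.app m ≫ pullback.snd (D.map m.hom) (f₀ ≫ g₀) =
        pullback.snd (c.π.app i₀) (f₀ ≫ g₀) := by simp [cE']
    have e2 : cE.π.app m ≫ pullback.snd (D.map m.hom) g₀ = pullback.snd (c.π.app i₀) g₀ := by
      simp [cE]
    rw [e1, e2]
    exact isPullback_pbMap (c.π.app i₀) f₀ g₀
  have hY' := isPullback_restrict_bot gm Wm hYT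
  have hX' := isPullback_restrict_top αm Wm hWm hXT
  have hle : cE.π.app m ⁻¹ᵁ Wm ≤ F.coborderRange := by
    have : cE.π.app m ⁻¹ᵁ Wm = Winf := by
      rw [← hWk, ← Scheme.Hom.comp_preimage, cE.w]
    rw [this]
    exact hWle
  have hcl : IsClosedImmersion (liftOpen F (cE.π.app m ⁻¹ᵁ Wm)
      (range_subset_preimage αm Wm hWm hXT)) := by
    have e : liftOpen F (cE.π.app m ⁻¹ᵁ Wm) (range_subset_preimage αm Wm hWm hXT) ≫
        cE.pt.homOfLE hle = F.liftCoborder := by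
      rw [← cancel_mono F.coborderRange.ι, Category.assoc, Scheme.homOfLE_ι, liftOpen_ι,
        Scheme.Hom.liftCoborder_ι]
    have : IsClosedImmersion (liftOpen F (cE.π.app m ⁻¹ᵁ Wm)
        (range_subset_preimage αm Wm hWm hXT) ≫ cE.pt.homOfLE hle) := by
      rw [e]; infer_instance
    exact IsClosedImmersion.of_comp _ (cE.pt.homOfLE hle)
  obtain ⟨n, φ, hn⟩ := exists_isClosedImmersion_pbMap D c hc m.left βm (Wm.ι ≫ gm) _ _ _ _
    hY' hX'
  -- back to the original system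
  let n' : Over i₀ := Over.mk (φ ≫ m.hom)
  let χ : n' ⟶ m := Over.homMk φ
  have hYn : IsPullback (E.map χ) (pullback.fst (D.map n'.hom) g₀) gm (D.map φ) :=
    isPullback_lift_fst (D.map φ) (D.map m.hom) (D.map n'.hom) (D.map_comp _ _).symm g₀
  have hXn := isPullback_pbMap_map D i₀ f₀ g₀ χ
  have hYn' := isPullback_restrict_bot gm Wm hYn
  have hXn' := isPullback_restrict_top αm Wm hWm hXn
  have hcln := of_canonical @IsClosedImmersion (D.map φ) βm (Wm.ι ≫ gm) _ _ _ _ hYn' hXn' hn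
  refine ⟨n, φ ≫ m.hom, ?_⟩
  have e := liftOpen_ι (pbMap (D.map n'.hom) f₀ g₀) (E.map χ ⁻¹ᵁ Wm)
    (range_subset_preimage αm Wm hWm hXn)
  change IsImmersion (pbMap (D.map n'.hom) f₀ g₀)
  rw [← e]
  infer_instance

end main

end Groth.Agent.Helper4.LimImm
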