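import Mathlib
import Groth.Agent.Lib.Helper4.LimCover
import Groth.Agent.Lib.Helper4.LimFin
import Groth.Agent.Lib.Helper4.LimImm
import Groth.Agent.Lib.Helper4.LimCI
import Groth.Agent.Lib.Helper4.LimAff

/-!
# Properties of models descend after reindexing (helper4)
-/

set_option autoImplicit false
universe u
open AlgebraicGeometry CategoryTheory CategoryTheory.Limits TopologicalSpace

namespace Groth.Agent.Helper4.LimDesc

variable {I : Type u} [SmallCategory I] [IsCofiltered I] {D : I ⥤ Scheme.{u}} {c : Cone D}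
  [∀ {i j} (f : i ⟶ j), IsAffineHom (D.map f)]

/-- from the existential stage form (with `g₀ = 𝟙`) to the reindexed model -/
theorem Model.reindex_of_stage_form (P : MorphismProperty Scheme.{u}) [P.RespectsIso]
    {V : Scheme.{u}} {v : V ⟶ c.pt} {i : I} (M : Model D c v i)
    {j : I} {φ : j ⟶ i} {Xj Yj : Scheme.{u}} {fj : Xj ⟶ Yj} {gj : Yj ⟶ D.obj j}
    {pY : Yj ⟶ D.obj i} {pX : Xj ⟶ M.M} (h1 : IsPullback pY gj (𝟙 _) (D.map φ))
    (h2 : IsPullback pX fj M.m pY) (h3 : P fj) : P (M.reindex φ).m := by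
  have hgj : IsIso gj :=
    MorphismProperty.of_isPullback (P := MorphismProperty.isomorphisms Scheme.{u}) h1
      (inferInstanceAs (IsIso (𝟙 (D.obj i))))
  have h4 : IsPullback pX (fj ≫ gj) M.m (D.map φ) := by
    have := h2.paste_vert h1
    rwa [Category.comp_id] at this
  let e := h4.flip.isoPullback
  have he : pullback.fst (D.map φ) M.m = e.inv ≫ fj ≫ gj := by
    rw [Iso.eq_inv_comp]
    exact h4.flip.isoPullback_hom_fst
  show P (pullback.fst (D.map φ) M.m)
  rw [he]
  exact (P.cancel_left_of_respectsIso _ _).mpr ((P.cancel_right_of_respectsIso _ _).mpr h3)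

/-- reindexing preserves base-change-stable properties of the model morphism -/
theorem Model.reindex_m_of (P : MorphismProperty Scheme.{u}) [P.IsStableUnderBaseChange]
    {V : Scheme.{u}} {v : V ⟶ c.pt} {i : I} (M : Model D c v i) {j : I} (φ : j ⟶ i)
    (h : P M.m) : P (M.reindex φ).m := by
  show P (pullback.fst (D.map φ) M.m)
  exact P.pullback_fst _ _ h

/-- the limit-level map inherits base-change-stable properties of the model morphism -/
theorem Model.v_of (P : MorphismProperty Scheme.{u}) [P.IsStableUnderBaseChange]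
    {V : Scheme.{u}} {v : V ⟶ c.pt} {i : I} (M : Model D c v i) (h : P M.m) : P v :=
  P.of_isPullback M.pb h

section qcqs

variable [∀ i, CompactSpace (D.obj i)] [∀ i, QuasiSeparatedSpace (D.obj i)]

/-- finiteness descends to a reindexed model -/
theorem Model.exists_reindex_isFinite (hc : IsLimit c) {V : Scheme.{u}} {v : V ⟶ c.pt} {i : I}
    (M : Model D c v i) [IsFinite v] : ∃ (j : I) (φ : j ⟶ i), IsFinite (M.reindex φ).m := by
  obtain ⟨j, φ, Xj, Yj, fj, gj, pY, pX, h1, h2, h3⟩ :=
    Groth.Agent.Helper4.LimAff.stage_form' D @IsFinite i M.m (𝟙 _)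
      (Groth.Agent.Helper4.LimFin.exists_isFinite_pbMap D c hc i M.m (𝟙 _) v (𝟙 _) (c.π.app i) M.g
        IsPullback.of_id_snd M.pb)
  exact ⟨j, φ, M.reindex_of_stage_form @IsFinite h1 h2 h3⟩

/-- closed immersions descend to a reindexed model -/
theorem Model.exists_reindex_isClosedImmersion (hc : IsLimit c) {V : Scheme.{u}} {v : V ⟶ c.pt}
    {i : I} (M : Model D c v i) [IsClosedImmersion v] :
    ∃ (j : I) (φ : j ⟶ i), IsClosedImmersion (M.reindex φ).m := by
  obtain ⟨j, φ, Xj, Yj, fj, gj, pY, pX, h1, h2, h3⟩ :=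
    Groth.Agent.Helper4.LimAff.stage_form' D @IsClosedImmersion i M.m (𝟙 _)
      (Groth.Agent.Helper4.LimCI.exists_isClosedImmersion_pbMap D c hc i M.m (𝟙 _) v (𝟙 _)
        (c.π.app i) M.g IsPullback.of_id_snd M.pb)
  exact ⟨j, φ, M.reindex_of_stage_form @IsClosedImmersion h1 h2 h3⟩

/-- immersions descend to a reindexed model -/
theorem Model.exists_reindex_isImmersion (hc : IsLimit c) {V : Scheme.{u}} {v : V ⟶ c.pt}
    {i : I} (M : Model D c v i) [IsImmersion v] :
    ∃ (j : I) (φ : j ⟶ i), IsImmersion (M.reindex φ).m := by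
  obtain ⟨j, φ, Xj, Yj, fj, gj, pY, pX, h1, h2, h3⟩ :=
    Groth.Agent.Helper4.LimAff.stage_form' D @IsImmersion i M.m (𝟙 _)
      (Groth.Agent.Helper4.LimImm.exists_isImmersion_pbMap D c hc i M.m (𝟙 _) v (𝟙 _)
        (c.π.app i) M.g IsPullback.of_id_snd M.pb)
  exact ⟨j, φ, M.reindex_of_stage_form @IsImmersion h1 h2 h3⟩

end qcqs

end Groth.Agent.Helper4.LimDesc
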