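import Mathlib
import Groth.Prelude
import Groth.Agent.Lib.Helper4.LimModelP

/-!
# Finite étale covers of a cofiltered limit (helper4)
-/

set_option autoImplicit false
universe u
open AlgebraicGeometry CategoryTheory CategoryTheory.Limits TopologicalSpace

namespace Groth.Agent.Helper4.LimFEt

open Groth.Agent.Helper4.LimDesc Groth.Agent.Helper4.LimCover Groth.Agent.Helper4.LimSm
  Groth.Agent.Helper4.LimSmRing

variable {I : Type u} [SmallCategory I] [IsCofiltered I] {D : I ⥤ Scheme.{u}} {c : Cone D}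
  [∀ {i j} (f : i ⟶ j), IsAffineHom (D.map f)]
  [∀ i, CompactSpace (D.obj i)] [∀ i, QuasiSeparatedSpace (D.obj i)]

set_option backward.isDefEq.respectTransparency false in
/-- every finite étale cover of the limit comes from a stage -/
theorem essSurj (hc : IsLimit c) (V : FEt.Cat c.pt) :
    ∃ (i : I) (Vi : FEt.Cat (D.obj i)), Nonempty ((FEt.restrict (c.π.app i)).obj Vi ≅ V) := by
  have hfin : IsFinite V.hom := V.prop.1
  have het : Etale V.hom := V.prop.2
  obtain ⟨i, ⟨M⟩⟩ := exists_model_top hc V.hom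
  obtain ⟨j₁, φ₁, h₁⟩ := exists_reindex_of hc nice_etale tensorDescends_etale M het
  obtain ⟨j₂, φ₂, h₂⟩ := (M.reindex φ₁).exists_reindex_isFinite hc
  have h₃ : Etale ((M.reindex φ₁).reindex φ₂).m := Model.reindex_m_of @Etale _ φ₂ h₁
  let M₂ := (M.reindex φ₁).reindex φ₂
  let Vi : FEt.Cat (D.obj j₂) := MorphismProperty.Over.mk ⊤ M₂.m ⟨h₂, h₃⟩
  refine ⟨j₂, Vi, ⟨MorphismProperty.Over.isoMk M₂.pb.isoPullback.symm ?_⟩⟩
  exact M₂.pb.isoPullback_inv_snd

set_option backward.isDefEq.respectTransparency false in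
/-- base change to the limit is "eventually faithful" -/
theorem faithful (hc : IsLimit c) (i : I) (Vi Wi : FEt.Cat (D.obj i)) (φ ψ : Vi ⟶ Wi)
    (h : (FEt.restrict (c.π.app i)).map φ = (FEt.restrict (c.π.app i)).map ψ) :
    ∃ (j : I) (a : j ⟶ i), (FEt.restrict (D.map a)).map φ = (FEt.restrict (D.map a)).map ψ := by
  let vi : Vi.left ⟶ D.obj i := Vi.hom
  let wi : Wi.left ⟶ D.obj i := Wi.hom
  have hVfin : IsFinite vi := Vi.prop.1
  have hWfin : IsFinite wi := Wi.prop.1
  have hcV : CompactSpace Vi.left := QuasiCompact.compactSpace_of_compactSpace vi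
  have h' := congrArg (fun t => t.left ≫ pullback.fst Wi.hom (c.π.app i)) h
  simp only [FEt.restrict, MorphismProperty.Over.pullback_map_left, pullback.lift_fst] at h'
  have e1 : φ.left ≫ wi = vi := MorphismProperty.Over.w φ
  have e2 : ψ.left ≫ wi = vi := MorphismProperty.Over.w ψ
  obtain ⟨j, a, hj⟩ := Groth.Agent.Helper4.LimHom.hom_eq_eventually D c hc i vi wi
    (pullback.fst vi (c.π.app i)) (pullback.snd vi (c.π.app i))
    (IsPullback.of_hasPullback vi (c.π.app i)) φ.left ψ.left e1 e2 h'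
  refine ⟨j, a, ?_⟩
  apply MorphismProperty.Over.Hom.ext
  simp only [FEt.restrict, MorphismProperty.Over.pullback_map_left]
  apply pullback.hom_ext
  · simp only [pullback.lift_fst]; exact hj
  · simp only [pullback.lift_snd]

end Groth.Agent.Helper4.LimFEt
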