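import Mathlib
import Groth.Prelude.Def_Disc

/-!
# Noether different for finite free algebras (helper4)

`psi ξ l = Σ l(xᵢ) yᵢ` for `ξ = Σ xᵢ ⊗ yᵢ`; injectivity, compatibility with the two `B`-actions,
and the description of the annihilator of the kernel of multiplication.
-/

open TensorProduct

namespace Groth.Agent.Helper4.DiscLib

variable {A B : Type*} [CommRing A] [CommRing B] [Algebra A B]

/-- `psi ξ l = Σ l(xᵢ) • yᵢ` for `ξ = Σ xᵢ ⊗ yᵢ`. -/
noncomputable def psi (ξ : B ⊗[A] B) (l : B →ₗ[A] A) : B :=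
  TensorProduct.lift ((LinearMap.lsmul A B).comp l) ξ

@[simp] lemma psi_tmul (x y : B) (l : B →ₗ[A] A) : psi (x ⊗ₜ[A] y) l = l x • y := by
  simp [psi]

lemma psi_add (ξ η : B ⊗[A] B) (l : B →ₗ[A] A) : psi (ξ + η) l = psi ξ l + psi η l := by
  simp [psi]

lemma psi_sub (ξ η : B ⊗[A] B) (l : B →ₗ[A] A) : psi (ξ - η) l = psi ξ l - psi η l := by
  simp [psi]

lemma psi_zero (l : B →ₗ[A] A) : psi (0 : B ⊗[A] B) l = 0 := by
  simp [psi]

lemma psi_sum {ι : Type*} (s : Finset ι) (ξ : ι → B ⊗[A] B) (l : B →ₗ[A] A) :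
    psi (∑ i ∈ s, ξ i) l = ∑ i ∈ s, psi (ξ i) l := by
  simp [psi]

lemma psi_one_tmul_mul (s : B) (ξ : B ⊗[A] B) (l : B →ₗ[A] A) :
    psi ((1 ⊗ₜ[A] s) * ξ) l = s * psi ξ l := by
  induction ξ with
  | zero => simp [psi_zero]
  | tmul x y => simp [Algebra.TensorProduct.tmul_mul_tmul, mul_smul_comm]
  | add x y hx hy => rw [mul_add, psi_add, psi_add, hx, hy, mul_add]

lemma psi_tmul_one_mul (s : B) (ξ : B ⊗[A] B) (l : B →ₗ[A] A) :
    psi ((s ⊗ₜ[A] 1) * ξ) l = psi ξ (l ∘ₗ LinearMap.mulLeft A s) := by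
  induction ξ with
  | zero => simp [psi_zero]
  | tmul x y => simp [Algebra.TensorProduct.tmul_mul_tmul]
  | add x y hx hy => rw [mul_add, psi_add, psi_add, hx, hy]

variable {ι : Type*} [Fintype ι] [DecidableEq ι]

lemma psi_sum_basis (b : Module.Basis ι A B) (c : ι → B) (l : B →ₗ[A] A) :
    psi (∑ i, b i ⊗ₜ[A] c i) l = ∑ i, l (b i) • c i := by
  simp [psi_sum]

lemma psi_coord (b : Module.Basis ι A B) (c : ι → B) (j : ι) :
    psi (∑ i, b i ⊗ₜ[A] c i) (b.coord j) = c j := by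
  rw [psi_sum_basis]
  simp [Finsupp.single_apply, Finset.sum_ite_eq]

lemma eq_zero_of_psi_eq_zero (b : Module.Basis ι A B) (ξ : B ⊗[A] B)
    (h : ∀ l : B →ₗ[A] A, psi ξ l = 0) : ξ = 0 := by
  obtain ⟨c, rfl⟩ := TensorProduct.eq_repr_basis_left b ξ
  rw [Finsupp.sum_fintype _ _ (by simp)] at h ⊢
  refine Finset.sum_eq_zero fun j _ => ?_
  have := h (b.coord j)
  rw [psi_coord] at this
  rw [this, tmul_zero]

lemma eq_of_psi_eq (b : Module.Basis ι A B) (ξ η : B ⊗[A] B)
    (h : ∀ l : B →ₗ[A] A, psi ξ l = psi η l) : ξ = η := by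
  rw [← sub_eq_zero]
  exact eq_zero_of_psi_eq_zero b _ fun l => by rw [psi_sub, h l, sub_self]

lemma mem_annihilator_iff (ξ : B ⊗[A] B) :
    ξ ∈ Submodule.annihilator (RingHom.ker (Algebra.TensorProduct.lmul' (S := B) A)) ↔
      ∀ s : B, ((1 : B) ⊗ₜ[A] s - s ⊗ₜ[A] (1 : B)) * ξ = 0 := by
  rw [Submodule.mem_annihilator]
  constructor
  · intro h s
    have := h _ (KaehlerDifferential.one_smul_sub_smul_one_mem_ideal A s)
    rw [smul_eq_mul] at this
    rw [mul_comm]; exact this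
  · intro h z hz
    have hz' : z ∈ KaehlerDifferential.ideal A B := hz
    rw [← KaehlerDifferential.span_range_eq_ideal] at hz'
    rw [smul_eq_mul]
    refine Submodule.span_induction ?_ ?_ ?_ ?_ hz'
    · rintro _ ⟨s, rfl⟩
      rw [mul_comm]; exact h s
    · simp
    · intro x y _ _ hx hy; rw [mul_add, hx, hy, add_zero]
    · intro a x _ hx; rw [smul_eq_mul, mul_left_comm, hx, mul_zero]

/-- `ξ` annihilates the kernel of multiplication iff `psi ξ` is `B`-linear. -/
lemma mem_annihilator_iff_psi (b : Module.Basis ι A B) (ξ : B ⊗[A] B) :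
    ξ ∈ Submodule.annihilator (RingHom.ker (Algebra.TensorProduct.lmul' (S := B) A)) ↔
      ∀ (s : B) (l : B →ₗ[A] A), psi ξ (l ∘ₗ LinearMap.mulLeft A s) = s * psi ξ l := by
  rw [mem_annihilator_iff]
  constructor
  · intro h s l
    have := h s
    rw [sub_mul, sub_eq_zero] at this
    rw [← psi_tmul_one_mul, ← psi_one_tmul_mul, this]
  · intro h s
    rw [sub_mul, sub_eq_zero]
    apply eq_of_psi_eq b
    intro l
    rw [psi_tmul_one_mul, psi_one_tmul_mul, h]

section More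

lemma psi_add_right (ξ : B ⊗[A] B) (l₁ l₂ : B →ₗ[A] A) :
    psi ξ (l₁ + l₂) = psi ξ l₁ + psi ξ l₂ := by
  induction ξ with
  | zero => simp [psi_zero]
  | tmul x y => simp [add_smul]
  | add x y hx hy => rw [psi_add, psi_add, psi_add, hx, hy]; abel

lemma psi_zero_right (ξ : B ⊗[A] B) : psi ξ (0 : B →ₗ[A] A) = 0 := by
  induction ξ with
  | zero => simp [psi_zero]
  | tmul x y => simp
  | add x y hx hy => rw [psi_add, hx, hy, add_zero]

lemma psi_sum_right {κ : Type*} (s : Finset κ) (ξ : B ⊗[A] B) (l : κ → (B →ₗ[A] A)) :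
    psi ξ (∑ i ∈ s, l i) = ∑ i ∈ s, psi ξ (l i) := by
  classical
  induction s using Finset.induction_on with
  | empty => simp [psi_zero_right]
  | insert a s ha ih => rw [Finset.sum_insert ha, Finset.sum_insert ha, psi_add_right, ih]

lemma lmul'_eq_psi_coord (b : Module.Basis ι A B) (ξ : B ⊗[A] B) :
    Algebra.TensorProduct.lmul' (S := B) A ξ = ∑ j, b j * psi ξ (b.coord j) := by
  obtain ⟨c, rfl⟩ := TensorProduct.eq_repr_basis_left b ξ
  rw [Finsupp.sum_fintype _ _ (by simp), map_sum]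
  refine Finset.sum_congr rfl fun j _ => ?_
  rw [psi_coord]
  simp

lemma trace_eq_sum_coord (b : Module.Basis ι A B) :
    Algebra.trace A B = ∑ j, (b.coord j) ∘ₗ LinearMap.mulLeft A (b j) := by
  ext z
  rw [Algebra.trace_eq_matrix_trace b, Matrix.trace]
  simp [Algebra.leftMulMatrix_eq_repr_mul, mul_comm]

/-- For `ξ` in the annihilator of the kernel of multiplication, `μ ξ = psi ξ Tr`. -/
lemma lmul'_eq_psi_trace (b : Module.Basis ι A B) (ξ : B ⊗[A] B)
    (hξ : ξ ∈ Submodule.annihilator (RingHom.ker (Algebra.TensorProduct.lmul' (S := B) A))) :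
    Algebra.TensorProduct.lmul' (S := B) A ξ = psi ξ (Algebra.trace A B) := by
  rw [lmul'_eq_psi_coord b, trace_eq_sum_coord b, psi_sum_right]
  refine Finset.sum_congr rfl fun j _ => ?_
  rw [(mem_annihilator_iff_psi b ξ).mp hξ]

/-- Every `B`-linear (through the argument) family `Φ'` is `psi ξ` for a unique `ξ` in the annihilator. -/
lemma exists_mem_annihilator_psi_eq (b : Module.Basis ι A B) (Φ' : (B →ₗ[A] A) →ₗ[A] B)
    (hlin : ∀ (s : B) (l : B →ₗ[A] A), Φ' (l ∘ₗ LinearMap.mulLeft A s) = s * Φ' l) :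
    ∃ ξ : B ⊗[A] B,
      ξ ∈ Submodule.annihilator (RingHom.ker (Algebra.TensorProduct.lmul' (S := B) A)) ∧
        ∀ l, Φ' l = psi ξ l := by
  let c : ι → B := fun i => Φ' (b.coord i)
  have hpsi : ∀ l : B →ₗ[A] A, Φ' l = psi (∑ i, b i ⊗ₜ[A] c i) l := by
    intro l
    rw [psi_sum_basis]
    conv_lhs => rw [← b.sum_dual_apply_smul_coord l, map_sum]
    simp only [map_smul, c]
  refine ⟨∑ i, b i ⊗ₜ[A] c i, ?_, hpsi⟩
  rw [mem_annihilator_iff_psi b]
  intro s l
  rw [← hpsi, ← hpsi, hlin]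

end More


section CH

/-- Cayley–Hamilton: if `r • I ≤ I ^ 2` for a finitely generated ideal `I` then `r ^ n + e` kills `I` for some `e ∈ I`. -/
theorem exists_pow_add_mem_annihilator {R : Type*} [CommRing R] (I : Ideal R) (hI : I.FG) (r : R)
    (h : ∀ z ∈ I, r * z ∈ I ^ 2) :
    ∃ (n : ℕ) (e : R), e ∈ I ∧ ∀ z ∈ I, (r ^ n + e) * z = 0 := by
  have : Module.Finite R I := Module.Finite.iff_fg.mpr hI
  let f : Module.End R I := LinearMap.lsmul R I r
  have hf : LinearMap.range f ≤ I • (⊤ : Submodule R I) := by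
    rintro _ ⟨z, rfl⟩
    rw [Submodule.mem_smul_top_iff]
    change r • (z : R) ∈ I • I
    rw [smul_eq_mul, ← sq]
    exact h z z.2
  obtain ⟨p, hpm, -, hpc, hp0⟩ :=
    LinearMap.exists_monic_and_natDegree_eq_and_coeff_mem_pow_and_aeval_eq_zero R f I hf
  have hξ : ∀ z ∈ I, (Polynomial.aeval r p) * z = 0 := by
    intro z hz
    have h1 : Polynomial.aeval f p = LinearMap.lsmul R I (Polynomial.aeval r p) := by
      have := Polynomial.aeval_algHom_apply (Algebra.lsmul R R I) r p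
      exact this
    have h2 := LinearMap.congr_fun hp0 ⟨z, hz⟩
    rw [h1] at h2
    exact congrArg Subtype.val h2
  refine ⟨p.natDegree, Polynomial.aeval r p - r ^ p.natDegree, ?_, fun z hz => by
    rw [add_sub_cancel]; exact hξ z hz⟩
  rw [Polynomial.aeval_def, Polynomial.eval₂_eq_sum_range, Finset.sum_range_succ, hpm.coeff_natDegree]
  simp only [Algebra.algebraMap_self, RingHom.id_apply, one_mul, add_sub_cancel_right]
  refine Ideal.sum_mem _ fun k hk => ?_
  refine Ideal.mul_mem_right _ _ ?_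
  have hk' : k < p.natDegree := Finset.mem_range.mp hk
  exact Ideal.pow_le_self (by omega) (hpc k)

end CH

end Groth.Agent.Helper4.DiscLib
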