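import Mathlib
import Groth.Agent.Lib.Helper13.FinPresAffine
import Groth.Agent.Lib.Helper13.EpiStalk
import Groth.Agent.Lib.Helper13.QCohKer

/-!
# Finite-presentation approximation on an affine scheme (helper4)

Toward `Mor.exists_finitePresentation_extension_of_module`: on an affine scheme `X`, for a
quasi-coherent `Q` which has finitely presented sections near every point of a quasi-compact open
`W`, we build a module `N` with a finite global presentation and a map `ν : N ⟶ Q` which is
bijective on all stalks at points of `W`.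
-/

set_option autoImplicit false
universe u
open CategoryTheory CategoryTheory.Limits AlgebraicGeometry Opposite TopologicalSpace
open Groth.Agent.Helper13.QCoh Groth.Agent.Helper13.FinType Groth.Agent.Helper13.LocFree
open Scheme.Modules

namespace Groth.Agent.Helper4.FPExt

variable {X : Scheme.{u}}

/-- pointwise: finitely presented sections on affine neighbourhoods inside `W`. -/
def FPOn (P : X.Modules) (W : X.Opens) : Prop :=
  ∀ x ∈ W, ∃ O : X.Opens, IsAffineOpen O ∧ x ∈ O ∧ O ≤ W ∧
    Module.FinitePresentation Γ(X, O) Γ(P, O)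

lemma stalkMap_comp_apply {F G H : X.Modules} (f : F ⟶ G) (g : G ⟶ H) (x : X)
    (m : F.presheaf.stalk x) :
    stalkMap (f ≫ g) x m = stalkMap g x (stalkMap f x m) := by
  obtain ⟨V, hyV, t, rfl⟩ := TopCat.Presheaf.exists_germ_eq F.presheaf m
  rw [stalkMap_germ, stalkMap_germ, stalkMap_germ]
  rfl

lemma stalkMap_zero_apply {F G : X.Modules} (x : X) (m : F.presheaf.stalk x) :
    stalkMap (0 : F ⟶ G) x m = 0 := by
  obtain ⟨V, hyV, t, rfl⟩ := TopCat.Presheaf.exists_germ_eq F.presheaf m
  rw [stalkMap_germ]
  have : (0 : F ⟶ G).app V t = 0 := rfl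
  rw [this, map_zero]

/-- The morphism `free I ⟶ N` determined by a family of sections over `⊤`. -/
noncomputable def freeDesc (N : X.Modules) {I : Type u} (s : I → Γ(N, ⊤)) :
    SheafOfModules.free (R := X.ringCatSheaf) I ⟶ N :=
  (SheafOfModules.freeHomEquiv N).symm (fun i => sectionsOfTop N (s i))

lemma freeDesc_app_freeSection (N : X.Modules) {I : Type u} (s : I → Γ(N, ⊤)) (i : I)
    (V : X.Opens) :
    Scheme.Modules.Hom.app (freeDesc N s) V
        (secOn (SheafOfModules.free (R := X.ringCatSheaf) I) (SheafOfModules.freeSection i) V) =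
      N.presheaf.map (homOfLE (le_top : V ≤ ⊤)).op (s i) := by
  have := SheafOfModules.sectionsMap_freeHomEquiv_symm_freeSection
    (fun i => sectionsOfTop N (s i)) i
  exact congrArg (fun σ : N.sections => secOn N σ V) this

lemma stalkMap_freeDesc_surjective (N : X.Modules) {I : Type u} (s : I → Γ(N, ⊤)) {U : X.Opens}
    (h : GenOn N U (resFam N s le_top)) (x : X) (hx : x ∈ U) :
    Function.Surjective (stalkMap (freeDesc N s) x) := by
  intro m
  have hm : m ∈ Submodule.span (X.presheaf.stalk x)
      (Set.range fun i => N.presheaf.germ U x hx (resFam N s le_top i)) := by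
    rw [h x hx]; trivial
  have hle : Submodule.span (X.presheaf.stalk x)
      (Set.range fun i => N.presheaf.germ U x hx (resFam N s le_top i)) ≤
      LinearMap.range (stalkLinearMap (freeDesc N s) x) := by
    rw [Submodule.span_le]
    rintro _ ⟨i, rfl⟩
    refine ⟨Scheme.Modules.presheaf (SheafOfModules.free (R := X.ringCatSheaf) I) |>.germ U x hx
      (secOn (SheafOfModules.free (R := X.ringCatSheaf) I) (SheafOfModules.freeSection i) U), ?_⟩
    rw [stalkLinearMap_apply, stalkMap_germ, freeDesc_app_freeSection]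
  obtain ⟨a, ha⟩ := hle hm
  exact ⟨a, ha⟩

/-- abstract stalkwise criterion: if `π` and `ρ : A ⟶ ker π` are surjective on the stalk at `x`,
then `coker (A ⟶ ker π ⟶ B) ⟶ Q` is bijective on the stalk at `x`. -/
lemma stalk_bijective_of_surjective {A B Q : X.Modules} (π : B ⟶ Q) (ρ : A ⟶ kernel π) (x : X)
    (hπ : Function.Surjective (stalkMap π x)) (hρ : Function.Surjective (stalkMap ρ x))
    (h0 : (ρ ≫ kernel.ι π) ≫ π = 0) :
    Function.Bijective (stalkMap (cokernel.desc (ρ ≫ kernel.ι π) π h0) x) := by
  have hπν : cokernel.π (ρ ≫ kernel.ι π) ≫ cokernel.desc (ρ ≫ kernel.ι π) π h0 = π :=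
    cokernel.π_desc _ _ _
  constructor
  · show Function.Injective (stalkLinearMap (cokernel.desc (ρ ≫ kernel.ι π) π h0) x)
    rw [injective_iff_map_eq_zero]
    intro c hc
    rw [stalkLinearMap_apply] at hc
    obtain ⟨b, rfl⟩ := stalkMap_surjective_of_epi (cokernel.π (ρ ≫ kernel.ι π)) x c
    have hb : stalkMap π x b = 0 := by
      rw [← hc, ← stalkMap_comp_apply, hπν]
    let S : ShortComplex X.Modules := ShortComplex.mk (kernel.ι π) π (kernel.condition π)
    have hS : S.Exact := ShortComplex.exact_of_f_is_kernel _ (kernelIsKernel π)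
    haveI : Mono S.f := inferInstanceAs (Mono (kernel.ι π))
    obtain ⟨k, hk⟩ := stalk_exact_of_exact_of_mono S hS x b hb
    obtain ⟨a, rfl⟩ := hρ k
    have h1 : stalkMap (cokernel.π (ρ ≫ kernel.ι π)) x b =
        stalkMap ((ρ ≫ kernel.ι π) ≫ cokernel.π (ρ ≫ kernel.ι π)) x a := by
      rw [stalkMap_comp_apply, stalkMap_comp_apply]
      exact congrArg _ hk.symm
    rw [h1, cokernel.condition, stalkMap_zero_apply]
  · intro q
    obtain ⟨b, rfl⟩ := hπ q
    exact ⟨stalkMap (cokernel.π (ρ ≫ kernel.ι π)) x b, by rw [← stalkMap_comp_apply, hπν]⟩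

end Groth.Agent.Helper4.FPExt
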