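import Mathlib
import Groth.Agent.Lib.Helper4.FPExt1

/-!
# Finite-presentation approximation on an affine scheme, part 2 (helper4)
-/

set_option autoImplicit false
universe u
open CategoryTheory CategoryTheory.Limits AlgebraicGeometry Opposite TopologicalSpace
open Groth.Agent.Helper13.QCoh Groth.Agent.Helper13.FinType Groth.Agent.Helper13.LocFree
open Scheme.Modules Groth.Agent.Helper13.QCohLocal

namespace Groth.Agent.Helper4.FPExt

variable {X : Scheme.{u}}

lemma comp_kernel_ι_comp {A B Q : X.Modules} (π : B ⟶ Q) (ρ : A ⟶ kernel π) :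
    (ρ ≫ kernel.ι π) ≫ π = 0 := by
  rw [Category.assoc, kernel.condition, comp_zero]

/-- If `free I ⟶ Q` (`I` finite) generates `Q` over an affine open `D` where `Γ(Q, D)` is finitely
presented, then `Γ(ker, D)` is a finite module. -/
lemma finite_sections_kernel (Q : X.Modules) [Q.IsQuasicoherent] {I : Type u} [Finite I]
    (s : I → Γ(Q, ⊤)) {D : X.Opens} (hD : IsAffineOpen D)
    (hgen : GenOn Q D (resFam Q s le_top))
    [Module.FinitePresentation Γ(X, D) Γ(Q, D)] :
    Module.Finite Γ(X, D) Γ((kernel (freeDesc Q s) : X.Modules), D) := by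
  let π : SheafOfModules.free (R := X.ringCatSheaf) I ⟶ Q := freeDesc Q s
  haveI := finitePresentation_sections_free (X := X) I D
  let φ : Γ(SheafOfModules.free (R := X.ringCatSheaf) I, D) →ₗ[Γ(X, D)] Γ(Q, D) :=
    appLinearMap π D
  have hsurj : Function.Surjective φ := by
    rw [← LinearMap.range_eq_top, eq_top_iff, ← span_eq_top_of_genOn Q hD _ hgen,
      Submodule.span_le]
    rintro _ ⟨i, rfl⟩
    exact ⟨secOn _ (SheafOfModules.freeSection i) D, freeDesc_app_freeSection Q s i D⟩
  have hkerfg : (LinearMap.ker φ).FG := Module.FinitePresentation.fg_ker φ hsurj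
  let K : X.Modules := kernel π
  let ψ : Γ(K, D) →ₗ[Γ(X, D)] Γ(SheafOfModules.free (R := X.ringCatSheaf) I, D) :=
    appLinearMap (kernel.ι π) D
  have hψinj : Function.Injective ψ := by
    have hmono : Mono (kernel.ι π : K ⟶ SheafOfModules.free (R := X.ringCatSheaf) I) :=
      inferInstanceAs (Mono (kernel.ι π))
    exact (mono_iff_app_injective
      (kernel.ι π : K ⟶ SheafOfModules.free (R := X.ringCatSheaf) I)).1 hmono D
  have hker : LinearMap.ker φ = LinearMap.range ψ := by
    apply le_antisymm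
    · intro t ht
      let T : ShortComplex X.Modules := ShortComplex.mk (kernel.ι π) π (kernel.condition π)
      have hT : T.Exact := ShortComplex.exact_of_f_is_kernel _ (kernelIsKernel π)
      haveI : Mono T.f := inferInstanceAs (Mono (kernel.ι π))
      obtain ⟨m, hm⟩ := app_exact_of_exact_of_mono T hT D t ht
      exact ⟨m, hm⟩
    · rintro _ ⟨m, rfl⟩
      have h0 : (kernel.ι π ≫ π : K ⟶ Q) = 0 := kernel.condition π
      have h1 := congrArg (fun θ : K ⟶ Q => Scheme.Modules.Hom.app θ D m) h0
      exact h1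
  have e : Γ(K, D) ≃ₗ[Γ(X, D)] LinearMap.range ψ := LinearEquiv.ofInjective ψ hψinj
  haveI : Module.Finite Γ(X, D) (LinearMap.range ψ) := by
    rw [← hker]
    exact Module.Finite.of_fg hkerfg
  exact Module.Finite.equiv e.symm

/-- On an affine scheme: finitely many basic opens on each of which `Q` has finite sections admit
a common finite family of global sections generating `Q` on each of them. -/
lemma exists_global_genOn [IsAffine X] (Q : X.Modules) [Q.IsQuasicoherent] {T : Type u} [Finite T]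
    (g : T → Γ(X, ⊤))
    (hfin : ∀ t, Module.Finite Γ(X, X.basicOpen (g t)) Γ(Q, X.basicOpen (g t))) :
    ∃ (I : Type u) (_ : Finite I) (s : I → Γ(Q, ⊤)),
      ∀ t, GenOn Q (X.basicOpen (g t)) (resFam Q s le_top) := by
  have key : ∀ t, ∃ (n : ℕ) (s : Fin n → Γ(Q, ⊤)),
      GenOn Q (X.basicOpen (g t)) (resFam Q s (X.basicOpen_le (g t))) := by
    intro t
    haveI := hfin t
    obtain ⟨n, s, hs⟩ := Module.Finite.exists_fin (R := Γ(X, X.basicOpen (g t)))
      (M := Γ(Q, X.basicOpen (g t)))
    have h1 : GenOn Q (X.basicOpen (g t)) s :=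
      genOn_of_span_eq_top Q ((isAffineOpen_top X).basicOpen (g t)) s hs
    obtain ⟨s', hs'⟩ := exists_genOn_lift Q (isAffineOpen_top X) (g t) s h1
    exact ⟨n, s', hs'⟩
  choose n s hs using key
  refine ⟨Σ t : T, ULift.{u} (Fin (n t)), inferInstance, fun p => s p.1 p.2.down, fun t => ?_⟩
  intro y hy
  rw [eq_top_iff, ← hs t y hy, Submodule.span_le]
  rintro _ ⟨i, rfl⟩
  exact Submodule.subset_span ⟨⟨t, ⟨i⟩⟩, rfl⟩

/-- **Affine approximation.** On an affine scheme, a quasi-coherent module which has finitely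
presented sections near every point of a quasi-compact open `W` receives a map from a module with a
finite global presentation which is bijective on the stalks at all points of `W`. -/
theorem exists_fp_approx_affine [IsAffine X] (Q : X.Modules) [Q.IsQuasicoherent] (W : X.Opens)
    (hW : IsCompact (W : Set X)) (hfp : FPOn Q W) :
    ∃ (N : X.Modules) (ν : N ⟶ Q) (P : SheafOfModules.Presentation N), P.IsFinite ∧
      ∀ x ∈ W, Function.Bijective (stalkMap ν x) := by
  classical
  have key : ∀ x : W, ∃ g : Γ(X, ⊤), (x : X) ∈ X.basicOpen g ∧ X.basicOpen g ≤ W ∧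
      Module.FinitePresentation Γ(X, X.basicOpen g) Γ(Q, X.basicOpen g) := by
    intro x
    obtain ⟨O, hO, hxO, hOW, hfpO⟩ := hfp x x.2
    obtain ⟨f, g, hfg, hxf⟩ :=
      exists_basicOpen_le_affine_inter hO (isAffineOpen_top X) (x : X) ⟨hxO, trivial⟩
    refine ⟨g, hfg ▸ hxf, hfg ▸ (X.basicOpen_le f).trans hOW, ?_⟩
    haveI := hfpO
    exact finitePresentation_congr Q hfg (finitePresentation_basicOpen Q hO f)
  choose g hxg hgW hgfp using key
  obtain ⟨T, hT⟩ := hW.elim_finite_subcover (fun x : W => (X.basicOpen (g x) : Set X))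
    (fun x => (X.basicOpen (g x)).2) (fun x hx => Set.mem_iUnion.2 ⟨⟨x, hx⟩, hxg ⟨x, hx⟩⟩)
  let T' : Type u := {x : W // x ∈ T}
  haveI : Finite T' := inferInstanceAs (Finite {x : W // x ∈ T})
  let g' : T' → Γ(X, ⊤) := fun t => g t.1
  have hfinQ : ∀ t : T', Module.Finite Γ(X, X.basicOpen (g' t)) Γ(Q, X.basicOpen (g' t)) := by
    intro t
    haveI := hgfp t.1
    infer_instance
  obtain ⟨I, hI, s, hs⟩ := exists_global_genOn Q g' hfinQ
  haveI := hI
  let π : SheafOfModules.free (R := X.ringCatSheaf) I ⟶ Q := freeDesc Q s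
  let K : X.Modules := kernel π
  haveI : (SheafOfModules.free (R := X.ringCatSheaf) I).IsQuasicoherent := inferInstance
  haveI : K.IsQuasicoherent := isQuasicoherent_kernel π
  have hfinK : ∀ t : T', Module.Finite Γ(X, X.basicOpen (g' t)) Γ(K, X.basicOpen (g' t)) := by
    intro t
    haveI := hgfp t.1
    exact finite_sections_kernel Q s ((isAffineOpen_top X).basicOpen (g' t)) (hs t)
  obtain ⟨J, hJ, r, hr⟩ := exists_global_genOn K g' hfinK
  haveI := hJ
  let ρ : SheafOfModules.free (R := X.ringCatSheaf) J ⟶ K := freeDesc K r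
  have h0 : (ρ ≫ kernel.ι π) ≫ π = 0 := comp_kernel_ι_comp π ρ
  let Pres : SheafOfModules.Presentation (cokernel (ρ ≫ kernel.ι π)) :=
    SheafOfModules.presentationOfIsCokernelFree (ρ ≫ kernel.ι π) (cokernel.π (ρ ≫ kernel.ι π))
      (cokernel.condition _) (cokernelIsCokernel _)
  refine ⟨cokernel (ρ ≫ kernel.ι π), cokernel.desc (ρ ≫ kernel.ι π) π h0, Pres, ?_, ?_⟩
  · exact { isFiniteType_generators := ⟨hI⟩, isFiniteType_relations := ⟨hJ⟩ }
  · intro x hx
    obtain ⟨t, htT, hxt⟩ : ∃ t : W, t ∈ T ∧ x ∈ X.basicOpen (g t) := by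
      have h1 := hT hx
      simp only [Set.mem_iUnion] at h1
      obtain ⟨t, htT, hxt⟩ := h1
      exact ⟨t, htT, hxt⟩
    have hπs := stalkMap_freeDesc_surjective Q s (hs ⟨t, htT⟩) x hxt
    have hρs := stalkMap_freeDesc_surjective K r (hr ⟨t, htT⟩) x hxt
    exact stalk_bijective_of_surjective π ρ x hπs hρs h0

end Groth.Agent.Helper4.FPExt
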