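import Mathlib
import Groth.Agent.Lib.Helper4.FPExt2
import Groth.Agent.Lib.Helper13.GenLocus
import Groth.Agent.Lib.Helper13.QCohFin
import Groth.Agent.Lib.Helper13.Qcqs
import Groth.Agent.Lib.Helper13.RestrictLim

/-!
# Gluing-free tower of finitely presented modifications (helper4)

For a quasi-coherent `P` on a quasi-separated scheme which is finitely presented near a
quasi-compact open `W`, and an affine open `V`, we construct `θ : P' ⟶ P` which is an isomorphism
over `W` and with `P'` finitely presented near `W ⊔ V`: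
`P' := P ×_{j_* j^* P} j_* N` with `N ⟶ j^* P` the affine approximation.  Iterating over a finite
affine cover gives a finitely presented `P'` with `θ` an isomorphism over `W`.
-/

set_option autoImplicit false
universe u
open CategoryTheory CategoryTheory.Limits AlgebraicGeometry Opposite TopologicalSpace
open Groth.Agent.Helper13.QCoh Groth.Agent.Helper13.FinType Groth.Agent.Helper13.LocFree
open Scheme.Modules Groth.Agent.Helper13.QCohLocal Groth.Agent.Helper13.GenLoc

namespace Groth.Agent.Helper4.FPExt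

variable {X : Scheme.{u}}

lemma isIso_app_of_isIso_restrict {M N : X.Modules} (θ : M ⟶ N) (W : X.Opens)
    [h : IsIso ((restrictFunctor W.ι).map θ)] {O : X.Opens} (hO : O ≤ W) : IsIso (θ.app O) := by
  have h1 : IsIso (((restrictFunctor W.ι).map θ).app (W.ι ⁻¹ᵁ O)) := inferInstance
  have e : W.ι ''ᵁ (W.ι ⁻¹ᵁ O) = O := by
    rw [Scheme.Hom.image_preimage_eq_opensRange_inf, Scheme.Opens.opensRange_ι]
    exact inf_eq_right.2 hO
  have h2 : IsIso (θ.app (W.ι ''ᵁ (W.ι ⁻¹ᵁ O))) := h1
  rw [e] at h2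
  exact h2

lemma isIso_restrict_of_isIso_app {M N : X.Modules} (θ : M ⟶ N) (W : X.Opens)
    (h : ∀ O : X.Opens, O ≤ W → IsIso (θ.app O)) : IsIso ((restrictFunctor W.ι).map θ) := by
  rw [Scheme.Modules.Hom.isIso_iff_isIso_app]
  intro O'
  have h1 : IsIso (θ.app (W.ι ''ᵁ O')) := h _ (Scheme.Opens.ι_image_le _ O')
  exact h1

lemma isIso_restrict_pushforward {Y : Scheme.{u}} (j : Y ⟶ X) {M N : Y.Modules} (ν : M ⟶ N)
    (W : X.Opens) [IsIso ((restrictFunctor (j ⁻¹ᵁ W).ι).map ν)] :
    IsIso ((restrictFunctor W.ι).map ((pushforward j).map ν)) := by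
  apply isIso_restrict_of_isIso_app
  intro O hO
  have h1 : IsIso (ν.app (j ⁻¹ᵁ O)) :=
    isIso_app_of_isIso_restrict ν (j ⁻¹ᵁ W) (j.preimage_mono hO)
  exact h1

lemma isCompact_preimage_ι [QuasiSeparatedSpace X] (U W : X.Opens) (hU : IsCompact (U : Set X))
    (hW : IsCompact (W : Set X)) : IsCompact ((U.ι ⁻¹ᵁ W : (U : Scheme.{u}).Opens) : Set U) := by
  have h1 : IsCompact ((U : Set X) ∩ (W : Set X)) :=
    QuasiSeparatedSpace.inter_isCompact _ _ U.2 hU W.2 hW
  have h2 : ((U.ι ⁻¹ᵁ W : (U : Scheme.{u}).Opens) : Set U) = U.ι ⁻¹' ((U : Set X) ∩ W) := by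
    ext y
    simp only [Scheme.Hom.coe_preimage, Set.mem_preimage, Set.mem_inter_iff, SetLike.mem_coe]
    constructor
    · intro h; exact ⟨y.2, h⟩
    · intro h; exact h.2
  rw [h2]
  refine (U.ι.isOpenEmbedding.isInducing.isCompact_preimage_iff ?_).2 h1
  rw [Scheme.Opens.range_ι]
  exact Set.inter_subset_left

lemma quasiCompact_ι_of_isCompact [QuasiSeparatedSpace X] (U : X.Opens)
    (hU : IsCompact (U : Set X)) : QuasiCompact U.ι := by
  rw [quasiCompact_iff_forall_isAffineOpen]
  intro O hO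
  exact isCompact_preimage_ι U O hU hO.isCompact

/-- **One step of the tower.** -/
theorem exists_step [QuasiSeparatedSpace X] (P : X.Modules) [P.IsQuasicoherent] (W : X.Opens)
    (hW : IsCompact (W : Set X)) (hfp : FPOn P W) (V : X.Opens) (hV : IsAffineOpen V) :
    ∃ (P' : X.Modules) (θ : P' ⟶ P), P'.IsQuasicoherent ∧
      IsIso ((restrictFunctor W.ι).map θ) ∧ FPOn P' (W ⊔ V) := by
  haveI : IsAffine (V : Scheme.{u}) := hV
  haveI : QuasiCompact V.ι := quasiCompact_ι_of_isCompact V hV.isCompact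
  let R := restrictFunctor V.ι
  let Pf := pushforward V.ι
  let adj := restrictAdjunction V.ι
  haveI : (R.obj P).IsQuasicoherent := inferInstance
  let W' : (V : Scheme.{u}).Opens := V.ι ⁻¹ᵁ W
  have hW' : IsCompact (W' : Set V) := isCompact_preimage_ι V W hV.isCompact hW
  have hfpQ : FPOn (R.obj P) W' := by
    intro y hy
    obtain ⟨O, hO, hxO, hOW, hfpO⟩ := hfp (V.ι y) hy
    obtain ⟨f, g, hfg, hxf⟩ := exists_basicOpen_le_affine_inter hO hV (V.ι y) ⟨hxO, y.2⟩
    have hDV : X.basicOpen g ≤ V := X.basicOpen_le g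
    have himg : V.ι ''ᵁ (V.ι ⁻¹ᵁ X.basicOpen g) = X.basicOpen g := by
      rw [Scheme.Hom.image_preimage_eq_opensRange_inf, Scheme.Opens.opensRange_ι]
      exact inf_eq_right.2 hDV
    have hDaff : IsAffineOpen (X.basicOpen g) := hV.basicOpen g
    have hO'aff : IsAffineOpen (V.ι ⁻¹ᵁ X.basicOpen g) := by
      rw [← V.ι.isAffineOpen_iff_of_isOpenImmersion, himg]
      exact hDaff
    refine ⟨V.ι ⁻¹ᵁ X.basicOpen g, hO'aff, ?_, ?_, ?_⟩
    · show V.ι y ∈ X.basicOpen g
      rw [← hfg]; exact hxf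
    · intro z hz
      have hz' : V.ι z ∈ X.basicOpen f := by rw [hfg]; exact hz
      exact hOW (X.basicOpen_le f hz')
    · rw [finitePresentation_restrict_iff]
      haveI := hfpO
      have h1 := finitePresentation_basicOpen P hO f
      exact finitePresentation_congr P (hfg.trans himg.symm) h1
  obtain ⟨N, ν, Pres, hPres, hν⟩ := exists_fp_approx_affine (R.obj P) W' hW' hfpQ
  haveI : N.IsQuasicoherent := Pres.isQuasicoherent
  haveI := hPres
  have hNfp : Module.FinitePresentation Γ(↑V, ⊤) Γ(N, ⊤) :=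
    finitePresentation_sections_of_presentation N Pres
  haveI hνiso : IsIso ((restrictFunctor W'.ι).map ν) := (isIso_restrict_iff ν W').2 hν
  let η : P ⟶ Pf.obj (R.obj P) := adj.unit.app P
  haveI : (Pf.obj (R.obj P)).IsQuasicoherent :=
    Groth.Agent.Helper13.Qcqs.isQuasicoherent_pushforward_of_qcqs V.ι (R.obj P)
  haveI : (Pf.obj N).IsQuasicoherent :=
    Groth.Agent.Helper13.Qcqs.isQuasicoherent_pushforward_of_qcqs V.ι N
  have hqc : (pullback η (Pf.map ν)).IsQuasicoherent :=
    Groth.Agent.Helper13.QCohFin.isQuasicoherent_pullback η (Pf.map ν)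
  have htri : R.map η ≫ adj.counit.app (R.obj P) = 𝟙 _ := adj.left_triangle_components P
  haveI : IsIso (adj.counit.app (R.obj P)) := inferInstance
  haveI : IsIso (R.map η) := by
    have : R.map η = inv (adj.counit.app (R.obj P)) := by
      rw [← cancel_mono (adj.counit.app (R.obj P)), htri, IsIso.inv_hom_id]
    rw [this]; infer_instance
  have hpb : IsPullback (R.map (pullback.fst η (Pf.map ν))) (R.map (pullback.snd η (Pf.map ν)))
      (R.map η) (R.map (Pf.map ν)) := (IsPullback.of_hasPullback η (Pf.map ν)).map R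
  haveI : IsIso (R.map (pullback.snd η (Pf.map ν))) := hpb.isIso_snd_of_isIso
  haveI : IsIso (adj.counit.app N) := inferInstance
  let e : (pullback η (Pf.map ν)).restrict V.ι ≅ N :=
    asIso (R.map (pullback.snd η (Pf.map ν))) ≪≫ asIso (adj.counit.app N)
  let RW := restrictFunctor W.ι
  haveI : IsIso (RW.map (Pf.map ν)) := isIso_restrict_pushforward V.ι ν W
  have hpbW : IsPullback (RW.map (pullback.fst η (Pf.map ν)))
      (RW.map (pullback.snd η (Pf.map ν))) (RW.map η) (RW.map (Pf.map ν)) :=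
    (IsPullback.of_hasPullback η (Pf.map ν)).map RW
  have hθ : IsIso (RW.map (pullback.fst η (Pf.map ν))) := hpbW.isIso_fst_of_isIso
  refine ⟨pullback η (Pf.map ν), pullback.fst _ _, hqc, hθ, ?_⟩
  intro x hx
  by_cases hxV : x ∈ V
  · refine ⟨V, hV, hxV, le_sup_right, ?_⟩
    rw [← finitePresentation_restrict_top_iff]
    haveI := hNfp
    exact Module.FinitePresentation.of_equiv (appLinearEquiv e ⊤).symm
  · have hxW : x ∈ W := (Opens.mem_sup.1 hx).resolve_right hxV
    obtain ⟨O, hO, hxO, hOW, hfpO⟩ := hfp x hxW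
    refine ⟨O, hO, hxO, hOW.trans le_sup_left, ?_⟩
    haveI := hθ
    have hiso : IsIso ((pullback.fst η (Pf.map ν)).app O) :=
      isIso_app_of_isIso_restrict (pullback.fst η (Pf.map ν)) W hOW
    haveI := hfpO
    have hbij : Function.Bijective (appLinearMap (pullback.fst η (Pf.map ν)) O) :=
      (ConcreteCategory.isIso_iff_bijective _).1 hiso
    exact Module.FinitePresentation.of_equiv (LinearEquiv.ofBijective _ hbij).symm

/-- **The tower.** -/
theorem exists_fp_tower [QuasiSeparatedSpace X] (S : X.Opens) (hS : IsCompact (S : Set X)) :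
    ∀ (P : X.Modules) [P.IsQuasicoherent] (W : X.Opens), IsCompact (W : Set X) → FPOn P W →
      ∃ (P' : X.Modules) (θ : P' ⟶ P), P'.IsQuasicoherent ∧
        IsIso ((restrictFunctor W.ι).map θ) ∧ FPOn P' (W ⊔ S) := by
  refine compact_open_induction_on (P := fun S => ∀ (P : X.Modules) [P.IsQuasicoherent]
    (W : X.Opens), IsCompact (W : Set X) → FPOn P W →
      ∃ (P' : X.Modules) (θ : P' ⟶ P), P'.IsQuasicoherent ∧
        IsIso ((restrictFunctor W.ι).map θ) ∧ FPOn P' (W ⊔ S)) S hS ?_ ?_
  · intro P _ W hW hfp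
    refine ⟨P, 𝟙 P, inferInstance, ?_, ?_⟩
    · rw [CategoryTheory.Functor.map_id]; infer_instance
    · rw [sup_bot_eq]; exact hfp
  · intro S hS U ih P _ W hW hfp
    obtain ⟨P₁, θ₁, hq₁, hi₁, hfp₁⟩ := ih P W hW hfp
    haveI := hq₁
    have hWS : IsCompact ((W ⊔ S : X.Opens) : Set X) := by
      rw [Opens.coe_sup]; exact hW.union hS
    obtain ⟨P₂, θ₂, hq₂, hi₂, hfp₂⟩ := exists_step P₁ (W ⊔ S) hWS hfp₁ U.1 U.2
    refine ⟨P₂, θ₂ ≫ θ₁, hq₂, ?_, ?_⟩
    · haveI h2 : IsIso ((restrictFunctor W.ι).map θ₂) := by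
        rw [isIso_restrict_iff] at hi₂ ⊢
        exact fun x hx => hi₂ x (Opens.mem_sup.2 (Or.inl hx))
      haveI := hi₁
      rw [CategoryTheory.Functor.map_comp]; infer_instance
    · rw [← sup_assoc]; exact hfp₂

/-- **Main modification theorem**: on a quasi-compact quasi-separated scheme, a quasi-coherent
module which is finitely presented near a quasi-compact open `W` receives a map from a finitely
presented module which is an isomorphism over `W`. -/
theorem exists_fp_modification [CompactSpace X] [QuasiSeparatedSpace X] (P : X.Modules)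
    [P.IsQuasicoherent] (W : X.Opens) (hW : IsCompact (W : Set X)) (hfp : FPOn P W) :
    ∃ (P' : X.Modules) (θ : P' ⟶ P),
      SheafOfModules.IsFinitePresentation (R := X.ringCatSheaf) P' ∧
        IsIso ((restrictFunctor W.ι).map θ) := by
  obtain ⟨P', θ, hq, hi, hfp'⟩ :=
    exists_fp_tower (⊤ : X.Opens) (by rw [Opens.coe_top]; exact isCompact_univ) P W hW hfp
  haveI := hq
  refine ⟨P', θ, ?_, hi⟩
  apply isFinitePresentation_of_finitePresentation_sections P'
  intro x
  obtain ⟨O, hO, hxO, -, hfpO⟩ := hfp' x (by rw [sup_top_eq]; trivial)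
  exact ⟨O, hO, hxO, hfpO⟩

/-- a module whose restriction to `U` is isomorphic to a finitely presented one is finitely
presented near `U`. -/
lemma fpOn_of_restrict_iso (H : X.Modules) (U : X.Opens) (G : (U : Scheme.{u}).Modules)
    [SheafOfModules.IsFinitePresentation (R := (U : Scheme.{u}).ringCatSheaf) G]
    (e : H.restrict U.ι ≅ G) : FPOn H U := by
  intro x hx
  obtain ⟨O', hO', hxO', hfpO'⟩ := exists_affine_finitePresentation_sections G ⟨x, hx⟩
  refine ⟨U.ι ''ᵁ O', hO'.image_of_isOpenImmersion U.ι, ⟨⟨x, hx⟩, hxO', rfl⟩,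
    Scheme.Opens.ι_image_le _ _, ?_⟩
  rw [← finitePresentation_restrict_iff]
  haveI := hfpO'
  exact Module.FinitePresentation.of_equiv (appLinearEquiv e O').symm

end Groth.Agent.Helper4.FPExt
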