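import Mathlib
import Groth.Agent.Lib.Helper4.FPExt3
import Groth.Agent.Lib.Helper13.AffSurj

/-!
# Finite presentation: biproducts, free modules, kernels and cokernels (helper4)
-/

set_option autoImplicit false
universe u
open CategoryTheory CategoryTheory.Limits AlgebraicGeometry Opposite TopologicalSpace
open Groth.Agent.Helper13.QCoh Groth.Agent.Helper13.FinType Groth.Agent.Helper13.LocFree
open Scheme.Modules Groth.Agent.Helper13.QCohLocal Groth.Agent.Helper13.GenLoc

namespace Groth.Agent.Helper4.FPExt

variable {X : Scheme.{u}}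

lemma comp_app_apply {M N P : X.Modules} (f : M ⟶ N) (g : N ⟶ P) (O : X.Opens) (m : Γ(M, O)) :
    (f ≫ g).app O m = g.app O (f.app O m) := rfl

lemma id_app_apply {M : X.Modules} (O : X.Opens) (m : Γ(M, O)) :
    Scheme.Modules.Hom.app (𝟙 M) O m = m := rfl

lemma add_app_apply {M N : X.Modules} (f g : M ⟶ N) (O : X.Opens) (m : Γ(M, O)) :
    (f + g).app O m = f.app O m + g.app O m := rfl

lemma zero_app_apply {M N : X.Modules} (O : X.Opens) (m : Γ(M, O)) :
    Scheme.Modules.Hom.app (0 : M ⟶ N) O m = 0 := rfl

/-- sections of a binary biproduct. -/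
noncomputable def biprodSecEquiv (A B : X.Modules) (O : X.Opens) :
    Γ(A ⊞ B, O) ≃ₗ[Γ(X, O)] (Γ(A, O) × Γ(B, O)) where
  toFun m := ((biprod.fst : A ⊞ B ⟶ A).app O m, (biprod.snd : A ⊞ B ⟶ B).app O m)
  map_add' a b := Prod.ext (map_add _ a b) (map_add _ a b)
  map_smul' r a := Prod.ext (Scheme.Modules.Hom.app_smul _ r a) (Scheme.Modules.Hom.app_smul _ r a)
  invFun p := (biprod.inl : A ⟶ A ⊞ B).app O p.1 + (biprod.inr : B ⟶ A ⊞ B).app O p.2
  left_inv m := by
    have h := congrArg (fun θ : A ⊞ B ⟶ A ⊞ B => Scheme.Modules.Hom.app θ O m)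
      (biprod.total (X := A) (Y := B))
    exact h
  right_inv p := by
    have h1 := congrArg (fun θ : A ⟶ A => Scheme.Modules.Hom.app θ O p.1)
      (biprod.inl_fst (X := A) (Y := B))
    have h2 := congrArg (fun θ : B ⟶ A => Scheme.Modules.Hom.app θ O p.2)
      (biprod.inr_fst (X := A) (Y := B))
    have h3 := congrArg (fun θ : A ⟶ B => Scheme.Modules.Hom.app θ O p.1)
      (biprod.inl_snd (X := A) (Y := B))
    have h4 := congrArg (fun θ : B ⟶ B => Scheme.Modules.Hom.app θ O p.2)
      (biprod.inr_snd (X := A) (Y := B))
    simp only [comp_app_apply, id_app_apply, zero_app_apply] at h1 h2 h3 h4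
    apply Prod.ext
    · show (biprod.fst : A ⊞ B ⟶ A).app O _ = p.1
      rw [map_add, h1, h2, add_zero]
    · show (biprod.snd : A ⊞ B ⟶ B).app O _ = p.2
      rw [map_add, h3, h4, zero_add]

theorem isFinitePresentation_biprod (A B : X.Modules)
    [hA : SheafOfModules.IsFinitePresentation (R := X.ringCatSheaf) A]
    [hB : SheafOfModules.IsFinitePresentation (R := X.ringCatSheaf) B] :
    SheafOfModules.IsFinitePresentation (R := X.ringCatSheaf) (A ⊞ B : X.Modules) := by
  haveI : A.IsQuasicoherent := inferInstance
  haveI : B.IsQuasicoherent := inferInstance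
  haveI : (A ⊞ B : X.Modules).IsQuasicoherent :=
    Groth.Agent.Helper13.QCohFin.isQuasicoherent_biprod A B
  rw [isFinitePresentation_iff_finitePresentation_sections]
  intro O hO
  haveI := finitePresentation_sections_of_isFinitePresentation A hO
  haveI := finitePresentation_sections_of_isFinitePresentation B hO
  exact Module.FinitePresentation.of_equiv (biprodSecEquiv A B O).symm

theorem isFinitePresentation_free (I : Type u) [Finite I] :
    SheafOfModules.IsFinitePresentation (R := X.ringCatSheaf)
      (SheafOfModules.free (R := X.ringCatSheaf) I) := by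
  haveI : (SheafOfModules.free (R := X.ringCatSheaf) I).IsQuasicoherent := inferInstance
  rw [isFinitePresentation_iff_finitePresentation_sections]
  intro O hO
  exact finitePresentation_sections_free I O

lemma kernel_ι_app_injective {G F : X.Modules} (π : G ⟶ F) (O : X.Opens) :
    Function.Injective (appLinearMap (kernel.ι π) O) := by
  have hmono : Mono (kernel.ι π) := inferInstance
  exact (mono_iff_app_injective (kernel.ι π)).1 hmono O

lemma range_kernel_ι_app {G F : X.Modules} (π : G ⟶ F) (O : X.Opens) :
    LinearMap.range (appLinearMap (kernel.ι π) O) = LinearMap.ker (appLinearMap π O) := by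
  apply le_antisymm
  · rintro _ ⟨m, rfl⟩
    have h0 : (kernel.ι π ≫ π) = 0 := kernel.condition π
    have h1 := congrArg (fun θ : kernel π ⟶ F => Scheme.Modules.Hom.app θ O m) h0
    exact h1
  · intro t ht
    let T : ShortComplex X.Modules := ShortComplex.mk (kernel.ι π) π (kernel.condition π)
    have hT : T.Exact := ShortComplex.exact_of_f_is_kernel _ (kernelIsKernel π)
    haveI : Mono T.f := inferInstanceAs (Mono (kernel.ι π))
    obtain ⟨m, hm⟩ := app_exact_of_exact_of_mono T hT O t ht
    exact ⟨m, hm⟩

/-- sections over an affine open of the kernel of an epimorphism from a module with finite sections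
onto a module with finitely presented sections form a finite module. -/
lemma finite_sections_kernel_of_epi {G F : X.Modules} [G.IsQuasicoherent] [F.IsQuasicoherent]
    (π : G ⟶ F) [Epi π] {O : X.Opens} (hO : IsAffineOpen O) [Module.Finite Γ(X, O) Γ(G, O)]
    [Module.FinitePresentation Γ(X, O) Γ(F, O)] :
    Module.Finite Γ(X, O) Γ((kernel π : X.Modules), O) := by
  have hsurj : Function.Surjective (appLinearMap π O) :=
    Groth.Agent.Helper13.AffSurj.surjective_app_of_epi π hO
  have hkerfg : (LinearMap.ker (appLinearMap π O)).FG :=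
    Module.FinitePresentation.fg_ker (appLinearMap π O) hsurj
  have e : Γ((kernel π : X.Modules), O) ≃ₗ[Γ(X, O)] LinearMap.range (appLinearMap (kernel.ι π) O) :=
    LinearEquiv.ofInjective _ (kernel_ι_app_injective π O)
  haveI : Module.Finite Γ(X, O) (LinearMap.range (appLinearMap (kernel.ι π) O)) := by
    rw [range_kernel_ι_app]
    exact Module.Finite.of_fg hkerfg
  exact Module.Finite.equiv e.symm

/-- the cokernel of a map from a quasi-coherent module with finite sections over affines to a
finitely presented module is finitely presented. -/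
theorem isFinitePresentation_cokernel {A B : X.Modules} [A.IsQuasicoherent]
    (hA : ∀ O : X.Opens, IsAffineOpen O → Module.Finite Γ(X, O) Γ(A, O))
    [hB : SheafOfModules.IsFinitePresentation (R := X.ringCatSheaf) B] (h : A ⟶ B) :
    SheafOfModules.IsFinitePresentation (R := X.ringCatSheaf) (cokernel h : X.Modules) := by
  haveI : B.IsQuasicoherent := inferInstance
  haveI : (cokernel h : X.Modules).IsQuasicoherent := isQuasicoherent_cokernel h
  rw [isFinitePresentation_iff_finitePresentation_sections]
  intro O hO
  haveI := finitePresentation_sections_of_isFinitePresentation B hO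
  haveI := hA O hO
  have hsurj : Function.Surjective (appLinearMap (cokernel.π h) O) :=
    Groth.Agent.Helper13.AffSurj.surjective_app_of_epi (cokernel.π h) hO
  refine Module.finitePresentation_of_surjective (appLinearMap (cokernel.π h) O) hsurj ?_
  haveI : (kernel (cokernel.π h) : X.Modules).IsQuasicoherent := isQuasicoherent_kernel _
  have hs2 : Function.Surjective (appLinearMap (Abelian.factorThruImage h) O) :=
    Groth.Agent.Helper13.AffSurj.surjective_app_of_epi (Abelian.factorThruImage h) hO
  have hrange : LinearMap.ker (appLinearMap (cokernel.π h) O) =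
      LinearMap.range (appLinearMap h O) := by
    rw [← range_kernel_ι_app]
    apply le_antisymm
    · rintro _ ⟨k, rfl⟩
      obtain ⟨a, rfl⟩ := hs2 k
      refine ⟨a, ?_⟩
      have h1 := congrArg (fun θ : A ⟶ B => Scheme.Modules.Hom.app θ O a) (Abelian.image.fac h)
      exact h1.symm
    · rintro _ ⟨a, rfl⟩
      refine ⟨appLinearMap (Abelian.factorThruImage h) O a, ?_⟩
      have h1 := congrArg (fun θ : A ⟶ B => Scheme.Modules.Hom.app θ O a) (Abelian.image.fac h)
      exact h1
  rw [hrange, LinearMap.range_eq_map]
  exact Submodule.FG.map _ Module.Finite.fg_top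

end Groth.Agent.Helper4.FPExt
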