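import Mathlib
import Groth.Agent.Lib.Helper4.FPExt4
import Groth.Agent.S2115

/-!
# Finite type quasi-coherent modules on qcqs schemes are quotients of finitely presented ones
(helper4)
-/

set_option autoImplicit false
universe u
open CategoryTheory CategoryTheory.Limits AlgebraicGeometry Opposite TopologicalSpace
open Groth.Agent.Helper13.QCoh Groth.Agent.Helper13.FinType Groth.Agent.Helper13.LocFree
open Scheme.Modules Groth.Agent.Helper13.QCohLocal Groth.Agent.Helper13.GenLoc

namespace Groth.Agent.Helper4.FPExt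

variable {X : Scheme.{u}}

lemma mem_range_app_congr {G P : X.Modules} (φ : G ⟶ P) {V V' : X.Opens} (h : V' = V)
    (s : Γ(P, V)) (hs : P.presheaf.map (eqToHom h).op s ∈ Set.range (φ.app V')) :
    s ∈ Set.range (φ.app V) := by
  subst h
  have h1 : P.presheaf.map (eqToHom (rfl : V' = V')).op s = s := by
    rw [eqToHom_refl]
    exact map_id_apply' P _ s
  rw [h1] at hs
  exact hs

/-- finitely many sections over an affine open are hit by a map from a finitely presented module. -/
theorem exists_fp_through_sections [CompactSpace X] [QuasiSeparatedSpace X] (P : X.Modules)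
    [P.IsQuasicoherent] {V : X.Opens} (hV : IsAffineOpen V) {I : Type u} [Finite I]
    (s : I → Γ(P, V)) :
    ∃ (G : X.Modules) (φ : G ⟶ P), SheafOfModules.IsFinitePresentation (R := X.ringCatSheaf) G ∧
      ∀ i, s i ∈ Set.range (φ.app V) := by
  have h : V.ι ''ᵁ ⊤ = V := Scheme.Opens.ι_image_top V
  let s' : I → Γ(P.restrict V.ι, ⊤) := fun i => P.presheaf.map (eqToHom h).op (s i)
  let ψ : (SheafOfModules.free (R := (V : Scheme.{u}).ringCatSheaf) I :
      (V : Scheme.{u}).Modules) ⟶ P.restrict V.ι := freeDesc (P.restrict V.ι) s'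
  have hfree : CohB1.IsFP (SheafOfModules.free (R := (V : Scheme.{u}).ringCatSheaf) I) :=
    isFinitePresentation_free (X := (V : Scheme.{u})) I
  obtain ⟨G', φ', e, hG', hcomm⟩ :=
    Groth.Agent.S2115.result X P ‹_› V hV.isCompact _ hfree ψ
  refine ⟨G', φ', hG', fun i => ?_⟩
  apply mem_range_app_congr φ' h
  refine ⟨e.inv.app ⊤ (secOn (SheafOfModules.free (R := (V : Scheme.{u}).ringCatSheaf) I)
    (SheafOfModules.freeSection i) ⊤), ?_⟩
  have h1 := congrArg (fun θ : G'.restrict V.ι ⟶ P.restrict V.ι =>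
    Scheme.Modules.Hom.app θ ⊤ (e.inv.app ⊤
      (secOn (SheafOfModules.free (R := (V : Scheme.{u}).ringCatSheaf) I)
        (SheafOfModules.freeSection i) ⊤))) hcomm
  have h2 : e.hom.app ⊤ (e.inv.app ⊤
      (secOn (SheafOfModules.free (R := (V : Scheme.{u}).ringCatSheaf) I)
        (SheafOfModules.freeSection i) ⊤)) =
      secOn (SheafOfModules.free (R := (V : Scheme.{u}).ringCatSheaf) I)
        (SheafOfModules.freeSection i) ⊤ := by
    have h3 := congrArg (fun θ : SheafOfModules.free (R := (V : Scheme.{u}).ringCatSheaf) I ⟶ _ =>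
      Scheme.Modules.Hom.app θ ⊤ (secOn (SheafOfModules.free (R := (V : Scheme.{u}).ringCatSheaf) I)
        (SheafOfModules.freeSection i) ⊤)) e.inv_hom_id
    exact h3
  have h4 : Scheme.Modules.Hom.app ψ ⊤ (secOn (SheafOfModules.free (R := (V : Scheme.{u}).ringCatSheaf) I)
      (SheafOfModules.freeSection i) ⊤) = s' i := by
    have h5 := freeDesc_app_freeSection (P.restrict V.ι) s' i ⊤
    rw [h5]
    exact map_id_apply' (P.restrict V.ι) _ (s' i)
  have h6 : (e.hom ≫ ψ).app ⊤ (e.inv.app ⊤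
      (secOn (SheafOfModules.free (R := (V : Scheme.{u}).ringCatSheaf) I)
        (SheafOfModules.freeSection i) ⊤)) = s' i := by
    rw [comp_app_apply, h2, h4]
  exact h1.symm.trans h6

lemma stalkMap_surjective_of_genOn_of_mem_range {G F : X.Modules} (φ : G ⟶ F) {V : X.Opens}
    {I : Type*} (s : I → Γ(F, V)) (hs : GenOn F V s) (hmem : ∀ i, s i ∈ Set.range (φ.app V))
    (x : X) (hx : x ∈ V) : Function.Surjective (stalkMap φ x) := by
  intro m
  have hm : m ∈ Submodule.span (X.presheaf.stalk x)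
      (Set.range fun i => F.presheaf.germ V x hx (s i)) := by
    rw [hs x hx]; trivial
  have hle : Submodule.span (X.presheaf.stalk x)
      (Set.range fun i => F.presheaf.germ V x hx (s i)) ≤
      LinearMap.range (stalkLinearMap φ x) := by
    rw [Submodule.span_le]
    rintro _ ⟨i, rfl⟩
    obtain ⟨b, hb⟩ := hmem i
    refine ⟨G.presheaf.germ V x hx b, ?_⟩
    rw [stalkLinearMap_apply, stalkMap_germ, hb]
  obtain ⟨a, ha⟩ := hle hm
  exact ⟨a, ha⟩

lemma stalkMap_desc_surjective_left {G₁ G₂ F : X.Modules} (φ₁ : G₁ ⟶ F) (φ₂ : G₂ ⟶ F) (x : X)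
    (h : Function.Surjective (stalkMap φ₁ x)) :
    Function.Surjective (stalkMap (biprod.desc φ₁ φ₂) x) := by
  intro m
  obtain ⟨a, rfl⟩ := h m
  refine ⟨stalkMap (biprod.inl : G₁ ⟶ G₁ ⊞ G₂) x a, ?_⟩
  rw [← stalkMap_comp_apply, biprod.inl_desc]

lemma stalkMap_desc_surjective_right {G₁ G₂ F : X.Modules} (φ₁ : G₁ ⟶ F) (φ₂ : G₂ ⟶ F) (x : X)
    (h : Function.Surjective (stalkMap φ₂ x)) :
    Function.Surjective (stalkMap (biprod.desc φ₁ φ₂) x) := by
  intro m
  obtain ⟨a, rfl⟩ := h m
  refine ⟨stalkMap (biprod.inr : G₂ ⟶ G₁ ⊞ G₂) x a, ?_⟩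
  rw [← stalkMap_comp_apply, biprod.inr_desc]

/-- **(Q)** On a quasi-compact quasi-separated scheme every quasi-coherent module of finite type is
a quotient of a finitely presented module. -/
theorem exists_fp_epi [CompactSpace X] [QuasiSeparatedSpace X] (F : X.Modules)
    [F.IsQuasicoherent] [SheafOfModules.IsFiniteType (R := X.ringCatSheaf) F] :
    ∃ (G : X.Modules) (φ : G ⟶ F),
      SheafOfModules.IsFinitePresentation (R := X.ringCatSheaf) G ∧ Epi φ := by
  have key : ∀ (S : X.Opens), IsCompact (S : Set X) → ∃ (G : X.Modules) (φ : G ⟶ F),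
      SheafOfModules.IsFinitePresentation (R := X.ringCatSheaf) G ∧
        ∀ x ∈ S, Function.Surjective (stalkMap φ x) := by
    intro S hS
    refine compact_open_induction_on (P := fun S => ∃ (G : X.Modules) (φ : G ⟶ F),
      SheafOfModules.IsFinitePresentation (R := X.ringCatSheaf) G ∧
        ∀ x ∈ S, Function.Surjective (stalkMap φ x)) S hS ?_ ?_
    · refine ⟨SheafOfModules.free (R := X.ringCatSheaf) (PEmpty.{u+1}), 0,
        isFinitePresentation_free _, ?_⟩
      intro x hx
      exact (hx : x ∈ (⊥ : X.Opens)).elim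
    · rintro S hS U ⟨G₁, φ₁, hG₁, hφ₁⟩
      obtain ⟨I, hI, s, hs⟩ := exists_finite_genOn_of_isFiniteType F U.2
      haveI := hI
      obtain ⟨G₂, φ₂, hG₂, hφ₂⟩ := exists_fp_through_sections F U.2 s
      haveI := hG₁
      haveI := hG₂
      refine ⟨(G₁ ⊞ G₂ : X.Modules), biprod.desc φ₁ φ₂, isFinitePresentation_biprod G₁ G₂, ?_⟩
      intro x hx
      rcases Opens.mem_sup.1 hx with hxS | hxU
      · exact stalkMap_desc_surjective_left φ₁ φ₂ x (hφ₁ x hxS)
      · exact stalkMap_desc_surjective_right φ₁ φ₂ x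
          (stalkMap_surjective_of_genOn_of_mem_range φ₂ s hs hφ₂ x hxU)
  obtain ⟨G, φ, hG, hφ⟩ := key ⊤ (by rw [Opens.coe_top]; exact isCompact_univ)
  exact ⟨G, φ, hG, epi_of_stalkMap_surjective φ (fun y => hφ y trivial)⟩

end Groth.Agent.Helper4.FPExt
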