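import Mathlib
import Groth.Agent.Lib.Helper4.FPExt5
import Groth.Agent.S10848

/-!
# Finitely presented surjections which are isomorphisms over an open (helper4)
-/

set_option autoImplicit false
universe u
open CategoryTheory CategoryTheory.Limits AlgebraicGeometry Opposite TopologicalSpace
open Groth.Agent.Helper13.QCoh Groth.Agent.Helper13.FinType Groth.Agent.Helper13.LocFree
open Scheme.Modules Groth.Agent.Helper13.QCohLocal Groth.Agent.Helper13.GenLoc
open Groth.Agent.Helper13.LocTransfer

namespace Groth.Agent.Helper4.FPExt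

variable {X : Scheme.{u}}

theorem finite_restrict_of_finite {Y : Scheme.{u}} (f : Y ⟶ X) [IsOpenImmersion f] (M : X.Modules)
    (W' : Y.Opens) [h : Module.Finite Γ(X, f ''ᵁ W') Γ(M, f ''ᵁ W')] :
    Module.Finite Γ(Y, W') Γ(M.restrict f, W') := by
  letI := modRestrict f M W'
  have h2 : Module.Finite Γ(Y, W') Γ(M, f ''ᵁ W') := by
    refine finite_of_ringEquiv (f.appIso W').commRingCatIsoToRingEquiv.symm (fun c x => ?_)
    have h3 := modRestrict_smul f M W' ((f.appIso W').commRingCatIsoToRingEquiv.symm c) x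
    have h4 : (f.appIso W').hom ((f.appIso W').commRingCatIsoToRingEquiv.symm c) = c :=
      (f.appIso W').commRingCatIsoToRingEquiv.apply_symm_apply c
    rw [h4] at h3
    exact h3.symm
  exact h2

/-- the restriction to `U` of the kernel of an epimorphism from a finitely presented module onto a
quasi-coherent module which is finitely presented over `U` is of finite type. -/
theorem isFiniteType_restrict_kernel {G F : X.Modules}
    [hG : SheafOfModules.IsFinitePresentation (R := X.ringCatSheaf) G] [F.IsQuasicoherent]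
    (π : G ⟶ F) [Epi π] (U : X.Opens)
    [hFU : SheafOfModules.IsFinitePresentation (R := (U : Scheme.{u}).ringCatSheaf)
      (F.restrict U.ι)] :
    SheafOfModules.IsFiniteType (R := (U : Scheme.{u}).ringCatSheaf)
      ((kernel π : X.Modules).restrict U.ι) := by
  haveI : G.IsQuasicoherent := inferInstance
  haveI : (kernel π : X.Modules).IsQuasicoherent := isQuasicoherent_kernel π
  haveI : ((kernel π : X.Modules).restrict U.ι).IsQuasicoherent := inferInstance
  haveI : (F.restrict U.ι).IsQuasicoherent := inferInstance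
  apply isFiniteType_of_finite_sections
  intro x
  obtain ⟨_, ⟨O', hO', rfl⟩, hxO', -⟩ :=
    (U : Scheme.{u}).isBasis_affineOpens.exists_subset_of_mem_open (Set.mem_univ x) isOpen_univ
  have hO'a : IsAffineOpen O' := hO'
  refine ⟨O', hxO', hO'a, ?_⟩
  have hO : IsAffineOpen (U.ι ''ᵁ O') := hO'a.image_of_isOpenImmersion U.ι
  haveI : Module.FinitePresentation Γ(X, U.ι ''ᵁ O') Γ(G, U.ι ''ᵁ O') :=
    finitePresentation_sections_of_isFinitePresentation G hO
  haveI : Module.FinitePresentation Γ(X, U.ι ''ᵁ O') Γ(F, U.ι ''ᵁ O') :=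
    (finitePresentation_restrict_iff U.ι F O').1
      (finitePresentation_sections_of_isFinitePresentation (F.restrict U.ι) hO'a)
  haveI : Module.Finite Γ(X, U.ι ''ᵁ O') Γ((kernel π : X.Modules), U.ι ''ᵁ O') :=
    finite_sections_kernel_of_epi π hO
  exact finite_restrict_of_finite U.ι (kernel π : X.Modules) O'

/-- **S9820 core.** -/
theorem exists_fp_epi_iso_on [CompactSpace X] [QuasiSeparatedSpace X] (F : X.Modules)
    [F.IsQuasicoherent] [SheafOfModules.IsFiniteType (R := X.ringCatSheaf) F] (U : X.Opens)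
    (hU : IsCompact (U : Set X))
    [hFU : SheafOfModules.IsFinitePresentation (R := (U : Scheme.{u}).ringCatSheaf)
      (F.restrict U.ι)] :
    ∃ (G : X.Modules) (φ : G ⟶ F),
      SheafOfModules.IsFinitePresentation (R := X.ringCatSheaf) G ∧ Epi φ ∧
        IsIso ((restrictFunctor U.ι).map φ) := by
  obtain ⟨G₁, π₁, hG₁, hπ₁⟩ := exists_fp_epi F
  haveI := hG₁
  haveI := hπ₁
  haveI : G₁.IsQuasicoherent := inferInstance
  haveI hKq : (kernel π₁ : X.Modules).IsQuasicoherent := isQuasicoherent_kernel π₁
  haveI : ((kernel π₁ : X.Modules).restrict U.ι).IsQuasicoherent := inferInstance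
  have hKft : CohB1.IsFT ((kernel π₁ : X.Modules).restrict U.ι) :=
    isFiniteType_restrict_kernel π₁ U
  obtain ⟨K', i, e, hmono, hK'q, hK'ft, hcomm⟩ :=
    @Groth.Agent.S10848.result X _ _ U hU (kernel π₁ : X.Modules) hKq
      ((kernel π₁ : X.Modules).restrict U.ι) ‹_› hKft (𝟙 _) inferInstance
  haveI : K'.IsQuasicoherent := hK'q
  haveI : SheafOfModules.IsFiniteType (R := X.ringCatSheaf) K' := hK'ft
  have hiso : IsIso ((restrictFunctor U.ι).map i) := by
    rw [← hcomm, Category.comp_id]
    infer_instance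
  have h0 : (i ≫ kernel.ι π₁) ≫ π₁ = 0 := comp_kernel_ι_comp π₁ i
  have hGfp : SheafOfModules.IsFinitePresentation (R := X.ringCatSheaf)
      (cokernel (i ≫ kernel.ι π₁) : X.Modules) :=
    isFinitePresentation_cokernel (fun O hO => finite_sections_of_isFiniteType K' hO)
      (i ≫ kernel.ι π₁)
  refine ⟨cokernel (i ≫ kernel.ι π₁), cokernel.desc (i ≫ kernel.ι π₁) π₁ h0, hGfp, ?_, ?_⟩
  · have hfac : cokernel.π (i ≫ kernel.ι π₁) ≫ cokernel.desc (i ≫ kernel.ι π₁) π₁ h0 = π₁ :=
      cokernel.π_desc _ _ _
    exact epi_of_epi_fac hfac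
  · rw [isIso_restrict_iff]
    intro x hx
    have hi : Function.Surjective (stalkMap i x) :=
      ((isIso_restrict_iff i U).1 hiso x hx).2
    exact stalk_bijective_of_surjective π₁ i x (stalkMap_surjective_of_epi π₁ x) hi h0

end Groth.Agent.Helper4.FPExt
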