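import Mathlib
import Groth.Agent.Lib.Helper4.FPExt6
import Groth.Agent.Lib.Helper13.FTColim

/-!
# A finite type quasi-coherent module on a qcqs scheme is a directed colimit of finitely presented
modules with surjective transition maps (helper4)
-/

set_option autoImplicit false
universe u
open CategoryTheory CategoryTheory.Limits AlgebraicGeometry Opposite TopologicalSpace
open Groth.Agent.Helper13.QCoh Groth.Agent.Helper13.FinType Groth.Agent.Helper13.LocFree
open Scheme.Modules Groth.Agent.Helper13.QCohLocal Groth.Agent.Helper13.GenLoc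
open Groth.Agent.Helper13.FTColim Groth.Agent.Helper13.FTSubPoset

namespace Groth.Agent.Helper4.FPExt

variable {X : Scheme.{u}}

/-- the finite type quasi-coherent subsheaves of a quasi-coherent module on a qcqs scheme are
jointly epimorphic. -/
theorem eq_zero_of_subι_comp [CompactSpace X] [QuasiSeparatedSpace X] (K : X.Modules)
    [K.IsQuasicoherent] {T : X.Modules} (h : K ⟶ T) (hh : ∀ j : JJ K, subι K j ≫ h = 0) :
    h = 0 := by
  apply hom_ext_stalk
  intro x m
  obtain ⟨V, hxV, t, rfl⟩ := TopCat.Presheaf.exists_germ_eq K.presheaf m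
  obtain ⟨_, ⟨V', hV', rfl⟩, hxV', hV'V⟩ := X.isBasis_affineOpens.exists_subset_of_mem_open
    hxV V.2
  have hV'a : IsAffineOpen V' := hV'
  have hle : V' ≤ V := hV'V
  have e1 : K.presheaf.germ V x hxV t =
      K.presheaf.germ V' x hxV' (K.presheaf.map (homOfLE hle).op t) :=
    (TopCat.Presheaf.germ_res_apply K.presheaf (homOfLE hle) x hxV' t).symm
  rw [e1, stalkMap_germ, stalkMap_germ]
  obtain ⟨G', hG', ht⟩ := exists_isFTSub_mem (G := K) V' hV'a.isCompact
    (K.presheaf.map (homOfLE hle).op t)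
  obtain ⟨s, hs⟩ := exists_of_mem K G' hG'.choose V' _ ht
  have h1 : h.app V' (K.presheaf.map (homOfLE hle).op t) = 0 := by
    rw [← hs]
    have h2 := congrArg (fun θ : sub K ⟨G', hG'⟩ ⟶ T => Scheme.Modules.Hom.app θ V' s)
      (hh ⟨G', hG'⟩)
    exact h2
  rw [h1]
  rfl

section Colim

variable [CompactSpace X] [QuasiSeparatedSpace X] {K G F : X.Modules} (i : K ⟶ G) (π : G ⟶ F)

/-- the map `K_j ⟶ K ⟶ G` -/
noncomputable def rel (j : JJ K) : sub K j ⟶ G :=
  subι K j ≫ i

lemma incl_rel {j k : JJ K} (h : j ≤ k) :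
    incl K h ≫ rel i k = rel i j := by
  unfold rel
  rw [← Category.assoc, incl_ι]

lemma rel_comp (w : i ≫ π = 0) (j : JJ K) : rel i j ≫ π = 0 := by
  unfold rel
  rw [Category.assoc, w, comp_zero]

/-- the diagram of quotients `G / K_j` -/
noncomputable def quotD : JJ K ⥤ X.Modules where
  obj j := cokernel (rel i j)
  map {j k} f := cokernel.map (rel i j) (rel i k) (incl K (leOfHom f)) (𝟙 G)
    (by rw [Category.comp_id, incl_rel])
  map_id j := by
    apply coequalizer.hom_ext
    simp
  map_comp f g := by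
    apply coequalizer.hom_ext
    simp

lemma π_quotD_map {j k : JJ K} (f : j ⟶ k) :
    cokernel.π (rel i j) ≫ (quotD i).map f = cokernel.π (rel i k) := by
  unfold quotD
  simp

/-- the cocone of the quotients over `F` -/
noncomputable def quotι (w : i ≫ π = 0) : quotD i ⟶ (Functor.const _).obj F where
  app j := cokernel.desc (rel i j) π (rel_comp i π w j)
  naturality j k f := by
    apply coequalizer.hom_ext
    simp [quotD]

lemma π_quotι (w : i ≫ π = 0) (j : JJ K) :
    cokernel.π (rel i j) ≫ (quotι i π w).app j = π := by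
  unfold quotι
  simp

lemma epi_quotD_map {j k : JJ K} (f : j ⟶ k) : Epi ((quotD i).map f) := by
  have h : Epi (cokernel.π (rel i k)) := inferInstance
  exact @epi_of_epi_fac _ _ _ _ _ (cokernel.π (rel i j)) ((quotD i).map f)
    (cokernel.π (rel i k)) h (π_quotD_map i f)

variable [K.IsQuasicoherent]

/-- `F` is the colimit of the quotients `G / K_j`. -/
noncomputable def isColimitQuot (w : i ≫ π = 0) (hc : IsColimit (CokernelCofork.ofπ π w)) :
    IsColimit (Cocone.mk F (quotι i π w)) := by
  -- the induced map from `G`, independent of the index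
  have hind : ∀ (s : Cocone (quotD i)) (j k : JJ K),
      cokernel.π (rel i j) ≫ s.ι.app j = cokernel.π (rel i k) ≫ s.ι.app k := by
    intro s j k
    obtain ⟨l, hjl, hkl⟩ := (inferInstance : IsDirected (JJ K) (· ≤ ·)).directed j k
    have h1 : cokernel.π (rel i j) ≫ s.ι.app j = cokernel.π (rel i l) ≫ s.ι.app l :=
      (congrArg (fun t => cokernel.π (rel i j) ≫ t) (s.w (homOfLE hjl)).symm).trans
        ((Category.assoc _ _ _).symm.trans
          (congrArg (fun t => t ≫ s.ι.app l) (π_quotD_map i (homOfLE hjl))))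
    have h2 : cokernel.π (rel i k) ≫ s.ι.app k = cokernel.π (rel i l) ≫ s.ι.app l :=
      (congrArg (fun t => cokernel.π (rel i k) ≫ t) (s.w (homOfLE hkl)).symm).trans
        ((Category.assoc _ _ _).symm.trans
          (congrArg (fun t => t ≫ s.ι.app l) (π_quotD_map i (homOfLE hkl))))
    exact h1.trans h2.symm
  let j₀ : JJ K := Classical.arbitrary _
  have hker : ∀ (s : Cocone (quotD i)),
      i ≫ (cokernel.π (rel i j₀) ≫ s.ι.app j₀) = 0 := by
    intro s
    apply eq_zero_of_subι_comp
    intro j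
    rw [hind s j₀ j, ← Category.assoc, ← Category.assoc]
    have : (subι K j ≫ i) ≫ cokernel.π (rel i j) = 0 :=
      cokernel.condition (rel i j)
    rw [this, zero_comp]
  refine
    { desc := fun s => hc.desc (CokernelCofork.ofπ (cokernel.π (rel i j₀) ≫ s.ι.app j₀) (hker s))
      fac := fun s j => ?_
      uniq := fun s m hm => ?_ }
  · have hE : Epi (cokernel.π (rel i j)) := inferInstance
    have h1 : cokernel.π (rel i j) ≫ ((quotι i π w).app j ≫
        hc.desc (CokernelCofork.ofπ (cokernel.π (rel i j₀) ≫ s.ι.app j₀) (hker s))) =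
        cokernel.π (rel i j) ≫ s.ι.app j :=
      (Category.assoc _ _ _).symm.trans
        ((congrArg (fun t => t ≫ hc.desc (CokernelCofork.ofπ
          (cokernel.π (rel i j₀) ≫ s.ι.app j₀) (hker s))) (π_quotι i π w j)).trans
        ((Cofork.IsColimit.π_desc hc).trans (hind s j₀ j)))
    exact (cancel_epi (cokernel.π (rel i j))).1 h1
  · refine Cofork.IsColimit.hom_ext hc ?_
    have h3 : cokernel.π (rel i j₀) ≫ ((quotι i π w).app j₀ ≫ m) =
        cokernel.π (rel i j₀) ≫ s.ι.app j₀ :=
      congrArg (fun t => cokernel.π (rel i j₀) ≫ t) (hm j₀)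
    have h4 : π ≫ m = cokernel.π (rel i j₀) ≫ ((quotι i π w).app j₀ ≫ m) :=
      (congrArg (fun t => t ≫ m) (π_quotι i π w j₀)).symm.trans (Category.assoc _ _ _)
    have h5 : π ≫ hc.desc (CokernelCofork.ofπ (cokernel.π (rel i j₀) ≫ s.ι.app j₀) (hker s)) =
        cokernel.π (rel i j₀) ≫ s.ι.app j₀ :=
      Cofork.IsColimit.π_desc hc
    exact (h4.trans h3).trans h5.symm

end Colim

/-- **S9828 core** -/
theorem exists_directed_colimit_fp [CompactSpace X] [QuasiSeparatedSpace X] (F : X.Modules)
    [F.IsQuasicoherent] [SheafOfModules.IsFiniteType (R := X.ringCatSheaf) F] :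
    ∃ (J : Type u) (_ : PartialOrder J) (_ : IsDirected J (· ≤ ·)) (_ : Nonempty J)
      (D : J ⥤ X.Modules) (ι : D ⟶ (Functor.const J).obj F),
      Nonempty (IsColimit (Cocone.mk F ι)) ∧
      (∀ j, SheafOfModules.IsFinitePresentation (R := X.ringCatSheaf) (D.obj j)) ∧
      ∀ (j j' : J) (h : j ⟶ j'), Epi (D.map h) := by
  obtain ⟨G, π, hG, hπ⟩ := exists_fp_epi F
  haveI := hG
  haveI := hπ
  haveI : G.IsQuasicoherent := inferInstance
  obtain ⟨K, i, w, ⟨hc⟩, hK⟩ : ∃ (K : X.Modules) (i : K ⟶ G) (w : i ≫ π = 0),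
      Nonempty (IsColimit (CokernelCofork.ofπ π w)) ∧ K.IsQuasicoherent :=
    ⟨kernel π, kernel.ι π, kernel.condition π,
      ⟨Abelian.epiIsCokernelOfKernel (KernelFork.ofι (kernel.ι π) (kernel.condition π))
        (kernelIsKernel π)⟩, isQuasicoherent_kernel π⟩
  haveI := hK
  refine ⟨JJ K, inferInstance, inferInstance, inferInstance, quotD i, quotι i π w,
    ⟨isColimitQuot i π w hc⟩, ?_, ?_⟩
  · intro j
    haveI : (sub K j).IsQuasicoherent := sub_isQuasicoherent _ j
    haveI : SheafOfModules.IsFiniteType (R := X.ringCatSheaf) (sub K j) :=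
      sub_isFiniteType _ j
    exact isFinitePresentation_cokernel
      (fun O hO => finite_sections_of_isFiniteType (sub K j) hO) (rel i j)
  · intro j j' h
    exact epi_quotD_map i h

end Groth.Agent.Helper4.FPExt
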