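import Mathlib
import Groth.Agent.Lib.Helper4.FPExt9
import Groth.Agent.S6840

/-!
# A quasi-coherent module on a qcqs scheme is a filtered colimit of finitely presented modules
(helper4), S2128
-/

set_option autoImplicit false
universe u
open CategoryTheory CategoryTheory.Limits AlgebraicGeometry Opposite TopologicalSpace
open Groth.Agent.Helper13.QCoh Groth.Agent.Helper13.FinType Groth.Agent.Helper13.LocFree
open Scheme.Modules Groth.Agent.Helper13.QCohLocal Groth.Agent.Helper13.GenLoc
open Groth.Agent.Helper13.FTColim Groth.Agent.Helper13.FTSubPoset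

namespace Groth.Agent.Helper4.FPExt

variable {X : Scheme.{u}}

/-- open covers of a qcqs scheme are refined by finite affine covers with quasi-compact
intersections. -/
lemma cover_refine [CompactSpace X] [QuasiSeparatedSpace X] (ι : Type u) (V : ι → Opens X)
    (hV : iSup V = ⊤) :
    ∃ (J : Type u) (_ : Finite J) (U : J → Opens X), iSup U = ⊤ ∧ (∀ j, ∃ i, U j ≤ V i) ∧
      ∀ j j', IsCompact ((U j ⊓ U j' : Opens X) : Set X) := by
  have h1 : ∀ x : X, ∃ W : X.Opens, IsAffineOpen W ∧ x ∈ W ∧ ∃ i, W ≤ V i := by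
    intro x
    have hx : x ∈ (iSup V : Opens X) := by rw [hV]; trivial
    obtain ⟨i, hi⟩ := Opens.mem_iSup.1 hx
    obtain ⟨_, ⟨W, hW, rfl⟩, hxW, hWV⟩ :=
      X.isBasis_affineOpens.exists_subset_of_mem_open hi (V i).2
    exact ⟨W, hW, hxW, i, hWV⟩
  choose W hWa hxW hWV using h1
  obtain ⟨t, ht⟩ := isCompact_univ.elim_finite_subcover (fun x => (W x : Set X))
    (fun x => (W x).2) (fun x _ => Set.mem_iUnion.2 ⟨x, hxW x⟩)
  refine ⟨{x // x ∈ t}, inferInstance, fun j => W j.1, ?_, fun j => hWV j.1, fun j j' => ?_⟩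
  · rw [eq_top_iff]
    intro x _
    obtain ⟨y, hy⟩ := Set.mem_iUnion.1 (ht (Set.mem_univ x))
    obtain ⟨hyt, hxy⟩ := Set.mem_iUnion.1 hy
    exact Opens.mem_iSup.2 ⟨⟨y, hyt⟩, hxy⟩
  · exact QuasiSeparatedSpace.inter_isCompact _ _ (W j.1).2 (hWa j.1).isCompact (W j'.1).2
      (hWa j'.1).isCompact

/-- a map from a finitely presented module to a directed colimit factors through a stage. -/
theorem exists_factor_of_isColimit [CompactSpace X] [QuasiSeparatedSpace X] {J : Type u}
    [Preorder J] [Nonempty J] [IsDirected J (· ≤ ·)] (D : J ⥤ X.Modules) (c : Cocone D)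
    (hc : IsColimit c) (P : X.Modules)
    [SheafOfModules.IsFinitePresentation (R := X.ringCatSheaf) P] (p : P ⟶ c.pt) :
    ∃ (j : J) (q : P ⟶ D.obj j), q ≫ c.ι.app j = p := by
  haveI : PreservesColimit D (coyoneda.obj (op P)) :=
    Groth.Agent.S6840.result (X := X.toTopCat) X.sheaf cover_refine D P
  have hc' := isColimitOfPreserves (coyoneda.obj (op P)) hc
  obtain ⟨j, q, hq⟩ := Types.jointly_surjective_of_isColimit hc' p
  exact ⟨j, q, hq⟩


/-- a map from a finite type quasi-coherent module factors through a finite type quasi-coherent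
subsheaf. -/
theorem exists_factor_sub {P F : X.Modules} [P.IsQuasicoherent]
    [SheafOfModules.IsFiniteType (R := X.ringCatSheaf) P] [F.IsQuasicoherent] (p : P ⟶ F) :
    ∃ (j : JJ F) (p' : P ⟶ sub F j), p' ≫ subι F j = p := by
  haveI : (cokernel p : X.Modules).IsQuasicoherent := isQuasicoherent_cokernel p
  let Q : X.Modules := Abelian.image p
  let ψ : Q ⟶ F := Abelian.image.ι p
  let e : P ⟶ Q := Abelian.factorThruImage p
  haveI : Mono ψ := inferInstanceAs (Mono (Abelian.image.ι p))
  haveI : Epi e := inferInstanceAs (Epi (Abelian.factorThruImage p))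
  haveI : Q.IsQuasicoherent := isQuasicoherent_kernel (cokernel.π p)
  haveI : SheafOfModules.IsFiniteType (R := X.ringCatSheaf) Q := isFiniteType_of_epi e
  have hfac : e ≫ ψ = p := Abelian.image.fac p
  let j : JJ F := ⟨imgSub ψ, isFTSub_imgSub ψ⟩
  have hmem : ∀ (V : X.Opens) (m : Γ(P, V)), p.app V m ∈ j.1.obj (op V) := by
    intro V m
    refine ⟨e.app V m, ?_⟩
    exact congr(($hfac).app V m)
  exact ⟨j, subsheafLift F j.1 j.2.choose p hmem, subsheafLift_ι F j.1 j.2.choose p hmem⟩

/-- chosen finite presentations of the finite type quasi-coherent subsheaves of `F`. -/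
structure ApproxData (F : X.Modules) where
  G : JJ F → X.Modules
  π : ∀ j, G j ⟶ sub F j
  fp : ∀ j, SheafOfModules.IsFinitePresentation (R := X.ringCatSheaf) (G j)
  epi : ∀ j, Epi (π j)
  K : JJ F → X.Modules
  i : ∀ j, K j ⟶ G j
  w : ∀ j, i j ≫ π j = 0
  hc : ∀ j, IsColimit (CokernelCofork.ofπ (π j) (w j))
  qc : ∀ j, (K j).IsQuasicoherent
  exact : ∀ (j : JJ F) (U : X.Opens) (g : Γ(G j, U)), (π j).app U g = 0 →
    ∃ κ : Γ(K j, U), (i j).app U κ = g

theorem nonempty_approxData [CompactSpace X] [QuasiSeparatedSpace X] (F : X.Modules)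
    [F.IsQuasicoherent] : Nonempty (ApproxData F) := by
  have h : ∀ j : JJ F, ∃ (G : X.Modules) (π : G ⟶ sub F j),
      SheafOfModules.IsFinitePresentation (R := X.ringCatSheaf) G ∧ Epi π := by
    intro j
    haveI := sub_isQuasicoherent F j
    haveI := sub_isFiniteType F j
    exact exists_fp_epi (sub F j)
  choose G π hfp hepi using h
  refine ⟨{ G := G, π := π, fp := hfp, epi := hepi, K := fun j => kernel (π j),
            i := fun j => kernel.ι (π j), w := fun j => kernel.condition (π j),
            hc := fun j => ?_, qc := fun j => ?_, exact := fun j U g hg => ?_ }⟩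
  · haveI := hepi j
    exact Abelian.epiIsCokernelOfKernel (KernelFork.ofι (kernel.ι (π j)) (kernel.condition (π j)))
      (kernelIsKernel (π j))
  · haveI := hfp j
    haveI : (G j).IsQuasicoherent := inferInstance
    haveI := sub_isQuasicoherent F j
    exact isQuasicoherent_kernel (π j)
  · have h1 : g ∈ LinearMap.ker (appLinearMap (π j) U) := hg
    rw [← range_kernel_ι_app] at h1
    obtain ⟨κ, hκ⟩ := h1
    exact ⟨κ, hκ⟩

section Index

variable [CompactSpace X] [QuasiSeparatedSpace X] {F : X.Modules} (d : ApproxData F)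

/-- the index set -/
structure Idx : Type u where
  j : JJ F
  k : JJ (d.K j)

/-- the finitely presented module attached to an index -/
noncomputable def obj (c : Idx d) : X.Modules := cokernel (rel (d.i c.j) c.k)

/-- the projection from `G_j` -/
noncomputable def proj (c : Idx d) : d.G c.j ⟶ obj d c := cokernel.π (rel (d.i c.j) c.k)

instance (c : Idx d) : Epi (proj d c) := inferInstanceAs (Epi (cokernel.π (rel (d.i c.j) c.k)))

/-- the map to the subsheaf `F_j` -/
noncomputable def qmap (c : Idx d) : obj d c ⟶ sub F c.j :=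
  cokernel.desc (rel (d.i c.j) c.k) (d.π c.j) (rel_comp (d.i c.j) (d.π c.j) (d.w c.j) c.k)

lemma proj_qmap (c : Idx d) : proj d c ≫ qmap d c = d.π c.j :=
  cokernel.π_desc _ _ _

/-- the map to `F` -/
noncomputable def toF (c : Idx d) : obj d c ⟶ F := qmap d c ≫ subι F c.j

lemma proj_toF (c : Idx d) : proj d c ≫ toF d c = d.π c.j ≫ subι F c.j := by
  unfold toF
  rw [← Category.assoc, proj_qmap]

/-- morphisms of the index category: morphisms over `F` -/
@[ext] structure IHom (c c' : Idx d) where
  hom : obj d c ⟶ obj d c'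
  w : hom ≫ toF d c' = toF d c

noncomputable instance : SmallCategory (Idx d) where
  Hom := IHom d
  id c := ⟨𝟙 _, Category.id_comp _⟩
  comp f g := ⟨f.hom ≫ g.hom, by rw [Category.assoc, g.w, f.w]⟩
  id_comp f := IHom.ext (Category.id_comp _)
  comp_id f := IHom.ext (Category.comp_id _)
  assoc f g h := IHom.ext (Category.assoc _ _ _)

/-- the diagram -/
noncomputable def diag : Idx d ⥤ X.Modules where
  obj c := obj d c
  map f := f.hom
  map_id _ := rfl
  map_comp _ _ := rfl

/-- the cocone -/
noncomputable def cocone : Cocone (diag d) where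
  pt := F
  ι :=
    { app := fun c => toF d c
      naturality := fun c c' f => (f.w).trans (Category.comp_id _).symm }

instance obj_fp (c : Idx d) :
    SheafOfModules.IsFinitePresentation (R := X.ringCatSheaf) (obj d c) := by
  haveI := d.qc c.j
  haveI : (sub (d.K c.j) c.k).IsQuasicoherent := sub_isQuasicoherent _ c.k
  haveI : SheafOfModules.IsFiniteType (R := X.ringCatSheaf) (sub (d.K c.j) c.k) :=
    sub_isFiniteType _ c.k
  haveI := d.fp c.j
  exact isFinitePresentation_cokernel
    (fun O hO => finite_sections_of_isFiniteType (sub (d.K c.j) c.k) hO) (rel (d.i c.j) c.k)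

variable [F.IsQuasicoherent]

/-- every map from a finitely presented module to `F` lifts to a member of the family. -/
theorem exists_lift (P : X.Modules) [SheafOfModules.IsFinitePresentation (R := X.ringCatSheaf) P]
    (p : P ⟶ F) : ∃ (c : Idx d) (q : P ⟶ obj d c), q ≫ toF d c = p := by
  haveI : P.IsQuasicoherent := inferInstance
  obtain ⟨j, p', hp'⟩ := exists_factor_sub p
  haveI := d.qc j
  obtain ⟨k, q, hq⟩ := exists_factor_of_isColimit (quotD (d.i j))
    (Cocone.mk (sub F j) (quotι (d.i j) (d.π j) (d.w j)))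
    (isColimitQuot (d.i j) (d.π j) (d.w j) (d.hc j)) P p'
  refine ⟨⟨j, k⟩, q, ?_⟩
  have hq' : q ≫ qmap d ⟨j, k⟩ = p' := hq
  exact (Category.assoc _ _ _).symm.trans ((congrArg (fun t => t ≫ subι F j) hq').trans hp')

instance : Nonempty (Idx d) := by
  obtain ⟨j⟩ := (inferInstance : Nonempty (JJ F))
  haveI := d.qc j
  obtain ⟨k⟩ := (inferInstance : Nonempty (JJ (d.K j)))
  exact ⟨⟨j, k⟩⟩

instance : IsFiltered (Idx d) where
  cocone_objs c c' := by
    haveI := isFinitePresentation_biprod (obj d c) (obj d c')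
    obtain ⟨c'', q, hq⟩ := exists_lift d (obj d c ⊞ obj d c' : X.Modules)
      (biprod.desc (toF d c) (toF d c'))
    exact ⟨c'', ⟨biprod.inl ≫ q, by rw [Category.assoc, hq, biprod.inl_desc]⟩,
      ⟨biprod.inr ≫ q, by rw [Category.assoc, hq, biprod.inr_desc]⟩, trivial⟩
  cocone_maps c c' f g := by
    have hδ : (f.hom - g.hom) ≫ toF d c' = 0 := by
      rw [Preadditive.sub_comp, f.w, g.w, sub_self]
    haveI : (obj d c).IsQuasicoherent := inferInstance
    haveI := isFinitePresentation_cokernel
      (fun O hO => finite_sections_of_isFiniteType (obj d c) hO) (f.hom - g.hom)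
    obtain ⟨c'', q, hq⟩ := exists_lift d (cokernel (f.hom - g.hom) : X.Modules)
      (cokernel.desc (f.hom - g.hom) (toF d c') hδ)
    refine ⟨c'', ⟨cokernel.π (f.hom - g.hom) ≫ q, by rw [Category.assoc, hq, cokernel.π_desc]⟩, ?_⟩
    apply IHom.ext
    show f.hom ≫ cokernel.π (f.hom - g.hom) ≫ q = g.hom ≫ cokernel.π (f.hom - g.hom) ≫ q
    have h0 : (f.hom - g.hom) ≫ cokernel.π (f.hom - g.hom) = 0 := cokernel.condition _
    rw [← Category.assoc, ← Category.assoc, ← sub_eq_zero, ← Preadditive.sub_comp,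
      ← Preadditive.sub_comp, h0, zero_comp]

/-- the cocone is a colimit cocone. -/
theorem isColimit_cocone : Nonempty (IsColimit (cocone d)) := by
  let T := SheafOfModules.toSheaf X.ringCatSheaf
  haveI : PreservesColimitsOfSize.{u, u} T := inferInstance
  haveI : T.ReflectsIsomorphisms := inferInstance
  haveI : ReflectsColimitsOfShape (Idx d) T := reflectsColimitsOfShape_of_reflectsIsomorphisms
  haveI : PrespectralSpace X.toTopCat := inferInstanceAs (PrespectralSpace X)
  haveI : QuasiSeparatedSpace X.toTopCat := inferInstanceAs (QuasiSeparatedSpace X)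
  have key : Nonempty (IsColimit (T.mapCocone (cocone d))) := by
    refine Groth.Agent.Helper13.ColimCrit.isColimit_of_basis (X := X.toTopCat) (diag d ⋙ T)
      (T.mapCocone (cocone d)) (X.affineOpens : Set X.Opens) X.isBasis_affineOpens ?_ ?_ ?_
    · intro U hU
      exact ⟨IsAffineOpen.isCompact hU,
        Groth.Agent.Helper13.ColimSec.qSep_of_quasiSeparatedSpace U⟩
    · intro U hU t
      have hUa : IsAffineOpen U := hU
      obtain ⟨G', hG', ht⟩ := exists_isFTSub_mem (G := F) U hUa.isCompact t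
      obtain ⟨s, hs⟩ := exists_of_mem F G' hG'.choose U t ht
      let j : JJ F := ⟨G', hG'⟩
      haveI := d.fp j
      haveI : (d.G j).IsQuasicoherent := inferInstance
      haveI := sub_isQuasicoherent F j
      haveI := d.epi j
      obtain ⟨g, hg⟩ := Groth.Agent.Helper13.AffSurj.surjective_app_of_epi (d.π j) hUa s
      haveI := d.qc j
      obtain ⟨k₀⟩ := (inferInstance : Nonempty (JJ (d.K j)))
      have e2 : (toF d ⟨j, k₀⟩).app U ((proj d ⟨j, k₀⟩).app U g) =
          (subι F j).app U ((d.π j).app U g) :=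
        congr(($(proj_toF d ⟨j, k₀⟩)).app U g)
      refine ⟨⟨j, k₀⟩, (proj d ⟨j, k₀⟩).app U g, ?_⟩
      exact e2.trans ((congrArg ((subι F j).app U) hg).trans hs)
    · intro U hU c s hs
      have hUa : IsAffineOpen U := hU
      obtain ⟨j, k⟩ := c
      haveI := d.fp j
      haveI : (d.G j).IsQuasicoherent := inferInstance
      haveI := sub_isQuasicoherent F j
      haveI := d.qc j
      haveI : (obj d ⟨j, k⟩).IsQuasicoherent := inferInstance
      obtain ⟨g, rfl⟩ := Groth.Agent.Helper13.AffSurj.surjective_app_of_epi (proj d ⟨j, k⟩) hUa s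
      have e2 : (toF d ⟨j, k⟩).app U ((proj d ⟨j, k⟩).app U g) =
          (subι F j).app U ((d.π j).app U g) :=
        congr(($(proj_toF d ⟨j, k⟩)).app U g)
      have hs' : (toF d ⟨j, k⟩).app U ((proj d ⟨j, k⟩).app U g) = 0 := hs
      have h1 : (subι F j).app U ((d.π j).app U g) = (subι F j).app U 0 :=
        (e2.symm.trans hs').trans (map_zero _).symm
      have h2 : (d.π j).app U g = 0 := subsheafι_app_injective F j.1 j.2.choose U h1
      obtain ⟨κ, hκ⟩ := d.exact j U g h2
      obtain ⟨K', hK', hκK'⟩ := exists_isFTSub_mem (G := d.K j) U hUa.isCompact κ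
      obtain ⟨k₂, hk, hk'⟩ :=
        (inferInstance : IsDirected (JJ (d.K j)) (· ≤ ·)).directed k ⟨K', hK'⟩
      have hκ2 : κ ∈ k₂.1.obj (op U) := (PresheafOfModules.Submodule.le_iff.1 hk' (op U)) hκK'
      obtain ⟨κ', hκ'⟩ := exists_of_mem (d.K j) k₂.1 k₂.2.choose U κ hκ2
      have e3 : proj d ⟨j, k⟩ ≫ (quotD (d.i j)).map (homOfLE hk) = proj d ⟨j, k₂⟩ :=
        π_quotD_map (d.i j) (homOfLE hk)
      have hw : (quotD (d.i j)).map (homOfLE hk) ≫ toF d ⟨j, k₂⟩ = toF d ⟨j, k⟩ := by
        have a1 : proj d ⟨j, k⟩ ≫ ((quotD (d.i j)).map (homOfLE hk) ≫ toF d ⟨j, k₂⟩) =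
            proj d ⟨j, k⟩ ≫ toF d ⟨j, k⟩ :=
          (Category.assoc _ _ _).symm.trans ((congrArg (fun t => t ≫ toF d ⟨j, k₂⟩) e3).trans
            ((proj_toF d ⟨j, k₂⟩).trans (proj_toF d ⟨j, k⟩).symm))
        exact (cancel_epi (proj d ⟨j, k⟩)).1 a1
      refine ⟨⟨j, k₂⟩, ⟨(quotD (d.i j)).map (homOfLE hk), hw⟩, ?_⟩
      have e4 : ((quotD (d.i j)).map (homOfLE hk)).app U ((proj d ⟨j, k⟩).app U g) =
          (proj d ⟨j, k₂⟩).app U g := congr(($e3).app U g)
      have e5 : rel (d.i j) k₂ ≫ proj d ⟨j, k₂⟩ = 0 := cokernel.condition _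
      have e6 : (proj d ⟨j, k₂⟩).app U ((rel (d.i j) k₂).app U κ') = 0 :=
        congr(($e5).app U κ')
      have e7 : (rel (d.i j) k₂).app U κ' = g :=
        (congrArg ((d.i j).app U) hκ').trans hκ
      exact e4.trans ((congrArg ((proj d ⟨j, k₂⟩).app U) e7.symm).trans e6)
  obtain ⟨h⟩ := key
  exact ⟨isColimitOfReflects T h⟩

end Index

/-- **S2128 core**: a quasi-coherent module on a qcqs scheme is a filtered colimit of finitely
presented modules. -/
theorem exists_filtered_colimit_fp [CompactSpace X] [QuasiSeparatedSpace X] (F : X.Modules)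
    [F.IsQuasicoherent] :
    ∃ (I : Type u) (_ : SmallCategory I) (_ : IsFiltered I) (D : I ⥤ X.Modules) (c : Cocone D)
      (_ : IsColimit c),
      (∀ i, SheafOfModules.IsFinitePresentation (R := X.ringCatSheaf) (D.obj i)) ∧ c.pt = F := by
  obtain ⟨d⟩ := nonempty_approxData F
  obtain ⟨h⟩ := isColimit_cocone d
  exact ⟨Idx d, inferInstance, inferInstance, diag d, cocone d, h, fun i => obj_fp d i, rfl⟩

end Groth.Agent.Helper4.FPExt
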