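import Mathlib
import Groth.Agent.Lib.Helper4.FPExt10
import Groth.Agent.Lib.Lead.ZClos5
import Groth.Agent.Lib.Helper6.QcohLocal
import Groth.Prelude.Def_QCohCat

/-!
# Finitely presentable objects of `QCoh(X)` on a qcqs scheme are the finitely presented modules
(helper4), S2214
-/

set_option autoImplicit false
universe u
open CategoryTheory CategoryTheory.Limits AlgebraicGeometry Opposite TopologicalSpace
open Groth.Agent.Helper13.QCoh Groth.Agent.Helper13.FinType Groth.Agent.Helper13.LocFree
open Scheme.Modules Groth.Agent.Helper13.QCohLocal Groth.Agent.Helper13.GenLoc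
open Groth.Agent.Lead.ZClos1

namespace Groth.Agent.Helper4.FPExt

variable {X : Scheme.{u}}

section Colim

variable [QuasiSeparatedSpace X] {J : Type u} [SmallCategory J] [IsFiltered J]
  (D : J ⥤ X.Modules)

theorem qSep_qs (V : X.Opens) : Groth.Agent.Helper13.ColimSec.QSep (X := X.toTopCat) V := by
  haveI : QuasiSeparatedSpace X.toTopCat := inferInstanceAs (QuasiSeparatedSpace X)
  exact Groth.Agent.Helper13.ColimSec.qSep_of_quasiSeparatedSpace V

/-- sections of a filtered colimit over a quasi-compact open come from some stage. -/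
theorem exists_rep_colim_qs (V : X.Opens) (hV : IsCompact (V : Set X)) (s : Γ(colimit D, V)) :
    ∃ (j : J) (a : Γ(D.obj j, V)), (colimit.ι D j).app V a = s := by
  haveI := preservesColimit_secF D V hV (qSep_qs V)
  have hc := isColimitOfPreserves (secF V) (colimit.isColimit D)
  obtain ⟨j, a, ha⟩ := Concrete.isColimit_exists_rep (D ⋙ secF V) hc s
  exact ⟨j, a, ha⟩

/-- a section killed in the filtered colimit is killed at some later stage. -/
theorem exists_of_colim_eq_zero_qs (V : X.Opens) (hV : IsCompact (V : Set X)) (j : J)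
    (a : Γ(D.obj j, V)) (h : (colimit.ι D j).app V a = 0) :
    ∃ (j' : J) (f : j ⟶ j'), (D.map f).app V a = 0 := by
  haveI := preservesColimit_secF D V hV (qSep_qs V)
  have hc := isColimitOfPreserves (secF V) (colimit.isColimit D)
  have h0 : ((secF V).mapCocone (colimit.cocone D)).ι.app j a =
      ((secF V).mapCocone (colimit.cocone D)).ι.app j (0 : Γ(D.obj j, V)) := by
    have h1 : ((secF V).mapCocone (colimit.cocone D)).ι.app j a = (colimit.ι D j).app V a := rfl
    rw [h1, h]
    exact (map_zero ((colimit.ι D j).app V).hom).symm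
  obtain ⟨j', f, g, hfg⟩ := Concrete.isColimit_exists_of_rep_eq (D ⋙ secF V) hc a
    (0 : Γ(D.obj j, V)) h0
  refine ⟨j', f, ?_⟩
  have h3 : (D ⋙ secF V).map g (0 : Γ(D.obj j, V)) = 0 :=
    map_zero ((D ⋙ secF V).map g).hom
  rw [h3] at hfg
  exact hfg

/-- the colimit injections are compatible with the transition maps, on sections. -/
theorem colimit_w_app_qs {j j' : J} (f : j ⟶ j') (V : X.Opens) (a : Γ(D.obj j, V)) :
    (colimit.ι D j').app V ((D.map f).app V a) = (colimit.ι D j).app V a := by
  have hw := colimit.w D f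
  exact congrArg (fun ψ : D.obj j ⟶ colimit D => ψ.app V a) hw

/-- **A filtered colimit of quasi-coherent modules on a quasi-separated scheme is
quasi-coherent.** (after lead's `ZClos9`) -/
theorem isQuasicoherent_colimit_qs (hD : ∀ j, (D.obj j).IsQuasicoherent) :
    (colimit D).IsQuasicoherent := by
  refine Groth.Agent.Helper6.QcohLocal.isQuasicoherent_of_affineOpens (colimit D)
    (fun V : X.affineOpens => V.1) (fun V => V.2) (fun y => ?_) ?_ ?_
  · obtain ⟨_, ⟨V, hV, rfl⟩, hyV, -⟩ := X.isBasis_affineOpens.exists_subset_of_mem_open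
      (Set.mem_univ y) isOpen_univ
    exact ⟨⟨V, hV⟩, hyV⟩
  · rintro V r W U' rfl hW rfl s
    have hV : IsAffineOpen V.1 := V.2
    have hWc : IsCompact ((X.basicOpen r : X.Opens) : Set X) := (hV.basicOpen r).isCompact
    obtain ⟨j, a, rfl⟩ := exists_rep_colim_qs D (X.basicOpen r) hWc s
    haveI := hD j
    obtain ⟨n, t₁, ht₁⟩ := exists_pow_smul_eq_res (D.obj j) hV r a
    refine ⟨n, (colimit.ι D j).app V.1 t₁, ?_⟩
    refine Eq.trans ?_ (app_map (colimit.ι D j) hW t₁)
    have ht₁' : (D.obj j).presheaf.map (homOfLE hW).op t₁ =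
        (X.presheaf.map (homOfLE hW).op r) ^ n • a := ht₁
    rw [ht₁']
    exact (Scheme.Modules.Hom.app_smul (colimit.ι D j) _ a).symm
  · rintro V r W U' rfl hW rfl t ht
    have hV : IsAffineOpen V.1 := V.2
    have hVc : IsCompact ((V.1 : X.Opens) : Set X) := hV.isCompact
    have hWc : IsCompact ((X.basicOpen r : X.Opens) : Set X) := (hV.basicOpen r).isCompact
    obtain ⟨j, a, rfl⟩ := exists_rep_colim_qs D V.1 hVc t
    have h1 : (colimit.ι D j).app (X.basicOpen r)
        ((D.obj j).presheaf.map (homOfLE hW).op a) = 0 :=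
      (app_map (colimit.ι D j) hW a).trans ht
    obtain ⟨j', f, hf⟩ := exists_of_colim_eq_zero_qs D (X.basicOpen r) hWc j _ h1
    haveI := hD j'
    have h2 : (D.obj j').presheaf.map (homOfLE (X.basicOpen_le r)).op ((D.map f).app V.1 a) = 0 :=
      (app_map (D.map f) hW a).symm.trans hf
    obtain ⟨n, hn⟩ := exists_pow_smul_eq_zero (D.obj j') hV r _ h2
    refine ⟨n, ?_⟩
    have h3 : (X.presheaf.map (homOfLE (Eq.le (rfl : V.1 = V.1))).op r) = r := by
      have : (homOfLE (Eq.le (rfl : V.1 = V.1))).op = 𝟙 (op V.1) := rfl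
      rw [this, X.presheaf.map_id]
      rfl
    rw [h3, ← colimit_w_app_qs D f V.1 a, ← Scheme.Modules.Hom.app_smul, hn, map_zero]

variable (X J) in
theorem isClosedUnderColimitsOfShape_isQCoh :
    (QCohCat.isQCoh X).IsClosedUnderColimitsOfShape J := by
  haveI : (QCohCat.isQCoh X).IsClosedUnderIsomorphisms :=
    ⟨fun {M N} e h => by
      haveI : M.IsQuasicoherent := h
      exact (isQuasicoherent_of_iso e : N.IsQuasicoherent)⟩
  apply ObjectProperty.IsClosedUnderColimitsOfShape.mk'
  rintro _ ⟨F, hF⟩
  exact isQuasicoherent_colimit_qs F hF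

end Colim

/-- a finitely presented module on a qcqs scheme is a finitely presentable object of
`X.Modules`. -/
theorem isFinitelyPresentable_of_isFinitePresentation [CompactSpace X] [QuasiSeparatedSpace X]
    (P : X.Modules) [SheafOfModules.IsFinitePresentation (R := X.ringCatSheaf) P] :
    IsFinitelyPresentable.{u} P := by
  rw [isFinitelyPresentable_iff_preservesFilteredColimitsOfSize]
  refine ⟨fun J _ _ => ?_⟩
  obtain ⟨α, _, _, _, Φ, hΦ⟩ := IsFiltered.exists_directed J
  haveI : PreservesColimitsOfShape α (coyoneda.obj (op P)) :=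
    ⟨fun {D} => Groth.Agent.S6840.result (X := X.toTopCat) X.sheaf cover_refine D P⟩
  exact Functor.Final.preservesColimitsOfShape_of_final Φ _

/-- a retract of a finitely presented module is finitely presented. -/
theorem isFinitePresentation_of_retract {M P : X.Modules}
    [SheafOfModules.IsFinitePresentation (R := X.ringCatSheaf) P] (s : M ⟶ P) (r : P ⟶ M)
    (h : s ≫ r = 𝟙 M) : SheafOfModules.IsFinitePresentation (R := X.ringCatSheaf) M := by
  haveI : P.IsQuasicoherent := inferInstance
  let δ : P ⟶ P := 𝟙 P - r ≫ s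
  haveI hQ : SheafOfModules.IsFinitePresentation (R := X.ringCatSheaf) (cokernel δ : X.Modules) :=
    isFinitePresentation_cokernel (fun O hO => finite_sections_of_isFiniteType P hO) δ
  have hδr : δ ≫ r = 0 := by
    show (𝟙 P - r ≫ s) ≫ r = 0
    rw [Preadditive.sub_comp, Category.id_comp, Category.assoc, h, Category.comp_id, sub_self]
  have hδπ : (r ≫ s) ≫ cokernel.π δ = cokernel.π δ := by
    have h0 : δ ≫ cokernel.π δ = 0 := cokernel.condition δ
    have h1 : (𝟙 P - r ≫ s) ≫ cokernel.π δ = 0 := h0
    rw [Preadditive.sub_comp, Category.id_comp, sub_eq_zero] at h1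
    exact h1.symm
  let e : M ≅ (cokernel δ : X.Modules) :=
    { hom := s ≫ cokernel.π δ
      inv := cokernel.desc δ r hδr
      hom_inv_id := by rw [Category.assoc, cokernel.π_desc, h]
      inv_hom_id := by
        apply coequalizer.hom_ext
        rw [← Category.assoc]
        show (cokernel.π δ ≫ cokernel.desc δ r hδr) ≫ s ≫ cokernel.π δ = cokernel.π δ ≫ 𝟙 _
        rw [cokernel.π_desc, Category.comp_id, ← Category.assoc, hδπ] }
  exact (SheafOfModules.isFinitePresentation X.ringCatSheaf).prop_of_iso e.symm hQ

/-- **S2214** -/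
theorem isFinitelyPresentable_iff [CompactSpace X] [QuasiSeparatedSpace X]
    (F : QCohCat.QCoh X) :
    IsFinitelyPresentable.{u} F ↔
      SheafOfModules.IsFinitePresentation (R := X.ringCatSheaf) F.obj := by
  constructor
  · intro hF
    obtain ⟨M, hM⟩ := F
    haveI : M.IsQuasicoherent := hM
    obtain ⟨I, _, _, D, c, hc, hfp, hpt⟩ := exists_filtered_colimit_fp M
    subst hpt
    -- lift the diagram to `QCoh X`
    let D' : I ⥤ QCohCat.QCoh X := (QCohCat.isQCoh X).lift D (fun i => by
      haveI := hfp i
      exact (inferInstance : (D.obj i).IsQuasicoherent))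
    let c' : Cocone D' :=
      { pt := ⟨c.pt, hM⟩
        ι :=
          { app := fun i => ObjectProperty.homMk (c.ι.app i)
            naturality := fun i j f => by
              apply ObjectProperty.hom_ext
              exact c.ι.naturality f } }
    have hc' : IsColimit c' := by
      apply isColimitOfReflects (QCohCat.isQCoh X).ι
      exact hc
    obtain ⟨i, p, hp⟩ := IsFinitelyPresentable.exists_hom_of_isColimit hc' (𝟙 _)
    haveI : SheafOfModules.IsFinitePresentation (R := X.ringCatSheaf) (D'.obj i).obj := hfp i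
    have hp' : p.hom ≫ c.ι.app i = 𝟙 c.pt := congrArg (fun t => t.hom) hp
    exact isFinitePresentation_of_retract p.hom (c.ι.app i) hp'
  · intro hF
    haveI := hF
    haveI := isFinitelyPresentable_of_isFinitePresentation F.obj
    rw [isFinitelyPresentable_iff_preservesFilteredColimitsOfSize]
    refine ⟨fun J _ _ => ?_⟩
    haveI := isClosedUnderColimitsOfShape_isQCoh X J
    haveI : PreservesColimitsOfShape J (QCohCat.isQCoh X).ι := inferInstance
    haveI : PreservesColimitsOfShape J (coyoneda.obj (op F.obj)) := inferInstance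
    let e : (QCohCat.isQCoh X).ι ⋙ coyoneda.obj (op F.obj) ≅ coyoneda.obj (op F) :=
      NatIso.ofComponents
        (fun M => Equiv.toIso ⟨fun f => ObjectProperty.homMk f, fun g => g.hom,
          fun _ => rfl, fun _ => rfl⟩)
        (by
          intro M N f
          ext g
          rfl)
    exact preservesColimitsOfShape_of_natIso e

end Groth.Agent.Helper4.FPExt
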