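import Mathlib
import Groth.Prelude.Def_Cyc
import Groth.Agent.Lib.Helper14.FibreMax

/-!
# Relative dimension `d` in terms of local fibre dimensions
-/

set_option autoImplicit false
universe u
open CategoryTheory CategoryTheory.Limits AlgebraicGeometry

namespace Groth.Agent.Helper4.RelDimPts

open Groth.Agent.Helper14

variable {X Y : Scheme.{u}} (f : X ⟶ Y) [LocallyOfFiniteType f]

theorem exists_nat_fibreDimAt (x : X) : ∃ n : ℕ, FlatMor.fibreDimAt f x = (n : WithBot ℕ∞) := by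
  obtain ⟨z, n, -, -, -, -, h⟩ := EquidimAt.exists_maximal_trdeg_eq_fibreDimAt f x
  exact ⟨n, h⟩

theorem fibreDimAt_eq_of_hasRelDim (d : ℕ) (h : Cyc.HasRelDim f d) (x : X) :
    FlatMor.fibreDimAt f x = (d : WithBot ℕ∞) := by
  obtain ⟨z, n, -, -, hmax, hn, hx⟩ := EquidimAt.exists_maximal_trdeg_eq_fibreDimAt f x
  obtain ⟨Z, hZ, hdim⟩ := FibreMax.exists_irreducibleComponent_of_maximal f (f z) z rfl hmax n hn
  rw [hx, ← hdim]
  exact h _ Z hZ

theorem hasRelDim_of_fibreDimAt_eq (d : ℕ)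
    (h : ∀ x : X, FlatMor.fibreDimAt f x = (d : WithBot ℕ∞)) : Cyc.HasRelDim f d := by
  intro y T hT
  obtain ⟨z, n, -, hmax, hn, hdim⟩ := FibreMax.exists_of_mem_irreducibleComponents f y T hT
  rw [hdim, ← FibreMax.fibreDimAt_eq_of_maximal f z hmax n hn]
  exact h z

end Groth.Agent.Helper4.RelDimPts
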