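import Mathlib
import Groth.Prelude.Def_CAlg
import Groth.Agent.S0341
import Groth.Agent.S0342
import Groth.Agent.S0343
import Groth.Agent.S0395
import Groth.Agent.S2053
import Groth.Agent.Lib.Helper20.GorFlat3

/-!
# Factorization of local homomorphisms of Artinian local rings through a flat map with
Gorenstein (complete intersection) closed fibre
-/

set_option autoImplicit false
universe u
open IsLocalRing

namespace Groth.Agent.Helper4.ArtFactor

/-- the conclusion -/
def Concl (R S : Type u) [CommRing R] [CommRing S] [IsLocalRing R] [Algebra R S] : Prop :=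
  ∃ (R' : Type u) (_ : CommRing R') (_ : Algebra R R'), IsArtinianRing R' ∧ IsLocalRing R' ∧
    Module.Flat R R' ∧ IsLocalHom (algebraMap R R') ∧
    LocCoh.IsGorensteinLocalRing (R' ⧸ (IsLocalRing.maximalIdeal R).map (algebraMap R R')) ∧
    ∃ g : R' →ₐ[R] S, Function.Surjective g

theorem finish {R S T : Type u} [CommRing R] [CommRing S] [CommRing T] [IsArtinianRing R]
    [IsLocalRing R] [Algebra R S]
    [IsNoetherianRing T] [IsLocalRing T] [Algebra R T] [IsLocalHom (algebraMap R T)]
    [Module.Flat R T]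
    (g : T →ₐ[R] S) (hg : Function.Surjective g)
    (hG : LocCoh.IsGorensteinLocalRing (T ⧸ (maximalIdeal R).map (algebraMap R T)))
    (hA : IsArtinianRing (T ⧸ (maximalIdeal R).map (algebraMap R T))) : Concl R S := by
  haveI : IsLocalRing (T ⧸ (maximalIdeal R).map (algebraMap R T)) := hG.toIsLocalRing
  obtain ⟨k, hk⟩ := (isArtinianRing_iff_isNilpotent_maximalIdeal R).mp inferInstance
  obtain ⟨a, ha⟩ := (isArtinianRing_iff_isNilpotent_maximalIdeal
    (T ⧸ (maximalIdeal R).map (algebraMap R T))).mp hA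
  rw [Ideal.zero_eq_bot] at hk ha
  have hArtT : IsArtinianRing T := by
    rw [isArtinianRing_iff_isNilpotent_maximalIdeal]
    refine ⟨a * k, ?_⟩
    have h1 : maximalIdeal T ^ a ≤ (maximalIdeal R).map (algebraMap R T) := by
      have h2 : (maximalIdeal T ^ a).map
          (Ideal.Quotient.mk ((maximalIdeal R).map (algebraMap R T))) = ⊥ := by
        rw [Ideal.map_pow, IsLocalRing.map_maximalIdeal_of_surjective _
          Ideal.Quotient.mk_surjective]
        exact ha
      have h3 := (Ideal.map_eq_bot_iff_le_ker _).mp h2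
      rwa [Ideal.mk_ker] at h3
    have h3 : ((maximalIdeal R).map (algebraMap R T)) ^ k = ⊥ := by
      rw [← Ideal.map_pow, hk, Ideal.map_bot]
    rw [Ideal.zero_eq_bot, pow_mul, ← le_bot_iff, ← h3]
    exact Ideal.pow_right_mono h1 k
  exact ⟨T, inferInstance, inferInstance, hArtT, inferInstance, inferInstance, inferInstance,
    hG, g, hg⟩

theorem le_of_add_one_le (a : WithBot ℕ∞) (d : ℕ)
    (h : a + 1 ≤ ((d + 1 : ℕ) : WithBot ℕ∞)) : a ≤ d := by
  induction a using WithBot.recBotCoe with
  | bot => exact bot_le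
  | coe a =>
    induction a using ENat.recTopCoe with
    | top =>
      exfalso
      have h1 : ((⊤ : ℕ∞) : WithBot ℕ∞) + 1 = ((⊤ : ℕ∞) : WithBot ℕ∞) := by
        rw [← WithBot.coe_one, ← WithBot.coe_add, top_add]
      rw [h1] at h
      have h2 : ((d + 1 : ℕ) : WithBot ℕ∞) = (((d + 1 : ℕ) : ℕ∞) : WithBot ℕ∞) := rfl
      rw [h2, WithBot.coe_le_coe] at h
      exact absurd (top_le_iff.mp h) (ENat.coe_ne_top _)
    | coe n =>
      have h1 : (((n : ℕ∞) : WithBot ℕ∞) + 1) = (((n + 1 : ℕ) : ℕ∞) : WithBot ℕ∞) := by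
        push_cast
        rfl
      rw [h1] at h
      have h2 : ((d + 1 : ℕ) : WithBot ℕ∞) = (((d + 1 : ℕ) : ℕ∞) : WithBot ℕ∞) := rfl
      rw [h2, WithBot.coe_le_coe, Nat.cast_le] at h
      have h3 : ((d : ℕ) : WithBot ℕ∞) = (((d : ℕ) : ℕ∞) : WithBot ℕ∞) := rfl
      rw [h3, WithBot.coe_le_coe, Nat.cast_le]
      omega

set_option maxHeartbeats 800000 in
theorem ind {R S : Type u} [CommRing R] [CommRing S] [IsArtinianRing R] [IsLocalRing R]
    [IsArtinianRing S] [IsLocalRing S] [Algebra R S] (d : ℕ) :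
    ∀ (T : Type u) [CommRing T] [IsNoetherianRing T] [IsLocalRing T] [Algebra R T]
      [IsLocalHom (algebraMap R T)] [Module.Flat R T]
      (g : T →ₐ[R] S) (_ : Function.Surjective g)
      (_ : LocCoh.IsGorensteinLocalRing (T ⧸ (maximalIdeal R).map (algebraMap R T)))
      (_ : ringKrullDim (T ⧸ (maximalIdeal R).map (algebraMap R T)) ≤ d), Concl R S := by
  induction d with
  | zero =>
    intro T _ _ _ _ _ _ g hg hG hd
    refine finish g hg hG ?_
    rw [isArtinianRing_iff_krullDimLE_zero, Ring.krullDimLE_iff]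
    exact_mod_cast hd
  | succ d ih =>
    intro T _ _ _ _ _ _ g hg hG hd
    by_cases hA : IsArtinianRing (T ⧸ (maximalIdeal R).map (algebraMap R T))
    · exact finish g hg hG hA
    haveI hFloc : IsLocalRing (T ⧸ (maximalIdeal R).map (algebraMap R T)) := hG.toIsLocalRing
    haveI hCM : LocCoh.IsCohenMacaulayLocalRing (T ⧸ (maximalIdeal R).map (algebraMap R T)) :=
      Groth.Agent.S0341.result _
    -- a nonzerodivisor in the maximal ideal of the fibre
    obtain ⟨x, hxm, hxreg⟩ : ∃ x : T ⧸ (maximalIdeal R).map (algebraMap R T),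
        x ∈ maximalIdeal (T ⧸ (maximalIdeal R).map (algebraMap R T)) ∧
          IsSMulRegular (T ⧸ (maximalIdeal R).map (algebraMap R T)) x := by
      by_contra hno
      push_neg at hno
      apply hA
      have hdep : LocCoh.depth (T ⧸ (maximalIdeal R).map (algebraMap R T))
          (T ⧸ (maximalIdeal R).map (algebraMap R T)) = 0 := by
        unfold LocCoh.depth LocCoh.idealDepth
        rw [if_neg]
        · rw [← bot_eq_zero, iSup_eq_bot]
          intro rs
          rw [iSup_eq_bot]
          rintro ⟨hreg, hmem⟩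
          cases rs with
          | nil => simp
          | cons r rs =>
            exfalso
            have h1 := (RingTheory.Sequence.isWeaklyRegular_cons_iff _ r rs).mp hreg
            exact hno r (hmem r List.mem_cons_self) h1.1
        · rw [smul_eq_mul, Ideal.mul_top]
          exact (maximalIdeal.isMaximal _).ne_top
      have h0 : ringKrullDim (T ⧸ (maximalIdeal R).map (algebraMap R T)) = 0 := by
        have h1 := hCM.supportDim_eq_depth
        rw [Module.supportDim_self_eq_ringKrullDim, hdep] at h1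
        exact_mod_cast h1
      rw [isArtinianRing_iff_krullDimLE_zero, Ring.krullDimLE_iff, h0]
      exact le_refl _
    obtain ⟨t, rfl⟩ := Ideal.Quotient.mk_surjective x
    haveI : IsLocalHom g.toRingHom := IsLocalHom.of_surjective _ hg
    haveI : IsLocalHom (Ideal.Quotient.mk ((maximalIdeal R).map (algebraMap R T))) :=
      IsLocalHom.of_surjective _ Ideal.Quotient.mk_surjective
    have htm : t ∈ maximalIdeal T := by
      rw [mem_maximalIdeal, mem_nonunits_iff]
      intro hu
      exact (mem_maximalIdeal _).mp hxm (hu.map _)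
    have hgt : g t ∈ maximalIdeal S := by
      rw [mem_maximalIdeal, mem_nonunits_iff]
      intro hu
      have h1 : IsUnit t := isUnit_of_map_unit g.toRingHom t hu
      exact (mem_maximalIdeal _).mp htm h1
    obtain ⟨N, hN⟩ := (isArtinianRing_iff_isNilpotent_maximalIdeal S).mp inferInstance
    rw [Ideal.zero_eq_bot] at hN
    have hgN : g (t ^ (N + 1)) = 0 := by
      rw [map_pow, pow_succ]
      have h1 : g t ^ N ∈ maximalIdeal S ^ N := Ideal.pow_mem_pow hgt N
      rw [hN, Ideal.mem_bot] at h1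
      rw [h1, zero_mul]
    have hfm : t ^ (N + 1) ∈ maximalIdeal T :=
      Ideal.pow_mem_of_mem _ htm _ (Nat.succ_pos N)
    have hxN : IsSMulRegular (T ⧸ (maximalIdeal R).map (algebraMap R T))
        (Ideal.Quotient.mk ((maximalIdeal R).map (algebraMap R T)) (t ^ (N + 1))) := by
      rw [map_pow]
      exact hxreg.pow _
    have hxNm : Ideal.Quotient.mk ((maximalIdeal R).map (algebraMap R T)) (t ^ (N + 1)) ∈
        maximalIdeal (T ⧸ (maximalIdeal R).map (algebraMap R T)) := by
      rw [mem_maximalIdeal, mem_nonunits_iff]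
      intro hu
      have h1 : IsUnit (t ^ (N + 1)) := isUnit_of_map_unit _ _ hu
      exact (mem_maximalIdeal _).mp hfm h1
    have hnzd : Ideal.Quotient.mk ((maximalIdeal R).map (algebraMap R T)) (t ^ (N + 1)) ∈
        nonZeroDivisors (T ⧸ (maximalIdeal R).map (algebraMap R T)) := by
      rw [mem_nonZeroDivisors_iff_right]
      intro z hz
      apply hxN
      change _ * z = _ * 0
      rw [mul_zero, mul_comm]
      exact hz
    obtain ⟨hflat₁, -⟩ := Groth.Agent.S0395.result (R := R) (S := T) (t ^ (N + 1)) hnzd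
    have hne : Ideal.span {t ^ (N + 1)} ≠ (⊤ : Ideal T) := by
      intro h
      rw [Ideal.span_singleton_eq_top] at h
      exact (mem_maximalIdeal _).mp hfm h
    haveI : Nontrivial (T ⧸ Ideal.span {t ^ (N + 1)}) := Ideal.Quotient.nontrivial_iff.mpr hne
    haveI : IsLocalRing (T ⧸ Ideal.span {t ^ (N + 1)}) :=
      IsLocalRing.of_surjective' (Ideal.Quotient.mk _) Ideal.Quotient.mk_surjective
    haveI : IsLocalHom (Ideal.Quotient.mk (Ideal.span {t ^ (N + 1)})) :=
      IsLocalHom.of_surjective _ Ideal.Quotient.mk_surjective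
    haveI : IsLocalHom (algebraMap R (T ⧸ Ideal.span {t ^ (N + 1)})) := by
      change IsLocalHom ((Ideal.Quotient.mk (Ideal.span {t ^ (N + 1)})).comp (algebraMap R T))
      exact RingHom.isLocalHom_comp _ _
    let g₁ : (T ⧸ Ideal.span {t ^ (N + 1)}) →ₐ[R] S :=
      Ideal.Quotient.liftₐ (Ideal.span {t ^ (N + 1)}) g (by
        intro a ha
        obtain ⟨c, rfl⟩ := Ideal.mem_span_singleton'.mp ha
        rw [map_mul, hgN, mul_zero])
    have hg₁ : Function.Surjective g₁ := by
      intro s
      obtain ⟨y, rfl⟩ := hg s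
      exact ⟨Ideal.Quotient.mk _ y, rfl⟩
    have e1 : ((T ⧸ (maximalIdeal R).map (algebraMap R T)) ⧸
        Ideal.span {Ideal.Quotient.mk ((maximalIdeal R).map (algebraMap R T)) (t ^ (N + 1))}) ≃+*
        ((T ⧸ (maximalIdeal R).map (algebraMap R T)) ⧸
          (Ideal.span {t ^ (N + 1)}).map
            (Ideal.Quotient.mk ((maximalIdeal R).map (algebraMap R T)))) :=
      Ideal.quotEquivOfEq (by rw [Ideal.map_span, Set.image_singleton])
    have e2 : ((T ⧸ (maximalIdeal R).map (algebraMap R T)) ⧸
          (Ideal.span {t ^ (N + 1)}).map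
            (Ideal.Quotient.mk ((maximalIdeal R).map (algebraMap R T)))) ≃+*
        ((T ⧸ Ideal.span {t ^ (N + 1)}) ⧸
          ((maximalIdeal R).map (algebraMap R T)).map
            (Ideal.Quotient.mk (Ideal.span {t ^ (N + 1)}))) :=
      DoubleQuot.quotQuotEquivComm _ _
    have e3 : ((T ⧸ Ideal.span {t ^ (N + 1)}) ⧸
          ((maximalIdeal R).map (algebraMap R T)).map
            (Ideal.Quotient.mk (Ideal.span {t ^ (N + 1)}))) ≃+*
        ((T ⧸ Ideal.span {t ^ (N + 1)}) ⧸
          (maximalIdeal R).map (algebraMap R (T ⧸ Ideal.span {t ^ (N + 1)}))) :=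
      Ideal.quotEquivOfEq (by rw [Ideal.map_map]; rfl)
    haveI hG0 : LocCoh.IsGorensteinLocalRing ((T ⧸ (maximalIdeal R).map (algebraMap R T)) ⧸
        Ideal.span {Ideal.Quotient.mk ((maximalIdeal R).map (algebraMap R T)) (t ^ (N + 1))}) :=
      (Groth.Agent.S0343.result _ _ hxNm hxN).mp hG
    have hG₁ : LocCoh.IsGorensteinLocalRing ((T ⧸ Ideal.span {t ^ (N + 1)}) ⧸
          (maximalIdeal R).map (algebraMap R (T ⧸ Ideal.span {t ^ (N + 1)}))) :=
      Groth.Agent.Helper20.GorFlat.isGorensteinLocalRing_of_ringEquiv (e1.trans (e2.trans e3))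
    have hdim : ringKrullDim ((T ⧸ (maximalIdeal R).map (algebraMap R T)) ⧸
        Ideal.span {Ideal.Quotient.mk ((maximalIdeal R).map (algebraMap R T)) (t ^ (N + 1))}) + 1 =
        ringKrullDim (T ⧸ (maximalIdeal R).map (algebraMap R T)) :=
      ringKrullDim_quotient_span_singleton_succ_eq_ringKrullDim hxN hxNm
    have hd₁ : ringKrullDim ((T ⧸ Ideal.span {t ^ (N + 1)}) ⧸
          (maximalIdeal R).map (algebraMap R (T ⧸ Ideal.span {t ^ (N + 1)}))) ≤ d := by
      rw [← ringKrullDim_eq_of_ringEquiv (e1.trans (e2.trans e3))]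
      apply le_of_add_one_le
      rw [hdim]
      exact_mod_cast hd
    exact ih (T ⧸ Ideal.span {t ^ (N + 1)}) g₁ hg₁ hG₁ hd₁

end Groth.Agent.Helper4.ArtFactor
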