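import Mathlib
import Groth.Agent.Lib.Helper4.ArtFactor

/-!
# Factorization of local homomorphisms of Artinian local rings: main theorem
-/

set_option autoImplicit false
universe u
open IsLocalRing

namespace Groth.Agent.Helper4.ArtFactor

theorem exists_nat_ge_ringKrullDim (F : Type u) [CommRing F] [IsNoetherianRing F] [IsLocalRing F] :
    ∃ d : ℕ, ringKrullDim F ≤ d := by
  have h := ringKrullDim_lt_top (R := F)
  generalize ringKrullDim F = a at h
  induction a using WithBot.recBotCoe with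
  | bot => exact ⟨0, bot_le⟩
  | coe a =>
    induction a using ENat.recTopCoe with
    | top => exact absurd h (lt_irrefl _)
    | coe n => exact ⟨n, le_refl _⟩

set_option maxHeartbeats 1600000 in
theorem main (R S : Type u) [CommRing R] [CommRing S] [IsArtinianRing R] [IsLocalRing R]
    [IsArtinianRing S] [IsLocalRing S] [Algebra R S] [IsLocalHom (algebraMap R S)] :
    Concl R S := by
  obtain ⟨Λ, Λ', _, _, _, n, m, ρ, σ, τ, hcase, hρ, hσ, hcomm, hτ, hreg⟩ :=
    Groth.Agent.S2053.result (A := R) (B := S)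
  have hΛ' : IsLocalRing Λ' ∧ IsNoetherianRing Λ' := by
    rcases hcase with ⟨-, -, hf⟩ | ⟨-, -, hc⟩
    · refine ⟨?_, ?_⟩
      · letI := hf.toField
        infer_instance
      · letI := hf.toField
        infer_instance
    · obtain ⟨hdom, hdvr, -⟩ := hc
      exact ⟨inferInstance, inferInstance⟩
  obtain ⟨hloc', hnoe'⟩ := hΛ'
  haveI := hloc'
  haveI := hnoe'
  letI algPQ : Algebra (MvPowerSeries (Fin n) Λ) (MvPowerSeries (Fin m) Λ') := τ.toAlgebra
  haveI hflatPQ : Module.Flat (MvPowerSeries (Fin n) Λ) (MvPowerSeries (Fin m) Λ') := hτ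
  -- `ρ`, `σ` are local homomorphisms
  haveI hρloc : IsLocalHom ρ := IsLocalHom.of_surjective ρ hρ
  haveI hσloc : IsLocalHom σ := IsLocalHom.of_surjective σ hσ
  have hcomm' : ∀ p, σ (τ p) = algebraMap R S (ρ p) := fun p => congrArg (fun f => f p) hcomm
  haveI hτloc : IsLocalHom τ := by
    constructor
    intro p hp
    have h1 : IsUnit (σ (τ p)) := hp.map σ
    rw [hcomm' p] at h1
    exact isUnit_of_map_unit ρ p (isUnit_of_map_unit (algebraMap R S) _ h1)
  have hτmax : (maximalIdeal (MvPowerSeries (Fin n) Λ)).map τ ≤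
      maximalIdeal (MvPowerSeries (Fin m) Λ') := by
    rw [Ideal.map_le_iff_le_comap]
    intro p hp
    rw [Ideal.mem_comap, mem_maximalIdeal, mem_nonunits_iff]
    intro hu
    exact (mem_maximalIdeal _).mp hp (isUnit_of_map_unit τ p hu)
  have hkerle : RingHom.ker ρ ≤ maximalIdeal (MvPowerSeries (Fin n) Λ) :=
    le_maximalIdeal (RingHom.ker_ne_top ρ)
  have hKle : (RingHom.ker ρ).map (algebraMap (MvPowerSeries (Fin n) Λ)
      (MvPowerSeries (Fin m) Λ')) ≤ (maximalIdeal (MvPowerSeries (Fin n) Λ)).map τ :=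
    Ideal.map_mono hkerle
  have hKne : (RingHom.ker ρ).map (algebraMap (MvPowerSeries (Fin n) Λ)
      (MvPowerSeries (Fin m) Λ')) ≠ ⊤ := by
    intro h
    have h1 := (h ▸ hKle).trans hτmax
    exact (maximalIdeal.isMaximal _).ne_top (top_le_iff.mp h1)
  -- the ring `T`
  haveI : Nontrivial (MvPowerSeries (Fin m) Λ' ⧸ (RingHom.ker ρ).map
      (algebraMap (MvPowerSeries (Fin n) Λ) (MvPowerSeries (Fin m) Λ'))) :=
    Ideal.Quotient.nontrivial_iff.mpr hKne
  haveI : IsLocalRing (MvPowerSeries (Fin m) Λ' ⧸ (RingHom.ker ρ).map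
      (algebraMap (MvPowerSeries (Fin n) Λ) (MvPowerSeries (Fin m) Λ'))) :=
    IsLocalRing.of_surjective' (Ideal.Quotient.mk _) Ideal.Quotient.mk_surjective
  haveI : IsLocalHom (Ideal.Quotient.mk ((RingHom.ker ρ).map
      (algebraMap (MvPowerSeries (Fin n) Λ) (MvPowerSeries (Fin m) Λ')))) :=
    IsLocalHom.of_surjective _ Ideal.Quotient.mk_surjective
  haveI hflat0 : Module.Flat (MvPowerSeries (Fin n) Λ ⧸ RingHom.ker ρ)
      (MvPowerSeries (Fin m) Λ' ⧸ (RingHom.ker ρ).map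
        (algebraMap (MvPowerSeries (Fin n) Λ) (MvPowerSeries (Fin m) Λ'))) :=
    Module.Flat.of_linearEquiv
      (Algebra.TensorProduct.quotIdealMapEquivQuotTensor (MvPowerSeries (Fin m) Λ')
        (RingHom.ker ρ)).toLinearEquiv
  let ρ' : (MvPowerSeries (Fin n) Λ ⧸ RingHom.ker ρ) ≃+* R :=
    RingHom.quotientKerEquivOfSurjective hρ
  have hρ' : ∀ p, ρ'.symm (ρ p) = Ideal.Quotient.mk _ p := by
    intro p
    rw [RingEquiv.symm_apply_eq]
    rfl
  letI algRR₀ : Algebra R (MvPowerSeries (Fin n) Λ ⧸ RingHom.ker ρ) :=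
    ρ'.symm.toRingHom.toAlgebra
  letI algRT : Algebra R (MvPowerSeries (Fin m) Λ' ⧸ (RingHom.ker ρ).map
      (algebraMap (MvPowerSeries (Fin n) Λ) (MvPowerSeries (Fin m) Λ'))) :=
    ((algebraMap (MvPowerSeries (Fin n) Λ ⧸ RingHom.ker ρ) (MvPowerSeries (Fin m) Λ' ⧸
      (RingHom.ker ρ).map (algebraMap (MvPowerSeries (Fin n) Λ)
        (MvPowerSeries (Fin m) Λ')))).comp
      (algebraMap R (MvPowerSeries (Fin n) Λ ⧸ RingHom.ker ρ))).toAlgebra
  haveI tow : IsScalarTower R (MvPowerSeries (Fin n) Λ ⧸ RingHom.ker ρ)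
      (MvPowerSeries (Fin m) Λ' ⧸ (RingHom.ker ρ).map
        (algebraMap (MvPowerSeries (Fin n) Λ) (MvPowerSeries (Fin m) Λ'))) :=
    IsScalarTower.of_algebraMap_eq (fun _ => rfl)
  have hkey : ∀ p, algebraMap R (MvPowerSeries (Fin m) Λ' ⧸ (RingHom.ker ρ).map
      (algebraMap (MvPowerSeries (Fin n) Λ) (MvPowerSeries (Fin m) Λ'))) (ρ p) =
      Ideal.Quotient.mk _ (τ p) := by
    intro p
    change algebraMap (MvPowerSeries (Fin n) Λ ⧸ RingHom.ker ρ) (MvPowerSeries (Fin m) Λ' ⧸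
      (RingHom.ker ρ).map (algebraMap (MvPowerSeries (Fin n) Λ) (MvPowerSeries (Fin m) Λ')))
      (ρ'.symm (ρ p)) = _
    rw [hρ' p]
    rfl
  haveI hflatRR₀ : Module.Flat R (MvPowerSeries (Fin n) Λ ⧸ RingHom.ker ρ) := by
    let l : R ≃ₗ[R] (MvPowerSeries (Fin n) Λ ⧸ RingHom.ker ρ) :=
      { ρ'.symm with
        map_smul' := fun r x => by
          change ρ'.symm (r * x) = ρ'.symm r * ρ'.symm x
          exact map_mul ρ'.symm r x }
    exact Module.Flat.of_linearEquiv l.symm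
  haveI hflatRT : Module.Flat R (MvPowerSeries (Fin m) Λ' ⧸ (RingHom.ker ρ).map
      (algebraMap (MvPowerSeries (Fin n) Λ) (MvPowerSeries (Fin m) Λ'))) :=
    Module.Flat.trans R (MvPowerSeries (Fin n) Λ ⧸ RingHom.ker ρ) _
  haveI hlocRT : IsLocalHom (algebraMap R (MvPowerSeries (Fin m) Λ' ⧸ (RingHom.ker ρ).map
      (algebraMap (MvPowerSeries (Fin n) Λ) (MvPowerSeries (Fin m) Λ')))) := by
    constructor
    intro r hr
    obtain ⟨p, rfl⟩ := hρ r
    rw [hkey p] at hr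
    have h1 : IsUnit (τ p) := isUnit_of_map_unit (Ideal.Quotient.mk _) _ hr
    exact (isUnit_of_map_unit τ p h1).map ρ
  -- the map to `S`
  have hσK : ∀ a ∈ (RingHom.ker ρ).map (algebraMap (MvPowerSeries (Fin n) Λ)
      (MvPowerSeries (Fin m) Λ')), σ a = 0 := by
    have h1 : (RingHom.ker ρ).map (algebraMap (MvPowerSeries (Fin n) Λ)
        (MvPowerSeries (Fin m) Λ')) ≤ RingHom.ker σ := by
      rw [Ideal.map_le_iff_le_comap]
      intro p hp
      rw [Ideal.mem_comap, RingHom.mem_ker]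
      change σ (τ p) = 0
      rw [hcomm' p, (RingHom.mem_ker).mp hp, map_zero]
    intro a ha
    exact (RingHom.mem_ker).mp (h1 ha)
  let g : (MvPowerSeries (Fin m) Λ' ⧸ (RingHom.ker ρ).map
      (algebraMap (MvPowerSeries (Fin n) Λ) (MvPowerSeries (Fin m) Λ'))) →ₐ[R] S :=
    { Ideal.Quotient.lift _ σ hσK with
      commutes' := fun r => by
        obtain ⟨p, rfl⟩ := hρ r
        change Ideal.Quotient.lift _ σ hσK (algebraMap R _ (ρ p)) = _
        rw [hkey p, Ideal.Quotient.lift_mk, hcomm' p] }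
  have hg : Function.Surjective g := by
    intro s
    obtain ⟨q, rfl⟩ := hσ s
    exact ⟨Ideal.Quotient.mk _ q, rfl⟩
  -- the closed fibre
  have hI : (maximalIdeal R).map (algebraMap R (MvPowerSeries (Fin m) Λ' ⧸ (RingHom.ker ρ).map
      (algebraMap (MvPowerSeries (Fin n) Λ) (MvPowerSeries (Fin m) Λ')))) =
      ((maximalIdeal (MvPowerSeries (Fin n) Λ)).map τ).map (Ideal.Quotient.mk _) := by
    rw [← IsLocalRing.map_maximalIdeal_of_surjective ρ hρ, Ideal.map_map, Ideal.map_map]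
    congr 1
    ext p
    exact hkey p
  have eF : ((MvPowerSeries (Fin m) Λ' ⧸ (RingHom.ker ρ).map
      (algebraMap (MvPowerSeries (Fin n) Λ) (MvPowerSeries (Fin m) Λ'))) ⧸
        (maximalIdeal R).map (algebraMap R (MvPowerSeries (Fin m) Λ' ⧸ (RingHom.ker ρ).map
          (algebraMap (MvPowerSeries (Fin n) Λ) (MvPowerSeries (Fin m) Λ'))))) ≃+*
      (MvPowerSeries (Fin m) Λ' ⧸ (maximalIdeal (MvPowerSeries (Fin n) Λ)).map τ) :=
    (Ideal.quotEquivOfEq hI).trans (DoubleQuot.quotQuotEquivQuotOfLE hKle)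
  have hne2 : (maximalIdeal (MvPowerSeries (Fin n) Λ)).map τ ≠ ⊤ := by
    intro h
    exact (maximalIdeal.isMaximal _).ne_top (top_le_iff.mp (h ▸ hτmax))
  haveI : Nontrivial (MvPowerSeries (Fin m) Λ' ⧸ (maximalIdeal (MvPowerSeries (Fin n) Λ)).map τ) :=
    Ideal.Quotient.nontrivial_iff.mpr hne2
  haveI : IsLocalRing (MvPowerSeries (Fin m) Λ' ⧸
      (maximalIdeal (MvPowerSeries (Fin n) Λ)).map τ) :=
    IsLocalRing.of_surjective' (Ideal.Quotient.mk _) Ideal.Quotient.mk_surjective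
  haveI := hreg
  haveI : IsRegularLocalRing (MvPowerSeries (Fin m) Λ' ⧸
      (maximalIdeal (MvPowerSeries (Fin n) Λ)).map τ) :=
    IsRegularLocalRing.of_isRegularRing_of_isLocalRing _
  haveI hG0 : LocCoh.IsGorensteinLocalRing (MvPowerSeries (Fin m) Λ' ⧸
      (maximalIdeal (MvPowerSeries (Fin n) Λ)).map τ) := Groth.Agent.S0342.result _
  have hG : LocCoh.IsGorensteinLocalRing ((MvPowerSeries (Fin m) Λ' ⧸ (RingHom.ker ρ).map
      (algebraMap (MvPowerSeries (Fin n) Λ) (MvPowerSeries (Fin m) Λ'))) ⧸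
        (maximalIdeal R).map (algebraMap R (MvPowerSeries (Fin m) Λ' ⧸ (RingHom.ker ρ).map
          (algebraMap (MvPowerSeries (Fin n) Λ) (MvPowerSeries (Fin m) Λ'))))) :=
    Groth.Agent.Helper20.GorFlat.isGorensteinLocalRing_of_ringEquiv eF.symm
  haveI := hG.toIsLocalRing
  obtain ⟨d, hd⟩ := exists_nat_ge_ringKrullDim ((MvPowerSeries (Fin m) Λ' ⧸ (RingHom.ker ρ).map
      (algebraMap (MvPowerSeries (Fin n) Λ) (MvPowerSeries (Fin m) Λ'))) ⧸
        (maximalIdeal R).map (algebraMap R (MvPowerSeries (Fin m) Λ' ⧸ (RingHom.ker ρ).map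
          (algebraMap (MvPowerSeries (Fin n) Λ) (MvPowerSeries (Fin m) Λ')))))
  exact ind d _ g hg hG hd

end Groth.Agent.Helper4.ArtFactor
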