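import Groth.Agent.Lib.Helper4.CurveExt

/-!
# Proper birational morphisms to normal schemes are isomorphisms in codimension one (helper4)
-/

set_option autoImplicit false
universe u
open AlgebraicGeometry CategoryTheory CategoryTheory.Limits

namespace Groth.Agent.Helper4.BirIso

open Groth.Agent.Helper4.CurveExt

/-- A Noetherian integrally closed local domain of dimension at most one is a valuation ring. -/
theorem valuationRing_of_normal (A : Type u) [CommRing A] [IsDomain A]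
    [IsNoetherianRing A] [IsLocalRing A] [IsIntegrallyClosed A] (h : ringKrullDim A ≤ 1) :
    ValuationRing A := by
  by_cases hf : IsField A
  · letI := hf.toField
    infer_instance
  · have h0 : ringKrullDim A ≠ 0 := by
      intro h0
      haveI : Ring.KrullDimLE 0 A := ringKrullDimZero_iff_ringKrullDim_eq_zero.mpr h0
      exact hf Ring.KrullDimLE.isField_of_isDomain
    have hnn : 0 ≤ ringKrullDim A := ringKrullDim_nonneg_of_nontrivial
    have h1 : ringKrullDim A = 1 := by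
      refine le_antisymm h ?_
      obtain ⟨n, hn⟩ := WithBot.ne_bot_iff_exists.mp (ne_bot_of_le_ne_bot (by simp) hnn)
      rw [← hn] at h0 ⊢
      have : n ≠ 0 := fun e => h0 (by rw [e]; rfl)
      exact_mod_cast ENat.one_le_iff_ne_zero.mpr this
    haveI := isDiscreteValuationRing_of_dim_one A h1
    infer_instance

set_option backward.isDefEq.respectTransparency false in
/-- If `f` is separated, an isomorphism over a nonempty open `V₀`, and has a section over the open
`V`, then `f` is an isomorphism over `V` (`X`, `Y` integral). -/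
theorem isIso_restrict_of_section {X Y : Scheme.{u}} [IsIntegral X] [IsIntegral Y] (f : X ⟶ Y)
    [IsSeparated f] (V₀ : Y.Opens) (hV₀ : (V₀ : Set Y).Nonempty) [IsIso (f ∣_ V₀)]
    (V : Y.Opens) (hV : (V : Set Y).Nonempty) (v : (V : Scheme.{u}) ⟶ X) (hv : v ≫ f = V.ι) :
    IsIso (f ∣_ V) := by
  have hvpt : ∀ y : (V : Scheme.{u}), f (v y) = y.1 := by
    intro y
    rw [← Scheme.Hom.comp_apply, hv]; rfl
  have hr : Set.range v ⊆ Set.range (f ⁻¹ᵁ V).ι := by
    rintro _ ⟨y, rfl⟩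
    rw [Scheme.Opens.range_ι]
    show f (v y) ∈ V
    rw [hvpt]; exact y.2
  let σ : (V : Scheme.{u}) ⟶ (f ⁻¹ᵁ V : X.Opens) := IsOpenImmersion.lift (f ⁻¹ᵁ V).ι v hr
  have hσ : σ ≫ (f ⁻¹ᵁ V).ι = v := IsOpenImmersion.lift_fac _ _ _
  have hσf : σ ≫ (f ∣_ V) = 𝟙 _ := by
    rw [← cancel_mono V.ι, Category.assoc, morphismRestrict_ι, ← Category.assoc, hσ, hv,
      Category.id_comp]
  haveI : IsClosedImmersion (σ ≫ (f ∣_ V)) := by rw [hσf]; infer_instance
  haveI : IsClosedImmersion σ := IsClosedImmersion.of_comp σ (f ∣_ V)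
  -- nonempty intersection
  obtain ⟨y', hy'V, hy'V₀⟩ := nonempty_preirreducible_inter V.isOpen V₀.isOpen hV hV₀
  haveI : Nonempty ((f ⁻¹ᵁ V : X.Opens) : Scheme.{u}) :=
    ⟨⟨v ⟨y', hy'V⟩, by show f (v ⟨y', hy'V⟩) ∈ V; rw [hvpt]; exact hy'V⟩⟩
  haveI : IsIntegral ((f ⁻¹ᵁ V : X.Opens) : Scheme.{u}) := inferInstance
  -- injectivity over V₀
  have hinj : ∀ x x' : X, f x ∈ V₀ → f x = f x' → x = x' := by
    intro x x' hx hxx'
    have hx' : f x' ∈ V₀ := hxx' ▸ hx
    have hbij := (ConcreteCategory.bijective_of_isIso (f ∣_ V₀).base).1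
    have e : (f ∣_ V₀) ⟨x, hx⟩ = (f ∣_ V₀) ⟨x', hx'⟩ := by
      apply Subtype.ext
      have h1 : ((f ∣_ V₀) ⟨x, hx⟩).1 = f x := by
        rw [← Scheme.Opens.ι_apply, ← Scheme.Hom.comp_apply, morphismRestrict_ι,
          Scheme.Hom.comp_apply]; rfl
      have h2 : ((f ∣_ V₀) ⟨x', hx'⟩).1 = f x' := by
        rw [← Scheme.Opens.ι_apply, ← Scheme.Hom.comp_apply, morphismRestrict_ι,
          Scheme.Hom.comp_apply]; rfl
      rw [h1, h2, hxx']
    exact congrArg Subtype.val (hbij e)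
  let D : Set ((f ⁻¹ᵁ V : X.Opens) : Scheme.{u}) := {x | f x.1 ∈ V₀}
  have hDopen : IsOpen D :=
    (V₀.isOpen.preimage f.continuous).preimage continuous_subtype_val
  have hDne : D.Nonempty :=
    ⟨⟨v ⟨y', hy'V⟩, by show f (v ⟨y', hy'V⟩) ∈ V; rw [hvpt]; exact hy'V⟩, by
      show f (v ⟨y', hy'V⟩) ∈ V₀
      rw [hvpt]; exact hy'V₀⟩
  have hDdense : Dense D := hDopen.dense hDne
  have hDsub : D ⊆ Set.range σ := by
    intro x hx
    have hxV : f x.1 ∈ V := x.2
    refine ⟨⟨f x.1, hxV⟩, ?_⟩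
    apply Subtype.ext
    have h1 : (σ ⟨f x.1, hxV⟩).1 = v ⟨f x.1, hxV⟩ := by
      rw [← hσ, Scheme.Hom.comp_apply]; rfl
    rw [h1]
    refine (hinj x.1 (v ⟨f x.1, hxV⟩) hx ?_).symm
    rw [hvpt]
  haveI : Surjective σ := by
    refine ⟨fun x => ?_⟩
    have hcl : IsClosed (Set.range σ) := σ.isClosedEmbedding.isClosed_range
    exact hcl.closure_subset_iff.mpr hDsub (hDdense x)
  haveI : IsIso σ := isIso_of_isClosedImmersion_of_surjective σ
  haveI : IsIso (σ ≫ (f ∣_ V)) := by rw [hσf]; infer_instance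
  exact IsIso.of_isIso_comp_left σ (f ∣_ V)

set_option backward.isDefEq.respectTransparency false in
/-- A proper morphism of integral schemes which is an isomorphism over a nonempty open of the
locally Noetherian target is an isomorphism over a neighbourhood of each point whose local ring is
an integrally closed domain of dimension at most one. -/
theorem exists_isIso_restrict {X Y : Scheme.{u}} [IsIntegral X] [IsIntegral Y]
    [IsLocallyNoetherian Y] (f : X ⟶ Y) [IsProper f]
    (V₀ : Y.Opens) (hV₀ : (V₀ : Set Y).Nonempty) [IsIso (f ∣_ V₀)]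
    (y : Y) [IsIntegrallyClosed (Y.presheaf.stalk y)] (hy : ringKrullDim (Y.presheaf.stalk y) ≤ 1) :
    ∃ V : Y.Opens, y ∈ V ∧ IsIso (f ∣_ V) := by
  haveI : ValuationRing (Y.presheaf.stalk y) := valuationRing_of_normal _ hy
  let g : (V₀ : Scheme.{u}) ⟶ X := inv (f ∣_ V₀) ≫ (f ⁻¹ᵁ V₀).ι
  have hg : g ≫ f = V₀.ι ≫ 𝟙 Y := by
    simp only [g, Category.assoc, Category.comp_id]
    rw [← morphismRestrict_ι, IsIso.inv_hom_id_assoc]
  have hdense : Dense (V₀ : Set Y) := V₀.isOpen.dense hV₀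
  obtain ⟨V, v, hyV, hv1, -⟩ := exists_local_extension (𝟙 Y) f V₀ hdense g hg y
  rw [Category.comp_id] at hv1
  exact ⟨V, hyV, isIso_restrict_of_section f V₀ hV₀ V ⟨y, hyV⟩ v hv1⟩

end Groth.Agent.Helper4.BirIso
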