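import Groth.Agent.Lib.Helper4.CurveExt
import Groth.Prelude.Def_Curv2

/-!
# Morphisms of curves and maps of function fields (helper4)
-/

set_option autoImplicit false
universe u
open AlgebraicGeometry CategoryTheory CategoryTheory.Limits

namespace Groth.Agent.Helper4.CurveMor

/-- the structure morphism of a `k`-scheme restricted to the spectrum of a local ring -/
theorem fromSpecStalk_over (k : Type u) [Field k] (Z : Scheme.{u})
    [Z.Over (Spec (CommRingCat.of k))] (z : Z) :
    Z.fromSpecStalk z ≫ (Z ↘ Spec (CommRingCat.of k)) =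
      Spec.map (CommRingCat.ofHom (Curv2.stalkMap k Z z)) := by
  apply ext_of_isAffine
  rw [← cancel_epi (Scheme.ΓSpecIso (CommRingCat.of k)).inv,
    ← cancel_mono (Scheme.ΓSpecIso (Z.presheaf.stalk z)).hom]
  rw [Category.assoc, Category.assoc, Scheme.ΓSpecIso_naturality, Iso.inv_hom_id_assoc,
    Scheme.Hom.comp_appTop, Scheme.fromSpecStalk_appTop]
  simp only [Category.assoc]
  have h1 : (Spec (Z.presheaf.stalk z)).presheaf.map (homOfLE (le_top : (⊤ : (Spec (Z.presheaf.stalk z)).Opens) ≤ ⊤)).op = 𝟙 _ := by
    exact (Spec (Z.presheaf.stalk z)).presheaf.map_id _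
  rw [h1, Category.id_comp, Iso.inv_hom_id, Category.comp_id]
  rfl

/-- compatibility of `fromSpecStalk` with a morphism, in terms of a chosen image point -/
theorem fromSpecStalk_comp {X Y : Scheme.{u}} (u : X ⟶ Y) (x : X) (y : Y) (hu : u x = y) :
    X.fromSpecStalk x ≫ u =
      Spec.map (Y.presheaf.stalkSpecializes (specializes_of_eq hu) ≫ u.stalkMap x) ≫
        Y.fromSpecStalk y := by
  rw [Spec.map_comp, Category.assoc, Scheme.SpecMap_stalkSpecializes_fromSpecStalk,
    Scheme.SpecMap_stalkMap_fromSpecStalk]

instance isDominant_fromSpecStalk_genericPoint (X : Scheme.{u}) [IrreducibleSpace X] :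
    IsDominant (X.fromSpecStalk (genericPoint X)) := by
  refine ⟨?_⟩
  have h : genericPoint X ∈ Set.range (X.fromSpecStalk (genericPoint X)) := by
    rw [Scheme.range_fromSpecStalk]; exact specializes_rfl
  have hd : Dense ({genericPoint X} : Set X) := by
    rw [dense_iff_closure_eq]
    exact (genericPoint_spec X)
  exact hd.mono (Set.singleton_subset_iff.mpr h)

end Groth.Agent.Helper4.CurveMor
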