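import Groth.Agent.Lib.Helper4.ZMTBir
import Groth.Agent.Lib.Helper4.CurveMor

/-!
# Varieties with isomorphic function fields have isomorphic dense opens (helper4)
-/

set_option autoImplicit false
universe u
open AlgebraicGeometry CategoryTheory CategoryTheory.Limits

namespace Groth.Agent.Helper4.BirOpen

/-- identify the stalk map from a factorization through spectra of local rings -/
theorem stalkMap_of_fromSpecStalk_comp {Z X : Scheme.{u}} (g : Z ⟶ X) (z : Z) (x : X)
    (ρ : X.presheaf.stalk x ⟶ Z.presheaf.stalk z) [IsLocalHom ρ.hom]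
    (h : Z.fromSpecStalk z ≫ g = Spec.map ρ ≫ X.fromSpecStalk x) :
    ∃ hgz : g z = x, ρ = X.presheaf.stalkSpecializes (specializes_of_eq hgz) ≫ g.stalkMap z := by
  have hgz : g z = x := by
    have h1 := congrArg (fun q => q (IsLocalRing.closedPoint (Z.presheaf.stalk z))) h
    simp only [Scheme.Hom.comp_apply, Scheme.fromSpecStalk_closedPoint] at h1
    rw [h1]
    have h2 : (Spec.map ρ) (IsLocalRing.closedPoint (Z.presheaf.stalk z)) =
        IsLocalRing.closedPoint (X.presheaf.stalk x) :=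
      IsLocalRing.comap_closedPoint ρ.hom
    rw [h2, Scheme.fromSpecStalk_closedPoint]
  refine ⟨hgz, ?_⟩
  rw [Groth.Agent.Helper4.CurveMor.fromSpecStalk_comp g z x hgz, cancel_mono] at h
  exact (Spec.map_injective h).symm


theorem isIso_stalkSpecializes_of_eq (X : Scheme.{u}) {x y : X} (h : x = y) :
    IsIso (X.presheaf.stalkSpecializes (specializes_of_eq h)) := by
  subst h
  rw [TopCat.Presheaf.stalkSpecializes_refl]
  infer_instance

set_option backward.isDefEq.respectTransparency false in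
theorem main (k : Type u) [Field k] (X : Scheme.{u}) [X.Over (Spec (CommRingCat.of k))]
    [IsIntegral X] [IsSeparated (X ↘ (Spec (CommRingCat.of k)))]
    [LocallyOfFiniteType (X ↘ (Spec (CommRingCat.of k)))]
    (Y : Scheme.{u}) [Y.Over (Spec (CommRingCat.of k))] [IsIntegral Y]
    [IsSeparated (Y ↘ (Spec (CommRingCat.of k)))]
    [LocallyOfFiniteType (Y ↘ (Spec (CommRingCat.of k)))]
    (e : X.functionField ≅ Y.functionField)
    (he : e.hom.hom.comp (Curv2.stalkMap k X (genericPoint X)) =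
      Curv2.stalkMap k Y (genericPoint Y)) :
    ∃ (U : X.Opens) (V : Y.Opens), (U : Set ↥X).Nonempty ∧
      ∃ φ : (U : Scheme.{u}) ≅ (V : Scheme.{u}),
        φ.hom ≫ V.ι ≫ (Y ↘ (Spec (CommRingCat.of k))) =
          U.ι ≫ (X ↘ (Spec (CommRingCat.of k))) := by
  -- the rational map `Y ⇢ X`
  let φ₀ : Spec (Y.presheaf.stalk (genericPoint Y)) ⟶ X :=
    Spec.map e.hom ≫ X.fromSpecStalk (genericPoint X)
  have hφ₀ : φ₀ ≫ (X ↘ (Spec (CommRingCat.of k))) =
      Y.fromSpecStalk (genericPoint Y) ≫ (Y ↘ (Spec (CommRingCat.of k))) := by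
    rw [Category.assoc, Groth.Agent.Helper4.CurveMor.fromSpecStalk_over,
      Groth.Agent.Helper4.CurveMor.fromSpecStalk_over, ← Spec.map_comp]
    congr 1
    ext c
    exact congrArg (fun q => q c) he
  obtain ⟨V₀, hηV₀, g, hg1, hg2⟩ := spread_out_of_isGermInjective'
    (Y ↘ (Spec (CommRingCat.of k))) (X ↘ (Spec (CommRingCat.of k))) φ₀ hφ₀
  haveI : Nonempty (V₀ : Scheme.{u}) := ⟨⟨genericPoint Y, hηV₀⟩⟩
  -- `g` is separated and locally of finite type
  haveI : LocallyOfFiniteType (g ≫ (X ↘ (Spec (CommRingCat.of k)))) := by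
    rw [hg2]; infer_instance
  haveI : LocallyOfFiniteType g :=
    locallyOfFiniteType_of_comp g (X ↘ (Spec (CommRingCat.of k)))
  haveI : IsSeparated (g ≫ (X ↘ (Spec (CommRingCat.of k)))) := by
    rw [hg2]; infer_instance
  haveI : IsSeparated g := IsSeparated.of_comp g (X ↘ (Spec (CommRingCat.of k)))
  -- the conclusion from the generic behaviour of `g`
  have key : ∀ (z : (V₀ : Scheme.{u})) (_ : z = genericPoint (V₀ : Scheme.{u}))
      (_ : g z = genericPoint X) (_ : IsIso (g.stalkMap z)),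
      ∃ (U : X.Opens) (V : Y.Opens), (U : Set ↥X).Nonempty ∧
        ∃ φ : (U : Scheme.{u}) ≅ (V : Scheme.{u}),
          φ.hom ≫ V.ι ≫ (Y ↘ (Spec (CommRingCat.of k))) =
            U.ι ≫ (X ↘ (Spec (CommRingCat.of k))) := by
    intro z hzgen hgz hiso
    subst hzgen
    have hq : g.QuasiFiniteAt (genericPoint (V₀ : Scheme.{u})) := by
      have hb : Function.Bijective (g.stalkMap (genericPoint (V₀ : Scheme.{u}))).hom :=
        ConcreteCategory.bijective_of_isIso _
      exact RingHom.QuasiFinite.of_finite (RingHom.Finite.of_surjective _ hb.2)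
    have hy : IsIntegrallyClosed (X.presheaf.stalk (g (genericPoint (V₀ : Scheme.{u})))) := by
      rw [hgz]
      letI : Field (X.presheaf.stalk (genericPoint X)) := (inferInstance : Field X.functionField)
      infer_instance
    obtain ⟨U, hU, hUiso⟩ := Groth.Agent.Helper4.ZMTBir.exists_isIso_morphismRestrict g hgz hiso
      (genericPoint (V₀ : Scheme.{u})) hq hy
    refine ⟨U, V₀.ι ''ᵁ (g ⁻¹ᵁ U), ⟨_, hU⟩,
      (asIso (g ∣_ U)).symm ≪≫ (V₀.ι.isoImage (g ⁻¹ᵁ U)), ?_⟩
    simp only [Iso.trans_hom, Iso.symm_hom, asIso_inv, Category.assoc]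
    rw [← Category.assoc (V₀.ι.isoImage (g ⁻¹ᵁ U)).hom]
    have h3 : (V₀.ι.isoImage (g ⁻¹ᵁ U)).hom ≫ (V₀.ι ''ᵁ (g ⁻¹ᵁ U)).ι =
        (g ⁻¹ᵁ U).ι ≫ V₀.ι := Scheme.Hom.isoImage_hom_ι _ _
    rw [h3, Category.assoc, ← hg2, ← Category.assoc (g ⁻¹ᵁ U).ι, ← morphismRestrict_ι,
      Category.assoc, IsIso.inv_hom_id_assoc]
  have hzgen : (⟨genericPoint Y, hηV₀⟩ : (V₀ : Scheme.{u})) = genericPoint (V₀ : Scheme.{u}) := by
    apply V₀.ι.isOpenEmbedding.injective
    rw [genericPoint_eq_of_isOpenImmersion V₀.ι]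
    rfl
  -- the stalk map of `g` at the generic point
  have hfac : (V₀ : Scheme.{u}).fromSpecStalk ⟨genericPoint Y, hηV₀⟩ ≫ g =
      Spec.map (e.hom ≫ V₀.ι.stalkMap ⟨genericPoint Y, hηV₀⟩) ≫
        X.fromSpecStalk (genericPoint X) := by
    rw [Spec.map_comp, Category.assoc]
    change _ = _ ≫ φ₀
    rw [hg1, Scheme.Opens.fromSpecStalkOfMem]
    simp only [Category.assoc]
    rw [← Spec.map_comp_assoc, IsIso.inv_hom_id, Spec.map_id, Category.id_comp]
  haveI : IsIso (e.hom ≫ V₀.ι.stalkMap ⟨genericPoint Y, hηV₀⟩) := inferInstance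
  haveI : IsLocalHom (e.hom ≫ V₀.ι.stalkMap ⟨genericPoint Y, hηV₀⟩).hom :=
    isLocalHom_of_isIso (e.hom ≫ V₀.ι.stalkMap ⟨genericPoint Y, hηV₀⟩)
  obtain ⟨hgz, hρ⟩ := stalkMap_of_fromSpecStalk_comp g ⟨genericPoint Y, hηV₀⟩ (genericPoint X)
    (e.hom ≫ V₀.ι.stalkMap ⟨genericPoint Y, hηV₀⟩) hfac
  have hiso : IsIso (g.stalkMap ⟨genericPoint Y, hηV₀⟩) := by
    haveI := isIso_stalkSpecializes_of_eq X hgz
    haveI : IsIso (X.presheaf.stalkSpecializes (specializes_of_eq hgz) ≫
        g.stalkMap ⟨genericPoint Y, hηV₀⟩) := by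
      rw [← hρ]; infer_instance
    exact IsIso.of_isIso_comp_left (X.presheaf.stalkSpecializes (specializes_of_eq hgz)) _
  exact key _ hzgen hgz hiso

end Groth.Agent.Helper4.BirOpen
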