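import Groth.Agent.Lib.Helper4.BirOpen

/-!
# Spreading out an isomorphism of function fields (helper4)
-/

set_option autoImplicit false
universe u
open AlgebraicGeometry CategoryTheory CategoryTheory.Limits

namespace Groth.Agent.Helper4.BirOpen

set_option backward.isDefEq.respectTransparency false in
/-- an isomorphism of function fields over `k` spreads out to a morphism from a dense open,
birational at the generic point -/
theorem exists_spread (k : Type u) [Field k] (X : Scheme.{u}) [X.Over (Spec (CommRingCat.of k))]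
    [IsIntegral X] [LocallyOfFiniteType (X ↘ (Spec (CommRingCat.of k)))]
    (Y : Scheme.{u}) [Y.Over (Spec (CommRingCat.of k))] [IsIntegral Y]
    (e : X.functionField ≅ Y.functionField)
    (he : e.hom.hom.comp (Curv2.stalkMap k X (genericPoint X)) =
      Curv2.stalkMap k Y (genericPoint Y)) :
    ∃ (V₀ : Y.Opens) (hη : genericPoint Y ∈ V₀) (g : (V₀ : Scheme.{u}) ⟶ X),
      g ≫ (X ↘ (Spec (CommRingCat.of k))) = V₀.ι ≫ (Y ↘ (Spec (CommRingCat.of k))) ∧
      ∃ _ : g ⟨genericPoint Y, hη⟩ = genericPoint X, IsIso (g.stalkMap ⟨genericPoint Y, hη⟩) := by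
  let φ₀ : Spec (Y.presheaf.stalk (genericPoint Y)) ⟶ X :=
    Spec.map e.hom ≫ X.fromSpecStalk (genericPoint X)
  have hφ₀ : φ₀ ≫ (X ↘ (Spec (CommRingCat.of k))) =
      Y.fromSpecStalk (genericPoint Y) ≫ (Y ↘ (Spec (CommRingCat.of k))) := by
    rw [Category.assoc, Groth.Agent.Helper4.CurveMor.fromSpecStalk_over,
      Groth.Agent.Helper4.CurveMor.fromSpecStalk_over, ← Spec.map_comp]
    congr 1
    ext c
    exact congrArg (fun q => q c) he
  obtain ⟨V₀, hηV₀, g, hg1, hg2⟩ := spread_out_of_isGermInjective'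
    (Y ↘ (Spec (CommRingCat.of k))) (X ↘ (Spec (CommRingCat.of k))) φ₀ hφ₀
  refine ⟨V₀, hηV₀, g, hg2, ?_⟩
  have hfac : (V₀ : Scheme.{u}).fromSpecStalk ⟨genericPoint Y, hηV₀⟩ ≫ g =
      Spec.map (e.hom ≫ V₀.ι.stalkMap ⟨genericPoint Y, hηV₀⟩) ≫
        X.fromSpecStalk (genericPoint X) := by
    rw [Spec.map_comp, Category.assoc]
    change _ = _ ≫ φ₀
    rw [hg1, Scheme.Opens.fromSpecStalkOfMem]
    simp only [Category.assoc]
    rw [← Spec.map_comp_assoc, IsIso.inv_hom_id, Spec.map_id, Category.id_comp]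
  haveI : IsIso (e.hom ≫ V₀.ι.stalkMap ⟨genericPoint Y, hηV₀⟩) := inferInstance
  haveI : IsLocalHom (e.hom ≫ V₀.ι.stalkMap ⟨genericPoint Y, hηV₀⟩).hom :=
    isLocalHom_of_isIso (e.hom ≫ V₀.ι.stalkMap ⟨genericPoint Y, hηV₀⟩)
  obtain ⟨hgz, hρ⟩ := stalkMap_of_fromSpecStalk_comp g ⟨genericPoint Y, hηV₀⟩ (genericPoint X)
    (e.hom ≫ V₀.ι.stalkMap ⟨genericPoint Y, hηV₀⟩) hfac
  refine ⟨hgz, ?_⟩
  haveI := isIso_stalkSpecializes_of_eq X hgz
  haveI : IsIso (X.presheaf.stalkSpecializes (specializes_of_eq hgz) ≫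
      g.stalkMap ⟨genericPoint Y, hηV₀⟩) := by
    rw [← hρ]; infer_instance
  exact IsIso.of_isIso_comp_left (X.presheaf.stalkSpecializes (specializes_of_eq hgz)) _

end Groth.Agent.Helper4.BirOpen
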