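import Groth.Agent.Lib.Helper4.ValIso
import Groth.Agent.S7658

/-!
# Birational morphisms to schemes whose local rings are valuation rings (helper4)
-/

set_option autoImplicit false
universe u
open AlgebraicGeometry CategoryTheory CategoryTheory.Limits

namespace Groth.Agent.Helper4.BirStalk

variable {X Y : Scheme.{u}} [IsIntegral X] [IsIntegral Y] (f : X ⟶ Y)

/-- compatibility of the stalk map with the maps to the function fields -/
theorem stalkMap_compat (e : f (genericPoint X) = genericPoint Y) (x : X)
    (a : Y.presheaf.stalk (f x)) :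
    algebraMap (X.presheaf.stalk x) X.functionField (f.stalkMap x a) =
      (Y.presheaf.stalkSpecializes (specializes_of_eq e) ≫ f.stalkMap (genericPoint X)).hom
        (algebraMap (Y.presheaf.stalk (f x)) Y.functionField a) := by
  have hX : genericPoint X ⤳ x := (genericPoint_spec X).specializes trivial
  have hY : genericPoint Y ⤳ f x := (genericPoint_spec Y).specializes trivial
  have h1 : algebraMap (X.presheaf.stalk x) X.functionField (f.stalkMap x a) =
      (f.stalkMap x ≫ X.presheaf.stalkSpecializes hX).hom a := rfl
  have h2 : algebraMap (Y.presheaf.stalk (f x)) Y.functionField a =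
      (Y.presheaf.stalkSpecializes hY).hom a := rfl
  rw [h1, h2, ← Scheme.Hom.stalkSpecializes_stalkMap f (genericPoint X) x hX,
    ← CommRingCat.comp_apply, ← Category.assoc,
    TopCat.Presheaf.stalkSpecializes_comp]

/-- A birational morphism of integral schemes induces bijections on the local rings at all
points whose image has a valuation ring as local ring. -/
theorem stalkMap_bijective (e : f (genericPoint X) = genericPoint Y)
    (hbir : Function.Bijective
      (Y.presheaf.stalkSpecializes (specializes_of_eq e) ≫ f.stalkMap (genericPoint X)).hom)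
    (x : X) [ValuationRing (Y.presheaf.stalk (f x))] :
    Function.Bijective (f.stalkMap x).hom := by
  set ψ := (Y.presheaf.stalkSpecializes (specializes_of_eq e) ≫ f.stalkMap (genericPoint X)).hom
    with hψ
  have hcompat := stalkMap_compat f e x
  have hinjB : Function.Injective (algebraMap (X.presheaf.stalk x) X.functionField) :=
    IsFractionRing.injective _ _
  have hinjA : Function.Injective (algebraMap (Y.presheaf.stalk (f x)) Y.functionField) :=
    IsFractionRing.injective _ _
  have hinj : Function.Injective (f.stalkMap x).hom := by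
    rw [injective_iff_map_eq_zero]
    intro a ha
    apply hinjA
    apply hbir.1
    rw [map_zero, map_zero]
    have := hcompat a
    rw [show (f.stalkMap x) a = (f.stalkMap x).hom a from rfl, ha, map_zero] at this
    exact this.symm
  refine ⟨hinj, ?_⟩
  apply Groth.Agent.Helper4.ValIso.surjective_of_valuationRing (f.stalkMap x).hom hinj
  · intro a ha
    exact (isUnit_map_iff (f.stalkMap x).hom a).mp ha
  · intro b
    obtain ⟨c, hc⟩ := hbir.2 (algebraMap (X.presheaf.stalk x) X.functionField b)
    obtain ⟨⟨a₁, a₂⟩, ha⟩ := IsLocalization.surj (nonZeroDivisors (Y.presheaf.stalk (f x))) c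
    refine ⟨a₁, a₂.1, nonZeroDivisors.ne_zero a₂.2, ?_⟩
    apply hinjB
    rw [map_mul]
    have e1 := hcompat a₂.1
    have e2 := hcompat a₁
    rw [show (f.stalkMap x).hom a₂.1 = (f.stalkMap x) a₂.1 from rfl,
      show (f.stalkMap x).hom a₁ = (f.stalkMap x) a₁ from rfl, e1, e2, ← hc, ← map_mul,
      mul_comm]
    exact congrArg ψ ha


/-- In an integral scheme, a point whose local ring is a field is the generic point. -/
theorem eq_genericPoint_of_isField (x : X) (h : IsField (X.presheaf.stalk x)) :
    x = genericPoint X := by
  have hX : genericPoint X ⤳ x := (genericPoint_spec X).specializes trivial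
  have h1 : genericPoint X ∈ Set.range (X.fromSpecStalk x) := by
    rw [Scheme.range_fromSpecStalk]; exact hX
  obtain ⟨p, hp⟩ := h1
  have hp' : p = IsLocalRing.closedPoint (X.presheaf.stalk x) := by
    letI := h.toField
    apply PrimeSpectrum.ext
    exact (Ideal.eq_bot_of_prime p.asIdeal).trans
      (Ideal.eq_bot_of_prime (IsLocalRing.closedPoint (X.presheaf.stalk x)).asIdeal).symm
  rw [← hp, hp', Scheme.fromSpecStalk_closedPoint]

/-- the only point over the generic point is the generic point -/
theorem eq_genericPoint_of_map_eq (e : f (genericPoint X) = genericPoint Y)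
    (hbir : Function.Bijective
      (Y.presheaf.stalkSpecializes (specializes_of_eq e) ≫ f.stalkMap (genericPoint X)).hom)
    (x : X) (hx : f x = genericPoint Y) : x = genericPoint X := by
  have hfield : ∀ y : Y, y = genericPoint Y → IsField (Y.presheaf.stalk y) := by
    rintro _ rfl
    exact Field.toIsField Y.functionField
  have hA := hfield (f x) hx
  haveI : ValuationRing (Y.presheaf.stalk (f x)) := by
    letI := hA.toField
    infer_instance
  have hb := stalkMap_bijective f e hbir x
  apply eq_genericPoint_of_isField
  exact MulEquiv.isField hA (RingEquiv.ofBijective (f.stalkMap x).hom hb).symm.toMulEquiv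

set_option backward.isDefEq.respectTransparency false in
/-- a section through the generic point makes a separated morphism of integral schemes an
isomorphism over the corresponding open -/
theorem isIso_restrict_of_section [IsSeparated f] (V : Y.Opens) (v : (V : Scheme.{u}) ⟶ X)
    (hv : v ≫ f = V.ι) (hgen : genericPoint X ∈ Set.range v) : IsIso (f ∣_ V) := by
  have hvpt : ∀ y : (V : Scheme.{u}), f (v y) = y.1 := by
    intro y
    rw [← Scheme.Hom.comp_apply, hv]; rfl
  have hr : Set.range v ⊆ Set.range (f ⁻¹ᵁ V).ι := by
    rintro _ ⟨y, rfl⟩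
    rw [Scheme.Opens.range_ι]
    show f (v y) ∈ V
    rw [hvpt]; exact y.2
  let σ : (V : Scheme.{u}) ⟶ (f ⁻¹ᵁ V : X.Opens) := IsOpenImmersion.lift (f ⁻¹ᵁ V).ι v hr
  have hσ : σ ≫ (f ⁻¹ᵁ V).ι = v := IsOpenImmersion.lift_fac _ _ _
  have hσf : σ ≫ (f ∣_ V) = 𝟙 _ := by
    rw [← cancel_mono V.ι, Category.assoc, morphismRestrict_ι, ← Category.assoc, hσ, hv,
      Category.id_comp]
  haveI : IsClosedImmersion (σ ≫ (f ∣_ V)) := by rw [hσf]; infer_instance
  haveI : IsClosedImmersion σ := IsClosedImmersion.of_comp σ (f ∣_ V)
  obtain ⟨y₀, hy₀⟩ := hgen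
  haveI : Surjective σ := by
    refine ⟨fun z => ?_⟩
    have hcl : IsClosed (Set.range σ) := σ.isClosedEmbedding.isClosed_range
    have h1 : (σ y₀).1 = genericPoint X := by
      rw [← hy₀, ← hσ, Scheme.Hom.comp_apply]; rfl
    have h2 : σ y₀ ⤳ z := by
      have h3 : (σ y₀).1 ⤳ z.1 := by
        rw [h1]; exact (genericPoint_spec X).specializes trivial
      exact (subtype_specializes_iff (σ y₀) z).mpr h3
    exact hcl.closure_subset_iff.mpr (Set.singleton_subset_iff.mpr ⟨y₀, rfl⟩)
      (specializes_iff_mem_closure.mp h2)
  haveI : IsIso σ := isIso_of_isClosedImmersion_of_surjective σ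
  haveI : IsIso (σ ≫ (f ∣_ V)) := by rw [hσf]; infer_instance
  exact IsIso.of_isIso_comp_left σ (f ∣_ V)

set_option backward.isDefEq.respectTransparency false in
/-- A separated birational morphism locally of finite type between integral schemes is an open
immersion if all local rings of the target are valuation rings. -/
theorem isOpenImmersion_of_birational [IsSeparated f] [LocallyOfFiniteType f]
    (hval : ∀ y : Y, ValuationRing (Y.presheaf.stalk y))
    (e : f (genericPoint X) = genericPoint Y)
    (hbir : Function.Bijective
      (Y.presheaf.stalkSpecializes (specializes_of_eq e) ≫ f.stalkMap (genericPoint X)).hom) :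
    IsOpenImmersion f := by
  apply Groth.Agent.S7658.result f
  · intro x
    haveI := hval (f x)
    have hb := stalkMap_bijective f e hbir x
    haveI : IsIso (f.stalkMap x) := by
      have : IsIso ((forget CommRingCat).map (f.stalkMap x)) := (isIso_iff_bijective _).mpr hb
      exact isIso_of_reflects_iso (f.stalkMap x) (forget CommRingCat)
    let φ : Spec (Y.presheaf.stalk (f x)) ⟶ X := Spec.map (inv (f.stalkMap x)) ≫ X.fromSpecStalk x
    have hφ : φ ≫ f = Y.fromSpecStalk (f x) ≫ 𝟙 Y := by
      rw [Category.comp_id, Category.assoc, ← Scheme.SpecMap_stalkMap_fromSpecStalk,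
        ← Spec.map_comp_assoc, IsIso.hom_inv_id, Spec.map_id, Category.id_comp]
    obtain ⟨V, hyV, σ, hσ1, hσ2⟩ :=
      spread_out_of_isGermInjective' (𝟙 Y) f (x := f x) φ hφ
    rw [Category.comp_id] at hσ2
    -- the section maps the generic point to the generic point
    have hVne : genericPoint Y ∈ V :=
      ((genericPoint_spec Y).mem_open_set_iff V.isOpen).mpr ⟨f x, trivial, hyV⟩
    have hgen : genericPoint X ∈ Set.range σ := by
      refine ⟨⟨genericPoint Y, hVne⟩, ?_⟩
      apply eq_genericPoint_of_map_eq f e hbir
      rw [← Scheme.Hom.comp_apply, hσ2]; rfl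
    haveI := isIso_restrict_of_section f V σ hσ2 hgen
    -- the point x lies in the preimage of V
    refine ⟨f ⁻¹ᵁ V, hyV, ?_⟩
    rw [← morphismRestrict_ι]
    infer_instance
  · intro ξ ξ' hξ hξ' _
    have key : ∀ ζ : X, closure ({ζ} : Set X) ∈ irreducibleComponents X → ζ = genericPoint X := by
      intro ζ hζ
      rw [irreducibleComponents_eq_singleton, Set.mem_singleton_iff] at hζ
      exact ((genericPoint_spec X).eq (by rw [isGenericPoint_def, hζ])).symm
    rw [key ξ hξ, key ξ' hξ']

end Groth.Agent.Helper4.BirStalk
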