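import Mathlib

/-!
# Zariski's main theorem for birational algebras over a normal local ring (helper4)

If `A ⊆ B` are domains with the same fraction field, `B` of finite type over `A`, quasi-finite at
a prime `q` over `p`, and `A_p` integrally closed, then `A_s = B_s` for some `s ∉ p`.
-/

set_option autoImplicit false

namespace Groth.Agent.Helper4.ZMTAlg

variable {A B : Type*} [CommRing A] [CommRing B] [Algebra A B] (L : Type*) [Field L] [Algebra A L]
  [Algebra B L] [IsScalarTower A B L] [IsFractionRing A L] [IsFractionRing B L]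

include L

/-- an element of `B` integral over `A` lies in `A_p` when `A_p` is integrally closed -/
theorem exists_mul_eq_of_isIntegral (p : Ideal A) [p.IsPrime] (Ap : Type*) [CommRing Ap]
    [Algebra A Ap] [IsLocalization.AtPrime Ap p] [IsIntegrallyClosed Ap] (b : B)
    (hb : IsIntegral A b) :
    ∃ t ∉ p, ∃ a : A, algebraMap A B t * b = algebraMap A B a := by
  have hinjA : Function.Injective (algebraMap A L) := IsFractionRing.injective A L
  have hinjB : Function.Injective (algebraMap B L) := IsFractionRing.injective B L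
  haveI : IsDomain A := hinjA.isDomain _
  have hunit : ∀ y : p.primeCompl, IsUnit (algebraMap A L y) := by
    intro y
    refine IsUnit.mk0 _ ?_
    intro h0
    have : (y : A) = 0 := hinjA (by rw [h0, map_zero])
    exact y.2 (this ▸ p.zero_mem)
  letI : Algebra Ap L := (IsLocalization.lift (M := p.primeCompl) (S := Ap) hunit).toAlgebra
  haveI : IsScalarTower A Ap L := IsScalarTower.of_algebraMap_eq fun a => by
    rw [RingHom.algebraMap_toAlgebra, IsLocalization.lift_eq]
  haveI : IsFractionRing Ap L :=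
    IsFractionRing.isFractionRing_of_isDomain_of_isLocalization p.primeCompl Ap L
  have h1 : IsIntegral A (algebraMap B L b) := hb.algebraMap
  have h2 : IsIntegral Ap (algebraMap B L b) := h1.tower_top
  obtain ⟨y, hy⟩ := IsIntegrallyClosed.isIntegral_iff.mp h2
  obtain ⟨⟨a, t⟩, hat⟩ := IsLocalization.surj p.primeCompl y
  refine ⟨t, t.2, a, hinjB ?_⟩
  have h3 := congrArg (algebraMap Ap L) hat
  rw [map_mul, hy, ← IsScalarTower.algebraMap_apply, ← IsScalarTower.algebraMap_apply] at h3
  rw [map_mul, ← IsScalarTower.algebraMap_apply, ← IsScalarTower.algebraMap_apply, mul_comm]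
  exact h3

/-- Zariski's main theorem: every element of `B` lies in `A_p` -/
theorem exists_mul_eq (q : Ideal B) [q.IsPrime] [Algebra.FiniteType A B]
    [Algebra.QuasiFiniteAt A q] (Ap : Type*) [CommRing Ap]
    [Algebra A Ap] [IsLocalization.AtPrime Ap (q.under A)] [IsIntegrallyClosed Ap] (b : B) :
    ∃ t ∉ q.under A, ∃ a : A, algebraMap A B t * b = algebraMap A B a := by
  obtain ⟨r, hrq, hr, hrx⟩ := Algebra.zariskisMainProperty_iff.mp
    (Algebra.ZariskisMainProperty.of_finiteType (R := A) q)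
  obtain ⟨t₀, ht₀, a₀, h₀⟩ := exists_mul_eq_of_isIntegral L (q.under A) Ap r hr
  have ha₀ : a₀ ∉ q.under A := by
    rw [Ideal.mem_comap, ← h₀]
    intro h
    rcases Ideal.IsPrime.mem_or_mem inferInstance h with h | h
    · exact ht₀ h
    · exact hrq h
  obtain ⟨m, hm⟩ := hrx b
  obtain ⟨t₁, ht₁, a₁, h₁⟩ := exists_mul_eq_of_isIntegral L (q.under A) Ap _ hm
  refine ⟨a₀ ^ m * t₁, ?_, t₀ ^ m * a₁, ?_⟩
  · intro h
    rcases Ideal.IsPrime.mem_or_mem inferInstance h with h | h
    · exact ha₀ (Ideal.IsPrime.mem_of_pow_mem inferInstance _ h)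
    · exact ht₁ h
  · rw [map_mul, map_pow, ← h₀, map_mul, map_pow, ← h₁]
    ring

omit L [Field L] [Algebra A L] [Algebra B L] [IsScalarTower A B L] [IsFractionRing A L]
  [IsFractionRing B L] in
/-- the elements of `B` that become elements of `A` after multiplying by a power of `s` -/
def awaySub (s : A) : Subalgebra A B where
  carrier := {b | ∃ (n : ℕ) (a : A), algebraMap A B s ^ n * b = algebraMap A B a}
  mul_mem' := by
    rintro b b' ⟨n, a, h⟩ ⟨n', a', h'⟩
    refine ⟨n + n', a * a', ?_⟩
    rw [map_mul, ← h, ← h']; ring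
  add_mem' := by
    rintro b b' ⟨n, a, h⟩ ⟨n', a', h'⟩
    refine ⟨n + n', s ^ n' * a + s ^ n * a', ?_⟩
    rw [map_add, map_mul, map_mul, map_pow, map_pow, ← h, ← h']; ring
  algebraMap_mem' := fun a => ⟨0, a, by simp⟩

/-- uniform denominator -/
theorem exists_forall_pow_mul_eq (q : Ideal B) [q.IsPrime] [Algebra.FiniteType A B]
    [Algebra.QuasiFiniteAt A q] (Ap : Type*) [CommRing Ap]
    [Algebra A Ap] [IsLocalization.AtPrime Ap (q.under A)] [IsIntegrallyClosed Ap] :
    ∃ s : A, s ∉ q.under A ∧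
      ∀ b : B, ∃ (n : ℕ) (a : A), algebraMap A B s ^ n * b = algebraMap A B a := by
  classical
  obtain ⟨T, hT⟩ := Algebra.FiniteType.out (R := A) (A := B)
  choose t ht a hta using exists_mul_eq (A := A) L q Ap
  refine ⟨∏ b ∈ T, t b, ?_, ?_⟩
  · intro h
    obtain ⟨b, -, hb⟩ := (Ideal.IsPrime.prod_mem_iff (hp := inferInstance)).mp h
    exact ht b hb
  · have hle : Algebra.adjoin A (T : Set B) ≤ awaySub (B := B) (∏ b ∈ T, t b) := by
      refine Algebra.adjoin_le ?_
      intro b hb
      refine ⟨1, (∏ c ∈ T.erase b, t c) * a b, ?_⟩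
      rw [pow_one, ← Finset.mul_prod_erase T t hb, map_mul, map_mul, ← hta b]
      ring
    intro b
    have : b ∈ awaySub (B := B) (∏ b ∈ T, t b) := hle (hT ▸ Algebra.mem_top)
    exact this

omit L [Field L] [Algebra A L] [Algebra B L] [IsScalarTower A B L] [IsFractionRing A L]
  [IsFractionRing B L] [Algebra A B] in
/-- if `φ : A → B` is injective and every `b ∈ B` satisfies `s ^ n b ∈ A`, the induced map of
localizations `A_s → B_s` is bijective -/
theorem bijective_of_forall_pow_mul_eq {A' B' : Type*} [CommRing A'] [CommRing B']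
    [Algebra A A'] [Algebra B B'] (φ : A →+* B) (s : A) [IsLocalization.Away s A']
    [IsLocalization.Away (φ s) B'] (ψ : A' →+* B')
    (hψ : ∀ a, ψ (algebraMap A A' a) = algebraMap B B' (φ a))
    (hinj : Function.Injective φ) (h : ∀ b : B, ∃ (n : ℕ) (a : A), φ s ^ n * b = φ a) :
    Function.Bijective ψ := by
  constructor
  · rw [injective_iff_map_eq_zero]
    intro a' ha'
    obtain ⟨⟨a, ⟨_, k, rfl⟩⟩, hk⟩ := IsLocalization.surj (Submonoid.powers s) a'
    dsimp only at hk
    have h1 : algebraMap B B' (φ a) = 0 := by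
      rw [← hψ, ← hk, map_mul, ha', zero_mul]
    obtain ⟨⟨_, m, rfl⟩, hm⟩ := (IsLocalization.map_eq_zero_iff (Submonoid.powers (φ s)) B' _).mp h1
    dsimp only at hm
    have h2 : s ^ m * a = 0 := hinj (by rw [map_mul, map_pow, hm, map_zero])
    have h3 : algebraMap A A' a = 0 :=
      (IsLocalization.map_eq_zero_iff (Submonoid.powers s) A' _).mpr ⟨⟨_, m, rfl⟩, h2⟩
    have hu : IsUnit (algebraMap A A' (s ^ k)) :=
      IsLocalization.map_units A' (⟨s ^ k, k, rfl⟩ : Submonoid.powers s)
    rw [h3] at hk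
    exact (hu.mul_left_eq_zero).mp hk
  · intro b'
    obtain ⟨⟨b, ⟨_, k, rfl⟩⟩, hk⟩ := IsLocalization.surj (Submonoid.powers (φ s)) b'
    dsimp only at hk
    obtain ⟨n, a, hna⟩ := h b
    have hu : IsUnit (algebraMap A A' (s ^ (n + k))) :=
      IsLocalization.map_units A' (⟨s ^ (n + k), n + k, rfl⟩ : Submonoid.powers s)
    obtain ⟨u, hu'⟩ := hu
    refine ⟨algebraMap A A' a * ↑u⁻¹, ?_⟩
    have hub : IsUnit (algebraMap B B' (φ s ^ (n + k))) :=
      IsLocalization.map_units B' (⟨φ s ^ (n + k), n + k, rfl⟩ : Submonoid.powers (φ s))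
    apply hub.mul_left_injective
    dsimp only
    have h4 : ψ (↑u⁻¹) * algebraMap B B' (φ s ^ (n + k)) = 1 := by
      rw [← map_pow, ← hψ, ← hu', ← map_mul, Units.inv_mul, map_one]
    rw [map_mul, mul_assoc, h4, mul_one, hψ, ← hna, pow_add, map_mul, map_mul, ← hk]
    ring

end Groth.Agent.Helper4.ZMTAlg
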