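import Mathlib
import Groth.Agent.Lib.Helper4.ZMTAlg

/-!
# Birational separated morphisms are local isomorphisms at quasi-finite points over normal points
(helper4)
-/

set_option autoImplicit false
universe u
open AlgebraicGeometry CategoryTheory CategoryTheory.Limits

namespace Groth.Agent.Helper4.ZMTBir

/-- sections over an affine open of an integral scheme, with fraction ring the stalk at a point
equal to the generic point -/
theorem isFractionRing_stalk_of_eq_genericPoint {Y : Scheme.{u}} [IsIntegral Y] (U : Y.Opens)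
    (hU : IsAffineOpen U) (y : Y) (hy : y = genericPoint Y) (hyU : y ∈ U) :
    letI : Algebra Γ(Y, U) (Y.presheaf.stalk y) := (Y.presheaf.germ U y hyU).hom.toAlgebra
    IsFractionRing Γ(Y, U) (Y.presheaf.stalk y) := by
  subst hy
  haveI : Nonempty U := ⟨⟨_, hyU⟩⟩
  exact functionField_isFractionRing_of_isAffineOpen Y U hU

/-- `Γ(Y,U) → K(X)` is a fraction ring when `f` is birational -/
theorem isFractionRing_comp {X Y : Scheme.{u}} [IsIntegral X] [IsIntegral Y] (f : X ⟶ Y)
    (hgen : f (genericPoint X) = genericPoint Y) (hbir : IsIso (f.stalkMap (genericPoint X)))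
    (U : Y.Opens) (hU : IsAffineOpen U) (hηU : f (genericPoint X) ∈ U) :
    letI : Algebra Γ(Y, U) X.functionField :=
      (Y.presheaf.germ U _ hηU ≫ f.stalkMap (genericPoint X)).hom.toAlgebra
    IsFractionRing Γ(Y, U) X.functionField := by
  letI : Algebra Γ(Y, U) (Y.presheaf.stalk (f (genericPoint X))) :=
    (Y.presheaf.germ U _ hηU).hom.toAlgebra
  haveI := isFractionRing_stalk_of_eq_genericPoint U hU _ hgen hηU
  letI : Algebra Γ(Y, U) X.functionField :=
    (Y.presheaf.germ U _ hηU ≫ f.stalkMap (genericPoint X)).hom.toAlgebra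
  have hbij : Function.Bijective (f.stalkMap (genericPoint X)).hom :=
    ConcreteCategory.bijective_of_isIso (f.stalkMap (genericPoint X))
  let e : (Y.presheaf.stalk (f (genericPoint X))) ≃ₐ[Γ(Y, U)] X.functionField :=
    AlgEquiv.ofBijective ⟨(f.stalkMap (genericPoint X)).hom, fun a => rfl⟩ hbij
  exact IsLocalization.isLocalization_of_algEquiv (nonZeroDivisors Γ(Y, U)) e

set_option backward.isDefEq.respectTransparency.types false in
/-- a birational morphism locally of finite type between integral schemes is a local isomorphism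
at a quasi-finite point lying over a normal point -/
theorem exists_isIso_resLE {X Y : Scheme.{u}} [IsIntegral X] [IsIntegral Y] (f : X ⟶ Y)
    [LocallyOfFiniteType f]
    (hgen : f (genericPoint X) = genericPoint Y) (hbir : IsIso (f.stalkMap (genericPoint X)))
    (x : X) (hq : f.QuasiFiniteAt x) (hy : IsIntegrallyClosed (Y.presheaf.stalk (f x))) :
    ∃ (V : Y.Opens) (W : X.Opens) (e : W ≤ f ⁻¹ᵁ V), x ∈ W ∧ IsIso (f.resLE V W e) := by
  obtain ⟨_, ⟨U, hU, rfl⟩, hxU, -⟩ := Y.isBasis_affineOpens.exists_subset_of_mem_open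
    (Set.mem_univ (f x)) isOpen_univ
  obtain ⟨_, ⟨W₀, hW₀, rfl⟩, hxW₀, hW₀U : W₀ ≤ f ⁻¹ᵁ U⟩ :=
    X.isBasis_affineOpens.exists_subset_of_mem_open hxU (f ⁻¹ᵁ U).2
  have hft : (f.appLE U W₀ hW₀U).hom.FiniteType := f.finiteType_appLE hU hW₀ hW₀U
  algebraize [(f.appLE U W₀ hW₀U).hom]
  haveI : Nonempty W₀ := ⟨⟨x, hxW₀⟩⟩
  have hηW : genericPoint X ∈ W₀ :=
    ((genericPoint_spec X).mem_open_set_iff W₀.isOpen).mpr ⟨x, trivial, hxW₀⟩
  have hηU : f (genericPoint X) ∈ U := hW₀U hηW
  letI : Algebra Γ(Y, U) X.functionField :=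
    (Y.presheaf.germ U _ hηU ≫ f.stalkMap (genericPoint X)).hom.toAlgebra
  haveI := isFractionRing_comp f hgen hbir U hU hηU
  haveI : IsFractionRing Γ(X, W₀) X.functionField :=
    functionField_isFractionRing_of_isAffineOpen X W₀ hW₀
  haveI : IsScalarTower Γ(Y, U) Γ(X, W₀) X.functionField := by
    refine IsScalarTower.of_algebraMap_eq' ?_
    simp only [RingHom.algebraMap_toAlgebra]
    rw [← CommRingCat.hom_comp, Scheme.Hom.germ_stalkMap, Scheme.Hom.appLE, Category.assoc,
      X.presheaf.germ_res]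
  let q := (hW₀.primeIdealOf ⟨x, hxW₀⟩).asIdeal
  haveI : Algebra.QuasiFiniteAt Γ(Y, U) q := hq.quasiFiniteAt hW₀ hU hW₀U hxW₀
  letI : Algebra Γ(Y, U) (Y.presheaf.stalk (f x)) := (Y.presheaf.germ U (f x) hxU).hom.toAlgebra
  have hloc : IsLocalization.AtPrime (Y.presheaf.stalk (f x))
      (hU.primeIdealOf ⟨f x, hxU⟩).asIdeal := hU.isLocalization_stalk ⟨f x, hxU⟩
  have hqp : q.under Γ(Y, U) = (hU.primeIdealOf ⟨f x, hxU⟩).asIdeal :=
    congr($(IsAffineOpen.comap_primeIdealOf_appLE U hU W₀ hW₀ hW₀U hxW₀).1)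
  haveI hloc' : IsLocalization.AtPrime (Y.presheaf.stalk (f x)) (q.under Γ(Y, U)) := by
    have e : (q.under Γ(Y, U)).primeCompl = (hU.primeIdealOf ⟨f x, hxU⟩).asIdeal.primeCompl := by
      ext a
      simp only [Ideal.mem_primeCompl_iff]
      rw [hqp]
    unfold IsLocalization.AtPrime
    rw [e]
    exact hloc
  obtain ⟨s, hs, hsb⟩ := ZMTAlg.exists_forall_pow_mul_eq (A := Γ(Y, U)) X.functionField q
    (Y.presheaf.stalk (f x))
  have hsq : (f.appLE U W₀ hW₀U).hom s ∉ q := fun h => hs h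
  have hxW : x ∈ X.basicOpen ((f.appLE U W₀ hW₀U).hom s) := by
    have h1 : hW₀.primeIdealOf ⟨x, hxW₀⟩ ∈
        (PrimeSpectrum.basicOpen ((f.appLE U W₀ hW₀U).hom s) : Set _) := hsq
    rw [← IsAffineOpen.fromSpec_preimage_basicOpen hW₀] at h1
    have h2 : hW₀.fromSpec (hW₀.primeIdealOf ⟨x, hxW₀⟩) ∈
        X.basicOpen ((f.appLE U W₀ hW₀U).hom s) := h1
    rwa [hW₀.fromSpec_primeIdealOf ⟨x, hxW₀⟩] at h2
  have e : X.basicOpen ((f.appLE U W₀ hW₀U).hom s) ≤ f ⁻¹ᵁ (Y.basicOpen s) := by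
    rw [Scheme.basicOpen_appLE]; exact inf_le_right
  refine ⟨Y.basicOpen s, X.basicOpen ((f.appLE U W₀ hW₀U).hom s), e, hxW, ?_⟩
  haveI : IsAffine (Y.basicOpen s) := hU.basicOpen s
  haveI : IsAffine (X.basicOpen ((f.appLE U W₀ hW₀U).hom s)) := hW₀.basicOpen _
  have hbij : Function.Bijective
      (f.appLE (Y.basicOpen s) (X.basicOpen ((f.appLE U W₀ hW₀U).hom s)) e).hom := by
    haveI := hU.isLocalization_basicOpen s
    haveI := hW₀.isLocalization_basicOpen ((f.appLE U W₀ hW₀U).hom s)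
    refine ZMTAlg.bijective_of_forall_pow_mul_eq (f.appLE U W₀ hW₀U).hom s _ ?_ ?_ hsb
    · intro a
      simp only [RingHom.algebraMap_toAlgebra]
      rw [← CommRingCat.comp_apply, ← CommRingCat.comp_apply, Scheme.Hom.appLE_map,
        Scheme.Hom.map_appLE]
    · have h1 : Function.Injective (algebraMap Γ(Y, U) X.functionField) :=
        IsFractionRing.injective _ _
      rw [IsScalarTower.algebraMap_eq Γ(Y, U) Γ(X, W₀) X.functionField] at h1
      exact Function.Injective.of_comp h1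
  have hiso : IsIso (f.resLE _ _ e).appTop := by
    rw [Scheme.Hom.appTop, Scheme.Hom.resLE_app_top]
    have : IsIso (f.appLE _ _ e) := (ConcreteCategory.isIso_iff_bijective _).mpr hbij
    infer_instance
  exact (HasAffineProperty.iff_of_isAffine (P := MorphismProperty.isomorphisms Scheme)).mpr
    ⟨inferInstance, hiso⟩

/-- if `f` is separated, `X` integral, and `f` restricts to an isomorphism from a nonempty open
`W ⊆ f⁻¹ V` onto `V`, then `f` is an isomorphism over `V` -/
theorem isIso_morphismRestrict_of_isIso_resLE {X Y : Scheme.{u}} [IsIntegral X] (f : X ⟶ Y)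
    [IsSeparated f] (V : Y.Opens) (W : X.Opens) (e : W ≤ f ⁻¹ᵁ V) (hW : (W : Set X).Nonempty)
    [IsIso (f.resLE V W e)] : IsIso (f ∣_ V) := by
  obtain ⟨x, hx⟩ := hW
  haveI : Nonempty (f ⁻¹ᵁ V) := ⟨⟨x, e hx⟩⟩
  haveI : Nonempty W := ⟨⟨x, hx⟩⟩
  let σ : (V : Scheme.{u}) ⟶ (f ⁻¹ᵁ V : Scheme.{u}) := inv (f.resLE V W e) ≫ X.homOfLE e
  have hσ : σ ≫ (f ∣_ V) = 𝟙 _ := by
    simp only [σ, Category.assoc]
    rw [← Scheme.Hom.resLE]
    exact IsIso.inv_hom_id _
  haveI : IsClosedImmersion (σ ≫ (f ∣_ V)) := by rw [hσ]; infer_instance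
  haveI : IsClosedImmersion σ := IsClosedImmersion.of_comp σ (f ∣_ V)
  have hcl : IsClosed (Set.range σ) := σ.isClosedEmbedding.isClosed_range
  have hrange : Set.range σ = Set.range (X.homOfLE e) := by
    simp only [σ, Scheme.Hom.comp_base, TopCat.coe_comp]
    rw [Set.range_comp, Set.range_eq_univ.mpr (inv (f.resLE V W e)).surjective, Set.image_univ]
  have hop : IsOpen (Set.range (X.homOfLE e)) := (X.homOfLE e).isOpenEmbedding.isOpen_range
  have hclopen : IsClopen (Set.range (X.homOfLE e)) := ⟨hrange ▸ hcl, hop⟩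
  have huniv : Set.range (X.homOfLE e) = Set.univ := by
    rcases isClopen_iff.mp hclopen with h | h
    · exact absurd h (Set.range_nonempty _).ne_empty
    · exact h
  haveI : Surjective (X.homOfLE e) := ⟨Set.range_eq_univ.mp huniv⟩
  haveI : IsIso (X.homOfLE e) :=
    (isIso_iff_isOpenImmersion_and_surjective _).mpr ⟨inferInstance, inferInstance⟩
  have h2 : IsIso (X.homOfLE e ≫ f ∣_ V) := by
    rw [← Scheme.Hom.resLE]; infer_instance
  exact IsIso.of_isIso_comp_left (X.homOfLE e) (f ∣_ V)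

/-- **Zariski's main theorem, birational form**: a separated birational morphism locally of
finite type between integral schemes is an isomorphism over a neighbourhood of a normal point
whose fibre contains a point at which the morphism is quasi-finite. -/
theorem exists_isIso_morphismRestrict {X Y : Scheme.{u}} [IsIntegral X] [IsIntegral Y] (f : X ⟶ Y)
    [LocallyOfFiniteType f] [IsSeparated f]
    (hgen : f (genericPoint X) = genericPoint Y) (hbir : IsIso (f.stalkMap (genericPoint X)))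
    (x : X) (hq : f.QuasiFiniteAt x) (hy : IsIntegrallyClosed (Y.presheaf.stalk (f x))) :
    ∃ U : Y.Opens, f x ∈ U ∧ IsIso (f ∣_ U) := by
  obtain ⟨V, W, e, hxW, hiso⟩ := exists_isIso_resLE f hgen hbir x hq hy
  exact ⟨V, e hxW, isIso_morphismRestrict_of_isIso_resLE f V W e ⟨x, hxW⟩⟩

/-- a point isolated in its (topological) fibre is a quasi-finite point -/
theorem quasiFiniteAt_of_isOpen_singleton_preimage {X Y : Scheme.{u}} (f : X ⟶ Y)
    [LocallyOfFiniteType f] (x₀ : X) (y : Y) (hx₀ : x₀ ∈ f ⁻¹' {y})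
    (h : IsOpen ({⟨x₀, hx₀⟩} : Set (f ⁻¹' {y}))) : f.QuasiFiniteAt x₀ := by
  obtain rfl : f x₀ = y := hx₀
  rw [Scheme.Hom.quasiFiniteAt_iff_isOpen_singleton_asFiber,
    ← (f.fiberHomeo (f x₀)).isOpen_image]
  simpa only [Set.image_singleton, Scheme.Hom.asFiber, Homeomorph.apply_symm_apply] using h

/-- a point isolated in the scheme-theoretic fibre is a quasi-finite point -/
theorem quasiFiniteAt_of_isOpen_singleton_fiber {X Y : Scheme.{u}} (f : X ⟶ Y)
    [LocallyOfFiniteType f] (y : Y) (x : f.fiber y) (hx : IsOpen ({x} : Set (f.fiber y))) :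
    f.QuasiFiniteAt (f.fiberι y x) ∧ f (f.fiberι y x) = y := by
  have h1 : f.fiberι y x ∈ f ⁻¹' {y} := (f.fiberHomeo y x).2
  refine ⟨quasiFiniteAt_of_isOpen_singleton_preimage f _ y h1 ?_, h1⟩
  have h2 := (f.fiberHomeo y).isOpen_image.mpr hx
  rw [Set.image_singleton] at h2
  exact h2

/-- a morphism of integral schemes that is an isomorphism over a nonempty open is birational -/
theorem birational_of_isIso_morphismRestrict {X Y : Scheme.{u}} [IsIntegral X] [IsIntegral Y]
    (f : X ⟶ Y) (W : Y.Opens) (hW : (W : Set Y).Nonempty) [IsIso (f ∣_ W)] :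
    f (genericPoint X) = genericPoint Y ∧ IsIso (f.stalkMap (genericPoint X)) := by
  obtain ⟨w, hw⟩ := hW
  haveI : Nonempty W := ⟨⟨w, hw⟩⟩
  obtain ⟨z, hz⟩ := (f ∣_ W).surjective ⟨w, hw⟩
  haveI : Nonempty (f ⁻¹ᵁ W) := ⟨z⟩
  have h1 : (f ⁻¹ᵁ W).ι (genericPoint (f ⁻¹ᵁ W : Scheme.{u})) = genericPoint X :=
    genericPoint_eq_of_isOpenImmersion (f ⁻¹ᵁ W).ι
  have h2 : ((f ∣_ W) ≫ W.ι) (genericPoint (f ⁻¹ᵁ W : Scheme.{u})) = genericPoint Y :=
    genericPoint_eq_of_isOpenImmersion ((f ∣_ W) ≫ W.ι)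
  rw [morphismRestrict_ι, Scheme.Hom.comp_apply, h1] at h2
  refine ⟨h2, ?_⟩
  have h3 : IsIso ((f ∣_ W).stalkMap (genericPoint (f ⁻¹ᵁ W : Scheme.{u}))) := inferInstance
  have h4 := ((MorphismProperty.isomorphisms CommRingCat).arrow_mk_iso_iff
    (morphismRestrictStalkMap f W (genericPoint (f ⁻¹ᵁ W : Scheme.{u})))).mp h3
  have h5 : ∀ (x' : X) (h : x' = genericPoint X), IsIso (f.stalkMap x') →
      IsIso (f.stalkMap (genericPoint X)) := by
    intro x' h hi; subst h; exact hi
  exact h5 _ h1 h4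

end Groth.Agent.Helper4.ZMTBir
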