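import Groth.Agent.Lib.Helper4.BirStalk
import Groth.Agent.Lib.Helper4.BirIso
import Groth.Agent.Lib.Helper4.ZMTBir

/-!
# Birational morphisms: the maximal open over which the morphism is an isomorphism (helper4)
-/

set_option autoImplicit false
universe u
open AlgebraicGeometry CategoryTheory CategoryTheory.Limits

namespace Groth.Agent.Helper4.BirStalk

variable {X Y : Scheme.{u}} [IsIntegral X] [IsIntegral Y] (f : X ⟶ Y)

set_option backward.isDefEq.respectTransparency false in
/-- A separated birational morphism locally of finite type between integral schemes is an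
isomorphism over a neighbourhood of `f x` if the local ring at `f x` is a valuation ring. -/
theorem exists_isIso_restrict_of_valuationRing [IsSeparated f] [LocallyOfFiniteType f]
    (e : f (genericPoint X) = genericPoint Y)
    (hbir : Function.Bijective
      (Y.presheaf.stalkSpecializes (specializes_of_eq e) ≫ f.stalkMap (genericPoint X)).hom)
    (x : X) [ValuationRing (Y.presheaf.stalk (f x))] :
    ∃ V : Y.Opens, f x ∈ V ∧ IsIso (f ∣_ V) := by
  have hb := stalkMap_bijective f e hbir x
  haveI : IsIso (f.stalkMap x) := by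
    have : IsIso ((forget CommRingCat).map (f.stalkMap x)) := (isIso_iff_bijective _).mpr hb
    exact isIso_of_reflects_iso (f.stalkMap x) (forget CommRingCat)
  let φ : Spec (Y.presheaf.stalk (f x)) ⟶ X := Spec.map (inv (f.stalkMap x)) ≫ X.fromSpecStalk x
  have hφ : φ ≫ f = Y.fromSpecStalk (f x) ≫ 𝟙 Y := by
    rw [Category.comp_id, Category.assoc, ← Scheme.SpecMap_stalkMap_fromSpecStalk,
      ← Spec.map_comp_assoc, IsIso.hom_inv_id, Spec.map_id, Category.id_comp]
  obtain ⟨V, hyV, σ, hσ1, hσ2⟩ :=
    spread_out_of_isGermInjective' (𝟙 Y) f (x := f x) φ hφ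
  rw [Category.comp_id] at hσ2
  have hVne : genericPoint Y ∈ V :=
    ((genericPoint_spec Y).mem_open_set_iff V.isOpen).mpr ⟨f x, trivial, hyV⟩
  have hgen : genericPoint X ∈ Set.range σ := by
    refine ⟨⟨genericPoint Y, hVne⟩, ?_⟩
    apply eq_genericPoint_of_map_eq f e hbir
    rw [← Scheme.Hom.comp_apply, hσ2]; rfl
  exact ⟨V, hyV, isIso_restrict_of_section f V σ hσ2 hgen⟩

/-- the union of all opens over which `f` is an isomorphism -/
noncomputable def isoLocus : Y.Opens := sSup {U : Y.Opens | IsIso (f ∣_ U)}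

omit [IsIntegral X] [IsIntegral Y] in
theorem le_isoLocus (U : Y.Opens) (hU : IsIso (f ∣_ U)) : U ≤ isoLocus f := le_sSup hU

omit [IsIntegral X] [IsIntegral Y] in
theorem isIso_restrict_isoLocus : IsIso (f ∣_ (isoLocus f)) := by
  have key : (MorphismProperty.isomorphisms Scheme.{u}) (f ∣_ (isoLocus f)) := by
    apply IsZariskiLocalAtTarget.of_forall_exists_morphismRestrict
    intro x
    obtain ⟨U, hU, hxU⟩ : ∃ U ∈ {U : Y.Opens | IsIso (f ∣_ U)}, x.1 ∈ U := by
      have h0 : x.1 ∈ sSup {U : Y.Opens | IsIso (f ∣_ U)} := x.2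
      exact TopologicalSpace.Opens.mem_sSup.mp h0
    refine ⟨(isoLocus f).ι ⁻¹ᵁ U, hxU, ?_⟩
    have h1 : (isoLocus f).ι ''ᵁ ((isoLocus f).ι ⁻¹ᵁ U) = U := by
      rw [Scheme.Hom.image_preimage_eq_opensRange_inf, Scheme.Opens.opensRange_ι]
      exact inf_eq_right.mpr (le_isoLocus f U hU)
    rw [(MorphismProperty.isomorphisms Scheme.{u}).arrow_mk_iso_iff
      (morphismRestrictRestrict f _ _ ≪≫ morphismRestrictEq f h1)]
    exact hU
  exact key

end Groth.Agent.Helper4.BirStalk
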