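import Mathlib

/-!
# Finite coproducts of affine schemes finite over an affine base (helper4)
-/

set_option autoImplicit false
universe u
open AlgebraicGeometry CategoryTheory CategoryTheory.Limits TopologicalSpace

namespace Groth.Agent.Helper4.SigmaFin

theorem finite_pi_ringHom {ι : Type u} [Finite ι] (A : Type u) [CommRing A] (B : ι → Type u)
    [∀ i, CommRing (B i)] (φ : ∀ i, A →+* B i) (hφ : ∀ i, (φ i).Finite) :
    (Pi.ringHom φ).Finite := by
  letI : ∀ i, Algebra A (B i) := fun i => (φ i).toAlgebra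
  haveI : ∀ i, Module.Finite A (B i) := fun i => hφ i
  have h : Module.Finite A (∀ i, B i) := Module.Finite.pi
  exact h

/-- a finite coproduct of spectra of finite algebras is finite over the base -/
theorem isFinite_sigmaDesc_Spec {ι : Type u} [Finite ι] (A : CommRingCat.{u})
    (B : ι → CommRingCat.{u}) (φ : ∀ i, A ⟶ B i) (hφ : ∀ i, (φ i).hom.Finite) :
    IsFinite (Sigma.desc (fun i => Spec.map (φ i)) : (∐ fun i => Spec (B i)) ⟶ Spec A) := by
  have h1 : Sigma.desc (fun i => Spec.map (φ i)) =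
      sigmaSpec B ≫ Spec.map (CommRingCat.ofHom (Pi.ringHom (fun i => (φ i).hom))) := by
    refine Sigma.hom_ext _ _ fun i => ?_
    rw [Sigma.ι_desc, ι_sigmaSpec_assoc, ← Spec.map_comp]
    rfl
  rw [h1]
  haveI : IsFinite (Spec.map (CommRingCat.ofHom (Pi.ringHom (fun i => (φ i).hom)))) :=
    (HasAffineProperty.SpecMap_iff_of_affineAnd (P := @IsFinite) (Q := RingHom.Finite)
      inferInstance RingHom.finite_respectsIso _).mpr
      (finite_pi_ringHom A (fun i => B i) (fun i => (φ i).hom) hφ)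
  infer_instance

/-- the range of a morphism out of a coproduct -/
theorem range_sigmaDesc {ι : Type u} (Y : ι → Scheme.{u}) {X : Scheme.{u}}
    (α : ∀ i, Y i ⟶ X) :
    Set.range (Sigma.desc α) = ⋃ i, Set.range (α i) := by
  ext x
  simp only [Set.mem_range, Set.mem_iUnion]
  constructor
  · rintro ⟨y, rfl⟩
    obtain ⟨i, z, rfl⟩ := (sigmaOpenCover Y).exists_eq y
    refine ⟨i, z, ?_⟩
    change _ = (Sigma.ι Y i ≫ Sigma.desc α) z
    rw [Sigma.ι_desc]
  · rintro ⟨i, z, rfl⟩
    refine ⟨Sigma.ι Y i z, ?_⟩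
    change (Sigma.ι Y i ≫ Sigma.desc α) z = _
    rw [Sigma.ι_desc]

end Groth.Agent.Helper4.SigmaFin
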