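import Mathlib
import Groth.Agent.Lib.Helper4.ComplFin2
import Groth.Agent.Lib.Helper4.SigmaFin

/-!
# Quasi-finite separated schemes over a complete local ring: the finite part (helper4)
-/

set_option autoImplicit false
universe u
open AlgebraicGeometry CategoryTheory CategoryTheory.Limits TopologicalSpace
open scoped Function

namespace Groth.Agent.Helper4.ComplFin

theorem main4437 (A : Type u) [CommRing A] [IsLocalRing A] [IsNoetherianRing A]
    [IsAdicComplete (IsLocalRing.maximalIdeal A) A] (X : Scheme.{u})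
    (f : X ⟶ Spec (CommRingCat.of A)) [LocallyOfFiniteType f] [QuasiCompact f] [IsSeparated f]
    [LocallyQuasiFinite f] :
    ∃ U : X.Opens, IsClosed (U : Set X) ∧ IsFinite (U.ι ≫ f) ∧
      ∀ x : X, f x = IsLocalRing.closedPoint A → x ∈ U := by
  classical
  have hFfin : (f ⁻¹' {IsLocalRing.closedPoint A}).Finite :=
    f.finite_preimage_singleton (IsLocalRing.closedPoint A)
  haveI : Finite ↥(f ⁻¹' {IsLocalRing.closedPoint A}) := hFfin.to_subtype
  have hmain : ∀ i : ↥(f ⁻¹' {IsLocalRing.closedPoint A}),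
      ((Scheme.ΓSpecIso (CommRingCat.of A)).inv ≫ f.appTop ≫
        X.presheaf.germ ⊤ i.1 trivial).hom.Finite ∧
      IsOpenImmersion (X.fromSpecStalk i.1) ∧ IsClosedImmersion (X.fromSpecStalk i.1) :=
    fun i => main A X f i.1 i.2 (f.quasiFiniteAt i.1)
  haveI : ∀ i : ↥(f ⁻¹' {IsLocalRing.closedPoint A}), IsOpenImmersion (X.fromSpecStalk i.1) :=
    fun i => (hmain i).2.1
  have hcl : ∀ i : ↥(f ⁻¹' {IsLocalRing.closedPoint A}),
      IsClosed (Set.range (X.fromSpecStalk i.1)) := fun i => by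
    haveI := (hmain i).2.2
    exact (X.fromSpecStalk i.1).isClosedEmbedding.isClosed_range
  have hdisc : DiscreteTopology ↥(f ⁻¹' {IsLocalRing.closedPoint A}) :=
    (f.isDiscrete_preimage_singleton (IsLocalRing.closedPoint A)).to_subtype
  have hdisj : Pairwise (Disjoint on
      (fun i : ↥(f ⁻¹' {IsLocalRing.closedPoint A}) => Set.range (X.fromSpecStalk i.1))) := by
    intro i j hij
    rw [Function.onFun_apply, Set.disjoint_left]
    intro z hzi hzj
    rw [Scheme.range_fromSpecStalk] at hzj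
    have hzj' : z ⤳ j.1 := hzj
    have hj : j.1 ∈ Set.range (X.fromSpecStalk i.1) :=
      (hcl i).closure_subset_iff.mpr (Set.singleton_subset_iff.mpr hzi)
        (specializes_iff_mem_closure.mp hzj')
    rw [Scheme.range_fromSpecStalk] at hj
    have hji : j.1 ⤳ i.1 := hj
    have hji' : j ⤳ i := (subtype_specializes_iff j i).mpr hji
    exact hij hji'.eq.symm
  haveI : IsOpenImmersion (Sigma.desc fun i : ↥(f ⁻¹' {IsLocalRing.closedPoint A}) =>
      X.fromSpecStalk i.1) := isOpenImmersion_sigmaDesc _ _ hdisj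
  refine ⟨(Sigma.desc fun i : ↥(f ⁻¹' {IsLocalRing.closedPoint A}) =>
      X.fromSpecStalk i.1).opensRange, ?_, ?_, ?_⟩
  · change IsClosed (Set.range (Sigma.desc fun i : ↥(f ⁻¹' {IsLocalRing.closedPoint A}) =>
      X.fromSpecStalk i.1))
    rw [Groth.Agent.Helper4.SigmaFin.range_sigmaDesc]
    exact isClosed_iUnion_of_finite hcl
  · have h1 : (Sigma.desc fun i : ↥(f ⁻¹' {IsLocalRing.closedPoint A}) =>
        X.fromSpecStalk i.1) ≫ f =
        Sigma.desc (fun i : ↥(f ⁻¹' {IsLocalRing.closedPoint A}) =>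
          Spec.map ((Scheme.ΓSpecIso (CommRingCat.of A)).inv ≫ f.appTop ≫
            X.presheaf.germ ⊤ i.1 trivial)) := by
      refine Sigma.hom_ext _ _ fun i => ?_
      rw [Sigma.ι_desc_assoc, Sigma.ι_desc, fromSpecStalk_toSpec]
    have h2 : IsFinite ((Sigma.desc fun i : ↥(f ⁻¹' {IsLocalRing.closedPoint A}) =>
        X.fromSpecStalk i.1) ≫ f) := by
      rw [h1]
      exact Groth.Agent.Helper4.SigmaFin.isFinite_sigmaDesc_Spec (CommRingCat.of A) _ _
        (fun i => (hmain i).1)
    rw [← Scheme.Hom.isoOpensRange_inv_comp, Category.assoc]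
    infer_instance
  · intro x hx
    change x ∈ Set.range (Sigma.desc fun i : ↥(f ⁻¹' {IsLocalRing.closedPoint A}) =>
      X.fromSpecStalk i.1)
    rw [Groth.Agent.Helper4.SigmaFin.range_sigmaDesc]
    exact Set.mem_iUnion.mpr ⟨⟨x, hx⟩, IsLocalRing.closedPoint _, X.fromSpecStalk_closedPoint⟩

end Groth.Agent.Helper4.ComplFin
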