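import Mathlib
import Groth.Agent.Lib.Helper16.Sch.FibMap1

/-!
# Base change of the fibre morphism `X_s ⟶ Y_s` (helper4)

For `X --f--> Y --g--> S` and a base change `T ⟶ S`, the fibre morphism of the base change over
`t : T` is the base change of the fibre morphism over the image of `t` along an fpqc morphism.
-/

set_option autoImplicit false
universe u
open AlgebraicGeometry CategoryTheory CategoryTheory.Limits TopologicalSpace Topology

namespace Groth.Agent.Helper4.FibBC

open Groth.Agent.Helper16.FibMap

variable {X Y S X' Y' T : Scheme.{u}}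

/-- the comparison map of fibres `Y'_t ⟶ Y_{j t}` -/
noncomputable def fibComp {g : Y ⟶ S} {g' : Y' ⟶ T} {j : T ⟶ S} {qY : Y' ⟶ Y}
    (hY : IsPullback qY g' g j) (t : T) :
    pullback g' (T.fromSpecResidueField t) ⟶ pullback g (S.fromSpecResidueField (j t)) :=
  pullback.map g' (T.fromSpecResidueField t) g (S.fromSpecResidueField (j t)) qY
    (Spec.map (j.residueFieldMap t)) j hY.w.symm
    (Scheme.Hom.SpecMap_residueFieldMap_fromSpecResidueField j t).symm

lemma fibComp_fst {g : Y ⟶ S} {g' : Y' ⟶ T} {j : T ⟶ S} {qY : Y' ⟶ Y}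
    (hY : IsPullback qY g' g j) (t : T) :
    fibComp hY t ≫ pullback.fst g (S.fromSpecResidueField (j t)) =
      pullback.fst g' (T.fromSpecResidueField t) ≫ qY :=
  pullback.lift_fst _ _ _

lemma fibComp_snd {g : Y ⟶ S} {g' : Y' ⟶ T} {j : T ⟶ S} {qY : Y' ⟶ Y}
    (hY : IsPullback qY g' g j) (t : T) :
    fibComp hY t ≫ pullback.snd g (S.fromSpecResidueField (j t)) =
      pullback.snd g' (T.fromSpecResidueField t) ≫ Spec.map (j.residueFieldMap t) :=
  pullback.lift_snd _ _ _

/-- the comparison map is a base change of `Spec κ(t) ⟶ Spec κ(j t)` -/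
lemma fibComp_isPullback {g : Y ⟶ S} {g' : Y' ⟶ T} {j : T ⟶ S} {qY : Y' ⟶ Y}
    (hY : IsPullback qY g' g j) (t : T) :
    IsPullback (fibComp hY t) (pullback.snd g' (T.fromSpecResidueField t))
      (pullback.snd g (S.fromSpecResidueField (j t))) (Spec.map (j.residueFieldMap t)) := by
  have h1 : IsPullback (pullback.fst g' (T.fromSpecResidueField t) ≫ qY)
      (pullback.snd g' (T.fromSpecResidueField t)) g (T.fromSpecResidueField t ≫ j) :=
    (IsPullback.of_hasPullback g' (T.fromSpecResidueField t)).paste_horiz hY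
  rw [← Scheme.Hom.SpecMap_residueFieldMap_fromSpecResidueField j t, ← fibComp_fst hY t] at h1
  exact (IsPullback.of_bot h1.flip (fibComp_snd hY t).symm
    (IsPullback.of_hasPullback g (S.fromSpecResidueField (j t))).flip).flip

instance flat_SpecMap_residueFieldMap (j : T ⟶ S) (t : T) :
    Flat (Spec.map (j.residueFieldMap t)) := by
  rw [HasRingHomProperty.Spec_iff (P := @Flat)]
  rw [RingHom.Flat]
  let := (j.residueFieldMap t).hom.toAlgebra
  infer_instance

instance surjective_SpecMap_residueFieldMap (j : T ⟶ S) (t : T) :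
    Surjective (Spec.map (j.residueFieldMap t)) := by
  constructor
  intro y
  refine ⟨default, Subsingleton.elim _ _⟩

lemma fibComp_fpqc {g : Y ⟶ S} {g' : Y' ⟶ T} {j : T ⟶ S} {qY : Y' ⟶ Y}
    (hY : IsPullback qY g' g j) (t : T) :
    (@Surjective ⊓ @Flat ⊓ @QuasiCompact : MorphismProperty Scheme.{u}) (fibComp hY t) := by
  have hsq := (fibComp_isPullback hY t).flip
  refine ⟨⟨?_, ?_⟩, ?_⟩
  · exact MorphismProperty.of_isPullback (P := @Surjective) hsq inferInstance
  · exact MorphismProperty.of_isPullback (P := @Flat) hsq inferInstance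
  · exact MorphismProperty.of_isPullback (P := @QuasiCompact) hsq inferInstance

/-- the fibre morphism of a base change is a base change of the fibre morphism -/
lemma fibMap_isPullback {f : X ⟶ Y} {g : Y ⟶ S} {f' : X' ⟶ Y'} {g' : Y' ⟶ T} {j : T ⟶ S}
    {qY : Y' ⟶ Y} {qX : X' ⟶ X} (hY : IsPullback qY g' g j) (hX : IsPullback qX f' f qY) (t : T) :
    IsPullback (fibComp (hX.paste_vert hY) t) (fibMap f' g' t) (fibMap f g (j t))
      (fibComp hY t) := by
  have hXS : IsPullback qX (f' ≫ g') (f ≫ g) j := hX.paste_vert hY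
  have h1 := fibComp_isPullback hXS t
  have h2 := fibComp_isPullback hY t
  have e1 : fibMap f' g' t ≫ pullback.snd g' (T.fromSpecResidueField t) =
      pullback.snd (f' ≫ g') (T.fromSpecResidueField t) := pullback.lift_snd _ _ _
  have e2 : fibMap f g (j t) ≫ pullback.snd g (S.fromSpecResidueField (j t)) =
      pullback.snd (f ≫ g) (S.fromSpecResidueField (j t)) := pullback.lift_snd _ _ _
  have e3 : fibMap f' g' t ≫ pullback.fst g' (T.fromSpecResidueField t) =
      pullback.fst (f' ≫ g') (T.fromSpecResidueField t) ≫ f' := pullback.lift_fst _ _ _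
  have e4 : fibMap f g (j t) ≫ pullback.fst g (S.fromSpecResidueField (j t)) =
      pullback.fst (f ≫ g) (S.fromSpecResidueField (j t)) ≫ f := pullback.lift_fst _ _ _
  have hcomm : fibComp hXS t ≫ fibMap f g (j t) = fibMap f' g' t ≫ fibComp hY t := by
    apply pullback.hom_ext
    · calc (fibComp hXS t ≫ fibMap f g (j t)) ≫ pullback.fst g (S.fromSpecResidueField (j t))
          = fibComp hXS t ≫ pullback.fst (f ≫ g) (S.fromSpecResidueField (j t)) ≫ f := by
            rw [Category.assoc, e4]
        _ = (pullback.fst (f' ≫ g') (T.fromSpecResidueField t) ≫ qX) ≫ f := by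
            rw [← Category.assoc, fibComp_fst]
        _ = (pullback.fst (f' ≫ g') (T.fromSpecResidueField t) ≫ f') ≫ qY := by
            rw [Category.assoc, hX.w, Category.assoc]
        _ = (fibMap f' g' t ≫ pullback.fst g' (T.fromSpecResidueField t)) ≫ qY := by rw [e3]
        _ = (fibMap f' g' t ≫ fibComp hY t) ≫ pullback.fst g (S.fromSpecResidueField (j t)) := by
            rw [Category.assoc, Category.assoc, fibComp_fst]
    · calc (fibComp hXS t ≫ fibMap f g (j t)) ≫ pullback.snd g (S.fromSpecResidueField (j t))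
          = fibComp hXS t ≫ pullback.snd (f ≫ g) (S.fromSpecResidueField (j t)) := by
            rw [Category.assoc, e2]
        _ = pullback.snd (f' ≫ g') (T.fromSpecResidueField t) ≫
              Spec.map (j.residueFieldMap t) := fibComp_snd hXS t
        _ = (fibMap f' g' t ≫ pullback.snd g' (T.fromSpecResidueField t)) ≫
              Spec.map (j.residueFieldMap t) := by rw [e1]
        _ = (fibMap f' g' t ≫ fibComp hY t) ≫ pullback.snd g (S.fromSpecResidueField (j t)) := by
            rw [Category.assoc, Category.assoc, fibComp_snd]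
  rw [← e1, ← e2] at h1
  exact IsPullback.of_bot h1 hcomm h2

/-- a property stable under base change and satisfying fpqc descent holds for the fibre morphism
of a base change iff it holds for the original fibre morphism -/
theorem fibMap_iff (P : MorphismProperty Scheme.{u}) [P.IsStableUnderBaseChange]
    [P.DescendsAlong (@Surjective ⊓ @Flat ⊓ @QuasiCompact)]
    {f : X ⟶ Y} {g : Y ⟶ S} {f' : X' ⟶ Y'} {g' : Y' ⟶ T} {j : T ⟶ S}
    {qY : Y' ⟶ Y} {qX : X' ⟶ X} (hY : IsPullback qY g' g j) (hX : IsPullback qX f' f qY) (t : T) :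
    P (fibMap f' g' t) ↔ P (fibMap f g (j t)) := by
  have hsq := fibMap_isPullback hY hX t
  constructor
  · intro h
    exact MorphismProperty.of_isPullback_of_descendsAlong
      (Q := @Surjective ⊓ @Flat ⊓ @QuasiCompact) hsq.flip (fibComp_fpqc hY t) h
  · intro h
    exact MorphismProperty.of_isPullback (P := P) hsq h

/-- the locus of `P` for the base change is the preimage of the locus of `P` -/
theorem locus_eq_preimage (P : MorphismProperty Scheme.{u}) [P.IsStableUnderBaseChange]
    [P.DescendsAlong (@Surjective ⊓ @Flat ⊓ @QuasiCompact)]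
    {f : X ⟶ Y} {g : Y ⟶ S} {f' : X' ⟶ Y'} {g' : Y' ⟶ T} {j : T ⟶ S}
    {qY : Y' ⟶ Y} {qX : X' ⟶ X} (hY : IsPullback qY g' g j) (hX : IsPullback qX f' f qY) :
    {t : T | P (fibMap f' g' t)} = j ⁻¹' {s : S | P (fibMap f g s)} := by
  ext t
  exact fibMap_iff P hY hX t

end Groth.Agent.Helper4.FibBC
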