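import Mathlib
import Groth.Agent.Lib.Helper4.LimModelP

/-!
# `Spec A` as the limit of `Spec A₀` over finitely generated `ℤ`-subalgebras (helper4)
-/

set_option autoImplicit false
universe u
open AlgebraicGeometry CategoryTheory CategoryTheory.Limits TopologicalSpace Opposite

namespace Groth.Agent.Helper4.LimSubalg

variable (A : Type u) [CommRing A]

/-- finitely generated `ℤ`-subalgebras -/
abbrev J : Type u := {S : Subalgebra ℤ A // S.FG}

instance : IsDirected (J A) (· ≤ ·) :=
  ⟨fun S T => ⟨⟨S.1 ⊔ T.1, S.2.sup T.2⟩, le_sup_left (a := S.1), le_sup_right (a := S.1)⟩⟩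

instance : Nonempty (J A) := ⟨⟨⊥, Subalgebra.fg_bot⟩⟩

/-- the system of finitely generated subalgebras -/
noncomputable def F : J A ⥤ CommRingCat.{u} where
  obj S := CommRingCat.of S.1
  map {S T} h := CommRingCat.ofHom (Subalgebra.inclusion (leOfHom h)).toRingHom
  map_id S := by ext; rfl
  map_comp f g := by ext; rfl

/-- the cocone with point `A` -/
noncomputable def cc : Cocone (F A) where
  pt := CommRingCat.of A
  ι :=
    { app S := CommRingCat.ofHom (algebraMap S.1 A)
      naturality S T h := by ext; rfl }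

/-- `A` is the colimit of its finitely generated subalgebras -/
noncomputable def hcc : IsColimit (cc A) := by
  have : IsFiltered (J A) := inferInstance
  have : ReflectsColimit (F A) (forget CommRingCat.{u}) :=
    reflectsColimit_of_reflectsIsomorphisms _ _
  apply isColimitOfReflects (forget CommRingCat.{u})
  refine Types.FilteredColimit.isColimitOf' _ _ ?_ ?_
  · intro x
    change A at x
    have hfg : (Algebra.adjoin ℤ {x}).FG := by
      have := Subalgebra.fg_adjoin_finset (R := ℤ) ({x} : Finset A)
      simpa using this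
    exact ⟨⟨Algebra.adjoin ℤ {x}, hfg⟩, ⟨x, Algebra.self_mem_adjoin_singleton ℤ x⟩, rfl⟩
  · intro S x y h
    refine ⟨S, 𝟙 S, ?_⟩
    change S.1 at x y
    have : (x : A) = y := h
    have h2 : x = y := Subtype.ext this
    rw [h2]

/-- the diagram of spectra -/
noncomputable def D : (J A)ᵒᵖ ⥤ Scheme.{u} := (F A).op ⋙ Scheme.Spec

/-- the cone with point `Spec A` -/
noncomputable def cone : Cone (D A) := Scheme.Spec.mapCone (cc A).op

/-- `Spec A` is the limit -/
noncomputable def isLimit : IsLimit (cone A) := isLimitOfPreserves Scheme.Spec (hcc A).op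


section main

open Groth.Agent.Helper4.LimDesc Groth.Agent.Helper4.LimCover Groth.Agent.Helper4.LimSm
  Groth.Agent.Helper4.LimSmRing

instance D_affine {i j : (J A)ᵒᵖ} (f : i ⟶ j) : IsAffineHom ((D A).map f) := by
  dsimp [D]; infer_instance

instance D_isAffine (i : (J A)ᵒᵖ) : IsAffine ((D A).obj i) := by
  dsimp [D]; infer_instance

instance D_compact (i : (J A)ᵒᵖ) : CompactSpace ((D A).obj i) := inferInstance

instance D_qsep (i : (J A)ᵒᵖ) : QuasiSeparatedSpace ((D A).obj i) := inferInstance

variable {A}

set_option backward.isDefEq.respectTransparency false in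
/-- a morphism of finite presentation to `Spec A` with a "nice" property descends, with the
property, to a finitely generated `ℤ`-subalgebra -/
theorem exists_model_over_fg {P : MorphismProperty Scheme.{u}}
    {Q : ∀ {R S : Type u} [CommRing R] [CommRing S], (R →+* S) → Prop}
    [HasRingHomProperty P Q] (hP : Nice P) (hD : TensorDescends @Q) {X : Scheme.{u}}
    (f : X ⟶ Spec (CommRingCat.of A)) (hf : P f) [LocallyOfFinitePresentation f]
    [QuasiCompact f] [QuasiSeparated f] :
    ∃ A₀ : Subalgebra ℤ A, A₀.FG ∧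
      ∃ (X₀ : Scheme.{u}) (f₀ : X₀ ⟶ Spec (CommRingCat.of ↥A₀)) (g : X ⟶ X₀),
        P f₀ ∧ LocallyOfFinitePresentation f₀ ∧ QuasiCompact f₀ ∧ QuasiSeparated f₀ ∧
          IsPullback g f f₀ (Spec.map (CommRingCat.ofHom (algebraMap (↥A₀) A))) := by
  obtain ⟨i, ⟨M⟩⟩ := exists_model_top (D := D A) (c := cone A) (isLimit A) f
  obtain ⟨j, φ, hj⟩ := exists_reindex_of (isLimit A) hP hD M hf
  have h1 : CompactSpace (M.reindex φ).M := (M.reindex φ).cpt
  have h2 : QuasiSeparatedSpace (M.reindex φ).M := (M.reindex φ).qs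
  have h3 : QuasiCompact (M.reindex φ).m := quasiCompact_of_compactSpace (M.reindex φ).m
  have h4 : QuasiSeparated (M.reindex φ).m :=
    (quasiSeparated_iff_quasiSeparatedSpace (M.reindex φ).m).mpr h2
  exact ⟨j.unop.1, j.unop.2, (M.reindex φ).M, (M.reindex φ).m, (M.reindex φ).g, hj,
    (M.reindex φ).lfp, h3, h4, (M.reindex φ).pb⟩

end main

end Groth.Agent.Helper4.LimSubalg
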