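import Mathlib
import Groth.Prelude.Def_EGA4Misc
import Groth.Prelude.Def_ProCons
import Groth.Prelude.Def_W4ega4s0809p4Pair
import Groth.Agent.Lib.Helper4.FibBC
import Groth.Agent.Lib.Helper4.LimSubalg

/-!
# Constructible / ind-constructible properties: base change of the loci and reduction to a base
of finite type over `ℤ` (helper4)
-/

set_option autoImplicit false
universe u
open AlgebraicGeometry CategoryTheory CategoryTheory.Limits TopologicalSpace Topology

namespace Groth.Agent.Helper4.ConsRed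

open Groth.Agent.Helper16.FibMap Groth.Agent.Helper4.FibBC Groth.Agent.Helper4.LimDesc

variable {X Y S X' Y' T : Scheme.{u}}

lemma fiberMap_eq (f : X ⟶ Y) (g : Y ⟶ S) (s : S) : MoreMor.fiberMap f g s = fibMap f g s := rfl

/-- base change of the locus of a field-stable relation on morphisms -/
theorem locusMor_bc {P : ∀ ⦃X Y T : Scheme.{u}⦄, (X ⟶ Y) → (Y ⟶ T) → Prop}
    (hP : ConsProp.IsFieldStableMor P)
    {f : X ⟶ Y} {g : Y ⟶ S} {f' : X' ⟶ Y'} {g' : Y' ⟶ T} {j : T ⟶ S}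
    {qY : Y' ⟶ Y} {qX : X' ⟶ X}
    [LocallyOfFiniteType g] [QuasiCompact g] [LocallyOfFiniteType (f ≫ g)] [QuasiCompact (f ≫ g)]
    (hY : IsPullback qY g' g j) (hX : IsPullback qX f' f qY) :
    ConsProp.locusMor P f' g' = j ⁻¹' ConsProp.locusMor P f g := by
  ext t
  have h1 := fibComp_isPullback hY t
  have h2 := fibMap_isPullback hY hX t
  have e : fibMap f g (j t) ≫ pullback.snd g (S.fromSpecResidueField (j t)) =
      pullback.snd (f ≫ g) (S.fromSpecResidueField (j t)) := pullback.lift_snd _ _ _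
  have i1 : LocallyOfFiniteType
      (fibMap f g (j t) ≫ pullback.snd g (S.fromSpecResidueField (j t))) := by
    rw [e]; infer_instance
  have i2 : QuasiCompact (fibMap f g (j t) ≫ pullback.snd g (S.fromSpecResidueField (j t))) := by
    rw [e]; infer_instance
  exact (hP (fibMap f g (j t)) (pullback.snd g (S.fromSpecResidueField (j t))) (fibMap f' g' t)
    (pullback.snd g' (T.fromSpecResidueField t)) _ _ _ h1 h2).symm

/-- base change of the locus of a field-stable relation on pairs -/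
theorem locusPair_bc {P : ∀ ⦃X Y T : Scheme.{u}⦄, (X ⟶ T) → (Y ⟶ T) → Prop}
    (hP : ConsPropPair.IsFieldStablePair P)
    {u : X ⟶ S} {v : Y ⟶ S} {u' : X' ⟶ T} {v' : Y' ⟶ T} {j : T ⟶ S}
    {qY : Y' ⟶ Y} {qX : X' ⟶ X}
    [LocallyOfFiniteType u] [QuasiCompact u] [LocallyOfFiniteType v] [QuasiCompact v]
    (hX : IsPullback qX u' u j) (hY : IsPullback qY v' v j) :
    ConsPropPair.locusPair P u' v' = j ⁻¹' ConsPropPair.locusPair P u v := by
  ext t
  have h1 := fibComp_isPullback hX t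
  have h2 := fibComp_isPullback hY t
  exact (hP (pullback.snd u (S.fromSpecResidueField (j t)))
    (pullback.snd v (S.fromSpecResidueField (j t)))
    (pullback.snd u' (T.fromSpecResidueField t)) (pullback.snd v' (T.fromSpecResidueField t))
    _ _ _ h1 h2).symm

/-! ### abstract families of loci -/

/-- a family of subsets of the base attached to `X ⟶ Y ⟶ S`, compatible with base change -/
def BCMor (L : ∀ ⦃X Y S : Scheme.{u}⦄, (X ⟶ Y) → (Y ⟶ S) → Set S) : Prop :=
  ∀ ⦃X Y S X' Y' T : Scheme.{u}⦄ (f : X ⟶ Y) (g : Y ⟶ S) (f' : X' ⟶ Y') (g' : Y' ⟶ T) (j : T ⟶ S)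
    (qY : Y' ⟶ Y) (qX : X' ⟶ X), LocallyOfFiniteType g → QuasiCompact g →
    LocallyOfFiniteType (f ≫ g) → QuasiCompact (f ≫ g) →
    IsPullback qY g' g j → IsPullback qX f' f qY → L f' g' = j ⁻¹' L f g

/-- a family of subsets of the base attached to `X ⟶ S ⟵ Y`, compatible with base change -/
def BCPair (L : ∀ ⦃X Y S : Scheme.{u}⦄, (X ⟶ S) → (Y ⟶ S) → Set S) : Prop :=
  ∀ ⦃X Y S X' Y' T : Scheme.{u}⦄ (a : X ⟶ S) (b : Y ⟶ S) (a' : X' ⟶ T) (b' : Y' ⟶ T) (j : T ⟶ S)
    (qX : X' ⟶ X) (qY : Y' ⟶ Y), LocallyOfFiniteType a → QuasiCompact a →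
    LocallyOfFiniteType b → QuasiCompact b →
    IsPullback qX a' a j → IsPullback qY b' b j → L a' b' = j ⁻¹' L a b

theorem bcMor_locusMor {P : ∀ ⦃X Y T : Scheme.{u}⦄, (X ⟶ Y) → (Y ⟶ T) → Prop}
    (hP : ConsProp.IsFieldStableMor P) : BCMor (fun _ _ _ f g => ConsProp.locusMor P f g) := by
  intro X Y S X' Y' T f g f' g' j qY qX h1 h2 h3 h4 hY hX
  exact locusMor_bc hP hY hX

theorem bcPair_locusPair {P : ∀ ⦃X Y T : Scheme.{u}⦄, (X ⟶ T) → (Y ⟶ T) → Prop}
    (hP : ConsPropPair.IsFieldStablePair P) :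
    BCPair (fun _ _ _ a b => ConsPropPair.locusPair P a b) := by
  intro X Y S X' Y' T a b a' b' j qX qY h1 h2 h3 h4 hX hY
  exact locusPair_bc hP hX hY

/-- a property of subsets of schemes, stable under preimages and local on the scheme -/
structure GoodQ (Q : ∀ ⦃S : Scheme.{u}⦄, Set S → Prop) : Prop where
  preimage : ∀ ⦃S T : Scheme.{u}⦄ (j : T ⟶ S) (E : Set S), Q E → Q (j ⁻¹' E)
  of_local : ∀ ⦃S : Scheme.{u}⦄ (E : Set S),
    (∀ s : S, ∃ U : S.Opens, IsAffineOpen U ∧ s ∈ U ∧ Q (U.ι ⁻¹' E)) → Q E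

/-- the hypothesis: over a finitely generated `ℤ`-algebra the locus has `Q` -/
def NoethCaseMor (Q : ∀ ⦃S : Scheme.{u}⦄, Set S → Prop)
    (L : ∀ ⦃X Y S : Scheme.{u}⦄, (X ⟶ Y) → (Y ⟶ S) → Set S) : Prop :=
  ∀ (R : Type u) [CommRing R] [Algebra.FiniteType ℤ R] (X Y : Scheme.{u}) (f : X ⟶ Y)
    (g : Y ⟶ Spec (CommRingCat.of R)),
    LocallyOfFinitePresentation g → QuasiCompact g → QuasiSeparated g →
    LocallyOfFinitePresentation (f ≫ g) → QuasiCompact (f ≫ g) → QuasiSeparated (f ≫ g) →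
    Q (L f g)

/-- the hypothesis: over a finitely generated `ℤ`-algebra the locus has `Q` -/
def NoethCasePair (Q : ∀ ⦃S : Scheme.{u}⦄, Set S → Prop)
    (L : ∀ ⦃X Y S : Scheme.{u}⦄, (X ⟶ S) → (Y ⟶ S) → Set S) : Prop :=
  ∀ (R : Type u) [CommRing R] [Algebra.FiniteType ℤ R] (X Y : Scheme.{u})
    (a : X ⟶ Spec (CommRingCat.of R)) (b : Y ⟶ Spec (CommRingCat.of R)),
    LocallyOfFinitePresentation a → QuasiCompact a → QuasiSeparated a →
    LocallyOfFinitePresentation b → QuasiCompact b → QuasiSeparated b →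
    Q (L a b)

section Mor

variable {Q : ∀ ⦃S : Scheme.{u}⦄, Set S → Prop}
  {L : ∀ ⦃X Y S : Scheme.{u}⦄, (X ⟶ Y) → (Y ⟶ S) → Set S}

set_option backward.isDefEq.respectTransparency false in
/-- the case `S = Spec A` -/
theorem mor_Spec (hQ : GoodQ Q) (hL : BCMor L) (H : NoethCaseMor Q L)
    (A : Type u) [CommRing A] (f : X ⟶ Y) (g : Y ⟶ Spec (CommRingCat.of A))
    [LocallyOfFinitePresentation g] [QuasiCompact g] [QuasiSeparated g]
    [LocallyOfFinitePresentation (f ≫ g)] [QuasiCompact (f ≫ g)] [QuasiSeparated (f ≫ g)] :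
    Q (L f g) := by
  obtain ⟨n₁, ⟨MY₁⟩⟩ := exists_model_top (D := LimSubalg.D A) (c := LimSubalg.cone A)
    (LimSubalg.isLimit A) g
  obtain ⟨n₂, ⟨MX₂⟩⟩ := exists_model_top (D := LimSubalg.D A) (c := LimSubalg.cone A)
    (LimSubalg.isLimit A) (f ≫ g)
  let MY := MY₁.reindex (IsCofiltered.minToLeft n₁ n₂)
  let MX := MX₂.reindex (IsCofiltered.minToRight n₁ n₂)
  obtain ⟨k, φ, ⟨h⟩⟩ := Model.exists_hom (LimSubalg.isLimit A) MX MY f rfl
  have hY : IsPullback (MY.reindex φ).g g (MY.reindex φ).m ((LimSubalg.cone A).π.app k) :=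
    (MY.reindex φ).pb
  have hX : IsPullback (MX.reindex φ).g f h.f₀ (MY.reindex φ).g := h.isPullback rfl
  have hfg : Algebra.FiniteType ℤ ↥(k.unop.1) := ⟨(Subalgebra.fg_top _).mpr k.unop.2⟩
  have h1 : CompactSpace (MY.reindex φ).M := (MY.reindex φ).cpt
  have h2 : QuasiSeparatedSpace (MY.reindex φ).M := (MY.reindex φ).qs
  have h3 : CompactSpace (MX.reindex φ).M := (MX.reindex φ).cpt
  have h4 : QuasiSeparatedSpace (MX.reindex φ).M := (MX.reindex φ).qs
  have h5 : LocallyOfFinitePresentation (MY.reindex φ).m := (MY.reindex φ).lfp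
  have h6 : LocallyOfFinitePresentation (MX.reindex φ).m := (MX.reindex φ).lfp
  have hw : h.f₀ ≫ (MY.reindex φ).m = (MX.reindex φ).m := h.w
  have hS : IsAffine ((LimSubalg.D A).obj k) := inferInstance
  have q2 : QuasiCompact (MY.reindex φ).m := (quasiCompact_iff_compactSpace _).mpr h1
  have q3 : QuasiSeparated (MY.reindex φ).m := (quasiSeparated_iff_quasiSeparatedSpace _).mpr h2
  have q4 : LocallyOfFinitePresentation (h.f₀ ≫ (MY.reindex φ).m) := by rw [hw]; exact h6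
  have q5 : QuasiCompact (h.f₀ ≫ (MY.reindex φ).m) := by
    rw [hw]; exact (quasiCompact_iff_compactSpace _).mpr h3
  have q6 : QuasiSeparated (h.f₀ ≫ (MY.reindex φ).m) := by
    rw [hw]; exact (quasiSeparated_iff_quasiSeparatedSpace _).mpr h4
  have e := hL h.f₀ (MY.reindex φ).m f g ((LimSubalg.cone A).π.app k) (MY.reindex φ).g
    (MX.reindex φ).g inferInstance q2 inferInstance q5 hY hX
  rw [e]
  apply hQ.preimage
  exact H ↥(k.unop.1) _ _ h.f₀ (MY.reindex φ).m h5 q2 q3 q4 q5 q6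

/-- the case of an affine base -/
theorem mor_of_isAffine (hQ : GoodQ Q) (hL : BCMor L) (H : NoethCaseMor Q L)
    [IsAffine S] (f : X ⟶ Y) (g : Y ⟶ S)
    [LocallyOfFinitePresentation g] [QuasiCompact g] [QuasiSeparated g]
    [LocallyOfFinitePresentation (f ≫ g)] [QuasiCompact (f ≫ g)] [QuasiSeparated (f ≫ g)] :
    Q (L f g) := by
  let e := S.isoSpec
  have hY : IsPullback (𝟙 Y) g (g ≫ e.hom) e.hom := IsPullback.of_horiz_isIso ⟨by simp⟩
  have hX : IsPullback (𝟙 X) f f (𝟙 Y) := IsPullback.of_horiz_isIso ⟨by simp⟩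
  have h1 : LocallyOfFinitePresentation (f ≫ g ≫ e.hom) := by
    rw [← Category.assoc]; infer_instance
  have h2 : QuasiCompact (f ≫ g ≫ e.hom) := by
    rw [← Category.assoc]; infer_instance
  have h3 : QuasiSeparated (f ≫ g ≫ e.hom) := by
    rw [← Category.assoc]; infer_instance
  have hc := mor_Spec hQ hL H Γ(S, ⊤) f (g ≫ e.hom)
  rw [hL f (g ≫ e.hom) f g e.hom (𝟙 Y) (𝟙 X) inferInstance inferInstance inferInstance
    inferInstance hY hX]
  exact hQ.preimage e.hom _ hc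

/-- **Reduction to a base of finite type over `ℤ`** (relations on morphisms). -/
theorem mor_general (hQ : GoodQ Q) (hL : BCMor L) (H : NoethCaseMor Q L)
    (f : X ⟶ Y) (g : Y ⟶ S)
    [LocallyOfFinitePresentation g] [QuasiCompact g] [QuasiSeparated g]
    [LocallyOfFinitePresentation (f ≫ g)] [QuasiCompact (f ≫ g)] [QuasiSeparated (f ≫ g)] :
    Q (L f g) := by
  apply hQ.of_local
  intro s
  obtain ⟨_, ⟨U₀, hU₀, rfl⟩, hsU, -⟩ := S.isBasis_affineOpens.exists_subset_of_mem_open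
    (Set.mem_univ s) isOpen_univ
  obtain ⟨U, rfl⟩ : ∃ U : S.Opens, U = U₀ := ⟨U₀, rfl⟩
  have hU : IsAffineOpen U := hU₀
  refine ⟨U, hU, hsU, ?_⟩
  have : IsAffine U.toScheme := hU
  have hY : IsPullback (g ⁻¹ᵁ U).ι (g ∣_ U) g U.ι := (isPullback_morphismRestrict g U).flip
  have hX : IsPullback (f ⁻¹ᵁ (g ⁻¹ᵁ U)).ι (f ∣_ (g ⁻¹ᵁ U)) f (g ⁻¹ᵁ U).ι :=
    (isPullback_morphismRestrict f (g ⁻¹ᵁ U)).flip
  have hXS := hX.paste_vert hY
  have h1 : LocallyOfFinitePresentation (f ∣_ (g ⁻¹ᵁ U) ≫ g ∣_ U) :=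
    MorphismProperty.of_isPullback (P := @LocallyOfFinitePresentation) hXS inferInstance
  have h2 : QuasiCompact (f ∣_ (g ⁻¹ᵁ U) ≫ g ∣_ U) :=
    MorphismProperty.of_isPullback (P := @QuasiCompact) hXS inferInstance
  have h3 : QuasiSeparated (f ∣_ (g ⁻¹ᵁ U) ≫ g ∣_ U) :=
    MorphismProperty.of_isPullback (P := @QuasiSeparated) hXS inferInstance
  have hc := mor_of_isAffine hQ hL H (f ∣_ (g ⁻¹ᵁ U)) (g ∣_ U)
  rw [hL f g _ _ U.ι _ _ inferInstance inferInstance inferInstance inferInstance hY hX] at hc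
  exact hc

end Mor

section Pair

variable {Q : ∀ ⦃S : Scheme.{u}⦄, Set S → Prop}
  {L : ∀ ⦃X Y S : Scheme.{u}⦄, (X ⟶ S) → (Y ⟶ S) → Set S}

set_option backward.isDefEq.respectTransparency false in
/-- the case `S = Spec A` -/
theorem pair_Spec (hQ : GoodQ Q) (hL : BCPair L) (H : NoethCasePair Q L)
    (A : Type u) [CommRing A] (a : X ⟶ Spec (CommRingCat.of A)) (b : Y ⟶ Spec (CommRingCat.of A))
    [LocallyOfFinitePresentation a] [QuasiCompact a] [QuasiSeparated a]
    [LocallyOfFinitePresentation b] [QuasiCompact b] [QuasiSeparated b] :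
    Q (L a b) := by
  obtain ⟨n₁, ⟨MX₁⟩⟩ := exists_model_top (D := LimSubalg.D A) (c := LimSubalg.cone A)
    (LimSubalg.isLimit A) a
  obtain ⟨n₂, ⟨MY₂⟩⟩ := exists_model_top (D := LimSubalg.D A) (c := LimSubalg.cone A)
    (LimSubalg.isLimit A) b
  let MX := MX₁.reindex (IsCofiltered.minToLeft n₁ n₂)
  let MY := MY₂.reindex (IsCofiltered.minToRight n₁ n₂)
  let k := IsCofiltered.min n₁ n₂
  have hX : IsPullback MX.g a MX.m ((LimSubalg.cone A).π.app k) := MX.pb
  have hY : IsPullback MY.g b MY.m ((LimSubalg.cone A).π.app k) := MY.pb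
  have hfg : Algebra.FiniteType ℤ ↥(k.unop.1) := ⟨(Subalgebra.fg_top _).mpr k.unop.2⟩
  have h1 : CompactSpace MY.M := MY.cpt
  have h2 : QuasiSeparatedSpace MY.M := MY.qs
  have h3 : CompactSpace MX.M := MX.cpt
  have h4 : QuasiSeparatedSpace MX.M := MX.qs
  have h5 : LocallyOfFinitePresentation MY.m := MY.lfp
  have h6 : LocallyOfFinitePresentation MX.m := MX.lfp
  have hS : IsAffine ((LimSubalg.D A).obj k) := inferInstance
  have q2 : QuasiCompact MY.m := (quasiCompact_iff_compactSpace _).mpr h1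
  have q3 : QuasiSeparated MY.m := (quasiSeparated_iff_quasiSeparatedSpace _).mpr h2
  have q5 : QuasiCompact MX.m := (quasiCompact_iff_compactSpace _).mpr h3
  have q6 : QuasiSeparated MX.m := (quasiSeparated_iff_quasiSeparatedSpace _).mpr h4
  have e := hL MX.m MY.m a b ((LimSubalg.cone A).π.app k) MX.g MY.g
    inferInstance q5 inferInstance q2 hX hY
  rw [e]
  apply hQ.preimage
  exact H ↥(k.unop.1) _ _ MX.m MY.m h6 q5 q6 h5 q2 q3

/-- the case of an affine base -/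
theorem pair_of_isAffine (hQ : GoodQ Q) (hL : BCPair L) (H : NoethCasePair Q L)
    [IsAffine S] (a : X ⟶ S) (b : Y ⟶ S)
    [LocallyOfFinitePresentation a] [QuasiCompact a] [QuasiSeparated a]
    [LocallyOfFinitePresentation b] [QuasiCompact b] [QuasiSeparated b] :
    Q (L a b) := by
  let e := S.isoSpec
  have hX : IsPullback (𝟙 X) a (a ≫ e.hom) e.hom := IsPullback.of_horiz_isIso ⟨by simp⟩
  have hY : IsPullback (𝟙 Y) b (b ≫ e.hom) e.hom := IsPullback.of_horiz_isIso ⟨by simp⟩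
  have hc := pair_Spec hQ hL H Γ(S, ⊤) (a ≫ e.hom) (b ≫ e.hom)
  rw [hL (a ≫ e.hom) (b ≫ e.hom) a b e.hom (𝟙 X) (𝟙 Y) inferInstance inferInstance inferInstance
    inferInstance hX hY]
  exact hQ.preimage e.hom _ hc

/-- **Reduction to a base of finite type over `ℤ`** (relations on pairs). -/
theorem pair_general (hQ : GoodQ Q) (hL : BCPair L) (H : NoethCasePair Q L)
    (a : X ⟶ S) (b : Y ⟶ S)
    [LocallyOfFinitePresentation a] [QuasiCompact a] [QuasiSeparated a]
    [LocallyOfFinitePresentation b] [QuasiCompact b] [QuasiSeparated b] :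
    Q (L a b) := by
  apply hQ.of_local
  intro s
  obtain ⟨_, ⟨U₀, hU₀, rfl⟩, hsU, -⟩ := S.isBasis_affineOpens.exists_subset_of_mem_open
    (Set.mem_univ s) isOpen_univ
  obtain ⟨U, rfl⟩ : ∃ U : S.Opens, U = U₀ := ⟨U₀, rfl⟩
  have hU : IsAffineOpen U := hU₀
  refine ⟨U, hU, hsU, ?_⟩
  have : IsAffine U.toScheme := hU
  have hX : IsPullback (a ⁻¹ᵁ U).ι (a ∣_ U) a U.ι := (isPullback_morphismRestrict a U).flip
  have hY : IsPullback (b ⁻¹ᵁ U).ι (b ∣_ U) b U.ι := (isPullback_morphismRestrict b U).flip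
  have hc := pair_of_isAffine hQ hL H (a ∣_ U) (b ∣_ U)
  rw [hL a b _ _ U.ι _ _ inferInstance inferInstance inferInstance inferInstance hX hY] at hc
  exact hc

end Pair

end Groth.Agent.Helper4.ConsRed
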