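import Mathlib
import Groth.Agent.Lib.Helper4.ConsRed1
import Groth.Agent.Lib.Helper4.Constr
import Groth.Agent.Lib.Helper5.ProConsClosure
import Groth.Agent.S15543

/-!
# Constructible / ind-constructible properties: the Noetherian case (helper4)
-/

set_option autoImplicit false
universe u
open AlgebraicGeometry CategoryTheory CategoryTheory.Limits TopologicalSpace Topology

namespace Groth.Agent.Helper4.ConsRed

/-! ### the two properties of subsets are "good" -/

/-- ind-constructibility is local -/
theorem isIndConstructible_of_local {X : Type*} [TopologicalSpace X] {E : Set X}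
    (h : ∀ x : X, ∃ U : Set X, IsOpen U ∧ x ∈ U ∧
      ProCons.IsIndConstructible (Subtype.val ⁻¹' E : Set ↥U)) :
    ProCons.IsIndConstructible E := by
  intro x
  obtain ⟨U, hU, hxU, hE⟩ := h x
  obtain ⟨W, hW, hxW, Sset, hS, heq⟩ := hE ⟨x, hxU⟩
  have hW' : IsOpen (Subtype.val '' W : Set X) := hU.isOpenMap_subtype_val _ hW
  have hmem : ∀ z : ↥(Subtype.val '' W : Set X), ∃ h : (z : X) ∈ U, (⟨z, h⟩ : ↥U) ∈ W := by
    rintro ⟨_, ⟨y, hy, rfl⟩⟩; exact ⟨y.2, hy⟩
  let ι : ↥(Subtype.val '' W : Set X) → ↥W := fun z => ⟨⟨z.1, (hmem z).1⟩, (hmem z).2⟩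
  let κ : ↥W → ↥(Subtype.val '' W : Set X) := fun w => ⟨w.1.1, ⟨w.1, w.2, rfl⟩⟩
  have hιc : Continuous ι :=
    Continuous.subtype_mk (Continuous.subtype_mk continuous_subtype_val _) _
  have hκc : Continuous κ :=
    Continuous.subtype_mk (continuous_subtype_val.comp continuous_subtype_val) _
  let e : ↥(Subtype.val '' W : Set X) ≃ₜ ↥W :=
    { toFun := ι, invFun := κ, left_inv := fun z => rfl, right_inv := fun w => rfl,
      continuous_toFun := hιc, continuous_invFun := hκc }
  refine ⟨Subtype.val '' W, hW', ⟨⟨x, hxU⟩, hxW, rfl⟩, (fun T => ι ⁻¹' T) '' Sset, ?_, ?_⟩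
  · rintro _ ⟨T, hT, rfl⟩
    exact (hS T hT).preimage_of_isOpenEmbedding e.isOpenEmbedding
  · ext z
    have h1 : ι z ∈ (Subtype.val ⁻¹' (Subtype.val ⁻¹' E : Set ↥U) : Set ↥W) ↔ ι z ∈ ⋃₀ Sset := by
      rw [heq]
    simp only [Set.mem_preimage, Set.mem_sUnion] at h1
    simp only [Set.mem_preimage, Set.mem_sUnion, Set.mem_image, exists_exists_and_eq_and]
    exact h1

theorem goodQ_isLocallyConstructible :
    GoodQ (fun (S : Scheme.{u}) (E : Set S) => IsLocallyConstructible E) where
  preimage := fun _ _ j _ hE => Groth.Agent.S15543.isLocallyConstructible_preimage j hE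
  of_local := by
    intro S E h s
    obtain ⟨U, hU, hsU, hE⟩ := h s
    refine ⟨U, U.isOpen.mem_nhds hsU, U.isOpen, ?_⟩
    have : IsAffine U.toScheme := hU
    have : CompactSpace ↥U.toScheme := inferInstance
    have : QuasiSeparatedSpace ↥U.toScheme := inferInstance
    exact IsLocallyConstructible.isConstructible (X := ↥U.toScheme) hE

theorem goodQ_isIndConstructible :
    GoodQ (fun (S : Scheme.{u}) (E : Set S) => ProCons.IsIndConstructible E) where
  preimage := fun _ _ j E hE => Groth.Agent.S15543.result j E hE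
  of_local := by
    intro S E h
    apply isIndConstructible_of_local
    intro s
    obtain ⟨U, hU, hsU, hE⟩ := h s
    exact ⟨U, U.isOpen, hsU, hE⟩

/-! ### subsets of a Noetherian affine scheme -/

section Noeth

variable (R : Type u) [CommRing R]

/-- the closed immersion `Spec R/p ⟶ Spec R` -/
noncomputable abbrev quotι (p : Ideal R) :
    Spec (CommRingCat.of (R ⧸ p)) ⟶ Spec (CommRingCat.of R) :=
  Spec.map (CommRingCat.ofHom (Ideal.Quotient.mk p))

instance (p : Ideal R) : IsClosedImmersion (quotι R p) :=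
  IsClosedImmersion.spec_of_surjective _ Ideal.Quotient.mk_surjective

lemma lfp_quotι [IsNoetherianRing R] (p : Ideal R) : LocallyOfFinitePresentation (quotι R p) := by
  rw [HasRingHomProperty.Spec_iff (P := @LocallyOfFinitePresentation)]
  exact RingHom.FinitePresentation.of_surjective _ Ideal.Quotient.mk_surjective
    ((isNoetherianRing_iff_ideal_fg R).mp inferInstance _)

lemma range_quotι (p : Ideal R) :
    Set.range (quotι R p) = (PrimeSpectrum.zeroLocus (p : Set R) : Set (PrimeSpectrum R)) := by
  have := _root_.range_comap_of_surjective (R ⧸ p) (Ideal.Quotient.mk p)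
    Ideal.Quotient.mk_surjective
  rw [Ideal.mk_ker] at this
  exact this

/-- the generic point of `Spec R/p` maps to `p` -/
lemma quotι_genericPoint (p : Ideal R) [p.IsPrime] :
    quotι R p (genericPoint ↥(Spec (CommRingCat.of (R ⧸ p)))) =
      (⟨p, inferInstance⟩ : PrimeSpectrum R) := by
  have h1 := (genericPoint_spec ↥(Spec (CommRingCat.of (R ⧸ p)))).image (quotι R p).continuous
  rw [Set.image_univ, range_quotι] at h1
  have h2 : IsGenericPoint (⟨p, inferInstance⟩ : PrimeSpectrum R)
      (closure (PrimeSpectrum.zeroLocus (p : Set R) : Set (PrimeSpectrum R))) := by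
    rw [(PrimeSpectrum.isClosed_zeroLocus _).closure_eq]
    have := PrimeSpectrum.closure_singleton (⟨p, inferInstance⟩ : PrimeSpectrum R)
    exact this
  exact IsGenericPoint.eq (α := PrimeSpectrum R) h1 h2

variable [IsNoetherianRing R]

/-- the generic piece of the Noetherian induction -/
theorem exists_generic_piece (E : Set (Spec (CommRingCat.of R))) (p : Ideal R) [p.IsPrime]
    (h : (interior (quotι R p ⁻¹' E)).Nonempty ∨ (interior (quotι R p ⁻¹' E)ᶜ).Nonempty) :
    ∃ Z' : Set (Spec (CommRingCat.of R)), IsClosed Z' ∧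
      Z' ⊂ (PrimeSpectrum.zeroLocus (p : Set R) : Set (PrimeSpectrum R)) ∧
      IsConstructible (E ∩
        ((PrimeSpectrum.zeroLocus (p : Set R) : Set (PrimeSpectrum R)) \ Z')) := by
  have hιfp := lfp_quotι R p
  have hrange := range_quotι R p
  haveI : NoetherianSpace ↥(Spec (CommRingCat.of (R ⧸ p))) :=
    inferInstanceAs (NoetherianSpace (PrimeSpectrum (R ⧸ p)))
  obtain ⟨U₁, hU₁o, hU₁ne, hc₁⟩ : ∃ U₁ : Set ↥(Spec (CommRingCat.of (R ⧸ p))), IsOpen U₁ ∧
      U₁.Nonempty ∧ IsConstructible (quotι R p ⁻¹' E ∩ U₁) := by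
    rcases h with h | h
    · refine ⟨_, isOpen_interior, h, ?_⟩
      rw [Set.inter_eq_right.mpr interior_subset]
      exact Constr.isConstructible_of_isOpen isOpen_interior
    · refine ⟨_, isOpen_interior, h, ?_⟩
      have : quotι R p ⁻¹' E ∩ interior (quotι R p ⁻¹' E)ᶜ = ∅ := by
        rw [Set.eq_empty_iff_forall_notMem]
        rintro z ⟨hz1, hz2⟩
        exact interior_subset hz2 hz1
      rw [this]
      exact IsConstructible.empty
  have hc₂ := (quotι R p).isConstructible_image hc₁
  rw [Set.image_preimage_inter] at hc₂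
  refine ⟨quotι R p '' U₁ᶜ, (quotι R p).isClosedEmbedding.isClosedMap _ hU₁o.isClosed_compl,
    ?_, ?_⟩
  · refine ⟨?_, ?_⟩
    · rw [← hrange]; exact Set.image_subset_range _ _
    · intro hsub
      obtain ⟨u, hu⟩ := hU₁ne
      have : quotι R p u ∈ (PrimeSpectrum.zeroLocus (p : Set R) : Set (PrimeSpectrum R)) := by
        rw [← hrange]; exact ⟨u, rfl⟩
      obtain ⟨u', hu', he⟩ := hsub this
      have := (quotι R p).isClosedEmbedding.injective he
      exact hu' (this ▸ hu)
  · convert hc₂ using 2
    rw [← hrange, ← Set.image_univ, ← Set.image_diff (quotι R p).isClosedEmbedding.injective]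
    congr 1
    ext u
    simp

/-- a subset of a Noetherian affine scheme whose trace on every integral closed subscheme
contains, or misses, a nonempty open subset is constructible -/
theorem isConstructible_of_generic (E : Set (Spec (CommRingCat.of R)))
    (h : ∀ (p : Ideal R) [p.IsPrime],
      (interior (quotι R p ⁻¹' E)).Nonempty ∨ (interior (quotι R p ⁻¹' E)ᶜ).Nonempty) :
    IsConstructible E := by
  haveI : NoetherianSpace (Spec (CommRingCat.of R)) :=
    inferInstanceAs (NoetherianSpace (PrimeSpectrum R))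
  have key : ∀ Z : Set (Spec (CommRingCat.of R)), IsClosed Z → IsConstructible (E ∩ Z) := by
    apply Constr.noeth_induction
    · intro Z hZcl hZirr ih
      have hp : (PrimeSpectrum.vanishingIdeal (Z : Set (PrimeSpectrum R))).IsPrime :=
        PrimeSpectrum.isIrreducible_iff_vanishingIdeal_isPrime.mp hZirr
      have hZp : (PrimeSpectrum.zeroLocus
          (PrimeSpectrum.vanishingIdeal (Z : Set (PrimeSpectrum R)) : Set R) :
            Set (PrimeSpectrum R)) = Z := by
        rw [PrimeSpectrum.zeroLocus_vanishingIdeal_eq_closure]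
        exact IsClosed.closure_eq hZcl
      obtain ⟨Z', hZ'cl, hZ'lt, hcons⟩ := exists_generic_piece R E
        (PrimeSpectrum.vanishingIdeal (Z : Set (PrimeSpectrum R))) (h _)
      rw [hZp] at hZ'lt hcons
      have h1 := ih Z' hZ'cl hZ'lt
      have : E ∩ Z = (E ∩ Z') ∪ (E ∩ (Z \ Z')) := by
        rw [← Set.inter_union_distrib_left, Set.union_diff_cancel hZ'lt.subset]
      rw [this]
      exact h1.union hcons
    · intro T hT hTcl hTQ
      have : E ∩ (⋃₀ T) = ⋃ t ∈ T, E ∩ t := by
        ext x
        simp only [Set.mem_inter_iff, Set.mem_sUnion, Set.mem_iUnion, exists_prop]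
        constructor
        · rintro ⟨h1, t, ht, h2⟩
          exact ⟨t, ht, h1, h2⟩
        · rintro ⟨t, ht, h1, h2⟩
          exact ⟨h1, t, ht, h2⟩
      rw [this]
      exact IsConstructible.biUnion hT hTQ
  have := key Set.univ isClosed_univ
  simpa using this

/-- a subset of a Noetherian affine scheme whose trace on the integral closed subscheme `V(p)`
contains a nonempty open subset whenever it contains `p` is ind-constructible -/
theorem isIndConstructible_of_generic (E : Set (Spec (CommRingCat.of R)))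
    (h : ∀ (p : Ideal R) [p.IsPrime], (⟨p, inferInstance⟩ : PrimeSpectrum R) ∈ E →
      (interior (quotι R p ⁻¹' E)).Nonempty) :
    ProCons.IsIndConstructible E := by
  apply Groth.Agent.Helper5.PC.isIndConstructible_of_nhds
  intro x hx
  have hpr : (x : PrimeSpectrum R).asIdeal.IsPrime := (x : PrimeSpectrum R).2
  have hne := h (x : PrimeSpectrum R).asIdeal hx
  have hgen := quotι_genericPoint R (x : PrimeSpectrum R).asIdeal
  have hrange := range_quotι R (x : PrimeSpectrum R).asIdeal
  set ι := quotι R (x : PrimeSpectrum R).asIdeal with hι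
  set η := genericPoint ↥(Spec (CommRingCat.of (R ⧸ (x : PrimeSpectrum R).asIdeal))) with hη
  have hηU : η ∈ interior (ι ⁻¹' E) := by
    rw [(genericPoint_spec _).mem_open_set_iff isOpen_interior, Set.univ_inter]
    exact hne
  have hcl : closure ({x} : Set ↥(Spec (CommRingCat.of R))) = Set.range ι := by
    rw [hrange]
    exact PrimeSpectrum.closure_singleton (x : PrimeSpectrum R)
  rw [mem_nhds_subtype]
  refine ⟨(ι '' (interior (ι ⁻¹' E))ᶜ)ᶜ, ?_, ?_⟩
  · apply IsOpen.mem_nhds
    · exact (ι.isClosedEmbedding.isClosedMap _ isOpen_interior.isClosed_compl).isOpen_compl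
    · rintro ⟨u, hu, he⟩
      have : u = η := ι.isClosedEmbedding.injective (he.trans hgen.symm)
      exact hu (this ▸ hηU)
  · rintro ⟨z, hz⟩ hzt
    rw [hcl] at hz
    obtain ⟨u, rfl⟩ := hz
    have hu : u ∈ interior (ι ⁻¹' E) := by
      by_contra hn
      exact hzt ⟨u, hn, rfl⟩
    have hu' : u ∈ ι ⁻¹' E := interior_subset hu
    exact hu'

end Noeth

end Groth.Agent.Helper4.ConsRed
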