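import Mathlib
import Groth.Agent.Lib.Helper4.ConsRed2

/-!
# Constructible / ind-constructible properties: the loci are locally constructible /
ind-constructible (helper4)
-/

set_option autoImplicit false
universe u
open AlgebraicGeometry CategoryTheory CategoryTheory.Limits TopologicalSpace Topology

namespace Groth.Agent.Helper4.ConsRed

variable {X Y S : Scheme.{u}}

section Mor

variable {P : ∀ ⦃X Y T : Scheme.{u}⦄, (X ⟶ Y) → (Y ⟶ T) → Prop}

/-- base change of `X ⟶ Y ⟶ Spec R` to `Spec R/p` -/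
lemma locusMor_quot (hP : ConsProp.IsFieldStableMor P) (R : Type u) [CommRing R]
    (f : X ⟶ Y) (g : Y ⟶ Spec (CommRingCat.of R))
    [LocallyOfFiniteType g] [QuasiCompact g] [LocallyOfFiniteType (f ≫ g)] [QuasiCompact (f ≫ g)]
    (p : Ideal R) :
    ∃ (X₁ Y₁ : Scheme.{u}) (f₁ : X₁ ⟶ Y₁) (g₁ : Y₁ ⟶ Spec (CommRingCat.of (R ⧸ p))),
      LocallyOfFiniteType g₁ ∧ QuasiCompact g₁ ∧ LocallyOfFiniteType (f₁ ≫ g₁) ∧
      QuasiCompact (f₁ ≫ g₁) ∧
      ConsProp.locusMor P f₁ g₁ = quotι R p ⁻¹' ConsProp.locusMor P f g := by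
  have hY : IsPullback (pullback.fst g (quotι R p)) (pullback.snd g (quotι R p)) g (quotι R p) :=
    IsPullback.of_hasPullback g _
  have hX : IsPullback (pullback.fst f (pullback.fst g (quotι R p)))
      (pullback.snd f (pullback.fst g (quotι R p))) f (pullback.fst g (quotι R p)) :=
    IsPullback.of_hasPullback f _
  have hXS := hX.paste_vert hY
  refine ⟨_, _, pullback.snd f (pullback.fst g (quotι R p)), pullback.snd g (quotι R p),
    inferInstance, inferInstance, ?_, ?_, locusMor_bc hP hY hX⟩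
  · exact MorphismProperty.of_isPullback (P := @LocallyOfFiniteType) hXS inferInstance
  · exact MorphismProperty.of_isPullback (P := @QuasiCompact) hXS inferInstance

theorem noethCase_consMor (hP : ConsProp.IsConsMor P) :
    NoethCaseMor (fun (S : Scheme.{u}) (E : Set S) => IsLocallyConstructible E)
      (fun _ _ _ f g => ConsProp.locusMor P f g) := by
  intro R _ _ X Y f g hg1 hg2 hg3 hh1 hh2 hh3
  have : IsNoetherianRing R := Algebra.FiniteType.isNoetherianRing ℤ R
  refine (isConstructible_of_generic R _ ?_).isLocallyConstructible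
  intro p _
  obtain ⟨X₁, Y₁, f₁, g₁, i1, i2, i3, i4, e⟩ := locusMor_quot hP.1 R f g p
  have := hP.2 f₁ g₁
  rw [e] at this
  exact this

theorem noethCase_indConsMor (hP : ConsProp.IsIndConsMor P) :
    NoethCaseMor (fun (S : Scheme.{u}) (E : Set S) => ProCons.IsIndConstructible E)
      (fun _ _ _ f g => ConsProp.locusMor P f g) := by
  intro R _ _ X Y f g hg1 hg2 hg3 hh1 hh2 hh3
  have : IsNoetherianRing R := Algebra.FiniteType.isNoetherianRing ℤ R
  refine isIndConstructible_of_generic R _ ?_
  intro p _ hp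
  obtain ⟨X₁, Y₁, f₁, g₁, i1, i2, i3, i4, e⟩ := locusMor_quot hP.1 R f g p
  have := hP.2 f₁ g₁
  rw [e] at this
  apply this
  rw [Set.mem_preimage, quotι_genericPoint]
  exact hp

/-- **S5880** -/
theorem isLocallyConstructible_locusMor (hP : ConsProp.IsConsMor P) (f : X ⟶ Y) (g : Y ⟶ S)
    [LocallyOfFinitePresentation g] [QuasiCompact g] [QuasiSeparated g]
    [LocallyOfFinitePresentation (f ≫ g)] [QuasiCompact (f ≫ g)] [QuasiSeparated (f ≫ g)] :
    IsLocallyConstructible (ConsProp.locusMor P f g) :=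
  mor_general (L := fun _ _ _ f g => ConsProp.locusMor P f g) goodQ_isLocallyConstructible
    (bcMor_locusMor hP.1) (noethCase_consMor hP) f g

/-- **S5881** -/
theorem isIndConstructible_locusMor (hP : ConsProp.IsIndConsMor P) (f : X ⟶ Y) (g : Y ⟶ S)
    [LocallyOfFinitePresentation g] [QuasiCompact g] [QuasiSeparated g]
    [LocallyOfFinitePresentation (f ≫ g)] [QuasiCompact (f ≫ g)] [QuasiSeparated (f ≫ g)] :
    ProCons.IsIndConstructible (ConsProp.locusMor P f g) :=
  mor_general (L := fun _ _ _ f g => ConsProp.locusMor P f g) goodQ_isIndConstructible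
    (bcMor_locusMor hP.1) (noethCase_indConsMor hP) f g

end Mor

section Pair

variable {P : ∀ ⦃X Y T : Scheme.{u}⦄, (X ⟶ T) → (Y ⟶ T) → Prop}

/-- base change of `X ⟶ Spec R ⟵ Y` to `Spec R/p` -/
lemma locusPair_quot (hP : ConsPropPair.IsFieldStablePair P) (R : Type u) [CommRing R]
    (a : X ⟶ Spec (CommRingCat.of R)) (b : Y ⟶ Spec (CommRingCat.of R))
    [LocallyOfFiniteType a] [QuasiCompact a] [LocallyOfFiniteType b] [QuasiCompact b]
    (p : Ideal R) :
    ∃ (X₁ Y₁ : Scheme.{u}) (a₁ : X₁ ⟶ Spec (CommRingCat.of (R ⧸ p)))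
      (b₁ : Y₁ ⟶ Spec (CommRingCat.of (R ⧸ p))),
      LocallyOfFiniteType a₁ ∧ QuasiCompact a₁ ∧ LocallyOfFiniteType b₁ ∧ QuasiCompact b₁ ∧
      ConsPropPair.locusPair P a₁ b₁ = quotι R p ⁻¹' ConsPropPair.locusPair P a b := by
  have hX : IsPullback (pullback.fst a (quotι R p)) (pullback.snd a (quotι R p)) a (quotι R p) :=
    IsPullback.of_hasPullback a _
  have hY : IsPullback (pullback.fst b (quotι R p)) (pullback.snd b (quotι R p)) b (quotι R p) :=
    IsPullback.of_hasPullback b _
  exact ⟨_, _, pullback.snd a (quotι R p), pullback.snd b (quotι R p),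
    inferInstance, inferInstance, inferInstance, inferInstance, locusPair_bc hP hX hY⟩

theorem noethCase_consPair (hP : ConsPropPair.IsConsPair P) :
    NoethCasePair (fun (S : Scheme.{u}) (E : Set S) => IsLocallyConstructible E)
      (fun _ _ _ a b => ConsPropPair.locusPair P a b) := by
  intro R _ _ X Y a b hg1 hg2 hg3 hh1 hh2 hh3
  have : IsNoetherianRing R := Algebra.FiniteType.isNoetherianRing ℤ R
  refine (isConstructible_of_generic R _ ?_).isLocallyConstructible
  intro p _
  obtain ⟨X₁, Y₁, a₁, b₁, i1, i2, i3, i4, e⟩ := locusPair_quot hP.1 R a b p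
  have := hP.2 a₁ b₁
  rw [e] at this
  exact this

theorem noethCase_indConsPair (hP : ConsPropPair.IsIndConsPair P) :
    NoethCasePair (fun (S : Scheme.{u}) (E : Set S) => ProCons.IsIndConstructible E)
      (fun _ _ _ a b => ConsPropPair.locusPair P a b) := by
  intro R _ _ X Y a b hg1 hg2 hg3 hh1 hh2 hh3
  have : IsNoetherianRing R := Algebra.FiniteType.isNoetherianRing ℤ R
  refine isIndConstructible_of_generic R _ ?_
  intro p _ hp
  obtain ⟨X₁, Y₁, a₁, b₁, i1, i2, i3, i4, e⟩ := locusPair_quot hP.1 R a b p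
  have := hP.2 a₁ b₁
  rw [e] at this
  apply this
  rw [Set.mem_preimage, quotι_genericPoint]
  exact hp

/-- **S5906** -/
theorem isLocallyConstructible_locusPair (hP : ConsPropPair.IsConsPair P) (a : X ⟶ S) (b : Y ⟶ S)
    [LocallyOfFinitePresentation a] [QuasiCompact a] [QuasiSeparated a]
    [LocallyOfFinitePresentation b] [QuasiCompact b] [QuasiSeparated b] :
    IsLocallyConstructible (ConsPropPair.locusPair P a b) :=
  pair_general (L := fun _ _ _ a b => ConsPropPair.locusPair P a b) goodQ_isLocallyConstructible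
    (bcPair_locusPair hP.1) (noethCase_consPair hP) a b

/-- **S5907** -/
theorem isIndConstructible_locusPair (hP : ConsPropPair.IsIndConsPair P) (a : X ⟶ S) (b : Y ⟶ S)
    [LocallyOfFinitePresentation a] [QuasiCompact a] [QuasiSeparated a]
    [LocallyOfFinitePresentation b] [QuasiCompact b] [QuasiSeparated b] :
    ProCons.IsIndConstructible (ConsPropPair.locusPair P a b) :=
  pair_general (L := fun _ _ _ a b => ConsPropPair.locusPair P a b) goodQ_isIndConstructible
    (bcPair_locusPair hP.1) (noethCase_indConsPair hP) a b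

end Pair

end Groth.Agent.Helper4.ConsRed
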