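import Mathlib
import Groth.Agent.Lib.Helper4.ConsRed3
import Groth.Agent.Lib.Helper4.LimSubalgK
import Groth.Agent.Lib.Helper9.ConsPair2

/-!
# Ind-constructibility of the locus where the fibre morphism has a property that descends
to a stage of a cofiltered limit (helper4)
-/

set_option autoImplicit false
universe u
open AlgebraicGeometry CategoryTheory CategoryTheory.Limits TopologicalSpace Topology Opposite

namespace Groth.Agent.Helper4.ConsDesc

open Groth.Agent.Helper16.FibMap Groth.Agent.Helper4.FibBC Groth.Agent.Helper4.ConsRed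

variable {X Y S : Scheme.{u}}

/-- a constructible subset of an irreducible space containing the generic point contains a
nonempty open subset -/
theorem interior_nonempty_of_generic {Z : Type u} [TopologicalSpace Z] [IrreducibleSpace Z]
    {E : Set Z} (hE : IsConstructible E) {η : Z} (hη : IsGenericPoint η Set.univ) (h : η ∈ E) :
    (interior E).Nonempty := by
  rcases Groth.Agent.Helper4.Constr.trace_dichotomy (IrreducibleSpace.isIrreducible_univ Z) hE with
    ⟨U, hU, hne, hsub⟩ | ⟨U, hU, hne, hsub⟩
  · rw [Set.inter_univ] at hne hsub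
    exact hne.mono (interior_maximal hsub hU)
  · exfalso
    rw [Set.inter_univ] at hne hsub
    have : η ∈ U := by
      rw [hη.mem_open_set_iff hU, Set.univ_inter]
      exact hne
    exact hsub this h

/-- the algebra map `R → ⊥` is bijective when `R → A` is injective -/
lemma bijective_algebraMap_bot (R A : Type u) [CommRing R] [CommRing A] [Algebra R A]
    (hinj : Function.Injective (algebraMap R A)) :
    Function.Bijective (algebraMap R (⊥ : Subalgebra R A)) := by
  constructor
  · intro a b hab
    apply hinj
    have := congrArg (fun x : (⊥ : Subalgebra R A) => (x : A)) hab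
    simpa using this
  · rintro ⟨x, hx⟩
    obtain ⟨r, rfl⟩ := Algebra.mem_bot.mp hx
    exact ⟨r, rfl⟩

/-- the range of `Spec A' ⟶ Spec R` for a finitely generated `R`-algebra which is a domain
containing the Noetherian domain `R` contains a nonempty open subset -/
theorem interior_range_nonempty (R A : Type u) [CommRing R] [CommRing A] [Algebra R A]
    [IsDomain R] [IsDomain A] [IsNoetherianRing R] [Algebra.FiniteType R A]
    (hinj : Function.Injective (algebraMap R A)) :
    (interior (Set.range (Spec.map (CommRingCat.ofHom (algebraMap R A))))).Nonempty := by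
  have hfp : (algebraMap R A).FinitePresentation := by
    have : Algebra.FinitePresentation R A := Algebra.FinitePresentation.of_finiteType.mp inferInstance
    exact (RingHom.finitePresentation_algebraMap).mpr this
  have hcons : IsConstructible (Set.range (PrimeSpectrum.comap (algebraMap R A))) :=
    PrimeSpectrum.isConstructible_range_comap hfp
  haveI : IsDomain (CommRingCat.of R) := inferInstanceAs (IsDomain R)
  have hgen := genericPoint_spec (Spec (CommRingCat.of R))
  have hmem : genericPoint (Spec (CommRingCat.of R)) ∈
      Set.range (PrimeSpectrum.comap (algebraMap R A)) := by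
    rw [genericPoint_eq_bot_of_affine]
    refine ⟨⟨⊥, Ideal.isPrime_bot⟩, ?_⟩
    ext x
    simp [PrimeSpectrum.comap, Ideal.mem_comap, hinj.eq_iff' (map_zero _)]
  exact interior_nonempty_of_generic (Z := Spec (CommRingCat.of R)) hcons hgen hmem

/-- `R → κ(η)` is injective for a domain `R` -/
lemma injective_of_generic (R : Type u) [CommRing R] [IsDomain R] {K : CommRingCat.{u}}
    (φ : CommRingCat.of R ⟶ K)
    (hφ : Set.range (Spec.map φ) = {genericPoint (Spec (CommRingCat.of R))}) :
    Function.Injective φ.hom := by
  haveI : IsDomain (CommRingCat.of R) := inferInstanceAs (IsDomain R)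
  have hd : DenseRange (PrimeSpectrum.comap φ.hom) := by
    rw [denseRange_iff_closure_range]
    have h2 : Set.range (PrimeSpectrum.comap φ.hom) = {genericPoint (Spec (CommRingCat.of R))} := hφ
    rw [h2]
    exact (genericPoint_spec (Spec (CommRingCat.of R)))
  rw [PrimeSpectrum.denseRange_comap_iff_ker_le_nilRadical] at hd
  rw [injective_iff_map_eq_zero]
  intro a ha
  have : a ∈ nilradical R := hd ha
  simpa using this

set_option backward.isDefEq.respectTransparency false in
theorem generic_interior (Q : MorphismProperty Scheme.{u}) [Q.IsStableUnderBaseChange]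
    [Q.DescendsAlong (@Surjective ⊓ @Flat ⊓ @QuasiCompact)]
    (hdesc : Groth.Agent.Helper9.ConsPair.Desc (fun _ _ f => Q f))
    (R : Type u) [CommRing R] [IsDomain R] [IsNoetherianRing R]
    (f : X ⟶ Y) (g : Y ⟶ Spec (CommRingCat.of R))
    [LocallyOfFinitePresentation g] [QuasiCompact g] [QuasiSeparated g]
    [LocallyOfFinitePresentation (f ≫ g)] [QuasiCompact (f ≫ g)] [QuasiSeparated (f ≫ g)]
    (h : Q (fibMap f g (genericPoint (Spec (CommRingCat.of R))))) :
    (interior {s | Q (fibMap f g s)}).Nonempty := by
  classical
  haveI : IsDomain (CommRingCat.of R) := inferInstanceAs (IsDomain R)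
  set η := genericPoint (Spec (CommRingCat.of R)) with hη
  let K : Type u := (Spec (CommRingCat.of R)).residueField η
  let φ : CommRingCat.of R ⟶ (Spec (CommRingCat.of R)).residueField η := Spec.preimage ((Spec (CommRingCat.of R)).fromSpecResidueField η)
  have hφ : Spec.map φ = (Spec (CommRingCat.of R)).fromSpecResidueField η := Spec.map_preimage _
  letI : Algebra R K := φ.hom.toAlgebra
  have hφ' : CommRingCat.ofHom (algebraMap R K) = φ := rfl
  have hinj : Function.Injective (algebraMap R K) := by
    apply injective_of_generic R φ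
    rw [hφ]
    exact Scheme.range_fromSpecResidueField η
  let D := LimSubalgK.D R K
  let c := LimSubalgK.cone R K
  have hc := LimSubalgK.isLimit R K
  let t := LimSubalgK.t R K
  let i₀ : (LimSubalgK.J R K)ᵒᵖ := op ⟨⊥, Subalgebra.fg_bot⟩
  have hct : ∀ i, c.π.app i ≫ t.app i = (Spec (CommRingCat.of R)).fromSpecResidueField η := fun i => by
    rw [← hφ, ← hφ']
    exact LimSubalgK.cone_t R K i
  haveI ht₀ : IsIso (t.app i₀) := by
    have hb := bijective_algebraMap_bot R K hinj
    have : IsIso (CommRingCat.ofHom (algebraMap R (⊥ : Subalgebra R K))) := by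
      exact (RingEquiv.ofBijective (algebraMap R (⊥ : Subalgebra R K)) hb).toCommRingCatIso.isIso_hom
    show IsIso (Spec.map (CommRingCat.ofHom (algebraMap R (⊥ : Subalgebra R K))))
    infer_instance
  let t₀ : D.obj i₀ ⟶ Spec (CommRingCat.of R) := t.app i₀
  haveI : IsIso t₀ := ht₀
  let g₀ : Y ⟶ D.obj i₀ := g ≫ inv t₀
  have hg₀ : g₀ ≫ t.app i₀ = g := by
    show (g ≫ inv t₀) ≫ t₀ = g
    simp
  haveI : LocallyOfFinitePresentation g₀ :=
    (MorphismProperty.cancel_right_of_respectsIso (P := @LocallyOfFinitePresentation) g (inv t₀)).mpr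
      inferInstance
  haveI : QuasiCompact g₀ :=
    (MorphismProperty.cancel_right_of_respectsIso (P := @QuasiCompact) g (inv t₀)).mpr inferInstance
  haveI : QuasiSeparated g₀ :=
    (MorphismProperty.cancel_right_of_respectsIso (P := @QuasiSeparated) g (inv t₀)).mpr inferInstance
  have hfg₀ : f ≫ g₀ = (f ≫ g) ≫ inv t₀ := (Category.assoc _ _ _).symm
  haveI : LocallyOfFinitePresentation (f ≫ g₀) := by
    rw [hfg₀]
    exact (MorphismProperty.cancel_right_of_respectsIso (P := @LocallyOfFinitePresentation) (f ≫ g)
      (inv t₀)).mpr inferInstance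
  haveI : QuasiCompact (f ≫ g₀) := by
    rw [hfg₀]
    exact (MorphismProperty.cancel_right_of_respectsIso (P := @QuasiCompact) (f ≫ g)
      (inv t₀)).mpr inferInstance
  haveI : QuasiSeparated (f ≫ g₀) := by
    rw [hfg₀]
    exact (MorphismProperty.cancel_right_of_respectsIso (P := @QuasiSeparated) (f ≫ g)
      (inv t₀)).mpr inferInstance
  have hright : IsPullback (𝟙 Y) g₀ g (t.app i₀) :=
    IsPullback.of_horiz_isIso ⟨by rw [Category.id_comp, hg₀]⟩
  have hY : IsPullback (pullback.fst g ((Spec (CommRingCat.of R)).fromSpecResidueField η))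
      (pullback.snd g ((Spec (CommRingCat.of R)).fromSpecResidueField η)) g₀ (c.π.app i₀) := by
    have hbig : IsPullback (pullback.fst g ((Spec (CommRingCat.of R)).fromSpecResidueField η) ≫ 𝟙 Y)
        (pullback.snd g ((Spec (CommRingCat.of R)).fromSpecResidueField η)) g (c.π.app i₀ ≫ t.app i₀) := by
      rw [Category.comp_id, hct]
      exact IsPullback.of_hasPullback _ _
    refine IsPullback.of_right hbig ?_ hright
    rw [← cancel_mono t₀, Category.assoc, Category.assoc]
    show _ ≫ g₀ ≫ t.app i₀ = _ ≫ c.π.app i₀ ≫ t.app i₀
    rw [hg₀, hct]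
    exact pullback.condition
  have hX := isPullback_fibMap f g η
  haveI : ∀ (i j : (LimSubalgK.J R K)ᵒᵖ) (a : i ⟶ j), IsAffineHom (D.map a) :=
    fun _ _ a => inferInstance
  obtain ⟨i, φi, Xi, Yi, fi, gi, pY, pX, hYi, hXi, hQi⟩ :=
    hdesc D c hc i₀ f g₀ (fibMap f g η) (pullback.snd g ((Spec (CommRingCat.of R)).fromSpecResidueField η))
      (pullback.fst g ((Spec (CommRingCat.of R)).fromSpecResidueField η)) (pullback.fst (f ≫ g) ((Spec (CommRingCat.of R)).fromSpecResidueField η))
      hY hX h
  let j : D.obj i ⟶ Spec (CommRingCat.of R) := t.app i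
  have hj : D.map φi ≫ t.app i₀ = j := by
    have := t.naturality φi
    rw [this]
    exact Category.comp_id _
  have hY' : IsPullback pY gi g j := by
    have := hYi.paste_horiz hright
    rwa [Category.comp_id, hj] at this
  have hloc := locus_eq_preimage Q hY' hXi
  have hall : ∀ t', Q (fibMap fi gi t') := fun t' =>
    MorphismProperty.of_isPullback (P := Q) (isPullback_fibMap fi gi t') hQi
  have hsub : Set.range j ⊆ {s | Q (fibMap f g s)} := by
    rintro _ ⟨t', rfl⟩
    have : t' ∈ {t | Q (fibMap fi gi t)} := hall t'
    rw [hloc] at this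
    exact this
  have hne : (interior (Set.range j)).Nonempty := by
    haveI : Algebra.FiniteType R i.unop.1 := ⟨(Subalgebra.fg_top _).2 i.unop.2⟩
    have hinj' : Function.Injective (algebraMap R i.unop.1) := by
      intro a b hab
      apply hinj
      have := congrArg (fun x : i.unop.1 => (x : K)) hab
      simpa using this
    exact interior_range_nonempty R i.unop.1 hinj'
  exact hne.mono (interior_mono hsub)

section Main

variable (Q : MorphismProperty Scheme.{u}) [Q.IsStableUnderBaseChange]
    [Q.DescendsAlong (@Surjective ⊓ @Flat ⊓ @QuasiCompact)]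

theorem bcMor : BCMor (fun _ _ _ f g => {s | Q (fibMap f g s)}) := by
  intro X Y S X' Y' T f g f' g' j qY qX _ _ _ _ hY hX
  exact locus_eq_preimage Q hY hX

set_option backward.isDefEq.respectTransparency false in
theorem noethCase (hdesc : Groth.Agent.Helper9.ConsPair.Desc (fun _ _ f => Q f)) :
    NoethCaseMor (fun (S : Scheme.{u}) (E : Set S) => ProCons.IsIndConstructible E)
      (fun _ _ _ f g => {s | Q (fibMap f g s)}) := by
  intro R _ _ X Y f g hg1 hg2 hg3 hh1 hh2 hh3
  have : IsNoetherianRing R := Algebra.FiniteType.isNoetherianRing ℤ R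
  refine isIndConstructible_of_generic R _ ?_
  intro p _ hp
  have hY : IsPullback (pullback.fst g (quotι R p)) (pullback.snd g (quotι R p)) g (quotι R p) :=
    IsPullback.of_hasPullback g _
  have hX : IsPullback (pullback.fst f (pullback.fst g (quotι R p)))
      (pullback.snd f (pullback.fst g (quotι R p))) f (pullback.fst g (quotι R p)) :=
    IsPullback.of_hasPullback f _
  have hXS := hX.paste_vert hY
  have e := locus_eq_preimage Q hY hX
  have i1 : LocallyOfFinitePresentation
      (pullback.snd f (pullback.fst g (quotι R p)) ≫ pullback.snd g (quotι R p)) :=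
    MorphismProperty.of_isPullback (P := @LocallyOfFinitePresentation) hXS inferInstance
  have i2 : QuasiCompact
      (pullback.snd f (pullback.fst g (quotι R p)) ≫ pullback.snd g (quotι R p)) :=
    MorphismProperty.of_isPullback (P := @QuasiCompact) hXS inferInstance
  have i3 : QuasiSeparated
      (pullback.snd f (pullback.fst g (quotι R p)) ≫ pullback.snd g (quotι R p)) :=
    MorphismProperty.of_isPullback (P := @QuasiSeparated) hXS inferInstance
  rw [← e]
  apply generic_interior Q hdesc (R ⧸ p) (pullback.snd f (pullback.fst g (quotι R p)))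
    (pullback.snd g (quotι R p))
  have : genericPoint (Spec (CommRingCat.of (R ⧸ p))) ∈
      {t | Q (fibMap (pullback.snd f (pullback.fst g (quotι R p))) (pullback.snd g (quotι R p)) t)} := by
    rw [e, Set.mem_preimage, quotι_genericPoint]
    exact hp
  exact this

/-- the locus where the morphism of fibres has `Q` is ind-constructible -/
theorem isIndConstructible_locus (hdesc : Groth.Agent.Helper9.ConsPair.Desc (fun _ _ f => Q f))
    (f : X ⟶ Y) (g : Y ⟶ S)
    [LocallyOfFinitePresentation g] [QuasiCompact g] [QuasiSeparated g]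
    [LocallyOfFinitePresentation (f ≫ g)] [QuasiCompact (f ≫ g)] [QuasiSeparated (f ≫ g)] :
    ProCons.IsIndConstructible {s : S | Q (fibMap f g s)} :=
  mor_general (L := fun _ _ _ f g => {s | Q (fibMap f g s)}) goodQ_isIndConstructible
    (bcMor Q) (noethCase Q hdesc) f g

end Main

end Groth.Agent.Helper4.ConsDesc
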