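import Mathlib
import Groth.Agent.Lib.Helper4.LimAff

/-!
# Quasi-finiteness descends to a stage of a cofiltered limit (helper4)
-/

set_option autoImplicit false
universe u
open AlgebraicGeometry CategoryTheory CategoryTheory.Limits

namespace Groth.Agent.Helper4.LimQF

open Groth.Agent.Helper7.LimBC Groth.Agent.Helper4.LimStage Groth.Agent.Helper7.LimSep
  Groth.Agent.Helper4.LimAff

/-- quasi-finiteness at a point is stable under base change -/
theorem quasiFiniteAt_of_isPullback {X' Y' X₀ Y₀ : Scheme.{u}} {p : X' ⟶ X₀} {f' : X' ⟶ Y'}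
    {f₀ : X₀ ⟶ Y₀} {q : Y' ⟶ Y₀} (h : IsPullback p f' f₀ q) [LocallyOfFiniteType f₀]
    (x' : X') (hx : f₀.QuasiFiniteAt (p x')) : f'.QuasiFiniteAt x' := by
  let U₀ := f₀.quasiFiniteLocus
  let V : X'.Opens := p ⁻¹ᵁ U₀
  have h1 : IsPullback (p ∣_ U₀) V.ι U₀.ι p := isPullback_morphismRestrict p U₀
  have h2 : IsPullback (p ∣_ U₀) (V.ι ≫ f') (U₀.ι ≫ f₀) q := h1.paste_vert h
  have h3 : LocallyQuasiFinite (V.ι ≫ f') :=
    MorphismProperty.of_isPullback (P := @LocallyQuasiFinite) h2 inferInstance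
  have hxV : x' ∈ V := hx
  have := (V.ι ≫ f').quasiFiniteAt ⟨x', hxV⟩
  have h4 := (Scheme.Hom.quasiFiniteAt_comp_iff_of_isOpenImmersion (f := V.ι) (g := f')
    (x := ⟨x', hxV⟩)).mp this
  exact h4

/-- a locally-of-finite-type morphism with a finite fibre is quasi-finite at the points of that
fibre -/
theorem quasiFiniteAt_of_finite_fiber {X₀ Y₀ : Scheme.{u}} (f₀ : X₀ ⟶ Y₀) [LocallyOfFiniteType f₀]
    (x₀ : X₀) (hfin : (f₀ ⁻¹' {f₀ x₀}).Finite) : f₀.QuasiFiniteAt x₀ := by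
  rw [Scheme.Hom.quasiFiniteAt_iff_isOpen_singleton_asFiber]
  have hF : Finite (f₀.fiber (f₀ x₀)) :=
    (f₀.fiberHomeo (f₀ x₀)).toEquiv.finite_iff.mpr hfin.to_subtype
  have : LocallyOfFiniteType (f₀.fiberToSpecResidueField (f₀ x₀)) :=
    inferInstanceAs (LocallyOfFiniteType (pullback.snd f₀ (Y₀.fromSpecResidueField (f₀ x₀))))
  have : LocallyQuasiFinite (f₀.fiberToSpecResidueField (f₀ x₀)) :=
    LocallyQuasiFinite.of_finite_preimage_singleton _ fun _ => Set.toFinite _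
  have hd := (f₀.fiberToSpecResidueField (f₀ x₀)).isDiscrete_preimage_singleton
    (IsLocalRing.closedPoint _)
  have huniv : (f₀.fiberToSpecResidueField (f₀ x₀)) ⁻¹' {IsLocalRing.closedPoint _} = Set.univ := by
    ext z
    simp only [Set.mem_preimage, Scheme.Hom.fiberToSpecResidueField_apply, Set.mem_univ]
    exact ⟨fun _ => trivial, fun _ => rfl⟩
  have : DiscreteTopology (f₀.fiber (f₀ x₀)) := by
    rw [← isDiscrete_univ_iff, ← huniv]
    exact hd
  exact isOpen_discrete _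

/-- if a base change `f'` of a quasi-compact locally-of-finite-type `f₀` is quasi-finite, then `f₀`
is quasi-finite at all points in the image of the projection -/
theorem quasiFiniteAt_of_locallyQuasiFinite {X' Y' X₀ Y₀ : Scheme.{u}} {p : X' ⟶ X₀}
    {f' : X' ⟶ Y'} {f₀ : X₀ ⟶ Y₀} {q : Y' ⟶ Y₀} (h : IsPullback p f' f₀ q)
    [LocallyOfFiniteType f₀] [QuasiCompact f₀] [LocallyQuasiFinite f'] (x' : X') :
    f₀.QuasiFiniteAt (p x') := by
  have : QuasiCompact f' := MorphismProperty.of_isPullback (P := @QuasiCompact) h inferInstance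
  apply quasiFiniteAt_of_finite_fiber
  have hfin := f'.finite_preimage_singleton (f' x')
  refine (hfin.image p).subset ?_
  intro z₀ hz₀
  have e : f₀ z₀ = q (f' x') := by
    rw [Set.mem_preimage, Set.mem_singleton_iff] at hz₀
    rw [hz₀, ← Scheme.Hom.comp_apply, ← Scheme.Hom.comp_apply, h.w]
  obtain ⟨z', hz1, hz2⟩ := Scheme.exists_preimage_of_isPullback h z₀ (f' x') e
  exact ⟨z', hz2, hz1⟩

variable {I : Type u} [SmallCategory I] [IsCofiltered I] (D : I ⥤ Scheme.{u})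
  [∀ {i j} (f : i ⟶ j), IsAffineHom (D.map f)] (c : Cone D) (hc : IsLimit c)

set_option backward.isDefEq.respectTransparency false in
include hc in
/-- a closed subset of `Y₀` with empty preimage in the limit has empty preimage at a stage -/
theorem exists_preimage_closed_eq_empty_stage (i₀ : I) [CompactSpace (D.obj i₀)]
    {Y₀ : Scheme.{u}} (g₀ : Y₀ ⟶ D.obj i₀) [QuasiCompact g₀]
    {C₀ : Set Y₀} (hC₀ : IsClosed C₀)
    {Y : Scheme.{u}} (g : Y ⟶ c.pt) (qY : Y ⟶ Y₀)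
    (hY : IsPullback qY g g₀ (c.π.app i₀)) (h1 : qY ⁻¹' C₀ = ∅) :
    ∃ (j : I) (φ : j ⟶ i₀), (pullback.snd (D.map φ) g₀) ⁻¹' C₀ = ∅ := by
  have : CompactSpace Y₀ := QuasiCompact.compactSpace_of_compactSpace g₀
  let k₀ : Over i₀ := Over.mk (𝟙 i₀)
  let B : Set ((pbDiagram D i₀ g₀).obj k₀) := (pullback.snd (D.map k₀.hom) g₀) ⁻¹' C₀
  have hB : IsClosed B := hC₀.preimage (pullback.snd (D.map k₀.hom) g₀).continuous
  let θ : pullback (c.π.app i₀) g₀ ⟶ Y := hY.lift (pullback.snd _ _) (pullback.fst _ _)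
    pullback.condition.symm
  have hθ : θ ≫ qY = pullback.snd _ _ := hY.lift_fst _ _ _
  obtain ⟨l, ψ, hl⟩ := exists_preimage_inter_eq_empty (pbDiagram D i₀ g₀) (pbCone D c i₀ g₀)
    (isLimitPbCone D c hc i₀ g₀) (k := k₀) Topology.IsConstructible.univ Set.univ isOpen_univ
    isCompact_univ B hB (by
      rw [Set.inter_univ, Set.univ_inter]
      have e : (pbCone D c i₀ g₀).π.app k₀ ≫ pullback.snd (D.map k₀.hom) g₀ = θ ≫ qY := by
        rw [hθ]; simp
      rw [Set.eq_empty_iff_forall_notMem]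
      intro x hx
      have hx' : (pullback.snd (D.map k₀.hom) g₀) ((pbCone D c i₀ g₀).π.app k₀ x) ∈ C₀ := hx
      have e' := congr($e x)
      rw [Scheme.Hom.comp_apply, Scheme.Hom.comp_apply] at e'
      have : θ x ∈ qY ⁻¹' C₀ := by
        exact (congrArg (fun z => z ∈ C₀) e').mp hx'
      rw [h1] at this
      exact this)
  have hl' := hl l (𝟙 l)
  rw [Set.inter_univ, Set.univ_inter, Category.id_comp] at hl'
  refine ⟨l.left, l.hom, ?_⟩
  have e : (pbDiagram D i₀ g₀).map ψ ≫ pullback.snd (D.map k₀.hom) g₀ =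
      pullback.snd (D.map l.hom) g₀ := by simp
  rw [Set.eq_empty_iff_forall_notMem]
  intro x hx
  have hx' : (pullback.snd (D.map l.hom) g₀) x ∈ C₀ := hx
  have e' := congr($e x)
  rw [Scheme.Hom.comp_apply] at e'
  have : x ∈ ((pbDiagram D i₀ g₀).map ψ) ⁻¹' B := by
    exact (congrArg (fun z => z ∈ C₀) e').mpr hx'
  rw [hl'] at this
  exact this

set_option backward.isDefEq.respectTransparency false in
include hc in
/-- quasi-finiteness descends to a stage -/
theorem exists_locallyQuasiFinite_stage (i₀ : I) [CompactSpace (D.obj i₀)]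
    {X₀ Y₀ : Scheme.{u}} (f₀ : X₀ ⟶ Y₀) (g₀ : Y₀ ⟶ D.obj i₀)
    [LocallyOfFiniteType f₀] [QuasiCompact f₀] [QuasiCompact (f₀ ≫ g₀)]
    {X Y : Scheme.{u}} (f : X ⟶ Y) (g : Y ⟶ c.pt) (qY : Y ⟶ Y₀) (qX : X ⟶ X₀)
    (hY : IsPullback qY g g₀ (c.π.app i₀)) (hX : IsPullback qX f f₀ qY) [LocallyQuasiFinite f] :
    ∃ (j : I) (φ : j ⟶ i₀), LocallyQuasiFinite (pbMap (D.map φ) f₀ g₀) := by
  have hXY : IsPullback qX (f ≫ g) (f₀ ≫ g₀) (c.π.app i₀) := hX.paste_vert hY
  have hcl : IsClosed ((f₀.quasiFiniteLocus : Set X₀)ᶜ) := f₀.quasiFiniteLocus.2.isClosed_compl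
  have h1 : qX ⁻¹' ((f₀.quasiFiniteLocus : Set X₀)ᶜ) = ∅ := by
    rw [Set.eq_empty_iff_forall_notMem]
    intro x hx
    exact hx (quasiFiniteAt_of_locallyQuasiFinite hX x)
  obtain ⟨j, φ, hj⟩ := exists_preimage_closed_eq_empty_stage D c hc i₀ (f₀ ≫ g₀) hcl (f ≫ g) qX
    hXY h1
  refine ⟨j, φ, ?_⟩
  have : LocallyOfFiniteType (pbMap (D.map φ) f₀ g₀) :=
    MorphismProperty.of_isPullback (P := @LocallyOfFiniteType) (isPullback_pbMap _ _ _)
      inferInstance
  rw [← Scheme.Hom.quasiFiniteLocus_eq_top_iff]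
  refine top_le_iff.mp fun x _ => ?_
  refine quasiFiniteAt_of_isPullback (isPullback_pbMap (D.map φ) f₀ g₀) x ?_
  by_contra hx
  have : x ∈ (pullback.snd (D.map φ) (f₀ ≫ g₀)) ⁻¹' ((f₀.quasiFiniteLocus : Set X₀)ᶜ) := hx
  rw [hj] at this
  exact this

end Groth.Agent.Helper4.LimQF
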