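import Mathlib
import Groth.Prelude.Def_Mor2
import Groth.Agent.Lib.Helper4.LimAff

/-!
# Quasi-affine morphisms: locality on the target and descent to a stage of a limit (helper4)
-/

set_option autoImplicit false
universe u
open AlgebraicGeometry CategoryTheory CategoryTheory.Limits TopologicalSpace

namespace Groth.Agent.Helper4.LimQAff

open Groth.Agent.Helper7.LimBC Groth.Agent.Helper4.LimStage Groth.Agent.Helper7.LimSep
  Groth.Agent.Helper4.LimAff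

/-- In a qcqs scheme, a point of a quasi-affine basic open `X_s` lies in an affine basic open
`X_r`. -/
theorem exists_affine_basicOpen {X : Scheme.{u}} [CompactSpace X] [QuasiSeparatedSpace X]
    (s : Γ(X, ⊤)) [Scheme.IsQuasiAffine (X.basicOpen s : Scheme.{u})] (x : X)
    (hx : x ∈ X.basicOpen s) :
    ∃ r : Γ(X, ⊤), IsAffineOpen (X.basicOpen r) ∧ x ∈ X.basicOpen r := by
  let U := X.basicOpen s
  obtain ⟨_, ⟨_, ⟨r', hr', rfl⟩, rfl⟩, hxr', -⟩ :=
    (Scheme.IsQuasiAffine.isBasis_basicOpen (U : Scheme.{u})).exists_subset_of_mem_open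
      (Set.mem_univ (⟨x, hx⟩ : U)) isOpen_univ
  let r'' : Γ(X, U) := U.topIso.hom r'
  have h0 : U.topIso.inv r'' = r' := by
    change (U.topIso.hom ≫ U.topIso.inv) r' = r'
    rw [Iso.hom_inv_id]; rfl
  have h1 : U.ι ''ᵁ U.toScheme.basicOpen r' = X.basicOpen r'' := by
    rw [← h0]; exact Scheme.Opens.ι_image_basicOpen_topIso_inv U r''
  have h2 : IsAffineOpen (X.basicOpen r'') := h1 ▸ hr'.image_of_isOpenImmersion U.ι
  have h3 : x ∈ X.basicOpen r'' := by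
    rw [← h1]
    exact ⟨⟨x, hx⟩, hxr', rfl⟩
  obtain ⟨n, y, e⟩ := exists_eq_pow_mul_of_isCompact_of_isQuasiSeparated X ⊤ isCompact_univ
    isQuasiSeparated_univ s r''
  have hu : IsUnit ((s |_ X.basicOpen s) ^ n) :=
    (RingedSpace.isUnit_res_basicOpen _ s).pow n
  have h4 : X.basicOpen (y |_ X.basicOpen s) = X.basicOpen r'' := by
    rw [e, Scheme.basicOpen_mul, Scheme.basicOpen_of_isUnit _ hu]
    exact inf_eq_right.2 (Scheme.basicOpen_le _ _)
  have h5 : X.basicOpen (s * y) = X.basicOpen r'' := by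
    rw [← h4, Scheme.basicOpen_mul]
    exact (Scheme.basicOpen_res _ _ _).symm
  exact ⟨s * y, h5 ▸ h2, h5 ▸ h3⟩

/-- quasi-affineness of preimages of affine opens can be checked on an affine open cover of the
target -/
theorem isQuasiAffine_preimage_of_cover {X Y : Scheme.{u}} (f : X ⟶ Y) [QuasiCompact f]
    [QuasiSeparatedSpace X] {ι : Type*} (W : ι → Y.Opens)
    (hcov : ∀ y : Y, ∃ a, y ∈ W a)
    (hQ : ∀ a, Scheme.IsQuasiAffine (f ⁻¹ᵁ W a : Scheme.{u}))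
    (V : Y.Opens) (hV : IsAffineOpen V) : Scheme.IsQuasiAffine (f ⁻¹ᵁ V : Scheme.{u}) := by
  let X' : X.Opens := f ⁻¹ᵁ V
  have hc : IsCompact (X' : Set X) := QuasiCompact.isCompact_preimage _ V.2 hV.isCompact
  haveI : CompactSpace (X' : Scheme.{u}) := isCompact_iff_compactSpace.mp hc
  haveI : QuasiSeparatedSpace (X' : Scheme.{u}) :=
    (isQuasiSeparated_iff_quasiSeparatedSpace _ X'.2).mp (.of_quasiSeparatedSpace _)
  refine Scheme.IsQuasiAffine.of_forall_exists_mem_basicOpen _ fun x' => ?_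
  obtain ⟨a, ha⟩ := hcov (f x'.1)
  obtain ⟨s, hsW, hxs⟩ := hV.exists_basicOpen_le (V := W a) ⟨f x'.1, ha⟩ x'.2
  -- the section on `X'`
  let s' : Γ(X, X') := f.app V s
  let s'' : Γ((X' : Scheme.{u}), ⊤) := X'.topIso.inv s'
  have h1 : X'.ι ''ᵁ (X' : Scheme.{u}).basicOpen s'' = X.basicOpen s' :=
    Scheme.Opens.ι_image_basicOpen_topIso_inv X' s'
  have h2 : X.basicOpen s' = f ⁻¹ᵁ Y.basicOpen s := (Scheme.preimage_basicOpen f s).symm
  have hxs'' : x' ∈ (X' : Scheme.{u}).basicOpen s'' := by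
    have : x'.1 ∈ X'.ι ''ᵁ (X' : Scheme.{u}).basicOpen s'' := by
      rw [h1, h2]; exact hxs
    obtain ⟨z, hz, hzx⟩ := this
    have : z = x' := Subtype.ext hzx
    rwa [← this]
  -- the basic open is quasi-affine
  let B := (X' : Scheme.{u}).basicOpen s''
  have hBc : CompactSpace (B : Scheme.{u}) :=
    isCompact_iff_compactSpace.mp (isCompact_basicOpen _ isCompact_univ s'')
  have hrange : Set.range (B.ι ≫ X'.ι) ⊆ Set.range (f ⁻¹ᵁ W a).ι := by
    rintro _ ⟨z, rfl⟩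
    rw [Scheme.Opens.range_ι]
    have hz : (B.ι z).1 ∈ X'.ι ''ᵁ (X' : Scheme.{u}).basicOpen s'' := ⟨B.ι z, z.2, rfl⟩
    rw [h1, h2] at hz
    exact hsW hz
  let j : (B : Scheme.{u}) ⟶ (f ⁻¹ᵁ W a : Scheme.{u}) :=
    IsOpenImmersion.lift (f ⁻¹ᵁ W a).ι (B.ι ≫ X'.ι) hrange
  have hj : j ≫ (f ⁻¹ᵁ W a).ι = B.ι ≫ X'.ι := IsOpenImmersion.lift_fac _ _ _
  haveI : IsOpenImmersion j := by
    haveI : IsOpenImmersion (j ≫ (f ⁻¹ᵁ W a).ι) := by rw [hj]; infer_instance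
    exact IsOpenImmersion.of_comp j (f ⁻¹ᵁ W a).ι
  haveI := hQ a
  haveI : Scheme.IsQuasiAffine (B : Scheme.{u}) := Scheme.IsQuasiAffine.of_isImmersion j
  exact exists_affine_basicOpen s'' x' hxs''

/-- `Mor2.IsQuasiAffine` as a morphism property -/
def QA : MorphismProperty Scheme.{u} := fun _ _ f => Mor2.IsQuasiAffine f

instance : QA.{u}.RespectsIso := by
  apply MorphismProperty.RespectsIso.mk
  · intro X Y Z e f hf
    refine ⟨?_, fun V hV => ?_⟩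
    · have := hf.1; exact (inferInstance : QuasiCompact (e.hom ≫ f))
    · have h1 := hf.2 V hV
      have h2 : IsAffineHom (e.hom ∣_ (f ⁻¹ᵁ V)) :=
        IsZariskiLocalAtTarget.restrict (P := @IsAffineHom) inferInstance _
      exact @Scheme.IsQuasiAffine.of_isAffineHom _ _ (e.hom ∣_ (f ⁻¹ᵁ V)) h2 h1
  · intro X Y Z e f hf
    refine ⟨?_, fun V hV => ?_⟩
    · have := hf.1; exact (inferInstance : QuasiCompact (f ≫ e.hom))
    · exact hf.2 (e.hom ⁻¹ᵁ V) (hV.preimage_of_isIso e.hom)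

section A

variable {J : Type u} [SmallCategory J] [IsCofiltered J] (E : J ⥤ Scheme.{u})
  [∀ {i j} (f : i ⟶ j), IsAffineHom (E.map f)] (cE : Cone E) (hcE : IsLimit cE)

include hcE in
/-- a quasi-compact open of a stage whose preimage in the limit is quasi-affine has quasi-affine
preimage at some later stage -/
theorem exists_isQuasiAffine_map_preimage [∀ j, QuasiSeparatedSpace (E.obj j)]
    (k : J) (U : (E.obj k).Opens) (hU : IsCompact (U : Set (E.obj k)))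
    (hW : Scheme.IsQuasiAffine (cE.π.app k ⁻¹ᵁ U : Scheme.{u})) :
    ∃ (l : J) (ψ : l ⟶ k), Scheme.IsQuasiAffine (E.map ψ ⁻¹ᵁ U : Scheme.{u}) := by
  have (j : Over k) : CompactSpace ((opensDiagram E k U).obj j) :=
    isCompact_iff_compactSpace.mp (QuasiCompact.isCompact_preimage _ U.2 hU)
  have (j : Over k) : QuasiSeparatedSpace ((opensDiagram E k U).obj j) :=
    (isQuasiSeparated_iff_quasiSeparatedSpace _ (E.map _ ⁻¹ᵁ _).2).mp (.of_quasiSeparatedSpace _)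
  have : Scheme.IsQuasiAffine (opensCone E cE k U).pt := hW
  obtain ⟨j, hj⟩ := Scheme.exists_isQuasiAffine_of_isLimit _ _ (isLimitOpensCone E cE hcE k U)
  exact ⟨j.left, j.hom, hj⟩

end A

section B

variable {I : Type u} [SmallCategory I] [IsCofiltered I] (D : I ⥤ Scheme.{u})
  [∀ {i j} (f : i ⟶ j), IsAffineHom (D.map f)] (c : Cone D) (hc : IsLimit c)

set_option backward.isDefEq.respectTransparency false in
include hc in
theorem exists_isQuasiAffine_stage (i₀ : I) [CompactSpace (D.obj i₀)]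
    [QuasiSeparatedSpace (D.obj i₀)]
    {X₀ Y₀ : Scheme.{u}} (f₀ : X₀ ⟶ Y₀) (g₀ : Y₀ ⟶ D.obj i₀)
    [QuasiCompact g₀] [QuasiSeparated g₀] [QuasiCompact (f₀ ≫ g₀)] [QuasiSeparated (f₀ ≫ g₀)]
    {X Y : Scheme.{u}} (f : X ⟶ Y) (g : Y ⟶ c.pt) (qY : Y ⟶ Y₀) (qX : X ⟶ X₀)
    (hY : IsPullback qY g g₀ (c.π.app i₀)) (hX : IsPullback qX f f₀ qY)
    (hf : Mor2.IsQuasiAffine f) :
    ∃ (j : I) (φ : j ⟶ i₀), Mor2.IsQuasiAffine (pbMap (D.map φ) f₀ g₀) := by
  classical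
  let E := pbDiagram D i₀ (f₀ ≫ g₀)
  let cE := pbCone D c i₀ (f₀ ≫ g₀)
  have hcE : IsLimit cE := isLimitPbCone D c hc i₀ (f₀ ≫ g₀)
  have hf₀ : QuasiCompact f₀ := QuasiCompact.of_comp f₀ g₀
  have : CompactSpace Y₀ := QuasiCompact.compactSpace_of_compactSpace g₀
  have : CompactSpace X₀ := QuasiCompact.compactSpace_of_compactSpace (f₀ ≫ g₀)
  have : QuasiSeparatedSpace X₀ := quasiSeparatedSpace_of_quasiSeparated (f₀ ≫ g₀)
  have hEq : ∀ k, QuasiSeparatedSpace (E.obj k) := fun k => by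
    have : IsAffineHom (pullback.snd (D.map k.hom) (f₀ ≫ g₀)) :=
      MorphismProperty.pullback_snd (P := @IsAffineHom) _ _ inferInstance
    exact quasiSeparatedSpace_of_quasiSeparated (pullback.snd (D.map k.hom) (f₀ ≫ g₀))
  have hqa : Mor2.IsQuasiAffine (pbMap (c.π.app i₀) f₀ g₀) :=
    canonical_of_isPullback QA (c.π.app i₀) f₀ g₀ f g qY qX hY hX hf
  have hπ : IsAffineHom (c.π.app i₀) := isAffineHom_π_app D c hc i₀
  have haff2 : IsAffineHom (pullback.snd (c.π.app i₀) g₀) :=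
    MorphismProperty.pullback_snd (P := @IsAffineHom) _ _ inferInstance
  let k₀ : Over i₀ := Over.mk (𝟙 i₀)
  have key : ∀ V : Y₀.Opens, IsAffineOpen V → ∃ (l : Over i₀), ∀ (l' : Over i₀) (χ : l' ⟶ l),
      Scheme.IsQuasiAffine
        ((pullback.snd (D.map l'.hom) (f₀ ≫ g₀) ≫ f₀) ⁻¹ᵁ V : Scheme.{u}) := by
    intro V hV
    have hs : IsAffineHom (pullback.snd (D.map k₀.hom) (f₀ ≫ g₀)) :=
      MorphismProperty.pullback_snd (P := @IsAffineHom) _ _ inferInstance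
    let U : (E.obj k₀).Opens := (pullback.snd (D.map k₀.hom) (f₀ ≫ g₀) ≫ f₀) ⁻¹ᵁ V
    have hU : IsCompact (U : Set (E.obj k₀)) :=
      QuasiCompact.isCompact_preimage _ V.2 hV.isCompact
    have e1 : cE.π.app k₀ ≫ pullback.snd (D.map k₀.hom) (f₀ ≫ g₀) ≫ f₀ =
        pbMap (c.π.app i₀) f₀ g₀ ≫ pullback.snd (c.π.app i₀) g₀ := by
      rw [pbMap_snd]; simp [cE]
    have hW : Scheme.IsQuasiAffine (cE.π.app k₀ ⁻¹ᵁ U : Scheme.{u}) := by
      have : cE.π.app k₀ ⁻¹ᵁ U =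
          pbMap (c.π.app i₀) f₀ g₀ ⁻¹ᵁ (pullback.snd (c.π.app i₀) g₀ ⁻¹ᵁ V) := by
        change (cE.π.app k₀ ≫ pullback.snd (D.map k₀.hom) (f₀ ≫ g₀) ≫ f₀) ⁻¹ᵁ V = _
        rw [e1]; rfl
      rw [this]
      exact hqa.2 _ (hV.preimage _)
    obtain ⟨l, ψ, hl⟩ := exists_isQuasiAffine_map_preimage E cE hcE k₀ U hU hW
    refine ⟨l, fun l' χ => ?_⟩
    have e2 : E.map (χ ≫ ψ) ≫ pullback.snd (D.map k₀.hom) (f₀ ≫ g₀) ≫ f₀ =
        pullback.snd (D.map l'.hom) (f₀ ≫ g₀) ≫ f₀ := by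
      simp [E]
    have : (pullback.snd (D.map l'.hom) (f₀ ≫ g₀) ≫ f₀) ⁻¹ᵁ V = E.map χ ⁻¹ᵁ (E.map ψ ⁻¹ᵁ U) := by
      rw [← e2, E.map_comp]; rfl
    rw [this]
    have : IsAffineHom (E.map χ ∣_ (E.map ψ ⁻¹ᵁ U)) :=
      IsZariskiLocalAtTarget.restrict (P := @IsAffineHom) inferInstance _
    exact Scheme.IsQuasiAffine.of_isAffineHom (f := E.map χ ∣_ (E.map ψ ⁻¹ᵁ U))
  -- finite affine cover of `Y₀`
  have hcov : ∀ y : Y₀, ∃ V : Y₀.Opens, IsAffineOpen V ∧ y ∈ V := by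
    intro y
    obtain ⟨_, ⟨V, hV, rfl⟩, hyV, -⟩ := Y₀.isBasis_affineOpens.exists_subset_of_mem_open
      (Set.mem_univ y) isOpen_univ
    exact ⟨V, hV, hyV⟩
  choose V hV hyV using hcov
  obtain ⟨t, ht⟩ := CompactSpace.elim_nhds_subcover (fun y => ((V y : Y₀.Opens) : Set Y₀))
    (fun y => (V y).2.mem_nhds (hyV y))
  choose l hl using fun y => key (V y) (hV y)
  obtain ⟨m, hm⟩ := IsCofiltered.inf_objs_exists (t.image l)
  refine ⟨m.left, m.hom, ?_⟩
  have hqc : QuasiCompact (pbMap (D.map m.hom) f₀ g₀) :=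
    (snd_iff_of_isPullback @QuasiCompact (isPullback_pbMap (D.map m.hom) f₀ g₀)).2
      (MorphismProperty.pullback_snd (P := @QuasiCompact) _ _ inferInstance)
  refine ⟨hqc, ?_⟩
  have : QuasiSeparatedSpace ↥(pullback (D.map m.hom) (f₀ ≫ g₀)) := hEq m
  refine isQuasiAffine_preimage_of_cover (pbMap (D.map m.hom) f₀ g₀)
    (fun a : {a // a ∈ t} => pullback.snd (D.map m.hom) g₀ ⁻¹ᵁ V a.1) ?_ ?_
  · intro y
    have hy : (pullback.snd (D.map m.hom) g₀) y ∈ (⊤ : Set Y₀) := trivial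
    rw [← ht] at hy
    obtain ⟨a, hat, hya⟩ := Set.mem_iUnion₂.1 hy
    exact ⟨⟨a, hat⟩, hya⟩
  · rintro ⟨a, hat⟩
    obtain ⟨χ⟩ := hm (Finset.mem_image_of_mem l hat)
    have := hl a m χ
    have e3 : pbMap (D.map m.hom) f₀ g₀ ⁻¹ᵁ (pullback.snd (D.map m.hom) g₀ ⁻¹ᵁ V a) =
        (pullback.snd (D.map m.hom) (f₀ ≫ g₀) ≫ f₀) ⁻¹ᵁ V a := by
      rw [← pbMap_snd]; rfl
    rw [e3]
    exact this

end B

end Groth.Agent.Helper4.LimQAff
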