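import Mathlib
import Groth.Agent.Lib.Helper4.ConsDesc
import Groth.Agent.Lib.Helper4.LimAff
import Groth.Agent.Lib.Helper9.ConsPair4
import Groth.Agent.Lib.Helper21.AffDesc
import Groth.Agent.Lib.Helper21.DescQA5

set_option autoImplicit false
universe u
open AlgebraicGeometry CategoryTheory CategoryTheory.Limits TopologicalSpace Topology Opposite

namespace Groth.Agent.Helper4.ConsDesc2

open Groth.Agent.Helper16.FibMap Groth.Agent.Helper4.FibBC Groth.Agent.Helper4.ConsRed
open Groth.Agent.Helper9.ConsPair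

variable {X Y S : Scheme.{u}}

theorem desc_isAffineHom : Desc (fun (_ _ : Scheme.{u}) g => IsAffineHom g) := by
  intro I _ _ D c hc _ i₀ _ _ X₀ Y₀ f₀ g₀ _ _ _ _ _ _ X Y f g qY qX hY hX hQ
  haveI : IsAffineHom f := hQ
  haveI : ∀ {i j : I} (f : i ⟶ j), IsAffineHom (D.map f) := fun f => inferInstance
  exact Groth.Agent.Helper4.LimAff.stage_form' D @IsAffineHom i₀ f₀ g₀
    (Groth.Agent.Helper4.LimAff.exists_isAffineHom_stage D c hc i₀ f₀ g₀ f g qY qX hY hX)

/-- **S4802** -/
theorem isIndConstructible_affine (f : X ⟶ Y) (g : Y ⟶ S)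
    [LocallyOfFinitePresentation g] [QuasiCompact g] [QuasiSeparated g]
    [LocallyOfFinitePresentation (f ≫ g)] [QuasiCompact (f ≫ g)] [QuasiSeparated (f ≫ g)] :
    ProCons.IsIndConstructible {s : S | IsAffineHom (fibMap f g s)} := by
  haveI := Groth.Agent.Helper21.AffDesc.affine.{u}
  exact Groth.Agent.Helper4.ConsDesc.isIndConstructible_locus @IsAffineHom desc_isAffineHom f g

/-- quasi-affine morphisms, as a morphism property -/
def QAff : MorphismProperty Scheme.{u} := fun _ _ f => MoreMor.IsQuasiAffineHom f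

instance : QAff.{u}.IsStableUnderBaseChange := by
  have : QAff.{u}.RespectsIso := by
    have := (inferInstance : Groth.Agent.Helper4.LimQAff.QA.{u}.RespectsIso)
    exact this
  refine MorphismProperty.IsStableUnderBaseChange.mk' ?_
  intro A B C f g _ hg
  exact bcstable_quasiAffine g (pullback.fst f g) (pullback.snd f g) f
    (IsPullback.of_hasPullback f g).flip hg

instance : QAff.{u}.DescendsAlong (@Surjective ⊓ @Flat ⊓ @QuasiCompact) :=
  Groth.Agent.Helper21.DescQA5.descendsAlong_quasiAffine.{u}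

/-- **S4803** -/
theorem isIndConstructible_quasiAffine (f : X ⟶ Y) (g : Y ⟶ S)
    [LocallyOfFinitePresentation g] [QuasiCompact g] [QuasiSeparated g]
    [LocallyOfFinitePresentation (f ≫ g)] [QuasiCompact (f ≫ g)] [QuasiSeparated (f ≫ g)] :
    ProCons.IsIndConstructible {s : S | MoreMor.IsQuasiAffineHom (fibMap f g s)} :=
  Groth.Agent.Helper4.ConsDesc.isIndConstructible_locus QAff desc_quasiAffine f g

end Groth.Agent.Helper4.ConsDesc2
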