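import Mathlib
import Groth.Agent.Lib.Helper4.LimModelP

/-!
# Reduction to the system over a qcqs stage (helper4)
-/

set_option autoImplicit false
universe u
open AlgebraicGeometry CategoryTheory CategoryTheory.Limits TopologicalSpace

namespace Groth.Agent.Helper4.LimDesc

variable {I : Type u} [SmallCategory I] [IsCofiltered I] (D : I ⥤ Scheme.{u}) (c : Cone D)
  [∀ {i j} (f : i ⟶ j), IsAffineHom (D.map f)] (i₀ : I)

/-- the system over `i₀` -/
abbrev overD : Over i₀ ⥤ Scheme.{u} := Over.forget i₀ ⋙ D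

/-- the cone over the system over `i₀` -/
abbrev overC : Cone (overD D i₀) := c.whisker (Over.forget i₀)

/-- it is a limit cone -/
noncomputable def overIsLimit (hc : IsLimit c) : IsLimit (overC D c i₀) :=
  (Functor.Initial.isLimitWhiskerEquiv (Over.forget i₀) c).symm hc

instance overD_affine {j k : Over i₀} (f : j ⟶ k) : IsAffineHom ((overD D i₀).map f) :=
  inferInstanceAs (IsAffineHom (D.map f.left))

instance overD_compact [CompactSpace (D.obj i₀)] (j : Over i₀) :
    CompactSpace ((overD D i₀).obj j) :=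
  QuasiCompact.compactSpace_of_compactSpace (D.map j.hom)

instance overD_qsep [QuasiSeparatedSpace (D.obj i₀)] (j : Over i₀) :
    QuasiSeparatedSpace ((overD D i₀).obj j) :=
  quasiSeparatedSpace_of_quasiSeparated (D.map j.hom)

set_option backward.isDefEq.respectTransparency false in
/-- immersions of finite presentation descend (one qcqs stage) -/
theorem exists_immersion_descend (hc : IsLimit c) [CompactSpace (D.obj i₀)]
    [QuasiSeparatedSpace (D.obj i₀)]
    {Z : Scheme.{u}} (ι : Z ⟶ c.pt) [IsImmersion ι] [LocallyOfFinitePresentation ι]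
    [QuasiCompact ι] :
    ∃ (j : I) (_ : j ⟶ i₀) (Zj : Scheme.{u}) (ιj : Zj ⟶ D.obj j) (q : Z ⟶ Zj),
      IsImmersion ιj ∧ LocallyOfFinitePresentation ιj ∧ QuasiCompact ιj ∧
        IsPullback q ι ιj (c.π.app j) := by
  obtain ⟨j, ⟨M⟩⟩ := exists_model_top (D := overD D i₀) (c := overC D c i₀)
    (overIsLimit D c i₀ hc) ι
  obtain ⟨k, φ, hk⟩ := M.exists_reindex_isImmersion (overIsLimit D c i₀ hc)
  have h1 : QuasiSeparatedSpace (D.obj k.left) := overD_qsep D i₀ k
  have h2 : CompactSpace (M.reindex φ).M := (M.reindex φ).cpt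
  have h3 : QuasiCompact (M.reindex φ).m := quasiCompact_of_compactSpace (M.reindex φ).m
  exact ⟨k.left, k.hom, (M.reindex φ).M, (M.reindex φ).m, (M.reindex φ).g, hk,
    (M.reindex φ).lfp, h3, (M.reindex φ).pb⟩

end Groth.Agent.Helper4.LimDesc
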