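import Mathlib
import Groth.Agent.Lib.Helper4.ConsRed3
import Groth.Agent.Lib.Helper4.LimOverRed
import Groth.Agent.S4787

/-!
# Ind-constructible properties and limits of schemes (helper4)
-/

set_option autoImplicit false
universe u
open AlgebraicGeometry CategoryTheory CategoryTheory.Limits TopologicalSpace Topology

namespace Groth.Agent.Helper4.ConsLim

open Groth.Agent.Helper4.LimDesc Groth.Agent.Helper4.ConsRed

section Comparison

variable {C : Type*} [Category C]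

/-- two base changes of the same morphism along `a` and along `b ≫ a` are related by a base
change along `b` -/
theorem exists_isPullback_of_comp {Y₀ S₀ S₁ S₂ Y₁ Y₂ : C} {g₀ : Y₀ ⟶ S₀} {a : S₁ ⟶ S₀}
    {b : S₂ ⟶ S₁} {c : S₂ ⟶ S₀} (hc : b ≫ a = c) {g₁ : Y₁ ⟶ S₁} {pY₁ : Y₁ ⟶ Y₀}
    {g₂ : Y₂ ⟶ S₂} {pY₂ : Y₂ ⟶ Y₀} (hY₁ : IsPullback pY₁ g₁ g₀ a) (hY₂ : IsPullback pY₂ g₂ g₀ c) :
    ∃ rY : Y₂ ⟶ Y₁, rY ≫ pY₁ = pY₂ ∧ IsPullback rY g₂ g₁ b := by
  have hw : pY₂ ≫ g₀ = (g₂ ≫ b) ≫ a := by rw [hY₂.w, Category.assoc, hc]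
  refine ⟨hY₁.lift pY₂ (g₂ ≫ b) hw, hY₁.lift_fst _ _ _, ?_⟩
  refine IsPullback.of_right ?_ (hY₁.lift_snd _ _ _) hY₁
  rw [hY₁.lift_fst, hc]
  exact hY₂

end Comparison

variable {I : Type u} [SmallCategory I] [IsCofiltered I] (D : I ⥤ Scheme.{u}) (c : Cone D)
  [∀ {i j} (f : i ⟶ j), IsAffineHom (D.map f)] (i₀ : I)

/-- a compatible family of ind-constructible subsets of the stages over `i₀` whose preimages
cover the limit is already everything at some stage -/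
theorem exists_eq_univ (hc : IsLimit c) [CompactSpace ↥(D.obj i₀)]
    (F : ∀ k : Over i₀, Set ↥(D.obj k.left))
    (hF : ∀ k, ProCons.IsIndConstructible (F k))
    (hFm : ∀ (k k' : Over i₀) (ψ : k ⟶ k'), D.map ψ.left ⁻¹' F k' ⊆ F k)
    (h : ∀ s : ↥c.pt, ∃ k : Over i₀, c.π.app k.left s ∈ F k) :
    ∃ k : Over i₀, F k = Set.univ := by
  have hinst : ∀ (k k' : Over i₀) (ψ : k ⟶ k'), IsAffineHom ((overD D i₀).map ψ) :=
    fun k k' ψ => overD_affine D i₀ ψ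
  have hcpt : CompactSpace ↥((overD D i₀).obj (Over.mk (𝟙 i₀))) := overD_compact D i₀ _
  have key := (Groth.Agent.S4787.result (overD D i₀) (overC D c i₀) (overIsLimit D c i₀ hc)
    (Over.mk (𝟙 i₀)) (fun _ => Set.univ) F
    (fun _ => ?_) hF (fun _ _ _ _ _ => trivial) hFm).mp ?_
  · obtain ⟨k, _, hk⟩ := key
    exact ⟨k, Set.eq_univ_of_univ_subset (hk k (𝟙 k))⟩
  · intro x
    refine ⟨Set.univ, isOpen_univ, trivial, ∅, fun T hT => absurd hT (Set.notMem_empty T), ?_⟩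
    rw [Set.sInter_empty, Set.preimage_univ]
  · intro s _
    obtain ⟨k, hk⟩ := h s
    exact Set.mem_iUnion.2 ⟨k, hk⟩


section Mor

variable {P : ∀ ⦃X Y T : Scheme.{u}⦄, (X ⟶ Y) → (Y ⟶ T) → Prop}

/-- comparison of the loci of two stacked base changes -/
theorem locusMor_comp (hP : ConsProp.IsFieldStableMor P)
    {X₀ Y₀ S₀ S₁ S₂ X₁ Y₁ X₂ Y₂ : Scheme.{u}} {f₀ : X₀ ⟶ Y₀} {g₀ : Y₀ ⟶ S₀}
    [LocallyOfFiniteType g₀] [QuasiCompact g₀] [LocallyOfFiniteType (f₀ ≫ g₀)]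
    [QuasiCompact (f₀ ≫ g₀)]
    {a : S₁ ⟶ S₀} {b : S₂ ⟶ S₁} {c : S₂ ⟶ S₀} (hc : b ≫ a = c)
    {f₁ : X₁ ⟶ Y₁} {g₁ : Y₁ ⟶ S₁} {pY₁ : Y₁ ⟶ Y₀} {pX₁ : X₁ ⟶ X₀}
    {f₂ : X₂ ⟶ Y₂} {g₂ : Y₂ ⟶ S₂} {pY₂ : Y₂ ⟶ Y₀} {pX₂ : X₂ ⟶ X₀}
    (hY₁ : IsPullback pY₁ g₁ g₀ a) (hX₁ : IsPullback pX₁ f₁ f₀ pY₁)
    (hY₂ : IsPullback pY₂ g₂ g₀ c) (hX₂ : IsPullback pX₂ f₂ f₀ pY₂) :
    ConsProp.locusMor P f₂ g₂ = b ⁻¹' ConsProp.locusMor P f₁ g₁ := by
  obtain ⟨rY, hrY, hsqY⟩ := exists_isPullback_of_comp hc hY₁ hY₂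
  obtain ⟨rX, hrX, hsqX⟩ := exists_isPullback_of_comp hrY hX₁ hX₂
  have i1 : LocallyOfFiniteType g₁ :=
    MorphismProperty.of_isPullback (P := @LocallyOfFiniteType) hY₁ inferInstance
  have i2 : QuasiCompact g₁ :=
    MorphismProperty.of_isPullback (P := @QuasiCompact) hY₁ inferInstance
  have i3 : LocallyOfFiniteType (f₁ ≫ g₁) :=
    MorphismProperty.of_isPullback (P := @LocallyOfFiniteType) (hX₁.paste_vert hY₁) inferInstance
  have i4 : QuasiCompact (f₁ ≫ g₁) :=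
    MorphismProperty.of_isPullback (P := @QuasiCompact) (hX₁.paste_vert hY₁) inferInstance
  exact locusMor_bc hP hsqY hsqX

variable {D} {c} {i₀}

/-- **S5891** -/
theorem locusMor_lim (hP : ConsProp.IsIndConsMor P) (hc : IsLimit c) [CompactSpace ↥(D.obj i₀)]
    {X₀ Y₀ : Scheme.{u}} (f₀ : X₀ ⟶ Y₀) (g₀ : Y₀ ⟶ D.obj i₀)
    [LocallyOfFinitePresentation g₀] [QuasiCompact g₀] [QuasiSeparated g₀]
    [LocallyOfFinitePresentation (f₀ ≫ g₀)] [QuasiCompact (f₀ ≫ g₀)] [QuasiSeparated (f₀ ≫ g₀)]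
    {X Y : Scheme.{u}} (f : X ⟶ Y) (g : Y ⟶ c.pt) (qY : Y ⟶ Y₀) (qX : X ⟶ X₀)
    (hY : IsPullback qY g g₀ (c.π.app i₀)) (hX : IsPullback qX f f₀ qY) :
    (∀ s : ↥c.pt, s ∈ ConsProp.locusMor P f g) ↔
      ∃ (j : I) (φ : j ⟶ i₀) (Xj Yj : Scheme.{u}) (fj : Xj ⟶ Yj) (gj : Yj ⟶ D.obj j)
        (pY : Yj ⟶ Y₀) (pX : Xj ⟶ X₀), IsPullback pY gj g₀ (D.map φ) ∧ IsPullback pX fj f₀ pY ∧
          ∀ t : ↥(D.obj j), t ∈ ConsProp.locusMor P fj gj := by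
  constructor
  · intro hall
    -- the canonical base changes
    let gk : ∀ k : Over i₀, pullback g₀ (D.map k.hom) ⟶ D.obj k.left :=
      fun k => pullback.snd g₀ (D.map k.hom)
    let fk : ∀ k : Over i₀, pullback f₀ (pullback.fst g₀ (D.map k.hom)) ⟶
        pullback g₀ (D.map k.hom) := fun k => pullback.snd f₀ (pullback.fst g₀ (D.map k.hom))
    have hYk : ∀ k : Over i₀, IsPullback (pullback.fst g₀ (D.map k.hom)) (gk k) g₀ (D.map k.hom) :=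
      fun k => IsPullback.of_hasPullback _ _
    have hXk : ∀ k : Over i₀, IsPullback (pullback.fst f₀ (pullback.fst g₀ (D.map k.hom))) (fk k) f₀
        (pullback.fst g₀ (D.map k.hom)) := fun k => IsPullback.of_hasPullback _ _
    have hF : ∀ k, ProCons.IsIndConstructible (ConsProp.locusMor P (fk k) (gk k)) := by
      intro k
      have hXS := (hXk k).paste_vert (hYk k)
      have h1 : LocallyOfFinitePresentation (fk k ≫ gk k) :=
        MorphismProperty.of_isPullback (P := @LocallyOfFinitePresentation) hXS inferInstance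
      have h2 : QuasiCompact (fk k ≫ gk k) :=
        MorphismProperty.of_isPullback (P := @QuasiCompact) hXS inferInstance
      have h3 : QuasiSeparated (fk k ≫ gk k) :=
        MorphismProperty.of_isPullback (P := @QuasiSeparated) hXS inferInstance
      exact isIndConstructible_locusMor hP (fk k) (gk k)
    have hFm : ∀ (k k' : Over i₀) (ψ : k ⟶ k'),
        D.map ψ.left ⁻¹' ConsProp.locusMor P (fk k') (gk k') ⊆
          ConsProp.locusMor P (fk k) (gk k) := by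
      intro k k' ψ
      have hw : D.map ψ.left ≫ D.map k'.hom = D.map k.hom := by
        rw [← D.map_comp, Over.w]
      rw [locusMor_comp hP.1 hw (hYk k') (hXk k') (hYk k) (hXk k)]
    have hcov : ∀ s : ↥c.pt, ∃ k : Over i₀,
        c.π.app k.left s ∈ ConsProp.locusMor P (fk k) (gk k) := by
      intro s
      refine ⟨Over.mk (𝟙 i₀), ?_⟩
      have hw : c.π.app i₀ ≫ D.map (Over.mk (𝟙 i₀)).hom = c.π.app i₀ := by
        simp
      have := locusMor_comp hP.1 hw (hYk (Over.mk (𝟙 i₀))) (hXk (Over.mk (𝟙 i₀))) hY hX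
      have hs := hall s
      rw [this] at hs
      exact hs
    obtain ⟨k, hk⟩ := exists_eq_univ D c i₀ hc
      (fun k => ConsProp.locusMor P (fk k) (gk k)) hF hFm hcov
    exact ⟨k.left, k.hom, _, _, fk k, gk k, _, _, hYk k, hXk k, fun t => by rw [hk]; trivial⟩
  · rintro ⟨j, φ, Xj, Yj, fj, gj, pY, pX, hYj, hXj, hall⟩ s
    rw [locusMor_comp hP.1 (c.w φ) hYj hXj hY hX]
    exact hall _

end Mor

section Pair

variable {P : ∀ ⦃X Y T : Scheme.{u}⦄, (X ⟶ T) → (Y ⟶ T) → Prop}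

/-- comparison of the loci of two stacked base changes -/
theorem locusPair_comp (hP : ConsPropPair.IsFieldStablePair P)
    {X₀ Y₀ S₀ S₁ S₂ X₁ Y₁ X₂ Y₂ : Scheme.{u}} {u₀ : X₀ ⟶ S₀} {v₀ : Y₀ ⟶ S₀}
    [LocallyOfFiniteType u₀] [QuasiCompact u₀] [LocallyOfFiniteType v₀] [QuasiCompact v₀]
    {a : S₁ ⟶ S₀} {b : S₂ ⟶ S₁} {c : S₂ ⟶ S₀} (hc : b ≫ a = c)
    {u₁ : X₁ ⟶ S₁} {v₁ : Y₁ ⟶ S₁} {pY₁ : Y₁ ⟶ Y₀} {pX₁ : X₁ ⟶ X₀}
    {u₂ : X₂ ⟶ S₂} {v₂ : Y₂ ⟶ S₂} {pY₂ : Y₂ ⟶ Y₀} {pX₂ : X₂ ⟶ X₀}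
    (hX₁ : IsPullback pX₁ u₁ u₀ a) (hY₁ : IsPullback pY₁ v₁ v₀ a)
    (hX₂ : IsPullback pX₂ u₂ u₀ c) (hY₂ : IsPullback pY₂ v₂ v₀ c) :
    ConsPropPair.locusPair P u₂ v₂ = b ⁻¹' ConsPropPair.locusPair P u₁ v₁ := by
  obtain ⟨rY, hrY, hsqY⟩ := exists_isPullback_of_comp hc hY₁ hY₂
  obtain ⟨rX, hrX, hsqX⟩ := exists_isPullback_of_comp hc hX₁ hX₂
  have i1 : LocallyOfFiniteType u₁ :=
    MorphismProperty.of_isPullback (P := @LocallyOfFiniteType) hX₁ inferInstance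
  have i2 : QuasiCompact u₁ :=
    MorphismProperty.of_isPullback (P := @QuasiCompact) hX₁ inferInstance
  have i3 : LocallyOfFiniteType v₁ :=
    MorphismProperty.of_isPullback (P := @LocallyOfFiniteType) hY₁ inferInstance
  have i4 : QuasiCompact v₁ :=
    MorphismProperty.of_isPullback (P := @QuasiCompact) hY₁ inferInstance
  exact locusPair_bc hP hsqX hsqY

variable {D} {c} {i₀}

/-- **S5908** -/
theorem locusPair_lim (hP : ConsPropPair.IsIndConsPair P) (hc : IsLimit c)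
    [CompactSpace ↥(D.obj i₀)]
    {X₀ Y₀ : Scheme.{u}} (u₀ : X₀ ⟶ D.obj i₀) (v₀ : Y₀ ⟶ D.obj i₀)
    [LocallyOfFinitePresentation u₀] [QuasiCompact u₀] [QuasiSeparated u₀]
    [LocallyOfFinitePresentation v₀] [QuasiCompact v₀] [QuasiSeparated v₀]
    {X Y : Scheme.{u}} (u : X ⟶ c.pt) (v : Y ⟶ c.pt) (qX : X ⟶ X₀) (qY : Y ⟶ Y₀)
    (hX : IsPullback qX u u₀ (c.π.app i₀)) (hY : IsPullback qY v v₀ (c.π.app i₀)) :
    (∀ s : ↥c.pt, s ∈ ConsPropPair.locusPair P u v) ↔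
      ∃ (j : I) (φ : j ⟶ i₀) (Xj Yj : Scheme.{u}) (uj : Xj ⟶ D.obj j) (vj : Yj ⟶ D.obj j)
        (pX : Xj ⟶ X₀) (pY : Yj ⟶ Y₀), IsPullback pX uj u₀ (D.map φ) ∧
          IsPullback pY vj v₀ (D.map φ) ∧
          ∀ t : ↥(D.obj j), t ∈ ConsPropPair.locusPair P uj vj := by
  constructor
  · intro hall
    let uk : ∀ k : Over i₀, pullback u₀ (D.map k.hom) ⟶ D.obj k.left :=
      fun k => pullback.snd u₀ (D.map k.hom)
    let vk : ∀ k : Over i₀, pullback v₀ (D.map k.hom) ⟶ D.obj k.left :=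
      fun k => pullback.snd v₀ (D.map k.hom)
    have hXk : ∀ k : Over i₀, IsPullback (pullback.fst u₀ (D.map k.hom)) (uk k) u₀ (D.map k.hom) :=
      fun k => IsPullback.of_hasPullback _ _
    have hYk : ∀ k : Over i₀, IsPullback (pullback.fst v₀ (D.map k.hom)) (vk k) v₀ (D.map k.hom) :=
      fun k => IsPullback.of_hasPullback _ _
    have hF : ∀ k, ProCons.IsIndConstructible (ConsPropPair.locusPair P (uk k) (vk k)) :=
      fun k => isIndConstructible_locusPair hP (uk k) (vk k)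
    have hFm : ∀ (k k' : Over i₀) (ψ : k ⟶ k'),
        D.map ψ.left ⁻¹' ConsPropPair.locusPair P (uk k') (vk k') ⊆
          ConsPropPair.locusPair P (uk k) (vk k) := by
      intro k k' ψ
      have hw : D.map ψ.left ≫ D.map k'.hom = D.map k.hom := by
        rw [← D.map_comp, Over.w]
      rw [locusPair_comp hP.1 hw (hXk k') (hYk k') (hXk k) (hYk k)]
    have hcov : ∀ s : ↥c.pt, ∃ k : Over i₀,
        c.π.app k.left s ∈ ConsPropPair.locusPair P (uk k) (vk k) := by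
      intro s
      refine ⟨Over.mk (𝟙 i₀), ?_⟩
      have hw : c.π.app i₀ ≫ D.map (Over.mk (𝟙 i₀)).hom = c.π.app i₀ := by
        simp
      have := locusPair_comp hP.1 hw (hXk (Over.mk (𝟙 i₀))) (hYk (Over.mk (𝟙 i₀))) hX hY
      have hs := hall s
      rw [this] at hs
      exact hs
    obtain ⟨k, hk⟩ := exists_eq_univ D c i₀ hc
      (fun k => ConsPropPair.locusPair P (uk k) (vk k)) hF hFm hcov
    exact ⟨k.left, k.hom, _, _, uk k, vk k, _, _, hXk k, hYk k, fun t => by rw [hk]; trivial⟩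
  · rintro ⟨j, φ, Xj, Yj, uj, vj, pX, pY, hXj, hYj, hall⟩ s
    rw [locusPair_comp hP.1 (c.w φ) hXj hYj hX hY]
    exact hall _

end Pair

end Groth.Agent.Helper4.ConsLim
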