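import Mathlib
import Groth.Agent.Lib.Helper4.FPExt6
import Groth.Agent.Lib.Helper9.PrinPart4
import Groth.Agent.Lib.Helper13.PullbackLocal
import Groth.Agent.S4811

/-!
# Descent of finitely presented modules along cofiltered limits with affine transition maps
(helper4)
-/

set_option autoImplicit false
universe u
open CategoryTheory CategoryTheory.Limits AlgebraicGeometry Opposite TopologicalSpace
open Groth.Agent.Helper13.QCoh Groth.Agent.Helper13.FinType Groth.Agent.Helper13.LocFree
open Scheme.Modules Groth.Agent.Helper13.QCohLocal Groth.Agent.Helper13.GenLoc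

namespace Groth.Agent.Helper4.FPExt

variable {X : Scheme.{u}}

lemma stalkMap_surjective_of_comp {A B C : X.Modules} (f : A ⟶ B) (g : B ⟶ C) (k : A ⟶ C)
    (h : f ≫ g = k) (x : X) (hk : Function.Surjective (stalkMap k x)) :
    Function.Surjective (stalkMap g x) := by
  intro m
  obtain ⟨a, rfl⟩ := hk m
  exact ⟨stalkMap f x a, by rw [← stalkMap_comp_apply, h]⟩

lemma isIso_cokernel_desc_of_epi {A B Q : X.Modules} (p : B ⟶ Q) [Epi p] (ρ : A ⟶ kernel p)
    [Epi ρ] : IsIso (cokernel.desc (ρ ≫ kernel.ι p) p (comp_kernel_ι_comp p ρ)) := by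
  apply isIso_of_stalk_bijective
  intro x
  exact stalk_bijective_of_surjective p ρ x (stalkMap_surjective_of_epi p x)
    (stalkMap_surjective_of_epi ρ x) _

section Adjoint

variable {S S₀ : Scheme.{u}} (π : S ⟶ S₀)

/-- the adjoint of `φ : G ⟶ π_* M` sends the pulled back section of `g` to `φ g`. -/
lemma app_homEquiv_symm_unit {G : S₀.Modules} {M : S.Modules}
    (φ : G ⟶ (Scheme.Modules.pushforward π).obj M) (V : S₀.Opens) (g : Γ(G, V)) :
    Scheme.Modules.Hom.app
      (((Scheme.Modules.pullbackPushforwardAdjunction π).homEquiv G M).symm φ) (π ⁻¹ᵁ V)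
      (Scheme.Modules.Hom.app ((Scheme.Modules.pullbackPushforwardAdjunction π).unit.app G) V g) =
    Scheme.Modules.Hom.app φ V g := by
  have h := (Scheme.Modules.pullbackPushforwardAdjunction π).homEquiv_unit
    (f := ((Scheme.Modules.pullbackPushforwardAdjunction π).homEquiv G M).symm φ)
  rw [Equiv.apply_symm_apply] at h
  have h2 := congrArg (fun θ : G ⟶ (Scheme.Modules.pushforward π).obj M =>
    Scheme.Modules.Hom.app θ V g) h
  exact h2.symm

/-- **(b1)** every quasi-coherent module of finite type on a scheme affine over a qcqs scheme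
`S₀` is a quotient of the pullback of a finitely presented module on `S₀`. -/
theorem exists_fp_pullback_epi [IsAffineHom π] [CompactSpace S₀] [QuasiSeparatedSpace S₀]
    (M : S.Modules) [M.IsQuasicoherent] [SheafOfModules.IsFiniteType (R := S.ringCatSheaf) M] :
    ∃ (G : S₀.Modules) (ψ : (Scheme.Modules.pullback π).obj G ⟶ M),
      SheafOfModules.IsFinitePresentation (R := S₀.ringCatSheaf) G ∧ Epi ψ := by
  let adj := Scheme.Modules.pullbackPushforwardAdjunction π
  let P : S₀.Modules := (Scheme.Modules.pushforward π).obj M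
  haveI : P.IsQuasicoherent := Groth.Agent.Helper13.Qcqs.isQuasicoherent_pushforward_of_qcqs π M
  have key : ∀ (T : S₀.Opens), IsCompact (T : Set S₀) → ∃ (G : S₀.Modules) (φ : G ⟶ P),
      SheafOfModules.IsFinitePresentation (R := S₀.ringCatSheaf) G ∧
        ∀ x : S, π x ∈ T → Function.Surjective (stalkMap ((adj.homEquiv G M).symm φ) x) := by
    intro T hT
    refine compact_open_induction_on (P := fun T => ∃ (G : S₀.Modules) (φ : G ⟶ P),
      SheafOfModules.IsFinitePresentation (R := S₀.ringCatSheaf) G ∧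
        ∀ x : S, π x ∈ T → Function.Surjective (stalkMap ((adj.homEquiv G M).symm φ) x)) T hT ?_ ?_
    · refine ⟨SheafOfModules.free (R := S₀.ringCatSheaf) (PEmpty.{u+1}), 0,
        isFinitePresentation_free _, ?_⟩
      intro x hx
      exact (hx : π x ∈ (⊥ : S₀.Opens)).elim
    · rintro T hT V ⟨G₁, φ₁, hG₁, hφ₁⟩
      have hV' : IsAffineOpen (π ⁻¹ᵁ V.1) := V.2.preimage π
      obtain ⟨I, hI, s, hs⟩ := exists_finite_genOn_of_isFiniteType M hV'
      haveI := hI
      obtain ⟨G₂, φ₂, hG₂, hφ₂⟩ := exists_fp_through_sections P V.2 (I := I) s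
      haveI := hG₁
      haveI := hG₂
      refine ⟨(G₁ ⊞ G₂ : S₀.Modules), biprod.desc φ₁ φ₂, isFinitePresentation_biprod G₁ G₂, ?_⟩
      intro x hx
      rcases Opens.mem_sup.1 hx with hxT | hxV
      · have e1 : (Scheme.Modules.pullback π).map (biprod.inl : G₁ ⟶ G₁ ⊞ G₂) ≫
            (adj.homEquiv _ M).symm (biprod.desc φ₁ φ₂) = (adj.homEquiv _ M).symm φ₁ := by
          rw [← adj.homEquiv_naturality_left_symm, biprod.inl_desc]
        exact stalkMap_surjective_of_comp _ _ _ e1 x (hφ₁ x hxT)
      · have e2 : (Scheme.Modules.pullback π).map (biprod.inr : G₂ ⟶ G₁ ⊞ G₂) ≫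
            (adj.homEquiv _ M).symm (biprod.desc φ₁ φ₂) = (adj.homEquiv _ M).symm φ₂ := by
          rw [← adj.homEquiv_naturality_left_symm, biprod.inr_desc]
        have h3 : Function.Surjective (stalkMap ((adj.homEquiv G₂ M).symm φ₂) x) := by
          apply stalkMap_surjective_of_genOn_of_mem_range _ s hs _ x hxV
          intro i
          obtain ⟨g, hg⟩ := hφ₂ i
          exact ⟨Scheme.Modules.Hom.app (adj.unit.app G₂) V.1 g,
            (app_homEquiv_symm_unit π φ₂ V.1 g).trans hg⟩
        exact stalkMap_surjective_of_comp _ _ _ e2 x h3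
  obtain ⟨G, φ, hG, hφ⟩ := key ⊤ (by rw [Opens.coe_top]; exact isCompact_univ)
  exact ⟨G, (adj.homEquiv G M).symm φ, hG,
    epi_of_stalkMap_surjective _ (fun x => hφ x trivial)⟩

end Adjoint

/-- a finitely presented quasi-coherent module on a scheme affine over a qcqs scheme `S₀` is the
cokernel of a map between pullbacks of finitely presented modules on `S₀`. -/
theorem exists_presentation_pullback {S S₀ : Scheme.{u}} (π : S ⟶ S₀) [IsAffineHom π]
    [CompactSpace S₀] [QuasiSeparatedSpace S₀] (F : S.Modules) [F.IsQuasicoherent]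
    [hF : SheafOfModules.IsFinitePresentation (R := S.ringCatSheaf) F] :
    ∃ (G₁ G₀ : S₀.Modules) (h : (Scheme.Modules.pullback π).obj G₁ ⟶
        (Scheme.Modules.pullback π).obj G₀) (p : (Scheme.Modules.pullback π).obj G₀ ⟶ F)
      (w : h ≫ p = 0),
      SheafOfModules.IsFinitePresentation (R := S₀.ringCatSheaf) G₁ ∧
      SheafOfModules.IsFinitePresentation (R := S₀.ringCatSheaf) G₀ ∧
      IsIso (cokernel.desc h p w) := by
  haveI : SheafOfModules.IsFiniteType (R := S.ringCatSheaf) F := inferInstance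
  obtain ⟨G₀, ψ₀, hG₀, hψ₀⟩ := exists_fp_pullback_epi π F
  haveI := hG₀
  haveI := hψ₀
  haveI : G₀.IsQuasicoherent := inferInstance
  haveI hpfp : SheafOfModules.IsFinitePresentation (R := S.ringCatSheaf)
      ((Scheme.Modules.pullback π).obj G₀) :=
    Groth.Agent.Helper9.PrinPart4.isFinitePresentation_pullback π G₀
  haveI : ((Scheme.Modules.pullback π).obj G₀).IsQuasicoherent := inferInstance
  haveI : (kernel ψ₀ : S.Modules).IsQuasicoherent := isQuasicoherent_kernel ψ₀
  haveI : SheafOfModules.IsFiniteType (R := S.ringCatSheaf) (kernel ψ₀ : S.Modules) := by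
    rw [isFiniteType_iff_finite_sections]
    intro O hO
    haveI := finitePresentation_sections_of_isFinitePresentation
      ((Scheme.Modules.pullback π).obj G₀) hO
    haveI := finitePresentation_sections_of_isFinitePresentation F hO
    exact finite_sections_kernel_of_epi ψ₀ hO
  obtain ⟨G₁, ψ₁, hG₁, hψ₁⟩ := exists_fp_pullback_epi π (kernel ψ₀ : S.Modules)
  haveI := hψ₁
  exact ⟨G₁, G₀, ψ₁ ≫ kernel.ι ψ₀, ψ₀, comp_kernel_ι_comp ψ₀ ψ₁, hG₁, hG₀,
    isIso_cokernel_desc_of_epi ψ₀ ψ₁⟩

/-- **Descent of finitely presented modules** (core of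
`Lim8.exists_module_finitePresentation_descend`). -/
theorem exists_descend_fp {I : Type u} [SmallCategory I] [IsCofiltered I]
    (D : I ⥤ Scheme.{u}) (c : Limits.Cone D) (hc : Limits.IsLimit c)
    [∀ (i j : I) (f : i ⟶ j), IsAffineHom (D.map f)] (i₀ : I)
    [CompactSpace (D.obj i₀)] [QuasiSeparatedSpace (D.obj i₀)] (F : c.pt.Modules)
    [F.IsQuasicoherent] [hF : SheafOfModules.IsFinitePresentation (R := c.pt.ringCatSheaf) F] :
    ∃ (i : I) (_ : i ⟶ i₀) (Fi : (D.obj i).Modules), Fi.IsQuasicoherent ∧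
      SheafOfModules.IsFinitePresentation (R := (D.obj i).ringCatSheaf) Fi ∧
      Nonempty ((Scheme.Modules.pullback (c.π.app i)).obj Fi ≅ F) := by
  haveI : ∀ {i j : I} (f : i ⟶ j), IsAffineHom (D.map f) := fun f => inferInstance
  haveI : IsAffineHom (c.π.app i₀) := isAffineHom_π_app D c hc i₀
  obtain ⟨G₁, G₀, h, p, w, hG₁, hG₀, hiso⟩ :=
    exists_presentation_pullback (S := c.pt) (c.π.app i₀) F
  haveI := hG₁
  haveI := hG₀
  haveI : G₁.IsQuasicoherent := inferInstance
  haveI : G₀.IsQuasicoherent := inferInstance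
  obtain ⟨j, φ, hj, hhj⟩ := Groth.Agent.S4811.result D c hc i₀ G₁ G₀ hG₁ h
  haveI hA : SheafOfModules.IsFinitePresentation (R := (D.obj j).ringCatSheaf)
      ((Scheme.Modules.pullback (D.map φ)).obj G₁) :=
    Groth.Agent.Helper9.PrinPart4.isFinitePresentation_pullback (D.map φ) G₁
  haveI hB : SheafOfModules.IsFinitePresentation (R := (D.obj j).ringCatSheaf)
      ((Scheme.Modules.pullback (D.map φ)).obj G₀) :=
    Groth.Agent.Helper9.PrinPart4.isFinitePresentation_pullback (D.map φ) G₀
  haveI : ((Scheme.Modules.pullback (D.map φ)).obj G₁).IsQuasicoherent := inferInstance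
  have hFj : SheafOfModules.IsFinitePresentation (R := (D.obj j).ringCatSheaf)
      (cokernel hj : (D.obj j).Modules) :=
    isFinitePresentation_cokernel (fun O hO => by
      haveI := finitePresentation_sections_of_isFinitePresentation
        ((Scheme.Modules.pullback (D.map φ)).obj G₁) hO
      infer_instance) hj
  refine ⟨j, φ, cokernel hj, ?_, hFj, ⟨?_⟩⟩
  · haveI := hFj
    infer_instance
  · let e₁ := (Scheme.Modules.pullbackComp (c.π.app j) (D.map φ) ≪≫
      Scheme.Modules.pullbackCongr (c.w φ)).app G₁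
    let e₀ := (Scheme.Modules.pullbackComp (c.π.app j) (D.map φ) ≪≫
      Scheme.Modules.pullbackCongr (c.w φ)).app G₀
    have hsq : (Scheme.Modules.pullback (c.π.app j)).map hj ≫ e₀.hom = e₁.hom ≫ h := by
      rw [← hhj, Iso.hom_inv_id_assoc]
    let i1 : (Scheme.Modules.pullback (c.π.app j)).obj (cokernel hj) ≅
        cokernel ((Scheme.Modules.pullback (c.π.app j)).map hj) :=
      PreservesCokernel.iso (Scheme.Modules.pullback (c.π.app j)) hj
    let i2 : cokernel ((Scheme.Modules.pullback (c.π.app j)).map hj) ≅ cokernel h :=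
      cokernel.mapIso _ _ e₁ e₀ hsq
    haveI := hiso
    exact i1 ≪≫ i2 ≪≫ asIso (cokernel.desc h p w)

end Groth.Agent.Helper4.FPExt
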