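import Mathlib
import Groth.Prelude.Def_EGA4Misc
import Groth.Prelude.Def_ProCons
import Groth.Agent.Lib.Helper4.FibBC
import Groth.Agent.Lib.Helper4.LimSubalg
import Groth.Agent.Lib.Helper4.ConsRed1
import Groth.Agent.Lib.Helper9.PrinPart4
import Groth.Agent.Lib.Helper13.PullbackLocal
import Groth.Agent.S4788

/-!
# Constructible properties with a module: base change of the loci and approximation of the module
(helper4)
-/

set_option autoImplicit false
universe u
open AlgebraicGeometry CategoryTheory CategoryTheory.Limits TopologicalSpace Topology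

namespace Groth.Agent.Helper4.ConsMod

open Groth.Agent.Helper4.FibBC Groth.Agent.Helper4.LimDesc Groth.Agent.Helper7.LimBC

variable {X S X' T : Scheme.{u}}

/-- comparison of the two iterated pullbacks along a commutative square -/
noncomputable def sqIso {P X' X Z : Scheme.{u}} (a : P ⟶ X') (q : X' ⟶ X) (e : P ⟶ Z) (b : Z ⟶ X)
    (h : a ≫ q = e ≫ b) (F : X.Modules) :
    (Scheme.Modules.pullback a).obj ((Scheme.Modules.pullback q).obj F) ≅
      (Scheme.Modules.pullback e).obj ((Scheme.Modules.pullback b).obj F) :=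
  (Scheme.Modules.pullbackComp a q).app F ≪≫ (Scheme.Modules.pullbackCongr h).app F ≪≫
    ((Scheme.Modules.pullbackComp e b).app F).symm

lemma isFP_pullback {X Y : Scheme.{u}} (f : Y ⟶ X) (F : X.Modules)
    [SheafOfModules.IsFinitePresentation (R := X.ringCatSheaf) F] :
    SheafOfModules.IsFinitePresentation (R := Y.ringCatSheaf)
      ((Scheme.Modules.pullback f).obj F) :=
  Groth.Agent.Helper9.PrinPart4.isFinitePresentation_pullback f F

lemma isCoh_pullback {X Y : Scheme.{u}} (f : Y ⟶ X) (F : X.Modules)
    [SheafOfModules.IsFinitePresentation (R := X.ringCatSheaf) F] :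
    Coh.IsCoh ((Scheme.Modules.pullback f).obj F) := by
  haveI := isFP_pullback f F
  exact ⟨inferInstance, inferInstance⟩

/-- base change of the locus of a field-stable relation with a module -/
theorem locusMod_bc {P : ∀ ⦃Y T : Scheme.{u}⦄, (Y ⟶ T) → Y.Modules → Prop}
    (hP : ConsProp.IsFieldStableMod P)
    {u : X ⟶ S} {u' : X' ⟶ T} {j : T ⟶ S} {q : X' ⟶ X}
    [LocallyOfFiniteType u] [QuasiCompact u] (hX : IsPullback q u' u j)
    (F : X.Modules) [SheafOfModules.IsFinitePresentation (R := X.ringCatSheaf) F]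
    (F' : X'.Modules) (α : F' ≅ (Scheme.Modules.pullback q).obj F) :
    ConsProp.locusMod P u' F' = j ⁻¹' ConsProp.locusMod P u F := by
  ext t
  have h1 := fibComp_isPullback hX t
  have hcoh : Coh.IsCoh ((Scheme.Modules.pullback
      (pullback.fst u (S.fromSpecResidueField (j t)))).obj F) := isCoh_pullback _ F
  let β : (Scheme.Modules.pullback (pullback.fst u' (T.fromSpecResidueField t))).obj F' ≅
      (Scheme.Modules.pullback (fibComp hX t)).obj
        ((Scheme.Modules.pullback (pullback.fst u (S.fromSpecResidueField (j t)))).obj F) :=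
    (Scheme.Modules.pullback (pullback.fst u' (T.fromSpecResidueField t))).mapIso α ≪≫
      sqIso (pullback.fst u' (T.fromSpecResidueField t)) q (fibComp hX t)
        (pullback.fst u (S.fromSpecResidueField (j t))) (fibComp_fst hX t).symm F
  exact (hP (pullback.snd u (S.fromSpecResidueField (j t)))
    (pullback.snd u' (T.fromSpecResidueField t)) (fibComp hX t)
    (Spec.map (j.residueFieldMap t)) h1 _ _ hcoh β).symm

section Approx

variable {I : Type u} [SmallCategory I] [IsCofiltered I] {D : I ⥤ Scheme.{u}} {c : Cone D}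

set_option backward.isDefEq.respectTransparency false in
/-- a finitely presented module on a scheme with a model comes from a finitely presented module
on a reindexed model. -/
theorem exists_model_module (hc : IsLimit c) [∀ {i j} (f : i ⟶ j), IsAffineHom (D.map f)]
    {V : Scheme.{u}} {v : V ⟶ c.pt} {n : I} (M : Model D c v n) (F : V.Modules)
    [F.IsQuasicoherent] [hF : SheafOfModules.IsFinitePresentation (R := V.ringCatSheaf) F] :
    ∃ (m : I) (φ : m ⟶ n) (Fm : (M.reindex φ).M.Modules), Fm.IsQuasicoherent ∧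
      SheafOfModules.IsFinitePresentation (R := (M.reindex φ).M.ringCatSheaf) Fm ∧
      Nonempty (F ≅ (Scheme.Modules.pullback (M.reindex φ).g).obj Fm) := by
  let ε : V ≅ pullback (c.π.app n) M.m := M.pb.flip.isoPullback
  let F' : (pbCone D c n M.m).pt.Modules := (Scheme.Modules.pullback ε.inv).obj F
  haveI : CompactSpace ((pbDiagram D n M.m).obj (Over.mk (𝟙 n))) := (M.reindex (𝟙 n)).cpt
  haveI : QuasiSeparatedSpace ((pbDiagram D n M.m).obj (Over.mk (𝟙 n))) := (M.reindex (𝟙 n)).qs
  have hF' : CohB1.IsFP F' := isFP_pullback ε.inv F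
  haveI : Coh.IsQCoh F' :=
    inferInstanceAs (((Scheme.Modules.pullback ε.inv).obj F).IsQuasicoherent)
  obtain ⟨k, _, Fk, hq, hfp, ⟨α⟩⟩ := Groth.Agent.S4788.result (pbDiagram D n M.m)
    (pbCone D c n M.m) (isLimitPbCone D c hc n M.m) (Over.mk (𝟙 n)) F' hF'
  refine ⟨k.left, k.hom, Fk, hq, hfp, ⟨?_⟩⟩
  have hg : ε.hom ≫ (pbCone D c n M.m).π.app k = (M.reindex k.hom).g := by
    apply pullback.hom_ext
    · simp [Model.reindex, pbCone, ε]
    · simp [Model.reindex, pbCone, ε]
  let ia : F ≅ (Scheme.Modules.pullback ε.hom).obj ((Scheme.Modules.pullback ε.inv).obj F) :=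
    ((Scheme.Modules.pullbackComp ε.hom ε.inv ≪≫ Scheme.Modules.pullbackCongr ε.hom_inv_id ≪≫
      Scheme.Modules.pullbackId V).app F).symm
  let ib : (Scheme.Modules.pullback ε.hom).obj F' ≅
      (Scheme.Modules.pullback ε.hom).obj
        ((Scheme.Modules.pullback ((pbCone D c n M.m).π.app k)).obj Fk) :=
    (Scheme.Modules.pullback ε.hom).mapIso α.symm
  let ic := (Scheme.Modules.pullbackComp ε.hom ((pbCone D c n M.m).π.app k)).app Fk
  let id' := (Scheme.Modules.pullbackCongr hg).app Fk
  exact ia ≪≫ ib ≪≫ ic ≪≫ id'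

end Approx

end Groth.Agent.Helper4.ConsMod
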