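import Mathlib
import Groth.Agent.Lib.Helper4.ConsMod1
import Groth.Agent.Lib.Helper4.ConsRed3

/-!
# Constructible properties with a module: reduction to a base of finite type over `ℤ` and the
main theorems (helper4)
-/

set_option autoImplicit false
universe u
open AlgebraicGeometry CategoryTheory CategoryTheory.Limits TopologicalSpace Topology

namespace Groth.Agent.Helper4.ConsMod

open Groth.Agent.Helper4.FibBC Groth.Agent.Helper4.LimDesc Groth.Agent.Helper4.ConsRed

variable {X S : Scheme.{u}}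

/-- a family of subsets of the base attached to `(X ⟶ S, F)`, compatible with base change -/
def BCMod (L : ∀ ⦃X S : Scheme.{u}⦄, (X ⟶ S) → X.Modules → Set S) : Prop :=
  ∀ ⦃X S X' T : Scheme.{u}⦄ (u : X ⟶ S) (u' : X' ⟶ T) (j : T ⟶ S) (q : X' ⟶ X) (F : X.Modules)
    (F' : X'.Modules), LocallyOfFiniteType u → QuasiCompact u →
    SheafOfModules.IsFinitePresentation (R := X.ringCatSheaf) F →
    IsPullback q u' u j → (F' ≅ (Scheme.Modules.pullback q).obj F) → L u' F' = j ⁻¹' L u F

theorem bcMod_locusMod {P : ∀ ⦃Y T : Scheme.{u}⦄, (Y ⟶ T) → Y.Modules → Prop}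
    (hP : ConsProp.IsFieldStableMod P) : BCMod (fun _ _ u F => ConsProp.locusMod P u F) := by
  intro X S X' T u u' j q F F' h1 h2 h3 hX α
  exact locusMod_bc hP hX F F' α

/-- the hypothesis: over a finitely generated `ℤ`-algebra the locus has `Q` -/
def NoethCaseMod (Q : ∀ ⦃S : Scheme.{u}⦄, Set S → Prop)
    (L : ∀ ⦃X S : Scheme.{u}⦄, (X ⟶ S) → X.Modules → Set S) : Prop :=
  ∀ (R : Type u) [CommRing R] [Algebra.FiniteType ℤ R] (X : Scheme.{u})
    (u : X ⟶ Spec (CommRingCat.of R)) (F : X.Modules),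
    LocallyOfFinitePresentation u → QuasiCompact u → QuasiSeparated u →
    SheafOfModules.IsFinitePresentation (R := X.ringCatSheaf) F → Q (L u F)

variable {Q : ∀ ⦃S : Scheme.{u}⦄, Set S → Prop}
  {L : ∀ ⦃X S : Scheme.{u}⦄, (X ⟶ S) → X.Modules → Set S}

set_option backward.isDefEq.respectTransparency false in
/-- the case `S = Spec A` -/
theorem mod_Spec (hQ : GoodQ Q) (hL : BCMod L) (H : NoethCaseMod Q L)
    (A : Type u) [CommRing A] (u : X ⟶ Spec (CommRingCat.of A))
    [LocallyOfFinitePresentation u] [QuasiCompact u] [QuasiSeparated u] (F : X.Modules)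
    [hF : SheafOfModules.IsFinitePresentation (R := X.ringCatSheaf) F] :
    Q (L u F) := by
  haveI : F.IsQuasicoherent := inferInstance
  obtain ⟨n, ⟨M⟩⟩ := exists_model_top (D := LimSubalg.D A) (c := LimSubalg.cone A)
    (LimSubalg.isLimit A) u
  obtain ⟨m, φ, Fm, hq, hfp, ⟨α⟩⟩ := exists_model_module (LimSubalg.isLimit A) M F
  have hX : IsPullback (M.reindex φ).g u (M.reindex φ).m ((LimSubalg.cone A).π.app m) :=
    (M.reindex φ).pb
  have hfg : Algebra.FiniteType ℤ ↥(m.unop.1) := ⟨(Subalgebra.fg_top _).mpr m.unop.2⟩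
  have h1 : CompactSpace (M.reindex φ).M := (M.reindex φ).cpt
  have h2 : QuasiSeparatedSpace (M.reindex φ).M := (M.reindex φ).qs
  have h5 : LocallyOfFinitePresentation (M.reindex φ).m := (M.reindex φ).lfp
  have hS : IsAffine ((LimSubalg.D A).obj m) := inferInstance
  have q2 : QuasiCompact (M.reindex φ).m := (quasiCompact_iff_compactSpace _).mpr h1
  have q3 : QuasiSeparated (M.reindex φ).m := (quasiSeparated_iff_quasiSeparatedSpace _).mpr h2
  have e := hL (M.reindex φ).m u ((LimSubalg.cone A).π.app m) (M.reindex φ).g Fm F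
    inferInstance q2 hfp hX α
  rw [e]
  apply hQ.preimage
  exact H ↥(m.unop.1) _ (M.reindex φ).m Fm h5 q2 q3 hfp

/-- the case of an affine base -/
theorem mod_of_isAffine (hQ : GoodQ Q) (hL : BCMod L) (H : NoethCaseMod Q L)
    [IsAffine S] (u : X ⟶ S)
    [LocallyOfFinitePresentation u] [QuasiCompact u] [QuasiSeparated u] (F : X.Modules)
    [hF : SheafOfModules.IsFinitePresentation (R := X.ringCatSheaf) F] :
    Q (L u F) := by
  let e := S.isoSpec
  have hX : IsPullback (𝟙 X) u (u ≫ e.hom) e.hom := IsPullback.of_horiz_isIso ⟨by simp⟩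
  have hc := mod_Spec hQ hL H Γ(S, ⊤) (u ≫ e.hom) F
  rw [hL (u ≫ e.hom) u e.hom (𝟙 X) F F inferInstance inferInstance hF hX
    ((Scheme.Modules.pullbackId X).app F).symm]
  exact hQ.preimage e.hom _ hc

/-- **Reduction to a base of finite type over `ℤ`** (relations with a module). -/
theorem mod_general (hQ : GoodQ Q) (hL : BCMod L) (H : NoethCaseMod Q L)
    (u : X ⟶ S) [LocallyOfFinitePresentation u] [QuasiCompact u] [QuasiSeparated u]
    (F : X.Modules) [hF : SheafOfModules.IsFinitePresentation (R := X.ringCatSheaf) F] :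
    Q (L u F) := by
  apply hQ.of_local
  intro s
  obtain ⟨_, ⟨U₀, hU₀, rfl⟩, hsU, -⟩ := S.isBasis_affineOpens.exists_subset_of_mem_open
    (Set.mem_univ s) isOpen_univ
  obtain ⟨U, rfl⟩ : ∃ U : S.Opens, U = U₀ := ⟨U₀, rfl⟩
  have hU : IsAffineOpen U := hU₀
  refine ⟨U, hU, hsU, ?_⟩
  have : IsAffine U.toScheme := hU
  have hX : IsPullback (u ⁻¹ᵁ U).ι (u ∣_ U) u U.ι := (isPullback_morphismRestrict u U).flip
  haveI := isFP_pullback (u ⁻¹ᵁ U).ι F
  have hc := mod_of_isAffine hQ hL H (u ∣_ U) ((Scheme.Modules.pullback (u ⁻¹ᵁ U).ι).obj F)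
  rw [hL u (u ∣_ U) U.ι (u ⁻¹ᵁ U).ι F _ inferInstance inferInstance hF hX (Iso.refl _)] at hc
  exact hc

section Final

variable {P : ∀ ⦃Y T : Scheme.{u}⦄, (Y ⟶ T) → Y.Modules → Prop}

/-- base change of `(X ⟶ Spec R, F)` to `Spec R/p` -/
lemma locusMod_quot (hP : ConsProp.IsFieldStableMod P) (R : Type u) [CommRing R]
    (u : X ⟶ Spec (CommRingCat.of R)) [LocallyOfFiniteType u] [QuasiCompact u]
    (F : X.Modules) [SheafOfModules.IsFinitePresentation (R := X.ringCatSheaf) F] (p : Ideal R) :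
    ∃ (X₁ : Scheme.{u}) (u₁ : X₁ ⟶ Spec (CommRingCat.of (R ⧸ p))) (F₁ : X₁.Modules),
      LocallyOfFiniteType u₁ ∧ QuasiCompact u₁ ∧ Coh.IsCoh F₁ ∧
      ConsProp.locusMod P u₁ F₁ = quotι R p ⁻¹' ConsProp.locusMod P u F := by
  have hX : IsPullback (pullback.fst u (quotι R p)) (pullback.snd u (quotι R p)) u (quotι R p) :=
    IsPullback.of_hasPullback u _
  exact ⟨_, pullback.snd u (quotι R p),
    (Scheme.Modules.pullback (pullback.fst u (quotι R p))).obj F, inferInstance, inferInstance,
    isCoh_pullback _ F, locusMod_bc hP hX F _ (Iso.refl _)⟩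

theorem noethCase_consMod (hP : ConsProp.IsConsMod P) :
    NoethCaseMod (fun (S : Scheme.{u}) (E : Set S) => IsLocallyConstructible E)
      (fun _ _ u F => ConsProp.locusMod P u F) := by
  intro R _ _ X u F h1 h2 h3 hfp
  have : IsNoetherianRing R := Algebra.FiniteType.isNoetherianRing ℤ R
  refine (isConstructible_of_generic R _ ?_).isLocallyConstructible
  intro p _
  obtain ⟨X₁, u₁, F₁, i1, i2, hcoh, e⟩ := locusMod_quot hP.1 R u F p
  have := hP.2 u₁ F₁ hcoh
  rw [e] at this
  exact this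

theorem noethCase_indConsMod (hP : ConsProp.IsIndConsMod P) :
    NoethCaseMod (fun (S : Scheme.{u}) (E : Set S) => ProCons.IsIndConstructible E)
      (fun _ _ u F => ConsProp.locusMod P u F) := by
  intro R _ _ X u F h1 h2 h3 hfp
  have : IsNoetherianRing R := Algebra.FiniteType.isNoetherianRing ℤ R
  refine isIndConstructible_of_generic R _ ?_
  intro p _ hp
  obtain ⟨X₁, u₁, F₁, i1, i2, hcoh, e⟩ := locusMod_quot hP.1 R u F p
  have := hP.2 u₁ F₁ hcoh
  rw [e] at this
  apply this
  rw [Set.mem_preimage, quotι_genericPoint]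
  exact hp

/-- **S5878** -/
theorem isLocallyConstructible_locusMod (hP : ConsProp.IsConsMod P) (u : X ⟶ S)
    [LocallyOfFinitePresentation u] [QuasiCompact u] [QuasiSeparated u] (F : X.Modules)
    [hF : SheafOfModules.IsFinitePresentation (R := X.ringCatSheaf) F] :
    IsLocallyConstructible (ConsProp.locusMod P u F) :=
  mod_general (L := fun _ _ u F => ConsProp.locusMod P u F) goodQ_isLocallyConstructible
    (bcMod_locusMod hP.1) (noethCase_consMod hP) u F

/-- **S5879** -/
theorem isIndConstructible_locusMod (hP : ConsProp.IsIndConsMod P) (u : X ⟶ S)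
    [LocallyOfFinitePresentation u] [QuasiCompact u] [QuasiSeparated u] (F : X.Modules)
    [hF : SheafOfModules.IsFinitePresentation (R := X.ringCatSheaf) F] :
    ProCons.IsIndConstructible (ConsProp.locusMod P u F) :=
  mod_general (L := fun _ _ u F => ConsProp.locusMod P u F) goodQ_isIndConstructible
    (bcMod_locusMod hP.1) (noethCase_indConsMod hP) u F

end Final

end Groth.Agent.Helper4.ConsMod
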