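import Mathlib
import Groth.Agent.Lib.Helper4.ConsMod2
import Groth.Agent.Lib.Helper4.ConsLim

/-!
# Constructible properties with a module: generic point statements and limits (helper4)
-/

set_option autoImplicit false
universe u
open AlgebraicGeometry CategoryTheory CategoryTheory.Limits TopologicalSpace Topology

namespace Groth.Agent.Helper4.ConsMod

open Groth.Agent.Helper4.FibBC Groth.Agent.Helper4.LimDesc Groth.Agent.Helper4.ConsRed
open Groth.Agent.Helper4.ConsLim

section Top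

variable {Z : Type*} [TopologicalSpace Z]

/-- in an irreducible space, a locally constructible set or its complement is a neighbourhood of
the generic point -/
theorem generic_mem_interior_or [IrreducibleSpace Z] {η : Z} (hη : IsGenericPoint η Set.univ)
    {E : Set Z} (hE : IsLocallyConstructible E) : η ∈ interior E ∨ η ∈ interior Eᶜ := by
  obtain ⟨U, hUη, hUo, hc⟩ := hE η
  have hηU : η ∈ U := mem_of_mem_nhds hUη
  have hUirr : IsIrreducible U :=
    ⟨⟨η, hηU⟩, (IrreducibleSpace.isIrreducible_univ Z).isPreirreducible.open_subset hUo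
      (Set.subset_univ _)⟩
  haveI : IrreducibleSpace U := Subtype.irreducibleSpace hUirr
  have key : ∀ (V : Set U), IsOpen V → V.Nonempty → ∀ (E' : Set Z),
      V ⊆ (Subtype.val ⁻¹' E' : Set U) → η ∈ interior E' := by
    intro V hV hVne E' hsub
    have hWo : IsOpen (Subtype.val '' V : Set Z) := hUo.isOpenMap_subtype_val V hV
    have hWne : (Subtype.val '' V : Set Z).Nonempty := hVne.image _
    have hηW : η ∈ (Subtype.val '' V : Set Z) := by
      rw [hη.mem_open_set_iff hWo, Set.univ_inter]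
      exact hWne
    refine mem_interior.2 ⟨Subtype.val '' V, ?_, hWo, hηW⟩
    rintro _ ⟨v, hv, rfl⟩
    exact hsub hv
  rcases Groth.Agent.Helper4.Constr.trace_dichotomy (IrreducibleSpace.isIrreducible_univ U) hc with
    ⟨V, hV, hne, hsub⟩ | ⟨V, hV, hne, hsub⟩
  · rw [Set.inter_univ] at hne hsub
    exact Or.inl (key V hV hne E hsub)
  · rw [Set.inter_univ] at hne hsub
    exact Or.inr (key V hV hne Eᶜ hsub)

/-- in an irreducible space, an ind-constructible set containing the generic point is a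
neighbourhood of it -/
theorem generic_mem_interior_of_indCons [IrreducibleSpace Z] {η : Z}
    (hη : IsGenericPoint η Set.univ) {E : Set Z} (hE : ProCons.IsIndConstructible E)
    (h : η ∈ E) : η ∈ interior E := by
  obtain ⟨U, hUo, hηU, S, hS, hES⟩ := hE η
  have hUirr : IsIrreducible U :=
    ⟨⟨η, hηU⟩, (IrreducibleSpace.isIrreducible_univ Z).isPreirreducible.open_subset hUo
      (Set.subset_univ _)⟩
  haveI : IrreducibleSpace U := Subtype.irreducibleSpace hUirr
  have hηgen : IsGenericPoint (⟨η, hηU⟩ : U) Set.univ := by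
    rw [isGenericPoint_def]
    apply Set.eq_univ_of_forall
    intro y
    rw [mem_closure_iff]
    intro O hO hyO
    have hWo : IsOpen (Subtype.val '' O : Set Z) := hUo.isOpenMap_subtype_val O hO
    have hηW : η ∈ (Subtype.val '' O : Set Z) := by
      rw [hη.mem_open_set_iff hWo, Set.univ_inter]
      exact ⟨y, y, hyO, rfl⟩
    obtain ⟨z, hz, hzη⟩ := hηW
    refine ⟨⟨η, hηU⟩, ?_, rfl⟩
    have : z = ⟨η, hηU⟩ := Subtype.ext hzη
    rw [← this]
    exact hz
  have hmem : (⟨η, hηU⟩ : U) ∈ (Subtype.val ⁻¹' E : Set U) := h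
  rw [hES] at hmem
  obtain ⟨T, hT, hηT⟩ := hmem
  have hor := generic_mem_interior_or hηgen (hS T hT)
  have hint : (⟨η, hηU⟩ : U) ∈ interior T := by
    rcases hor with h1 | h1
    · exact h1
    · exact absurd hηT (interior_subset h1)
  obtain ⟨O, hOT, hOo, hηO⟩ := mem_interior.1 hint
  have hWo : IsOpen (Subtype.val '' O : Set Z) := hUo.isOpenMap_subtype_val O hOo
  refine mem_interior.2 ⟨Subtype.val '' O, ?_, hWo, ⟨⟨η, hηU⟩, hηO, rfl⟩⟩
  rintro _ ⟨v, hv, rfl⟩
  have : v ∈ (Subtype.val ⁻¹' E : Set U) := by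
    rw [hES]
    exact ⟨T, hT, hOT hv⟩
  exact this

end Top

section Lim

variable {P : ∀ ⦃Y T : Scheme.{u}⦄, (Y ⟶ T) → Y.Modules → Prop}

/-- comparison of the loci of two stacked base changes -/
theorem locusMod_comp (hP : ConsProp.IsFieldStableMod P)
    {X₀ S₀ S₁ S₂ X₁ X₂ : Scheme.{u}} {u₀ : X₀ ⟶ S₀}
    [LocallyOfFiniteType u₀] [QuasiCompact u₀]
    (F₀ : X₀.Modules) [SheafOfModules.IsFinitePresentation (R := X₀.ringCatSheaf) F₀]
    {a : S₁ ⟶ S₀} {b : S₂ ⟶ S₁} {c : S₂ ⟶ S₀} (hc : b ≫ a = c)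
    {u₁ : X₁ ⟶ S₁} {p₁ : X₁ ⟶ X₀} {u₂ : X₂ ⟶ S₂} {p₂ : X₂ ⟶ X₀}
    (hX₁ : IsPullback p₁ u₁ u₀ a) (hX₂ : IsPullback p₂ u₂ u₀ c) :
    ConsProp.locusMod P u₂ ((Scheme.Modules.pullback p₂).obj F₀) =
      b ⁻¹' ConsProp.locusMod P u₁ ((Scheme.Modules.pullback p₁).obj F₀) := by
  obtain ⟨r, hr, hsq⟩ := exists_isPullback_of_comp hc hX₁ hX₂
  have i1 : LocallyOfFiniteType u₁ :=
    MorphismProperty.of_isPullback (P := @LocallyOfFiniteType) hX₁ inferInstance
  have i2 : QuasiCompact u₁ :=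
    MorphismProperty.of_isPullback (P := @QuasiCompact) hX₁ inferInstance
  haveI := isFP_pullback p₁ F₀
  exact locusMod_bc hP hsq ((Scheme.Modules.pullback p₁).obj F₀) _
    ((Scheme.Modules.pullbackCongr hr.symm).app F₀ ≪≫
      ((Scheme.Modules.pullbackComp r p₁).app F₀).symm)

variable {I : Type u} [SmallCategory I] [IsCofiltered I] {D : I ⥤ Scheme.{u}} {c : Cone D}
  [∀ {i j} (f : i ⟶ j), IsAffineHom (D.map f)] {i₀ : I}

/-- **S5892** -/
theorem locusMod_lim (hP : ConsProp.IsIndConsMod P) (hc : IsLimit c) [CompactSpace ↥(D.obj i₀)]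
    {X₀ : Scheme.{u}} (u₀ : X₀ ⟶ D.obj i₀)
    [LocallyOfFinitePresentation u₀] [QuasiCompact u₀] [QuasiSeparated u₀]
    (F₀ : X₀.Modules) [hF₀ : SheafOfModules.IsFinitePresentation (R := X₀.ringCatSheaf) F₀]
    {X : Scheme.{u}} (u : X ⟶ c.pt) (q : X ⟶ X₀) (hX : IsPullback q u u₀ (c.π.app i₀)) :
    (∀ s : ↥c.pt, s ∈ ConsProp.locusMod P u ((Scheme.Modules.pullback q).obj F₀)) ↔
      ∃ (j : I) (φ : j ⟶ i₀) (Xj : Scheme.{u}) (uj : Xj ⟶ D.obj j) (p : Xj ⟶ X₀),
        IsPullback p uj u₀ (D.map φ) ∧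
          ∀ t : ↥(D.obj j), t ∈ ConsProp.locusMod P uj ((Scheme.Modules.pullback p).obj F₀) := by
  constructor
  · intro hall
    let uk : ∀ k : Over i₀, pullback u₀ (D.map k.hom) ⟶ D.obj k.left :=
      fun k => pullback.snd u₀ (D.map k.hom)
    have hXk : ∀ k : Over i₀, IsPullback (pullback.fst u₀ (D.map k.hom)) (uk k) u₀ (D.map k.hom) :=
      fun k => IsPullback.of_hasPullback _ _
    have hF : ∀ k, ProCons.IsIndConstructible (ConsProp.locusMod P (uk k)
        ((Scheme.Modules.pullback (pullback.fst u₀ (D.map k.hom))).obj F₀)) := by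
      intro k
      haveI := isFP_pullback (pullback.fst u₀ (D.map k.hom)) F₀
      exact isIndConstructible_locusMod hP (uk k) _
    have hFm : ∀ (k k' : Over i₀) (ψ : k ⟶ k'),
        D.map ψ.left ⁻¹' ConsProp.locusMod P (uk k')
          ((Scheme.Modules.pullback (pullback.fst u₀ (D.map k'.hom))).obj F₀) ⊆
          ConsProp.locusMod P (uk k)
            ((Scheme.Modules.pullback (pullback.fst u₀ (D.map k.hom))).obj F₀) := by
      intro k k' ψ
      have hw : D.map ψ.left ≫ D.map k'.hom = D.map k.hom := by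
        rw [← D.map_comp, Over.w]
      rw [locusMod_comp hP.1 F₀ hw (hXk k') (hXk k)]
    have hcov : ∀ s : ↥c.pt, ∃ k : Over i₀,
        c.π.app k.left s ∈ ConsProp.locusMod P (uk k)
          ((Scheme.Modules.pullback (pullback.fst u₀ (D.map k.hom))).obj F₀) := by
      intro s
      refine ⟨Over.mk (𝟙 i₀), ?_⟩
      have hw : c.π.app i₀ ≫ D.map (Over.mk (𝟙 i₀)).hom = c.π.app i₀ := by
        simp
      have := locusMod_comp hP.1 F₀ hw (hXk (Over.mk (𝟙 i₀))) hX
      have hs := hall s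
      rw [this] at hs
      exact hs
    obtain ⟨k, hk⟩ := exists_eq_univ D c i₀ hc
      (fun k => ConsProp.locusMod P (uk k)
        ((Scheme.Modules.pullback (pullback.fst u₀ (D.map k.hom))).obj F₀)) hF hFm hcov
    exact ⟨k.left, k.hom, _, uk k, _, hXk k, fun t => by rw [hk]; trivial⟩
  · rintro ⟨j, φ, Xj, uj, p, hXj, hall⟩ s
    rw [locusMod_comp hP.1 F₀ (c.w φ) hXj hX]
    exact hall _

end Lim

end Groth.Agent.Helper4.ConsMod
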