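import Mathlib
import Groth.Prelude.Def_StCurv2

/-!
# Geometric fibres of the classifying object of a scheme over a field (helper4)

`CurvSt.GeomFib P` of the classifying object `(Spec k, h_X, h_p)` unwinds to: for every algebraically closed
`Ω`, every `t' : Spec Ω ⟶ Spec k` and every cartesian square of SCHEMES `X' = X ×_k Ω`, `P Ω X' q`.
-/

set_option autoImplicit false
universe u
open AlgebraicGeometry CategoryTheory CategoryTheory.Limits

namespace Groth.Agent.Helper4.CurvGF

theorem geomFib_iff (S : Scheme.{u}) (k : Type u) [Field k] (t : Spec (CommRingCat.of k) ⟶ S)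
    (X : Scheme.{u}) (p : X ⟶ Spec (CommRingCat.of k))
    (P : ∀ (Ω : Type u) [Field Ω] [IsAlgClosed Ω] (X' : Scheme.{u}),
      (X' ⟶ Spec (CommRingCat.of Ω)) → Prop) :
    CurvSt.GeomFib (fun Ω _ _ X' q _ => P Ω X' q)
        ((CurvSt.toSpFam S 0).obj ⟨Over.mk t, X, p, Fin.elim0, fun i => i.elim0⟩) ↔
      ∀ (Ω : Type u) [Field Ω] [IsAlgClosed Ω]
        (t' : Spec (CommRingCat.of Ω) ⟶ Spec (CommRingCat.of k)) (X' : Scheme.{u})
        (q : X' ⟶ Spec (CommRingCat.of Ω)) (i : X' ⟶ X), IsPullback i q p t' → P Ω X' q := by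
  constructor
  · intro h Ω _ _ t' X' q i hpb
    let A : CurvSt.SpFamObj S 0 :=
      (CurvSt.toSpFam S 0).obj ⟨Over.mk t, X, p, Fin.elim0, fun i => i.elim0⟩
    let iO : A.ptOver (q ≫ t') ⟶ Over.mk (p ≫ t) :=
      Over.homMk i (by
        show i ≫ p ≫ t = (q ≫ t') ≫ t
        rw [reassoc_of% hpb.w, Category.assoc])
    have hO : IsPullback iO (A.fibHom t' q) (Over.homMk p rfl : Over.mk (p ≫ t) ⟶ Over.mk t)
        (A.ptHom t') :=
      IsPullback.of_map (Over.forget S) (Over.OverMorphism.ext hpb.w) hpb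
    exact h Ω t' X' q ((AlgSp.yon S).map iO) (hO.map (AlgSp.yon S))
  · intro h Ω _ _ t' X' q i hP
    let A : CurvSt.SpFamObj S 0 :=
      (CurvSt.toSpFam S 0).obj ⟨Over.mk t, X, p, Fin.elim0, fun i => i.elim0⟩
    let iO : A.ptOver (q ≫ t') ⟶ Over.mk (p ≫ t) := (AlgSp.yon S).preimage i
    have hiO : (AlgSp.yon S).map iO = i := (AlgSp.yon S).map_preimage _
    have hO : IsPullback iO (A.fibHom t' q) (Over.homMk p rfl : Over.mk (p ≫ t) ⟶ Over.mk t)
        (A.ptHom t') := by
      refine IsPullback.of_map (AlgSp.yon S) ?_ ?_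
      · apply (AlgSp.yon S).map_injective
        rw [Functor.map_comp, Functor.map_comp, hiO]
        exact hP.w
      · rw [hiO]; exact hP
    exact h Ω t' X' q iO.left (hO.map (Over.forget S))

end Groth.Agent.Helper4.CurvGF
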