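import Groth.Agent.Lib.Helper4.CurveMor
import Groth.Agent.Lib.Helper4.BirStalk

/-!
# Local rings of a normal complete curve and valuation rings of its function field (helper4)
-/

set_option autoImplicit false
universe u
open AlgebraicGeometry CategoryTheory CategoryTheory.Limits

namespace Groth.Agent.Helper4.CurveVal

/-- on a quasi-compact integral scheme whose local rings at closed points have dimension one,
every point other than the generic point is closed -/
theorem isClosed_singleton_of_ne_genericPoint (X : Scheme.{u}) [IsIntegral X] [CompactSpace X]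
    (hX : ∀ x : X, IsClosed ({x} : Set X) → ringKrullDim (X.presheaf.stalk x) = 1)
    (x : X) (hx : x ≠ genericPoint X) : IsClosed ({x} : Set X) := by
  obtain ⟨x₀, hx₀, hcl⟩ := (isClosed_closure (s := ({x} : Set X))).exists_closed_singleton
    ⟨x, subset_closure rfl⟩
  have hsp : x ⤳ x₀ := specializes_iff_mem_closure.mpr hx₀
  suffices x = x₀ by rw [this]; exact hcl
  have hmem : x ∈ Set.range (X.fromSpecStalk x₀) := by
    rw [Scheme.range_fromSpecStalk]; exact hsp
  obtain ⟨p, hp⟩ := hmem
  have hdim := hX x₀ hcl
  haveI : Ring.KrullDimLE 1 (X.presheaf.stalk x₀) := Ring.krullDimLE_iff.mpr hdim.le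
  have hbot : X.fromSpecStalk x₀ ⟨⊥, Ideal.isPrime_bot⟩ = genericPoint X := by
    have h1 : X.fromSpecStalk x₀ ⟨⊥, Ideal.isPrime_bot⟩ ⤳ genericPoint X := by
      obtain ⟨q, hq⟩ : genericPoint X ∈ Set.range (X.fromSpecStalk x₀) := by
        rw [Scheme.range_fromSpecStalk]; exact (genericPoint_spec X).specializes trivial
      rw [← hq]
      apply Specializes.map _ (X.fromSpecStalk x₀).continuous
      exact (PrimeSpectrum.le_iff_specializes
        (⟨⊥, Ideal.isPrime_bot⟩ : PrimeSpectrum (X.presheaf.stalk x₀)) q).mp
        (bot_le (a := q.asIdeal))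
    exact (h1.antisymm ((genericPoint_spec X).specializes trivial)).eq
  have hpne : p.asIdeal ≠ ⊥ := by
    intro h
    apply hx
    rw [← hp, ← hbot]
    congr 1
    exact PrimeSpectrum.ext h
  have hmax : p.asIdeal.IsMaximal := p.isPrime.isMaximal_of_ne_bot hpne
  have hpc : p = IsLocalRing.closedPoint _ :=
    PrimeSpectrum.ext (IsLocalRing.eq_maximalIdeal hmax)
  rw [← hp, hpc, Scheme.fromSpecStalk_closedPoint]


/-- local rings at non-generic points of a normal curve are discrete valuation rings -/
theorem isDiscreteValuationRing_stalk (X : Scheme.{u}) [IsIntegral X] [CompactSpace X]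
    [IsLocallyNoetherian X]
    (hX : ∀ x : X, IsClosed ({x} : Set X) → ringKrullDim (X.presheaf.stalk x) = 1)
    (hnorm : ∀ x : X, IsDomain (X.presheaf.stalk x) ∧ IsIntegrallyClosed (X.presheaf.stalk x))
    (x : X) (hx : x ≠ genericPoint X) : IsDiscreteValuationRing (X.presheaf.stalk x) := by
  haveI := (hnorm x).2
  exact Groth.Agent.Helper4.CurveExt.isDiscreteValuationRing_of_dim_one _
    (hX x (isClosed_singleton_of_ne_genericPoint X hX x hx))

/-- the valuation subring of the function field given by a local ring which is a valuation
ring -/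
noncomputable def valSubring (X : Scheme.{u}) [IsIntegral X] (x : X)
    [ValuationRing (X.presheaf.stalk x)] : ValuationSubring X.functionField :=
  { (algebraMap (X.presheaf.stalk x) X.functionField).range with
    mem_or_inv_mem' := fun a => by
      rcases ValuationRing.isInteger_or_isInteger (X.presheaf.stalk x) a with ⟨b, hb⟩ | ⟨b, hb⟩
      · exact Or.inl ⟨b, hb⟩
      · exact Or.inr ⟨b, hb⟩ }

theorem coe_valSubring (X : Scheme.{u}) [IsIntegral X] (x : X)
    [ValuationRing (X.presheaf.stalk x)] :
    (valSubring X x : Set X.functionField) =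
      Set.range (algebraMap (X.presheaf.stalk x) X.functionField) := rfl

/-- if the local ring at `x` maps onto the function field, then `x` is the generic point -/
theorem eq_genericPoint_of_surjective (X : Scheme.{u}) [IsIntegral X] (x : X)
    (h : Function.Surjective (algebraMap (X.presheaf.stalk x) X.functionField)) :
    x = genericPoint X := by
  apply Groth.Agent.Helper4.BirStalk.eq_genericPoint_of_isField
  have hb : Function.Bijective (algebraMap (X.presheaf.stalk x) X.functionField) :=
    ⟨IsFractionRing.injective _ _, h⟩
  exact MulEquiv.isField (Field.toIsField X.functionField)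
    (RingEquiv.ofBijective (algebraMap (X.presheaf.stalk x) X.functionField) hb).toMulEquiv

theorem valSubring_ne_top (X : Scheme.{u}) [IsIntegral X] (x : X)
    [ValuationRing (X.presheaf.stalk x)] (hx : x ≠ genericPoint X) : valSubring X x ≠ ⊤ := by
  intro h
  apply hx
  apply eq_genericPoint_of_surjective
  intro a
  have : a ∈ (valSubring X x : Set X.functionField) := by rw [h]; trivial
  rw [coe_valSubring] at this
  exact this


set_option backward.isDefEq.respectTransparency false in
/-- valuative criterion for a proper curve: every valuation ring of the function field containing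
the base field dominates a local ring -/
theorem exists_dominated (k : Type u) [Field k] (X : Scheme.{u})
    [X.Over (Spec (CommRingCat.of k))] [IsProper (X ↘ Spec (CommRingCat.of k))] [IsIntegral X]
    (R : ValuationSubring X.functionField)
    (hk : ∀ c : k, Curv2.stalkMap k X (genericPoint X) c ∈ R) :
    ∃ (x : X) (θ : X.presheaf.stalk x →+* R), IsLocalHom θ ∧
      ∀ a, ((θ a : R) : X.functionField) = algebraMap (X.presheaf.stalk x) X.functionField a := by
  have hex : ValuativeCriterion.Existence (X ↘ Spec (CommRingCat.of k)) := by
    have h : UniversallyClosed (X ↘ Spec (CommRingCat.of k)) := inferInstance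
    rw [UniversallyClosed.eq_valuativeCriterion] at h
    exact h.1
  let κ : k →+* R := (Curv2.stalkMap k X (genericPoint X)).codRestrict R.toSubring hk
  let sq : ValuativeCommSq (X ↘ Spec (CommRingCat.of k)) :=
    { R := R
      K := X.functionField
      i₁ := X.fromSpecStalk (genericPoint X)
      i₂ := Spec.map (CommRingCat.ofHom κ)
      commSq := ⟨by
        rw [Groth.Agent.Helper4.CurveMor.fromSpecStalk_over k X (genericPoint X),
          ← Spec.map_comp]
        rfl⟩ }
  obtain ⟨⟨ℓ, hℓ1, hℓ2⟩⟩ := (hex sq).exists_lift
  change Spec (CommRingCat.of R) ⟶ X at ℓ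
  change Spec.map (CommRingCat.ofHom (algebraMap R X.functionField)) ≫ ℓ =
    X.fromSpecStalk (genericPoint X) at hℓ1
  have hξx : genericPoint X ⤳ ℓ (IsLocalRing.closedPoint R) :=
    (genericPoint_spec X).specializes trivial
  refine ⟨ℓ (IsLocalRing.closedPoint R), (Scheme.stalkClosedPointTo ℓ).hom, inferInstance, ?_⟩
  have h1 : Spec.map (CommRingCat.ofHom (algebraMap R X.functionField)) ≫
      Spec.map (Scheme.stalkClosedPointTo ℓ) ≫ X.fromSpecStalk (ℓ (IsLocalRing.closedPoint R)) =
      Spec.map (X.presheaf.stalkSpecializes hξx) ≫
        X.fromSpecStalk (ℓ (IsLocalRing.closedPoint R)) := by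
    rw [Scheme.Spec_stalkClosedPointTo_fromSpecStalk, hℓ1,
      Scheme.SpecMap_stalkSpecializes_fromSpecStalk]
  rw [← Category.assoc, cancel_mono, ← Spec.map_comp] at h1
  have h2 := Spec.map_injective h1
  intro a
  exact congrArg (fun f => f.hom a) h2


/-- a valuation ring of the function field dominating a local ring which is a valuation ring is
equal to it -/
theorem coe_eq_range_of_dominated (X : Scheme.{u}) [IsIntegral X]
    (R : ValuationSubring X.functionField) (x : X) [ValuationRing (X.presheaf.stalk x)]
    (θ : X.presheaf.stalk x →+* R) (hθ : IsLocalHom θ)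
    (hc : ∀ a, ((θ a : R) : X.functionField) =
      algebraMap (X.presheaf.stalk x) X.functionField a) :
    (R : Set X.functionField) = Set.range (algebraMap (X.presheaf.stalk x) X.functionField) := by
  have hinj : Function.Injective θ := by
    intro a b hab
    apply IsFractionRing.injective (X.presheaf.stalk x) X.functionField
    rw [← hc, ← hc, hab]
  have hsurj : Function.Surjective θ := by
    apply Groth.Agent.Helper4.ValIso.surjective_of_valuationRing θ hinj
    · intro a ha
      exact (isUnit_map_iff θ a).mp ha
    · intro b
      obtain ⟨⟨a₁, a₂⟩, ha⟩ :=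
        IsLocalization.surj (nonZeroDivisors (X.presheaf.stalk x)) (b : X.functionField)
      refine ⟨a₁, a₂.1, nonZeroDivisors.ne_zero a₂.2, ?_⟩
      apply Subtype.ext
      rw [MulMemClass.coe_mul, hc, hc, mul_comm]
      exact ha
  ext r
  constructor
  · intro hr
    obtain ⟨a, ha⟩ := hsurj ⟨r, hr⟩
    exact ⟨a, by rw [← hc, ha]⟩
  · rintro ⟨a, rfl⟩
    rw [← hc]
    exact (θ a).2


theorem isDominant_SpecMap_of_injective {A B : CommRingCat.{u}} (f : A ⟶ B)
    (hf : Function.Injective f.hom) : IsDominant (Spec.map f) := by
  refine ⟨?_⟩
  have h : DenseRange (PrimeSpectrum.comap f.hom) := by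
    rw [PrimeSpectrum.denseRange_comap_iff_ker_le_nilRadical,
      (RingHom.injective_iff_ker_eq_bot f.hom).mp hf]
    exact bot_le
  exact h

set_option backward.isDefEq.respectTransparency false in
/-- On an integral scheme separated over a field, an inclusion of local rings (inside the function
field) forces a specialization. -/
theorem specializes_of_range_subset (k : Type u) [Field k] (X : Scheme.{u})
    [X.Over (Spec (CommRingCat.of k))] [IsSeparated (X ↘ Spec (CommRingCat.of k))] [IsIntegral X]
    (x x' : X)
    (h : Set.range (algebraMap (X.presheaf.stalk x) X.functionField) ⊆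
      Set.range (algebraMap (X.presheaf.stalk x') X.functionField)) : x' ⤳ x := by
  have hξx : genericPoint X ⤳ x := (genericPoint_spec X).specializes trivial
  have hξx' : genericPoint X ⤳ x' := (genericPoint_spec X).specializes trivial
  have hinj' : Function.Injective (algebraMap (X.presheaf.stalk x') X.functionField) :=
    IsFractionRing.injective _ _
  let e' : X.presheaf.stalk x' ≃+* (algebraMap (X.presheaf.stalk x') X.functionField).range :=
    RingEquiv.ofBijective (algebraMap (X.presheaf.stalk x') X.functionField).rangeRestrict
      ⟨fun a b hab => hinj' (congrArg Subtype.val hab),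
        (algebraMap (X.presheaf.stalk x') X.functionField).rangeRestrict_surjective⟩
  let θ : X.presheaf.stalk x →+* X.presheaf.stalk x' :=
    e'.symm.toRingHom.comp ((algebraMap (X.presheaf.stalk x) X.functionField).codRestrict
      (algebraMap (X.presheaf.stalk x') X.functionField).range (fun a => h ⟨a, rfl⟩))
  have hθ : ∀ a, algebraMap (X.presheaf.stalk x') X.functionField (θ a) =
      algebraMap (X.presheaf.stalk x) X.functionField a := by
    intro a
    have h1 : e' (θ a) = (algebraMap (X.presheaf.stalk x) X.functionField).codRestrict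
      (algebraMap (X.presheaf.stalk x') X.functionField).range (fun a => h ⟨a, rfl⟩) a :=
      e'.apply_symm_apply _
    exact congrArg Subtype.val h1
  have hθ' : CommRingCat.ofHom θ ≫ X.presheaf.stalkSpecializes hξx' =
      X.presheaf.stalkSpecializes hξx := by
    ext a
    exact hθ a
  haveI : IsDominant (Spec.map (X.presheaf.stalkSpecializes hξx')) :=
    isDominant_SpecMap_of_injective _ hinj'
  have key : Spec.map (CommRingCat.ofHom θ) ≫ X.fromSpecStalk x = X.fromSpecStalk x' := by
    refine ext_of_isDominant_of_isSeparated (X ↘ Spec (CommRingCat.of k)) ?_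
      (Spec.map (X.presheaf.stalkSpecializes hξx')) ?_
    · rw [Category.assoc, Groth.Agent.Helper4.CurveMor.fromSpecStalk_over k X x,
        Groth.Agent.Helper4.CurveMor.fromSpecStalk_over k X x', ← Spec.map_comp]
      congr 1
      ext c
      apply hinj'
      refine (hθ _).trans ?_
      have e1 : ∀ y (hy : genericPoint X ⤳ y), algebraMap (X.presheaf.stalk y) X.functionField
          (Curv2.stalkMap k X y c) = Curv2.stalkMap k X (genericPoint X) c := by
        intro y hy
        exact congrArg (fun f => f.hom (Coh.toGlobal (X ↘ Spec (CommRingCat.of k)) c))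
          (TopCat.Presheaf.germ_stalkSpecializes X.presheaf (U := ⊤) (y := y) trivial hy)
      exact (e1 x hξx).trans (e1 x' hξx').symm
    · rw [← Category.assoc, ← Spec.map_comp, hθ',
        Scheme.SpecMap_stalkSpecializes_fromSpecStalk,
        Scheme.SpecMap_stalkSpecializes_fromSpecStalk]
  have hmem : x' ∈ Set.range (X.fromSpecStalk x) := by
    have h2 : X.fromSpecStalk x' (IsLocalRing.closedPoint _) = x' :=
      Scheme.fromSpecStalk_closedPoint
    rw [← h2, ← key, Scheme.Hom.comp_apply]
    exact ⟨_, rfl⟩
  rw [Scheme.range_fromSpecStalk] at hmem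
  exact hmem

end Groth.Agent.Helper4.CurveVal
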