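import Groth.Agent.Lib.Helper4.P1Curve3

/-!
# Packaging the normalization of `ℙ¹` in a field (helper4)
-/

set_option autoImplicit false
universe u
open AlgebraicGeometry CategoryTheory CategoryTheory.Limits

namespace Groth.Agent.Helper4.P1Curve

attribute [local instance] Curv2.stalkAlgebra

/-- a morphism `g : Spec K ⟶ Z` of `k`-schemes whose comparison map to the stalk at `z`
is bijective identifies the stalk with `K` compatibly with `k` -/
theorem exists_equiv_of_bijective (k : Type u) [Field k] (K : Type u) [Field K] [Algebra k K]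
    (Z : Scheme.{u}) [Z.Over (Spec (CommRingCat.of k))] (g : Spec (CommRingCat.of K) ⟶ Z)
    (hg : g ≫ (Z ↘ Spec (CommRingCat.of k)) = Spec.map (CommRingCat.ofHom (algebraMap k K)))
    (z : Z) (hz : g (IsLocalRing.closedPoint K) = z)
    (hbij : Function.Bijective (Scheme.stalkClosedPointTo g).hom) :
    ∃ e : Z.presheaf.stalk z ≃+* K,
      ∀ c : k, e (algebraMap k (Z.presheaf.stalk z) c) = algebraMap k K c := by
  subst hz
  refine ⟨RingEquiv.ofBijective _ hbij, fun c => ?_⟩
  have h1 : g = Spec.map (Scheme.stalkClosedPointTo g) ≫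
      Z.fromSpecStalk (g (IsLocalRing.closedPoint K)) :=
    (Scheme.Spec_stalkClosedPointTo_fromSpecStalk g).symm
  rw [h1, Category.assoc,
    Groth.Agent.Helper4.CurveMor.fromSpecStalk_over k Z (g (IsLocalRing.closedPoint K)),
    ← Spec.map_comp] at hg
  have h2 := Spec.map_injective hg
  exact congrArg (fun f => f.hom c) h2

end Groth.Agent.Helper4.P1Curve
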