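import Groth.Agent.Lib.Helper4.BirOpen2
import Groth.Agent.Lib.Helper4.FunField
import Groth.Agent.Lib.Helper4.CurveVal
import Groth.Agent.S2345

/-!
# Completion of an integral normal curve (helper4)
-/

set_option autoImplicit false
universe u
open AlgebraicGeometry CategoryTheory CategoryTheory.Limits

namespace Groth.Agent.Helper4.CurveCompl

attribute [local instance] Curv2.stalkAlgebra

set_option backward.isDefEq.respectTransparency false in
/-- an integral normal curve over a field is an open subscheme of a proper normal curve -/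
theorem exists_completion_integral (k : Type u) [Field k] (X : Scheme.{u})
    [X.Over (Spec (CommRingCat.of k))] [LocallyOfFiniteType (X ↘ (Spec (CommRingCat.of k)))]
    [QuasiCompact (X ↘ (Spec (CommRingCat.of k)))] [IsSeparated (X ↘ (Spec (CommRingCat.of k)))]
    [IsIntegral X]
    (hcurve : ∀ x : X, IsClosed ({x} : Set X) → ringKrullDim (X.presheaf.stalk x) = 1)
    (hnorm : Pi1.IsNormalScheme X) :
    ∃ (Xc : Scheme.{u}) (sc : Xc ⟶ Spec (CommRingCat.of k)) (j : X ⟶ Xc), IsOpenImmersion j ∧
      IsIntegral Xc ∧ j ≫ sc = X ↘ (Spec (CommRingCat.of k)) ∧ IsProper sc ∧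
      Pi1.IsNormalScheme Xc ∧
      ∀ x : Xc, IsClosed ({x} : Set Xc) → ringKrullDim (Xc.presheaf.stalk x) = 1 := by
  letI : Field (X.presheaf.stalk (genericPoint X)) := (inferInstance : Field X.functionField)
  have hfg := Groth.Agent.Helper4.FunField.fg_functionField k X
  have htr := Groth.Agent.Helper4.FunField.trdeg_functionField k X hcurve
  obtain ⟨Xb, hOver, hInt, hProper, hNorm, hDim, e, he⟩ :=
    Groth.Agent.S2345.result k (X.presheaf.stalk (genericPoint X)) hfg htr
  letI := hOver
  haveI := hInt
  haveI := hProper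
  -- the isomorphism of function fields in `CommRingCat`
  let e' : Xb.functionField ≅ X.functionField := e.toCommRingCatIso
  have he' : e'.hom.hom.comp (Curv2.stalkMap k Xb (genericPoint Xb)) =
      Curv2.stalkMap k X (genericPoint X) := by
    ext c
    exact he c
  obtain ⟨V₀, hη, g, hg, hgz, hiso⟩ :=
    Groth.Agent.Helper4.BirOpen.exists_spread k Xb X e' he'
  have hdense : Dense (V₀ : Set X) :=
    V₀.isOpen.dense ⟨_, hη⟩
  obtain ⟨j, ⟨hj1, hj2⟩, -⟩ := Groth.Agent.Helper4.CurveExt.existsUnique_extension_curve k X Xb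
    hcurve hnorm V₀ hdense g hg
  -- `j` is birational
  have hjgen : j (genericPoint X) = genericPoint Xb := by
    rw [← hgz, ← hj1, Scheme.Hom.comp_apply]
    rfl
  have hjiso : IsIso (j.stalkMap (V₀.ι ⟨genericPoint X, hη⟩)) := by
    have h1 := Scheme.Hom.stalkMap_comp V₀.ι j ⟨genericPoint X, hη⟩
    have h2 : IsIso ((V₀.ι ≫ j).stalkMap ⟨genericPoint X, hη⟩) := by
      have h3 : ∀ (q : (V₀ : Scheme.{u}) ⟶ Xb), q = g → IsIso (q.stalkMap ⟨genericPoint X, hη⟩) := by
        rintro q rfl
        exact hiso
      exact h3 _ hj1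
    rw [h1] at h2
    exact IsIso.of_isIso_comp_right _ (V₀.ι.stalkMap ⟨genericPoint X, hη⟩)
  have hjiso' : IsIso (j.stalkMap (genericPoint X)) := hjiso
  have hbir : Function.Bijective
      (Xb.presheaf.stalkSpecializes (specializes_of_eq hjgen) ≫
        j.stalkMap (genericPoint X)).hom := by
    haveI := Groth.Agent.Helper4.BirOpen.isIso_stalkSpecializes_of_eq Xb hjgen
    exact ConcreteCategory.bijective_of_isIso _
  -- `j` is separated and locally of finite type
  haveI : LocallyOfFiniteType (j ≫ (Xb ↘ (Spec (CommRingCat.of k)))) := by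
    rw [hj2]; infer_instance
  haveI : LocallyOfFiniteType j :=
    locallyOfFiniteType_of_comp j (Xb ↘ (Spec (CommRingCat.of k)))
  haveI : IsSeparated (j ≫ (Xb ↘ (Spec (CommRingCat.of k)))) := by
    rw [hj2]; infer_instance
  haveI : IsSeparated j := IsSeparated.of_comp j (Xb ↘ (Spec (CommRingCat.of k)))
  -- the local rings of `Xb` are valuation rings
  haveI : IsLocallyNoetherian Xb :=
    LocallyOfFiniteType.isLocallyNoetherian (Xb ↘ (Spec (CommRingCat.of k)))
  haveI : CompactSpace Xb :=
    QuasiCompact.compactSpace_of_compactSpace (Xb ↘ (Spec (CommRingCat.of k)))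
  have hval : ∀ y : Xb, ValuationRing (Xb.presheaf.stalk y) := by
    intro y
    by_cases hy : y = genericPoint Xb
    · subst hy
      letI : Field (Xb.presheaf.stalk (genericPoint Xb)) :=
        (inferInstance : Field Xb.functionField)
      infer_instance
    · haveI := Groth.Agent.Helper4.CurveVal.isDiscreteValuationRing_stalk Xb hDim hNorm y hy
      infer_instance
  have hopen : IsOpenImmersion j :=
    Groth.Agent.Helper4.BirStalk.isOpenImmersion_of_birational j hval hjgen hbir
  exact ⟨Xb, Xb ↘ (Spec (CommRingCat.of k)), j, hopen, hInt, hj2, hProper, hNorm, hDim⟩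

end Groth.Agent.Helper4.CurveCompl
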