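import Mathlib
import Groth.Agent.Lib.Helper4.SigmaFin

/-!
# A finite coproduct of proper schemes is proper (helper4)
-/

set_option autoImplicit false
universe u
open AlgebraicGeometry CategoryTheory CategoryTheory.Limits TopologicalSpace

namespace Groth.Agent.Helper4.SigmaProper

variable {ι : Type u} (Y : ι → Scheme.{u}) {T : Scheme.{u}} (s : ∀ i, Y i ⟶ T)

/-- every point of a coproduct lies in a component -/
theorem exists_mem_range_ι (y : (∐ Y : Scheme.{u})) : ∃ i, y ∈ Set.range (Sigma.ι Y i) := by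
  obtain ⟨i, z, rfl⟩ := (sigmaOpenCover Y).exists_eq y
  exact ⟨i, z, rfl⟩

/-- the components of a coproduct are closed -/
theorem isClosed_range_ι (i : ι) : IsClosed (Set.range (Sigma.ι Y i)) := by
  have h : (Set.range (Sigma.ι Y i))ᶜ = ⋃ j : {j : ι // j ≠ i}, Set.range (Sigma.ι Y j.1) := by
    ext y
    simp only [Set.mem_compl_iff, Set.mem_iUnion]
    constructor
    · intro hy
      obtain ⟨j, hj⟩ := exists_mem_range_ι Y y
      refine ⟨⟨j, ?_⟩, hj⟩
      rintro rfl
      exact hy hj
    · rintro ⟨⟨j, hj⟩, hy⟩ hyi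
      have hd := disjoint_opensRange_sigmaι Y j i hj
      exact (Set.disjoint_left.mp (by
        simpa [disjoint_iff, Opens.ext_iff, Set.disjoint_iff_inter_eq_empty] using hd) hy) hyi
  rw [← isOpen_compl_iff, h]
  exact isOpen_iUnion fun j => (Sigma.ι Y j.1).isOpenEmbedding.isOpen_range

/-- a morphism from an irreducible scheme to a coproduct factors through a component -/
theorem exists_lift_ι {W : Scheme.{u}} [IrreducibleSpace W] (a : W ⟶ ∐ Y) :
    ∃ (i : ι) (a' : W ⟶ Y i), a' ≫ Sigma.ι Y i = a := by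
  obtain ⟨i, hi⟩ := exists_mem_range_ι Y (a (genericPoint W))
  have hr : Set.range a ⊆ Set.range (Sigma.ι Y i) := by
    rintro _ ⟨w, rfl⟩
    have h1 : genericPoint W ⤳ w := (genericPoint_spec W).specializes trivial
    have h2 : a (genericPoint W) ⤳ a w := h1.map a.continuous
    exact h2.mem_closed (isClosed_range_ι Y i) hi
  exact ⟨i, IsOpenImmersion.lift (Sigma.ι Y i) a hr, IsOpenImmersion.lift_fac _ _ _⟩


theorem existence_sigmaDesc (h : ∀ i, ValuativeCriterion.Existence (s i)) :
    ValuativeCriterion.Existence (Sigma.desc s) := by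
  intro S
  obtain ⟨i, a', ha'⟩ := exists_lift_ι Y S.i₁
  let S' : ValuativeCommSq (s i) :=
    { R := S.R
      K := S.K
      i₁ := a'
      i₂ := S.i₂
      commSq := ⟨by
        rw [← Sigma.ι_desc s i, ← Category.assoc, ha']
        exact S.commSq.w⟩ }
  obtain ⟨⟨ℓ, h1, h2⟩⟩ := (h i S').exists_lift
  refine ⟨⟨⟨ℓ ≫ Sigma.ι Y i, ?_, ?_⟩⟩⟩
  · have h1' : Spec.map (CommRingCat.ofHom (algebraMap S.R S.K)) ≫ ℓ = a' := h1
    rw [← Category.assoc, h1', ha']
  · rw [Category.assoc, Sigma.ι_desc]
    exact h2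

theorem uniqueness_sigmaDesc (h : ∀ i, ValuativeCriterion.Uniqueness (s i)) :
    ValuativeCriterion.Uniqueness (Sigma.desc s) := by
  intro S
  refine ⟨fun l₁ l₂ => ?_⟩
  obtain ⟨i, a', ha'⟩ := exists_lift_ι Y S.i₁
  have key : ∀ l : S.commSq.LiftStruct,
      ∃ l' : Spec (CommRingCat.of S.R) ⟶ Y i, l' ≫ Sigma.ι Y i = l.l := by
    intro l
    obtain ⟨j, l', hl'⟩ := exists_lift_ι Y l.l
    have hji : j = i := by
      have h1 := l.fac_left
      rw [← hl', ← ha'] at h1
      have h2 := congrArg (fun q => q (IsLocalRing.closedPoint S.K)) h1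
      simp only [Scheme.Hom.comp_apply] at h2
      exact congrArg Sigma.fst ((sigmaι_eq_iff Y _ _ _ _).mp h2)
    subst hji
    exact ⟨l', hl'⟩
  obtain ⟨l₁', hl₁⟩ := key l₁
  obtain ⟨l₂', hl₂⟩ := key l₂
  let S' : ValuativeCommSq (s i) :=
    { R := S.R
      K := S.K
      i₁ := a'
      i₂ := S.i₂
      commSq := ⟨by
        rw [← Sigma.ι_desc s i, ← Category.assoc, ha']
        exact S.commSq.w⟩ }
  have fl : ∀ (l : S.commSq.LiftStruct) (l' : Spec (CommRingCat.of S.R) ⟶ Y i),
      l' ≫ Sigma.ι Y i = l.l →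
      Spec.map (CommRingCat.ofHom (algebraMap S.R S.K)) ≫ l' = a' := fun l l' hl => by
    rw [← cancel_mono (Sigma.ι Y i), Category.assoc, hl, ha']
    exact l.fac_left
  have fr : ∀ (l : S.commSq.LiftStruct) (l' : Spec (CommRingCat.of S.R) ⟶ Y i),
      l' ≫ Sigma.ι Y i = l.l → l' ≫ s i = S.i₂ := fun l l' hl => by
    have := l.fac_right
    rw [← hl, Category.assoc, Sigma.ι_desc] at this
    exact this
  let L₁ : S'.commSq.LiftStruct := ⟨l₁', fl l₁ l₁' hl₁, fr l₁ l₁' hl₁⟩
  let L₂ : S'.commSq.LiftStruct := ⟨l₂', fl l₂ l₂' hl₂, fr l₂ l₂' hl₂⟩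
  have heq : L₁ = L₂ := (h i S').elim _ _
  have heq' : l₁' = l₂' := congrArg CommSq.LiftStruct.l heq
  apply CommSq.LiftStruct.ext
  rw [← hl₁, ← hl₂, heq']


theorem compactSpace_sigma [Finite ι] [∀ i, CompactSpace (Y i)] :
    CompactSpace (∐ Y : Scheme.{u}) := by
  refine ⟨?_⟩
  have h : (Set.univ : Set (∐ Y : Scheme.{u})) = ⋃ i, Set.range (Sigma.ι Y i) := by
    ext y
    simp only [Set.mem_univ, Set.mem_iUnion, true_iff]
    exact exists_mem_range_ι Y y
  rw [h]
  exact isCompact_iUnion fun i => isCompact_range (Sigma.ι Y i).continuous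

/-- a finite coproduct of proper schemes is proper (given quasi-compactness and
quasi-separatedness of the structure morphism) -/
theorem isProper_sigmaDesc [∀ i, IsProper (s i)] [QuasiCompact (Sigma.desc s)]
    [QuasiSeparated (Sigma.desc s)] : IsProper (Sigma.desc s) := by
  haveI : LocallyOfFiniteType (Sigma.desc s) :=
    IsZariskiLocalAtSource.sigmaDesc (fun i => inferInstance)
  apply IsProper.of_valuativeCriterion
  rw [ValuativeCriterion.iff]
  refine ⟨existence_sigmaDesc Y s fun i => ?_, uniqueness_sigmaDesc Y s fun i => ?_⟩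
  · have h : UniversallyClosed (s i) := inferInstance
    rw [UniversallyClosed.eq_valuativeCriterion] at h
    exact h.1
  · exact IsSeparated.valuativeCriterion (s i)

/-- a finite coproduct of schemes proper over a Noetherian affine base is proper -/
theorem isProper_sigmaDesc_Spec [Finite ι] (R : CommRingCat.{u}) [IsNoetherianRing R]
    (t : ∀ i, Y i ⟶ Spec R) [∀ i, IsProper (t i)] : IsProper (Sigma.desc t) := by
  haveI : LocallyOfFiniteType (Sigma.desc t) :=
    IsZariskiLocalAtSource.sigmaDesc (fun i => inferInstance)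
  haveI : IsLocallyNoetherian (∐ Y : Scheme.{u}) :=
    LocallyOfFiniteType.isLocallyNoetherian (Sigma.desc t)
  haveI : ∀ i, CompactSpace (Y i) := fun i =>
    QuasiCompact.compactSpace_of_compactSpace (t i)
  haveI : CompactSpace (∐ Y : Scheme.{u}) := compactSpace_sigma Y
  haveI : QuasiCompact (Sigma.desc t) := inferInstance
  haveI : QuasiSeparated (Sigma.desc t) := inferInstance
  exact isProper_sigmaDesc Y t

end Groth.Agent.Helper4.SigmaProper
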