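import Mathlib
import Groth.Prelude.Def_Pi1

/-!
# Local rings along an open immersion (helper4)
-/

set_option autoImplicit false
universe u
open AlgebraicGeometry CategoryTheory CategoryTheory.Limits

namespace Groth.Agent.Helper4.StalkOI

/-- the local rings of the source and target of an open immersion agree -/
noncomputable def stalkEquiv {U X : Scheme.{u}} (j : U ⟶ X) [IsOpenImmersion j] (y : U) :
    X.presheaf.stalk (j y) ≃+* U.presheaf.stalk y :=
  (asIso (j.stalkMap y)).commRingCatIsoToRingEquiv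

theorem ringKrullDim_stalk_eq {U X : Scheme.{u}} (j : U ⟶ X) [IsOpenImmersion j] (y : U) :
    ringKrullDim (X.presheaf.stalk (j y)) = ringKrullDim (U.presheaf.stalk y) :=
  ringKrullDim_eq_of_ringEquiv (stalkEquiv j y)

theorem normalAt_source {U X : Scheme.{u}} (j : U ⟶ X) [IsOpenImmersion j] (y : U)
    (h : IsDomain (X.presheaf.stalk (j y)) ∧ IsIntegrallyClosed (X.presheaf.stalk (j y))) :
    IsDomain (U.presheaf.stalk y) ∧ IsIntegrallyClosed (U.presheaf.stalk y) := by
  obtain ⟨h1, h2⟩ := h
  exact ⟨(stalkEquiv j y).symm.toMulEquiv.isDomain _, IsIntegrallyClosed.of_equiv (stalkEquiv j y)⟩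

theorem normalAt_target {U X : Scheme.{u}} (j : U ⟶ X) [IsOpenImmersion j] (y : U)
    (h : IsDomain (U.presheaf.stalk y) ∧ IsIntegrallyClosed (U.presheaf.stalk y)) :
    IsDomain (X.presheaf.stalk (j y)) ∧ IsIntegrallyClosed (X.presheaf.stalk (j y)) := by
  obtain ⟨h1, h2⟩ := h
  exact ⟨(stalkEquiv j y).toMulEquiv.isDomain _, IsIntegrallyClosed.of_equiv (stalkEquiv j y).symm⟩

theorem isNormalScheme_source {U X : Scheme.{u}} (j : U ⟶ X) [IsOpenImmersion j]
    (h : Pi1.IsNormalScheme X) : Pi1.IsNormalScheme U :=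
  fun y => normalAt_source j y (h (j y))

end Groth.Agent.Helper4.StalkOI
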