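import Groth.Agent.Lib.Helper4.CurveCompl
import Groth.Agent.Lib.Helper4.NormalDecomp
import Groth.Agent.Lib.Helper4.SigmaProper
import Groth.Agent.Lib.Helper4.StalkOI

/-!
# Completion of a normal curve (not necessarily connected) (helper4)
-/

set_option autoImplicit false
universe u
open AlgebraicGeometry CategoryTheory CategoryTheory.Limits TopologicalSpace
open scoped Function

namespace Groth.Agent.Helper4.CurveCompl

open Groth.Agent.Helper4.NormalDecomp Groth.Agent.Helper4.StalkOI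

set_option backward.isDefEq.respectTransparency false in
theorem exists_completion (k : Type u) [Field k] (X : Scheme.{u})
    [X.Over (Spec (CommRingCat.of k))] [LocallyOfFiniteType (X ↘ (Spec (CommRingCat.of k)))]
    [QuasiCompact (X ↘ (Spec (CommRingCat.of k)))] [IsSeparated (X ↘ (Spec (CommRingCat.of k)))]
    (hcurve : ∀ x : X, IsClosed ({x} : Set X) → ringKrullDim (X.presheaf.stalk x) = 1)
    (hnorm : Pi1.IsNormalScheme X) :
    ∃ (Xc : Scheme.{u}) (sc : Xc ⟶ Spec (CommRingCat.of k)) (j : X ⟶ Xc), IsOpenImmersion j ∧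
      Dense (Set.range j.base) ∧
      j ≫ sc = X ↘ (Spec (CommRingCat.of k)) ∧ IsProper sc ∧ Pi1.IsNormalScheme Xc ∧
      ∀ x : Xc, IsClosed ({x} : Set Xc) → ringKrullDim (Xc.presheaf.stalk x) = 1 := by
  haveI : IsLocallyNoetherian X :=
    LocallyOfFiniteType.isLocallyNoetherian (X ↘ (Spec (CommRingCat.of k)))
  haveI : CompactSpace X :=
    QuasiCompact.compactSpace_of_compactSpace (X ↘ (Spec (CommRingCat.of k)))
  haveI : IsNoetherian X := ⟨⟩
  have hdom : ∀ x : X, IsDomain (X.presheaf.stalk x) := fun x => (hnorm x).1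
  -- the components
  have hcomp : ∀ Z : irreducibleComponents X,
      ∃ (Xc : Scheme.{u}) (sc : Xc ⟶ Spec (CommRingCat.of k))
        (j : (comp X hdom Z : Scheme.{u}) ⟶ Xc), IsOpenImmersion j ∧
        IsIntegral Xc ∧ j ≫ sc = (comp X hdom Z).ι ≫ (X ↘ (Spec (CommRingCat.of k))) ∧
        IsProper sc ∧ Pi1.IsNormalScheme Xc ∧
        ∀ x : Xc, IsClosed ({x} : Set Xc) → ringKrullDim (Xc.presheaf.stalk x) = 1 := by
    intro Z
    letI : (comp X hdom Z : Scheme.{u}).Over (Spec (CommRingCat.of k)) :=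
      ⟨(comp X hdom Z).ι ≫ (X ↘ (Spec (CommRingCat.of k)))⟩
    haveI : LocallyOfFiniteType ((comp X hdom Z : Scheme.{u}) ↘ (Spec (CommRingCat.of k))) :=
      (inferInstance : LocallyOfFiniteType
        ((comp X hdom Z).ι ≫ (X ↘ (Spec (CommRingCat.of k)))))
    haveI : IsSeparated ((comp X hdom Z : Scheme.{u}) ↘ (Spec (CommRingCat.of k))) :=
      (inferInstance : IsSeparated
        ((comp X hdom Z).ι ≫ (X ↘ (Spec (CommRingCat.of k)))))
    haveI : NoetherianSpace ↥(comp X hdom Z : Scheme.{u}) :=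
      (inferInstance : NoetherianSpace ((comp X hdom Z : X.Opens) : Set X))
    haveI : QuasiCompact ((comp X hdom Z : Scheme.{u}) ↘ (Spec (CommRingCat.of k))) :=
      inferInstance
    haveI : IsIntegral (comp X hdom Z : Scheme.{u}) := isIntegral_comp X hdom Z
    have hclosed : IsClosed ((comp X hdom Z : X.Opens) : Set X) :=
      isClosed_of_mem_irreducibleComponents Z.1 Z.2
    refine exists_completion_integral k (comp X hdom Z : Scheme.{u}) ?_
      (isNormalScheme_source (comp X hdom Z).ι hnorm)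
    intro x hx
    rw [← ringKrullDim_stalk_eq (comp X hdom Z).ι x]
    apply hcurve
    have h1 : ({(comp X hdom Z).ι x} : Set X) = (comp X hdom Z).ι '' {x} := by
      rw [Set.image_singleton]
    rw [h1]
    have hce : Topology.IsClosedEmbedding (comp X hdom Z).ι := by
      refine ⟨(comp X hdom Z).ι.isOpenEmbedding.isEmbedding, ?_⟩
      rw [Scheme.Opens.range_ι]
      exact hclosed
    exact hce.isClosedMap _ hx
  choose Xc sc j hj1 hj2 hj3 hj4 hj5 hj6 using hcomp
  haveI : ∀ Z, IsOpenImmersion (j Z) := hj1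
  haveI : ∀ Z, IsProper (sc Z) := hj4
  -- `X` is the coproduct of its components
  have hcolim : IsColimit (Cofan.mk X (fun Z : irreducibleComponents X => (comp X hdom Z).ι)) := by
    refine (nonempty_isColimit_cofanMk_of (fun Z : irreducibleComponents X => (comp X hdom Z).ι)
      ?_ ?_).some
    · simp only [Scheme.Opens.opensRange_ι]
      exact iSup_comp X hdom
    · simp only [Scheme.Opens.opensRange_ι]
      exact disjoint_comp X hdom
  let J : X ⟶ ∐ Xc := Cofan.IsColimit.desc hcolim (fun Z => j Z ≫ Sigma.ι Xc Z)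
  have hJ : ∀ Z, (comp X hdom Z).ι ≫ J = j Z ≫ Sigma.ι Xc Z := fun Z =>
    Cofan.IsColimit.fac hcolim (fun Z => j Z ≫ Sigma.ι Xc Z) Z
  refine ⟨∐ Xc, Sigma.desc sc, J, ?_, ?_, ?_, ?_, ?_, ?_⟩
  · -- open immersion
    haveI hd : IsIso (Sigma.desc (fun Z : irreducibleComponents X => (comp X hdom Z).ι)) :=
      (Cofan.nonempty_isColimit_iff_isIso_sigmaDesc
        (Cofan.mk X (fun Z : irreducibleComponents X => (comp X hdom Z).ι))).mp ⟨hcolim⟩
    have hm : IsOpenImmersion (Sigma.desc (fun Z => j Z ≫ Sigma.ι Xc Z)) := by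
      apply isOpenImmersion_sigmaDesc
      intro Z₁ Z₂ hne
      rw [Function.onFun_apply, Set.disjoint_left]
      rintro _ ⟨a, rfl⟩ ⟨b, hb⟩
      simp only [Scheme.Hom.comp_apply] at hb
      exact hne (congrArg Sigma.fst ((sigmaι_eq_iff Xc _ _ _ _).mp hb)).symm
    have hfac : Sigma.desc (fun Z : irreducibleComponents X => (comp X hdom Z).ι) ≫ J =
        Sigma.desc (fun Z => j Z ≫ Sigma.ι Xc Z) := by
      refine Sigma.hom_ext _ _ fun Z => ?_
      rw [Sigma.ι_desc_assoc, Sigma.ι_desc, hJ]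
    have hJeq : J = inv (Sigma.desc (fun Z : irreducibleComponents X => (comp X hdom Z).ι)) ≫
        Sigma.desc (fun Z => j Z ≫ Sigma.ι Xc Z) := by
      rw [← hfac, IsIso.inv_hom_id_assoc]
    rw [hJeq]
    infer_instance
  · -- dense range
    rw [dense_iff_closure_eq, Set.eq_univ_iff_forall]
    intro y
    obtain ⟨Z, z, rfl⟩ := Groth.Agent.Helper4.SigmaProper.exists_mem_range_ι Xc y
    haveI := hj2 Z
    haveI : Nonempty ↥(comp X hdom Z : Scheme.{u}) := Z.2.1.nonempty.to_subtype
    have hdz : Dense (Set.range (j Z)) :=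
      (j Z).isOpenEmbedding.isOpen_range.dense (Set.range_nonempty _)
    have h1 : Sigma.ι Xc Z z ∈ closure (Sigma.ι Xc Z '' Set.range (j Z)) :=
      image_closure_subset_closure_image (Sigma.ι Xc Z).continuous ⟨z, hdz z, rfl⟩
    refine closure_mono ?_ h1
    rintro _ ⟨_, ⟨u, rfl⟩, rfl⟩
    refine ⟨(comp X hdom Z).ι u, ?_⟩
    rw [← Scheme.Hom.comp_apply, hJ, Scheme.Hom.comp_apply]
  · -- over k
    refine Cofan.IsColimit.hom_ext hcolim _ _ fun Z => ?_
    change (comp X hdom Z).ι ≫ J ≫ Sigma.desc sc = (comp X hdom Z).ι ≫ _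
    rw [← Category.assoc, hJ, Category.assoc, Sigma.ι_desc, hj3]
  · exact Groth.Agent.Helper4.SigmaProper.isProper_sigmaDesc_Spec Xc (CommRingCat.of k) sc
  · intro y
    obtain ⟨Z, z, rfl⟩ := Groth.Agent.Helper4.SigmaProper.exists_mem_range_ι Xc y
    exact normalAt_target (Sigma.ι Xc Z) z (hj5 Z z)
  · intro y hy
    obtain ⟨Z, z, rfl⟩ := Groth.Agent.Helper4.SigmaProper.exists_mem_range_ι Xc y
    rw [ringKrullDim_stalk_eq (Sigma.ι Xc Z) z]
    apply hj6 Z z
    have h1 : ({z} : Set (Xc Z)) = (Sigma.ι Xc Z) ⁻¹' {Sigma.ι Xc Z z} := by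
      ext w
      simp only [Set.mem_singleton_iff, Set.mem_preimage]
      exact ⟨fun h => by rw [h], fun h => (Sigma.ι Xc Z).isOpenEmbedding.injective h⟩
    rw [h1]
    exact hy.preimage (Sigma.ι Xc Z).continuous

end Groth.Agent.Helper4.CurveCompl
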