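import Groth.Agent.Lib.Helper4.CurveExt

/-!
# Extending a rational map at a point whose local ring is a valuation ring (helper4)
-/

set_option autoImplicit false
universe u
open AlgebraicGeometry CategoryTheory CategoryTheory.Limits

namespace Groth.Agent.Helper4.CurveExt3

open Groth.Agent.Helper4.CurveExt

set_option backward.isDefEq.respectTransparency false in
/-- local extension at a germ-injective point whose local ring is a valuation ring, `U` only
assumed to have `x` in its closure -/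
theorem exists_local_extension' {X Y S : Scheme.{u}} (pX : X ⟶ S)
    (pY : Y ⟶ S) [LocallyOfFiniteType pY] [IsSeparated pY] [UniversallyClosed pY]
    (U : X.Opens) (g : (U : Scheme.{u}) ⟶ Y)
    (hg : g ≫ pY = U.ι ≫ pX) (x : X) (hU : x ∈ closure (U : Set X))
    [X.IsGermInjectiveAt x] [IsDomain (X.presheaf.stalk x)]
    [ValuationRing (X.presheaf.stalk x)] :
    ∃ (V : X.Opens) (v : (V : Scheme.{u}) ⟶ Y), x ∈ V ∧ v ≫ pY = V.ι ≫ pX ∧
      ∀ {Q : Scheme.{u}} (a : Q ⟶ U) (b : Q ⟶ V), a ≫ U.ι = b ≫ V.ι → b ≫ v = a ≫ g := by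
  obtain ⟨W, hxW, hW, hinj⟩ := X.exists_germ_injective x
  haveI : IsAffine (W : Scheme.{u}) := hW
  haveI : Nonempty (W : Scheme.{u}) := ⟨⟨x, hxW⟩⟩
  haveI h1 : IsDomain Γ(X, W) := hinj.isDomain (X.presheaf.germ W x hxW).hom
  haveI h2 : IsDomain Γ((W : Scheme.{u}), ⊤) :=
    (W.topIso.commRingCatIsoToRingEquiv).injective.isDomain
      (W.topIso.commRingCatIsoToRingEquiv : Γ((W : Scheme.{u}), ⊤) →+* Γ(X, W))
  haveI : IsIntegral (W : Scheme.{u}) := isIntegral_of_isAffine_of_isDomain _
  let x' : (W : Scheme.{u}) := ⟨x, hxW⟩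
  haveI : PreValuationRing (X.presheaf.stalk (W.ι x')) :=
    inferInstanceAs (PreValuationRing (X.presheaf.stalk x))
  haveI : ValuationRing ((W : Scheme.{u}).presheaf.stalk x') :=
    Function.Surjective.valuationRing (W.ι.stalkMap x').hom
      (ConcreteCategory.bijective_of_isIso (W.ι.stalkMap x')).2
  let UW : (W : Scheme.{u}).Opens := W.ι ⁻¹ᵁ U
  have hUW : (UW : Set (W : Scheme.{u})).Nonempty := by
    obtain ⟨y, hyW, hyU⟩ := mem_closure_iff.mp hU W W.isOpen hxW
    exact ⟨⟨y, hyW⟩, hyU⟩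
  let gW : (UW : Scheme.{u}) ⟶ Y := (W.ι ∣_ U) ≫ g
  have hgW : gW ≫ pY = UW.ι ≫ W.ι ≫ pX := by
    simp only [gW, Category.assoc, hg]
    rw [morphismRestrict_ι_assoc]
  obtain ⟨V', v', hxV', hv1, hv2⟩ :=
    exists_extension_of_valuationRing (W.ι ≫ pX) pY UW hUW gW hgW x'
  let e := W.ι.isoImage V'
  refine ⟨W.ι ''ᵁ V', e.inv ≫ v', ⟨x', hxV', rfl⟩, ?_, ?_⟩
  · rw [Category.assoc, hv1]
    exact W.ι.isoImage_inv_ι_assoc V' pX
  · intro Q a b hab
    let b' : Q ⟶ (V' : Scheme.{u}) := b ≫ e.inv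
    have hb' : b' ≫ V'.ι ≫ W.ι = b ≫ (W.ι ''ᵁ V').ι := by
      simp only [b', Category.assoc]
      rw [W.ι.isoImage_inv_ι V']
    let a' : Q ⟶ (UW : Scheme.{u}) := (isPullback_morphismRestrict W.ι U).lift a (b' ≫ V'.ι)
      (by rw [Category.assoc, hb', hab])
    have ha'1 : a' ≫ (W.ι ∣_ U) = a := IsPullback.lift_fst _ _ _ _
    have ha'2 : a' ≫ UW.ι = b' ≫ V'.ι := IsPullback.lift_snd _ _ _ _
    have := agree_of_homOfLE hv2 a' b' ha'2
    rw [← Category.assoc, ← ha'1, Category.assoc]
    exact this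

/-- Glue a morphism on `U` with a compatible morphism on `V`. -/
theorem exists_glue {X Y S : Scheme.{u}} (pX : X ⟶ S) (pY : Y ⟶ S)
    (U V : X.Opens) (g : (U : Scheme.{u}) ⟶ Y) (hg : g ≫ pY = U.ι ≫ pX)
    (v : (V : Scheme.{u}) ⟶ Y) (hv : v ≫ pY = V.ι ≫ pX)
    (hagree : ∀ {Q : Scheme.{u}} (a : Q ⟶ U) (b : Q ⟶ V), a ≫ U.ι = b ≫ V.ι → b ≫ v = a ≫ g) :
    ∃ (U' : X.Opens) (hUU' : U ≤ U'), V ≤ U' ∧
      ∃ f' : (U' : Scheme.{u}) ⟶ Y, f' ≫ pY = U'.ι ≫ pX ∧ X.homOfLE hUU' ≫ f' = g := by
  let F : Bool → X.Opens := fun b => bif b then U else V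
  let 𝒰 := Scheme.Opens.iSupOpenCover F
  let m : ∀ b : Bool, 𝒰.X b ⟶ Y := fun b => match b with
    | true => g
    | false => v
  have hm : ∀ b, m b ≫ pY = (F b).ι ≫ pX := by
    intro b; cases b
    · exact hv
    · exact hg
  have hι : ∀ b, 𝒰.f b ≫ (⨆ i, F i).ι = (F b).ι := fun b => X.homOfLE_ι (le_iSup F b)
  have compat : ∀ b c : Bool, pullback.fst (𝒰.f b) (𝒰.f c) ≫ m b = pullback.snd _ _ ≫ m c := by
    intro b c
    have hcond : pullback.fst (𝒰.f b) (𝒰.f c) ≫ (F b).ι = pullback.snd (𝒰.f b) (𝒰.f c) ≫ (F c).ι := by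
      rw [← hι b, ← hι c, pullback.condition_assoc]
    cases b <;> cases c
    · have : pullback.fst (𝒰.f false) (𝒰.f false) = pullback.snd (𝒰.f false) (𝒰.f false) :=
        (cancel_mono (F false).ι).mp hcond
      rw [this]
    · exact hagree (pullback.snd (𝒰.f false) (𝒰.f true)) (pullback.fst (𝒰.f false) (𝒰.f true))
        hcond.symm
    · exact (hagree (pullback.fst (𝒰.f true) (𝒰.f false)) (pullback.snd (𝒰.f true) (𝒰.f false))
        hcond).symm
    · have : pullback.fst (𝒰.f true) (𝒰.f true) = pullback.snd (𝒰.f true) (𝒰.f true) :=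
        (cancel_mono (F true).ι).mp hcond
      rw [this]
  refine ⟨⨆ i, F i, le_iSup F true, le_iSup F false, 𝒰.glueMorphisms m compat, ?_, ?_⟩
  · refine Scheme.Cover.hom_ext 𝒰 _ _ fun b => ?_
    rw [𝒰.ι_glueMorphisms_assoc m compat b, hm b, ← hι b]
    exact Category.assoc _ _ _
  · exact 𝒰.ι_glueMorphisms m compat true

/-- If the stalk at `x` is a domain, then every generic point of an irreducible component through
`x` equals the image of the generic point of the spectrum of the stalk. -/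
theorem eq_of_specializes_of_isDomain {X : Scheme.{u}} (x : X) [IsDomain (X.presheaf.stalk x)]
    {η η' : X} (hη : closure {η} ∈ irreducibleComponents X) (hη' : closure {η'} ∈ irreducibleComponents X)
    (h : η ⤳ x) (h' : η' ⤳ x) : η = η' := by
  let ξ₀ : Spec (X.presheaf.stalk x) := genericPoint (Spec (X.presheaf.stalk x))
  let ξ : X := X.fromSpecStalk x ξ₀
  have key : ∀ {ζ : X}, closure {ζ} ∈ irreducibleComponents X → ζ ⤳ x → ζ = ξ := by
    intro ζ hζ hζx
    have h1 : ζ ∈ Set.range (X.fromSpecStalk x) := by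
      rw [Scheme.range_fromSpecStalk]; exact hζx
    obtain ⟨z, rfl⟩ := h1
    have h2 : ξ₀ ⤳ z := (genericPoint_spec _).specializes trivial
    have h3 : ξ ⤳ X.fromSpecStalk x z := h2.map (X.fromSpecStalk x).continuous
    have h4 : closure {ξ} ⊆ closure {X.fromSpecStalk x z} :=
      hζ.2 isIrreducible_singleton.closure (specializes_iff_closure_subset.mp h3)
    exact ((specializes_iff_closure_subset.mpr h4).antisymm h3).eq
  rw [key hη h, key hη' h']

set_option backward.isDefEq.respectTransparency false in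
/-- A reduced scheme with finitely many irreducible components is germ-injective at every point
whose stalk is a domain. -/
theorem isGermInjectiveAt_of_finite {X : Scheme.{u}} [IsReduced X]
    (hfin : (irreducibleComponents X).Finite) (x : X) [IsDomain (X.presheaf.stalk x)] :
    X.IsGermInjectiveAt x := by
  classical
  -- the component through x
  let Z₀ : Set X := irreducibleComponent x
  have hZ₀ : Z₀ ∈ irreducibleComponents X := irreducibleComponent_mem_irreducibleComponents x
  -- the other components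
  let Bad : Set (Set X) := {Z | Z ∈ irreducibleComponents X ∧ x ∉ Z}
  have hBadfin : Bad.Finite := hfin.subset fun Z hZ => hZ.1
  have hBadclosed : IsClosed (⋃₀ Bad) := by
    rw [Set.sUnion_eq_biUnion]
    exact Set.Finite.isClosed_biUnion hBadfin
      fun Z hZ => isClosed_of_mem_irreducibleComponents Z hZ.1
  let W : X.Opens := ⟨(⋃₀ Bad)ᶜ, hBadclosed.isOpen_compl⟩
  have hxW : x ∈ W := by
    rintro ⟨Z, hZ, hxZ⟩
    exact hZ.2 hxZ
  -- any component through x equals Z₀
  have huniq : ∀ Z ∈ irreducibleComponents X, x ∈ Z → Z = Z₀ := by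
    intro Z hZ hxZ
    obtain ⟨η, hη⟩ := QuasiSober.sober hZ.1 (isClosed_of_mem_irreducibleComponents Z hZ)
    obtain ⟨η', hη'⟩ := QuasiSober.sober hZ₀.1 (isClosed_of_mem_irreducibleComponents Z₀ hZ₀)
    have e1 : closure {η} ∈ irreducibleComponents X := by rw [hη.def]; exact hZ
    have e2 : closure {η'} ∈ irreducibleComponents X := by rw [hη'.def]; exact hZ₀
    have s1 : η ⤳ x := by rw [specializes_iff_mem_closure, hη.def]; exact hxZ
    have s2 : η' ⤳ x := by
      rw [specializes_iff_mem_closure, hη'.def]; exact mem_irreducibleComponent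
    have := eq_of_specializes_of_isDomain x e1 e2 s1 s2
    rw [← hη.def, ← hη'.def, this]
  have hWZ₀ : (W : Set X) ⊆ Z₀ := by
    intro y hy
    have hy' : irreducibleComponent y ∈ irreducibleComponents X :=
      irreducibleComponent_mem_irreducibleComponents y
    by_cases hxy : x ∈ irreducibleComponent y
    · rw [← huniq _ hy' hxy]; exact mem_irreducibleComponent
    · exact absurd ⟨irreducibleComponent y, ⟨hy', hxy⟩, mem_irreducibleComponent⟩ hy
  have hWirr : IsIrreducible (W : Set X) :=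
    ⟨⟨x, hxW⟩, hZ₀.1.isPreirreducible.open_subset W.isOpen hWZ₀⟩
  haveI : IrreducibleSpace (W : Scheme.{u}) := Subtype.irreducibleSpace hWirr
  haveI : IsReduced (W : Scheme.{u}) := isReduced_of_isOpenImmersion W.ι
  haveI : IsIntegral (W : Scheme.{u}) := isIntegral_of_irreducibleSpace_of_isReduced _
  have : X.IsGermInjectiveAt (W.ι ⟨x, hxW⟩) := inferInstance
  exact this

end Groth.Agent.Helper4.CurveExt3
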