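import Mathlib

/-!
# Topology of irreducible algebraic curves (helper4)
-/

set_option autoImplicit false
universe u
open AlgebraicGeometry CategoryTheory CategoryTheory.Limits TopologicalSpace

namespace Groth.Agent.Helper4.CurveTop

variable (X : Scheme.{u}) [IrreducibleSpace X]

/-- on a quasi-compact irreducible scheme whose local rings at closed points have dimension one,
every non-closed point is the generic point -/
theorem eq_genericPoint_of_not_isClosed [CompactSpace X]
    (hX : ∀ x : X, IsClosed ({x} : Set X) → ringKrullDim (X.presheaf.stalk x) = 1)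
    (x : X) (hx : ¬ IsClosed ({x} : Set X)) : x = genericPoint X := by
  by_contra hne
  apply hx
  obtain ⟨x₀, hx₀, hcl⟩ := (isClosed_closure (s := ({x} : Set X))).exists_closed_singleton
    ⟨x, subset_closure rfl⟩
  have hsp : x ⤳ x₀ := specializes_iff_mem_closure.mpr hx₀
  suffices x = x₀ by rw [this]; exact hcl
  obtain ⟨p, hp⟩ : x ∈ Set.range (X.fromSpecStalk x₀) := by
    rw [Scheme.range_fromSpecStalk]; exact hsp
  obtain ⟨q, hq⟩ : genericPoint X ∈ Set.range (X.fromSpecStalk x₀) := by
    rw [Scheme.range_fromSpecStalk]; exact (genericPoint_spec X).specializes trivial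
  haveI : Ring.KrullDimLE 1 (X.presheaf.stalk x₀) := Ring.krullDimLE_iff.mpr (hX x₀ hcl).le
  have hqp : q ⤳ p := by
    rw [← (X.fromSpecStalk x₀).isEmbedding.isInducing.specializes_iff, hq, hp]
    exact (genericPoint_spec X).specializes trivial
  have hle : q.asIdeal ≤ p.asIdeal := (PrimeSpectrum.le_iff_specializes q p).mpr hqp
  rcases Ring.krullDimLE_one_iff.mp ‹_› p.asIdeal p.isPrime with hmin | hmax
  · exfalso
    apply hne
    have hpq : p = q :=
      PrimeSpectrum.ext (le_antisymm (hmin.2 ⟨q.isPrime, bot_le⟩ hle) hle)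
    rw [← hp, hpq, hq]
  · have hpc : p = IsLocalRing.closedPoint _ :=
      PrimeSpectrum.ext (IsLocalRing.eq_maximalIdeal hmax)
    rw [← hp, hpc, Scheme.fromSpecStalk_closedPoint]

/-- the generic point of an irreducible curve is not closed -/
theorem not_isClosed_genericPoint
    (hX : ∀ x : X, IsClosed ({x} : Set X) → ringKrullDim (X.presheaf.stalk x) = 1) :
    ¬ IsClosed ({genericPoint X} : Set X) := by
  intro hcl
  have hdim := hX _ hcl
  have h : ∀ p, X.fromSpecStalk (genericPoint X) p = genericPoint X := fun p => by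
    have h1 : X.fromSpecStalk (genericPoint X) p ⤳ genericPoint X := by
      have := Set.mem_range_self (f := X.fromSpecStalk (genericPoint X)) p
      rwa [Scheme.range_fromSpecStalk] at this
    exact (h1.antisymm ((genericPoint_spec X).specializes trivial)).eq
  haveI hsub : Subsingleton (PrimeSpectrum (X.presheaf.stalk (genericPoint X))) := by
    refine ⟨fun p q => ?_⟩
    apply (X.fromSpecStalk (genericPoint X)).isEmbedding.injective
    exact (h p).trans (h q).symm
  have h0 : ringKrullDim (X.presheaf.stalk (genericPoint X)) ≤ 0 :=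
    Order.krullDim_nonpos_of_subsingleton
  rw [hdim] at h0
  exact absurd h0 (by norm_num)

/-- a proper closed subset of an irreducible curve is a finite set of closed points -/
theorem finite_of_isClosed_of_ne_univ [CompactSpace X] [NoetherianSpace X]
    (hX : ∀ x : X, IsClosed ({x} : Set X) → ringKrullDim (X.presheaf.stalk x) = 1)
    (F : Set X) (hF : IsClosed F) (hne : F ≠ Set.univ) :
    F.Finite ∧ ∀ x ∈ F, IsClosed ({x} : Set X) := by
  have hξ : genericPoint X ∉ F := by
    intro h
    apply hne
    rw [Set.eq_univ_iff_forall]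
    intro y
    have h2 : genericPoint X ⤳ y := (genericPoint_spec X).specializes trivial
    exact hF.closure_subset_iff.mpr (Set.singleton_subset_iff.mpr h)
      (specializes_iff_mem_closure.mp h2)
  have hcl : ∀ x ∈ F, IsClosed ({x} : Set X) := by
    intro x hx
    by_contra h
    exact hξ (eq_genericPoint_of_not_isClosed X hX x h ▸ hx)
  refine ⟨?_, hcl⟩
  obtain ⟨S, hSfin, hSc, hSi, hS⟩ := NoetherianSpace.exists_finite_set_isClosed_irreducible hF
  rw [hS]
  refine Set.Finite.sUnion hSfin fun t ht => ?_
  obtain ⟨z, hz⟩ := QuasiSober.sober (hSi t ht) (hSc t ht)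
  have hzt : z ∈ t := hz.mem
  have hzF : z ∈ F := by rw [hS]; exact ⟨t, ht, hzt⟩
  have : t = {z} := by
    rw [← hz.def, (hcl z hzF).closure_eq]
  rw [this]
  exact Set.finite_singleton z

end Groth.Agent.Helper4.CurveTop
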