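import Mathlib
import Groth.Prelude.Def_ega3

/-!
# Fibre dimension of finite modules and the function `dRank`

Helper library (helper4).
-/

set_option autoImplicit false

universe u

open CategoryTheory TensorProduct CategoryTheory.Limits

namespace Groth.Agent.Helper4.DRank

section LinAlg

variable {k : Type u} [Field k]

/-- The basic dimension count for a short complex of finite dimensional vector spaces. -/
theorem finrank_homology_add (S : ShortComplex (ModuleCat.{u} k))
    [Module.Finite k S.X₂] [Module.Finite k S.X₃] :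
    Module.finrank k S.homology + Module.finrank k S.X₃ =
      Module.finrank k (S.X₂ ⧸ LinearMap.range S.f.hom) +
        Module.finrank k (S.X₃ ⧸ LinearMap.range S.g.hom) := by
  have e : Module.finrank k S.homology = Module.finrank k
      (LinearMap.ker S.g.hom ⧸ LinearMap.range S.moduleCatToCycles) :=
    S.moduleCatHomologyIso.toLinearEquiv.finrank_eq
  have h1 := Submodule.finrank_quotient_add_finrank (LinearMap.range S.moduleCatToCycles)
  have h2 : Module.finrank k (LinearMap.range S.moduleCatToCycles) =
      Module.finrank k (LinearMap.range S.f.hom) := by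
    have hmap : (LinearMap.range S.moduleCatToCycles).map (LinearMap.ker S.g.hom).subtype =
        LinearMap.range S.f.hom := by
      rw [← LinearMap.range_comp]
      rfl
    rw [← hmap]
    exact (Submodule.equivMapOfInjective _ (LinearMap.ker S.g.hom).injective_subtype _).finrank_eq
  have h3 := LinearMap.finrank_range_add_finrank_ker S.g.hom
  have h4 := Submodule.finrank_quotient_add_finrank (LinearMap.range S.f.hom)
  have h5 := Submodule.finrank_quotient_add_finrank (LinearMap.range S.g.hom)
  omega

end LinAlg


section ExtendScalars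

variable {A : Type u} [CommRing A] {k : Type u} [CommRing k] [Algebra A k]

set_option backward.isDefEq.respectTransparency false in
/-- the identity of `k`, as an `A`-linear equivalence from `k` with the `compHom` module structure. -/
noncomputable def e₀ : ((ModuleCat.restrictScalars (algebraMap A k)).obj (ModuleCat.of k k)) ≃ₗ[A] k where
  toFun x := x
  invFun x := x
  map_add' _ _ := rfl
  map_smul' a x := by
    let x' : k := x
    change algebraMap A k a • x' = a • x'
    rw [smul_eq_mul, Algebra.smul_def]
  left_inv _ := rfl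
  right_inv _ := rfl

set_option backward.isDefEq.respectTransparency false in
noncomputable def extendScalarsEquiv (M : ModuleCat.{u} A) :
    ((ModuleCat.extendScalars (algebraMap A k)).obj M) ≃ₗ[k] k ⊗[A] M where
  toFun := TensorProduct.congr (e₀ (A := A) (k := k)) (LinearEquiv.refl A M)
  invFun := (TensorProduct.congr (e₀ (A := A) (k := k)) (LinearEquiv.refl A M)).symm
  map_add' x y := map_add _ x y
  map_smul' s x := by
    induction x using TensorProduct.induction_on with
    | zero => 
      rw [smul_zero, map_zero, smul_zero]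
    | tmul a m =>
      let a' : k := a
      change (TensorProduct.congr (e₀ (A := A) (k := k)) (LinearEquiv.refl A M)) ((e₀ (A := A) (k := k)).symm (s * a') ⊗ₜ m) = s • (TensorProduct.congr (e₀ (A := A) (k := k)) (LinearEquiv.refl A M)) ((e₀ (A := A) (k := k)).symm a' ⊗ₜ m)
      rw [TensorProduct.congr_tmul, TensorProduct.congr_tmul, LinearEquiv.apply_symm_apply, LinearEquiv.apply_symm_apply, TensorProduct.smul_tmul', smul_eq_mul]
    | add x y hx hy =>
      have : s • (x + y) = s • x + s • y := smul_add s x y
      rw [this, map_add, hx, hy, map_add, smul_add]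
  left_inv x := (TensorProduct.congr (e₀ (A := A) (k := k)) (LinearEquiv.refl A M)).symm_apply_apply x
  right_inv x := (TensorProduct.congr (e₀ (A := A) (k := k)) (LinearEquiv.refl A M)).apply_symm_apply x

variable (k) in
/-- Right exactness of extension of scalars, in the form of a linear equivalence of cokernels. -/
noncomputable def cokerEquiv {M N : ModuleCat.{u} A} (g : M ⟶ N) :
    (((ModuleCat.extendScalars (algebraMap A k)).obj N) ⧸
      LinearMap.range ((ModuleCat.extendScalars (algebraMap A k)).map g).hom) ≃ₗ[k]
      k ⊗[A] (N ⧸ LinearMap.range g.hom) :=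
  ((ModuleCat.cokernelIsoRangeQuotient ((ModuleCat.extendScalars (algebraMap A k)).map g)).symm ≪≫
    (PreservesCokernel.iso (ModuleCat.extendScalars (algebraMap A k)) g).symm ≪≫
    (ModuleCat.extendScalars (algebraMap A k)).mapIso (ModuleCat.cokernelIsoRangeQuotient g)).toLinearEquiv ≪≫ₗ
    extendScalarsEquiv (ModuleCat.of A (N ⧸ LinearMap.range g.hom))


end ExtendScalars

section FibDim

variable {A : Type u} [CommRing A]

/-- if the images of `c i` span the fibre at `y` of `C ⧸ span (c i)`... -/
theorem span_tmul_eq_top_of_subsingleton {C : Type u} [AddCommGroup C] [Module A C]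
    (K : Type u) [Field K] [Algebra A K] {ι : Type*} (c : ι → C)
    (h : Subsingleton (K ⊗[A] (C ⧸ Submodule.span A (Set.range c)))) :
    Submodule.span K (Set.range fun i => (1 : K) ⊗ₜ[A] c i) = ⊤ := by
  set S := Submodule.span A (Set.range c)
  have hex := lTensor_exact K (LinearMap.exact_subtype_mkQ S) (Submodule.mkQ_surjective S)
  have h1 : S.baseChange K = ⊤ := by
    rw [eq_top_iff]
    intro v _
    have hv : (S.mkQ.lTensor K) v = 0 := Subsingleton.elim _ _
    obtain ⟨w, hw⟩ := (hex v).mp hv
    exact ⟨w, hw⟩
  rw [← h1, Submodule.baseChange_span, ← Set.range_comp]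
  rfl

theorem exists_nhd_fibDim_le (C : Type u) [AddCommGroup C] [Module A C] [Module.Finite A C]
    (x : PrimeSpectrum A) :
    ∃ U : Set (PrimeSpectrum A), IsOpen U ∧ x ∈ U ∧ ∀ y ∈ U,
      Module.finrank y.asIdeal.ResidueField (y.asIdeal.ResidueField ⊗[A] C) ≤
        Module.finrank x.asIdeal.ResidueField (x.asIdeal.ResidueField ⊗[A] C) := by
  set κ := x.asIdeal.ResidueField
  set s : Set (κ ⊗[A] C) := Set.range (TensorProduct.mk A κ C 1) with hs_def
  have hs : Submodule.span κ s = ⊤ := by
    rw [hs_def, ← Set.image_univ, ← Submodule.baseChange_span, Submodule.span_univ,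
      Submodule.baseChange_top]
  obtain ⟨f, hfs, hfspan, -⟩ := Submodule.exists_fun_fin_finrank_span_eq κ s
  replace hfspan : Submodule.span κ (Set.range f) = ⊤ := hfspan.trans hs
  have hn : Module.finrank κ (Submodule.span κ s) = Module.finrank κ (κ ⊗[A] C) := by
    rw [hs, finrank_top]
  choose c hc using hfs
  have hc' : ∀ i, (1 : κ) ⊗ₜ[A] c i = f i := hc
  set S := Submodule.span A (Set.range c) with hS
  -- the fibre of `C ⧸ S` at `x` vanishes
  have hsub : Subsingleton (κ ⊗[A] (C ⧸ S)) := by
    have hsurj : Function.Surjective (S.mkQ.baseChange κ) :=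
      LinearMap.lTensor_surjective κ (Submodule.mkQ_surjective S)
    have hker : LinearMap.ker (S.mkQ.baseChange κ) = ⊤ := by
      rw [eq_top_iff, ← hfspan, Submodule.span_le]
      rintro _ ⟨i, rfl⟩
      rw [SetLike.mem_coe, LinearMap.mem_ker, ← hc', LinearMap.baseChange_tmul]
      have : S.mkQ (c i) = 0 := (Submodule.Quotient.mk_eq_zero S).mpr (Submodule.subset_span ⟨i, rfl⟩)
      rw [this, tmul_zero]
    refine ⟨fun a b => ?_⟩
    obtain ⟨a', rfl⟩ := hsurj a
    obtain ⟨b', rfl⟩ := hsurj b
    have ha : a' ∈ LinearMap.ker (S.mkQ.baseChange κ) := hker ▸ Submodule.mem_top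
    have hb : b' ∈ LinearMap.ker (S.mkQ.baseChange κ) := hker ▸ Submodule.mem_top
    rw [LinearMap.mem_ker.mp ha, LinearMap.mem_ker.mp hb]
  refine ⟨(Module.support A (C ⧸ S))ᶜ, ?_, ?_, ?_⟩
  · rw [isOpen_compl_iff, Module.support_eq_zeroLocus]
    exact PrimeSpectrum.isClosed_zeroLocus _
  · rw [Set.mem_compl_iff, Module.mem_support_iff_nontrivial_residueField_tensorProduct,
      not_nontrivial_iff_subsingleton]
    exact hsub
  · intro y hy
    rw [Set.mem_compl_iff, Module.mem_support_iff_nontrivial_residueField_tensorProduct,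
      not_nontrivial_iff_subsingleton] at hy
    have := span_tmul_eq_top_of_subsingleton y.asIdeal.ResidueField c hy
    have h2 := finrank_le_of_span_eq_top this
    rw [Fintype.card_fin, hn] at h2
    exact h2


end FibDim

section DRank

variable {A : Type u} [CommRing A] {ι : Type} {c : ComplexShape ι}

theorem dRank_add (P : HomologicalComplex (ModuleCat.{u} A) c) (hfin : ∀ i, Module.Finite A (P.X i))
    (p : ι) (x : PrimeSpectrum A) :
    CohIII.dRank P p x +
        Module.finrank x.asIdeal.ResidueField (x.asIdeal.ResidueField ⊗[A] P.X (c.next p)) =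
      Module.finrank x.asIdeal.ResidueField (x.asIdeal.ResidueField ⊗[A]
          (P.X p ⧸ LinearMap.range (P.d (c.prev p) p).hom)) +
        Module.finrank x.asIdeal.ResidueField (x.asIdeal.ResidueField ⊗[A]
          (P.X (c.next p) ⧸ LinearMap.range (P.d p (c.next p)).hom)) := by
  set κ := x.asIdeal.ResidueField
  set Q := CohIII.bcCx (algebraMap A κ) P with hQ
  have hX : ∀ i, Module.Finite A (P.X i) := hfin
  have : Module.Finite κ (Q.sc p).X₂ :=
    Module.Finite.equiv (extendScalarsEquiv (k := κ) (P.X p)).symm
  have : Module.Finite κ (Q.sc p).X₃ :=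
    Module.Finite.equiv (extendScalarsEquiv (k := κ) (P.X (c.next p))).symm
  have key := finrank_homology_add (Q.sc p)
  have e1 : Module.finrank κ (Q.sc p).X₃ = Module.finrank κ (κ ⊗[A] P.X (c.next p)) :=
    (extendScalarsEquiv (k := κ) (P.X (c.next p))).finrank_eq
  have e2 : Module.finrank κ ((Q.sc p).X₂ ⧸ LinearMap.range (Q.sc p).f.hom) = _ :=
    (cokerEquiv κ (P.d (c.prev p) p)).finrank_eq
  have e3 : Module.finrank κ ((Q.sc p).X₃ ⧸ LinearMap.range (Q.sc p).g.hom) = _ :=
    (cokerEquiv κ (P.d p (c.next p))).finrank_eq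
  rw [e1, e2, e3] at key
  exact key

/-- `dRank` does not increase near a point, for complexes of finite flat modules over a Noetherian ring. -/
theorem exists_nhd_dRank_le [IsNoetherianRing A] (P : HomologicalComplex (ModuleCat.{u} A) c)
    (hP : ∀ i, Module.Finite A (P.X i) ∧ Module.Flat A (P.X i)) (p : ι) (x : PrimeSpectrum A) :
    ∃ U : Set (PrimeSpectrum A), IsOpen U ∧ x ∈ U ∧ ∀ y ∈ U, CohIII.dRank P p y ≤ CohIII.dRank P p x := by
  have hfin : ∀ i, Module.Finite A (P.X i) := fun i => (hP i).1
  have hflat : ∀ i, Module.Flat A (P.X i) := fun i => (hP i).2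
  obtain ⟨U1, hU1, hx1, h1⟩ :=
    exists_nhd_fibDim_le (P.X p ⧸ LinearMap.range (P.d (c.prev p) p).hom) x
  obtain ⟨U2, hU2, hx2, h2⟩ :=
    exists_nhd_fibDim_le (P.X (c.next p) ⧸ LinearMap.range (P.d p (c.next p)).hom) x
  have : Module.FinitePresentation A (P.X (c.next p)) := Module.finitePresentation_of_finite A _
  have hlc : IsLocallyConstant (Module.rankAtStalk (R := A) (P.X (c.next p))) :=
    Module.isLocallyConstant_rankAtStalk
  refine ⟨U1 ∩ U2 ∩ {y | Module.rankAtStalk (P.X (c.next p)) y = Module.rankAtStalk (P.X (c.next p)) x},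
    (hU1.inter hU2).inter (hlc.isOpen_fiber _), ⟨⟨hx1, hx2⟩, rfl⟩, ?_⟩
  rintro y ⟨⟨hy1, hy2⟩, hy3⟩
  have ky := dRank_add P hfin p y
  have kx := dRank_add P hfin p x
  have ry := Module.rankAtStalk_eq (M := P.X (c.next p)) y
  have rx := Module.rankAtStalk_eq (M := P.X (c.next p)) x
  change _ = Module.finrank _ (y.asIdeal.ResidueField ⊗[A] P.X (c.next p)) at ry
  change _ = Module.finrank _ (x.asIdeal.ResidueField ⊗[A] P.X (c.next p)) at rx
  have hy3' : Module.rankAtStalk (P.X (c.next p)) y = Module.rankAtStalk (P.X (c.next p)) x := hy3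
  have := h1 y hy1
  have := h2 y hy2
  omega


theorem upperSemicontinuous_dRank [IsNoetherianRing A] (P : HomologicalComplex (ModuleCat.{u} A) c)
    (hP : ∀ i, Module.Finite A (P.X i) ∧ Module.Flat A (P.X i)) (p : ι) :
    UpperSemicontinuous (CohIII.dRank P p) := by
  intro x n hn
  obtain ⟨U, hU, hxU, h⟩ := exists_nhd_dRank_le P hP p x
  filter_upwards [hU.mem_nhds hxU] with y hy
  exact lt_of_le_of_lt (h y hy) hn

end DRank

section BaseChange


instance extendScalars_additive {R S : Type u} [CommRing R] [CommRing S] (f : R →+* S) :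
    (ModuleCat.extendScalars.{u, u, u} f).Additive :=
  (ModuleCat.extendRestrictScalarsAdj f).left_adjoint_additive

section Field
variable {k : Type u} [Field k]

/-- every functor from vector spaces preserves monomorphisms -/
theorem preservesMonomorphisms_of_field {D : Type*} [Category D] (F : ModuleCat.{u} k ⥤ D) :
    F.PreservesMonomorphisms where
  preserves {X Y} f hf := by
    obtain ⟨g, hg⟩ := LinearMap.exists_leftInverse_of_injective f.hom
      (LinearMap.ker_eq_bot.2 ((ModuleCat.mono_iff_injective f).1 hf))
    have : IsSplitMono f := ⟨⟨⟨ModuleCat.ofHom g, by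
      ext x
      exact LinearMap.congr_fun hg x⟩⟩⟩
    infer_instance

theorem preservesHomology_extendScalars_of_field {k' : Type u} [CommRing k'] (ψ : k →+* k') :
    (ModuleCat.extendScalars.{u, u, u} ψ).PreservesHomology := by
  have := preservesMonomorphisms_of_field (ModuleCat.extendScalars.{u, u, u} ψ)
  exact Functor.preservesHomology_of_preservesMonos_and_cokernels _

/-- homology of a complex of vector spaces commutes with extension of the base field -/
theorem finrank_homology_bcCx {k' : Type u} [Field k'] (ψ : k →+* k') {ι : Type} {c : ComplexShape ι}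
    (Q : HomologicalComplex (ModuleCat.{u} k) c) (p : ι) :
    Module.finrank k' ((CohIII.bcCx ψ Q).homology p) = Module.finrank k (Q.homology p) := by
  have := preservesHomology_extendScalars_of_field ψ
  have e : (CohIII.bcCx ψ Q).homology p ≅ (ModuleCat.extendScalars ψ).obj (Q.homology p) :=
    (Q.sc p).mapHomologyIso (ModuleCat.extendScalars ψ)
  let _ : Algebra k k' := ψ.toAlgebra
  have e2 := extendScalarsEquiv (A := k) (k := k') (Q.homology p)
  rw [e.toLinearEquiv.finrank_eq]
  have h3 : Module.finrank k' ((ModuleCat.extendScalars ψ).obj (Q.homology p)) =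
      Module.finrank k' (k' ⊗[k] (Q.homology p)) := e2.finrank_eq
  rw [h3, Module.finrank_baseChange]

end Field

theorem dRank_bcCx {A A' : Type u} [CommRing A] [CommRing A'] [Algebra A A'] {ι : Type}
    {c : ComplexShape ι} (P : HomologicalComplex (ModuleCat.{u} A) c) (p : ι)
    (x' : PrimeSpectrum A') :
    CohIII.dRank (CohIII.bcCx (algebraMap A A') P) p x' =
      CohIII.dRank P p (PrimeSpectrum.comap (algebraMap A A') x') := by
  set x := PrimeSpectrum.comap (algebraMap A A') x' with hx
  let ψ : x.asIdeal.ResidueField →+* x'.asIdeal.ResidueField :=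
    Ideal.ResidueField.map x.asIdeal x'.asIdeal (algebraMap A A') rfl
  have hψ : ψ.comp (algebraMap A x.asIdeal.ResidueField) =
      (algebraMap A' x'.asIdeal.ResidueField).comp (algebraMap A A') :=
    RingHom.ext fun r => Ideal.ResidueField.map_algebraMap _ _ _ _ r
  unfold CohIII.dRank
  rw [← finrank_homology_bcCx ψ (CohIII.bcCx (algebraMap A x.asIdeal.ResidueField) P) p]
  let β : ModuleCat.extendScalars.{u, u, u} (algebraMap A A') ⋙
      ModuleCat.extendScalars.{u, u, u} (algebraMap A' x'.asIdeal.ResidueField) ≅
      ModuleCat.extendScalars.{u, u, u} (algebraMap A x.asIdeal.ResidueField) ⋙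
        ModuleCat.extendScalars.{u, u, u} ψ :=
    (ModuleCat.extendScalarsComp _ _).symm ≪≫ eqToIso (by rw [hψ]) ≪≫
      ModuleCat.extendScalarsComp _ _
  have e := (HomologicalComplex.homologyFunctor _ c p).mapIso
    ((NatIso.mapHomologicalComplex β c).app P)
  exact e.toLinearEquiv.finrank_eq


end BaseChange

end Groth.Agent.Helper4.DRank
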