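import Mathlib
import Groth.Prelude.Def_Coh
import Groth.Agent.Lib.Helper16.Sch.TriFlatSch2
import Groth.Agent.Lib.Helper16.Sch.FlatDVR

/-!
# The local ring of `X → Spec R` at a maximal point of a reduced closed fibre

`𝔪_{X,x} = 𝔪_R 𝒪_{X,x}` for `x` a maximal point of the (reduced) closed fibre.
-/

set_option autoImplicit false
universe u

open AlgebraicGeometry CategoryTheory Limits IsLocalRing TopologicalSpace Opposite

noncomputable section

namespace Groth.Agent.Helper4.DVRFibre

open Groth.Agent.Helper16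

/-- `Spec κ(closed point of Spec R) ≅ Spec (R/m)` (copy of helper16's `SpFib.specResidueIso`) -/
def specResidueIso (R : Type u) [CommRing R] [IsLocalRing R] :
    Spec ((Spec (CommRingCat.of R)).residueField (closedPoint R)) ≅
      Spec (CommRingCat.of (ResidueField R)) :=
  Scheme.Spec.mapIso (IsLocalRing.ResidueField.mapEquiv
    (stalkClosedPointIso (CommRingCat.of R)).commRingCatIsoToRingEquiv.symm).toCommRingCatIso.op

lemma specResidueIso_hom_comp (R : Type u) [CommRing R] [IsLocalRing R] :
    (specResidueIso R).hom ≫ Spec.map (CommRingCat.ofHom (residue R)) =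
      (Spec (CommRingCat.of R)).fromSpecResidueField (closedPoint R) := by
  rw [Scheme.fromSpecResidueField, ← Spec_stalkClosedPointIso, ← Spec.map_comp]
  change Spec.map _ ≫ Spec.map _ = _
  rw [← Spec.map_comp]
  congr 1

/-- the stalk of a reduced scheme at a maximal point is a field: its maximal ideal is zero -/
theorem maximalIdeal_stalk_eq_bot {Y : Scheme.{u}} [IsReduced Y] (ξ : Y)
    (hξ : closure ({ξ} : Set Y) ∈ irreducibleComponents Y) :
    maximalIdeal (Y.presheaf.stalk ξ) = ⊥ := by
  have hprime : ∀ P : PrimeSpectrum (Y.presheaf.stalk ξ),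
      P = closedPoint (Y.presheaf.stalk ξ) := by
    intro P
    apply (Y.fromSpecStalk ξ).isEmbedding.injective
    rw [Scheme.fromSpecStalk_closedPoint]
    have hy : (Y.fromSpecStalk ξ) P ⤳ ξ := by
      have h0 : (Y.fromSpecStalk ξ) P ∈ Set.range (Y.fromSpecStalk ξ) := ⟨P, rfl⟩
      rw [Scheme.range_fromSpecStalk] at h0
      exact h0
    have h1 : closure ({ξ} : Set Y) ⊆ closure {(Y.fromSpecStalk ξ) P} :=
      specializes_iff_closure_subset.mp hy
    have h2 : closure ({(Y.fromSpecStalk ξ) P} : Set Y) ⊆ closure {ξ} :=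
      hξ.2 isIrreducible_singleton.closure h1
    have h3 : ξ ⤳ (Y.fromSpecStalk ξ) P := specializes_iff_closure_subset.mpr h2
    exact (hy.antisymm h3).eq
  rw [eq_bot_iff]
  intro a ha
  have hnil : a ∈ nilradical (Y.presheaf.stalk ξ) := by
    rw [nilradical_eq_sInf, Ideal.mem_sInf]
    intro P hP
    have h0 := hprime ⟨P, hP⟩
    have hP' : P = maximalIdeal (Y.presheaf.stalk ξ) := congrArg PrimeSpectrum.asIdeal h0
    rw [hP']
    exact ha
  rwa [nilradical_eq_zero] at hnil

theorem main (R : Type u) [CommRing R] [IsLocalRing R]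
    (X : Scheme.{u}) (f : X ⟶ Spec (CommRingCat.of R))
    (Xs : Scheme.{u}) (gs : Xs ⟶ X) (fs : Xs ⟶ Spec (CommRingCat.of (ResidueField R)))
    (hs : IsPullback gs fs f (Spec.map (CommRingCat.ofHom (residue R))))
    [IsReduced Xs] (ξ : Xs) (hξ : closure ({ξ} : Set Xs) ∈ irreducibleComponents Xs)
    (B : Type u) [CommRing B] [IsLocalRing B] [Algebra R B]
    (e : X.presheaf.stalk (gs.base ξ) ≅ CommRingCat.of B)
    (he : e.hom.hom.comp ((X.presheaf.germ ⊤ (gs.base ξ) trivial).hom.comp (Coh.toGlobal f)) =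
      algebraMap R B) :
    maximalIdeal B = Ideal.map (algebraMap R B) (maximalIdeal R) := by
  have hsq : IsPullback gs (fs ≫ (specResidueIso R).inv) f
      ((Spec (CommRingCat.of R)).fromSpecResidueField (closedPoint R)) := by
    refine hs.of_iso (Iso.refl _) (Iso.refl _) (specResidueIso R).symm (Iso.refl _) ?_ ?_ ?_ ?_
    · simp
    · simp
    · simp
    · rw [Iso.refl_hom, Category.comp_id, Iso.symm_hom, ← specResidueIso_hom_comp,
        Iso.inv_hom_id_assoc]
  have hker := TriFlatSch.ker_stalkMap_of_isPullback f (closedPoint R) hsq ξ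
  have hfield := maximalIdeal_stalk_eq_bot ξ hξ
  have hmax : maximalIdeal (X.presheaf.stalk (gs ξ)) = FibStalk.fibIdeal f (gs ξ) := by
    apply le_antisymm
    · intro a ha
      rw [← hker, RingHom.mem_ker]
      have h1 : (gs.stalkMap ξ).hom a ∈ maximalIdeal (Xs.presheaf.stalk ξ) :=
        map_nonunit _ a ha
      rw [hfield] at h1
      exact h1
    · exact FibStalk.fibIdeal_le f (gs ξ)
  have hfx : f (gs ξ) = closedPoint R := by
    have h1 : (gs ≫ f) ξ = ((fs ≫ (specResidueIso R).inv) ≫
        (Spec (CommRingCat.of R)).fromSpecResidueField (closedPoint R)) ξ := by rw [hsq.w]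
    rw [Scheme.Hom.comp_apply, Scheme.Hom.comp_apply (fs ≫ _),
      Scheme.fromSpecResidueField_apply] at h1
    exact h1
  have hfib : FibStalk.fibIdeal f (gs ξ) =
      Ideal.map ((X.presheaf.germ ⊤ (gs ξ) trivial).hom.comp (Coh.toGlobal f))
        (maximalIdeal R) := by
    rw [FibStalk.fibIdeal_def]
    have h1 : maximalIdeal (FlatDVR.baseStalk f (gs ξ)) =
        Ideal.map (algebraMap R (FlatDVR.baseStalk f (gs ξ))) (f (gs ξ)).asIdeal :=
      (IsLocalization.AtPrime.map_eq_maximalIdeal (f (gs ξ)).asIdeal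
        (FlatDVR.baseStalk f (gs ξ))).symm
    have h2 : (f (gs ξ)).asIdeal = maximalIdeal R := by
      rw [hfx]
      rfl
    rw [show maximalIdeal ((Spec (CommRingCat.of R)).presheaf.stalk (f (gs ξ))) = _ from h1, h2,
      Ideal.map_map]
    congr 1
    ext r
    exact (FlatDVR.germ_gsec f (gs ξ) r).symm
  have hmB : maximalIdeal B = Ideal.map (e.commRingCatIsoToRingEquiv : _ →+* B)
      (maximalIdeal (X.presheaf.stalk (gs ξ))) := by
    apply le_antisymm
    · intro b hb
      have h1 : e.commRingCatIsoToRingEquiv.symm b ∈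
          maximalIdeal (X.presheaf.stalk (gs ξ)) := by
        rw [mem_maximalIdeal, mem_nonunits_iff] at hb ⊢
        exact fun hu => hb (by simpa using hu.map e.commRingCatIsoToRingEquiv)
      have h2 := Ideal.mem_map_of_mem (e.commRingCatIsoToRingEquiv : _ →+* B) h1
      simpa using h2
    · rw [Ideal.map_le_iff_le_comap]
      intro a ha
      rw [Ideal.mem_comap, mem_maximalIdeal, mem_nonunits_iff] at *
      exact fun hu => ha (by simpa using hu.map e.commRingCatIsoToRingEquiv.symm)
  rw [hmB, hmax, hfib, Ideal.map_map, ← he]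
  rfl

end Groth.Agent.Helper4.DVRFibre
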