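import Mathlib
import Groth.Agent.Lib.Helper4.DVRSpec

/-!
# Valuative criterion of separatedness with DVRs (EGA II 7.2.3, locally Noetherian case)
-/

set_option autoImplicit false

universe u

open CategoryTheory CategoryTheory.Limits AlgebraicGeometry

namespace Groth.Agent.Helper4.DVRSep

set_option maxHeartbeats 800000 in
theorem isSeparated_of_dvr {X Y : Scheme.{u}} [IsLocallyNoetherian Y] (f : X ⟶ Y)
    [LocallyOfFiniteType f]
    (H : ∀ (A : Type u) [CommRing A] [IsDomain A] [IsDiscreteValuationRing A]
      (g₁ g₂ : (Spec (CommRingCat.of A)) ⟶ X), g₁ ≫ f = g₂ ≫ f →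
      (Spec.map (CommRingCat.ofHom (algebraMap A (FractionRing A)))) ≫ g₁ =
        (Spec.map (CommRingCat.ofHom (algebraMap A (FractionRing A)))) ≫ g₂ → g₁ = g₂) :
    IsSeparated f := by
  have hX : IsLocallyNoetherian X := LocallyOfFiniteType.isLocallyNoetherian f
  have hZ : IsLocallyNoetherian (pullback f f) :=
    LocallyOfFiniteType.isLocallyNoetherian (pullback.fst f f ≫ f)
  have hΔft : LocallyOfFiniteType (pullback.diagonal f) :=
    locallyOfFiniteType_of_comp (pullback.diagonal f) (pullback.fst f f)
  have hqs : QuasiSeparated f := inferInstance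
  have hΔqc : QuasiCompact (pullback.diagonal f) := hqs.1
  constructor
  have hcl : IsClosedMap (pullback.diagonal f) := by
    rw [isClosedMap_iff_specializingMap]
    intro x z' hxz'
    by_cases hz : z' = (pullback.diagonal f) x
    · exact ⟨x, specializes_rfl, hz.symm⟩
    obtain ⟨A, h, hA, hclosed, hcomm⟩ :=
      DVRSpec.exists_dvr_through_specialization (pullback.diagonal f) x z' hxz' hz
    haveI := hA
    let g₁ : Spec (CommRingCat.of A) ⟶ X := h ≫ pullback.fst f f
    let g₂ : Spec (CommRingCat.of A) ⟶ X := h ≫ pullback.snd f f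
    let ι : Spec (X.residueField x) ⟶ Spec (CommRingCat.of A) :=
      Spec.map (CommRingCat.ofHom A.subtype)
    have hι₁ : ι ≫ g₁ = X.fromSpecResidueField x := by
      change ι ≫ h ≫ pullback.fst f f = _
      rw [← Category.assoc]
      change (Spec.map (CommRingCat.ofHom A.subtype) ≫ h) ≫ pullback.fst f f = _
      rw [hcomm, Category.assoc, pullback.diagonal_fst, Category.comp_id]
    have hι₂ : ι ≫ g₂ = X.fromSpecResidueField x := by
      change ι ≫ h ≫ pullback.snd f f = _
      rw [← Category.assoc]
      change (Spec.map (CommRingCat.ofHom A.subtype) ≫ h) ≫ pullback.snd f f = _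
      rw [hcomm, Category.assoc, pullback.diagonal_snd, Category.comp_id]
    -- the fraction field of `A`
    let e : FractionRing A ≃ₐ[A] X.residueField x := FractionRing.algEquiv A (X.residueField x)
    have hfac : Spec.map (CommRingCat.ofHom (algebraMap A (FractionRing A))) =
        Spec.map (CommRingCat.ofHom (e.symm : X.residueField x →+* FractionRing A)) ≫ ι := by
      rw [← Spec.map_comp]
      congr 1
      ext a
      exact (e.symm.commutes a).symm
    have h12 : g₁ = g₂ := by
      apply H A g₁ g₂
      · change (h ≫ pullback.fst f f) ≫ f = (h ≫ pullback.snd f f) ≫ f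
        rw [Category.assoc, Category.assoc, pullback.condition]
      · rw [hfac, Category.assoc, Category.assoc, hι₁, hι₂]
    have hh : h = g₁ ≫ pullback.diagonal f := by
      apply pullback.hom_ext
      · rw [Category.assoc, pullback.diagonal_fst, Category.comp_id]
      · rw [Category.assoc, pullback.diagonal_snd, Category.comp_id, h12]
    refine ⟨g₁ (IsLocalRing.closedPoint A), ?_, ?_⟩
    · have hx : g₁ (ι (IsLocalRing.closedPoint (X.residueField x))) = x := by
        rw [← Scheme.Hom.comp_apply, hι₁, Scheme.fromSpecResidueField_apply]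
      have h3 := (IsLocalRing.specializes_closedPoint
        (ι (IsLocalRing.closedPoint (X.residueField x)))).map g₁.continuous
      rw [hx] at h3
      exact h3
    · rw [← Scheme.Hom.comp_apply, ← hh]
      exact hclosed
  exact .of_isPreimmersion _ hcl.isClosed_range

end Groth.Agent.Helper4.DVRSep
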