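import Mathlib
import Groth.Agent.Lib.Helper4.DVRSpec

/-!
# Refined valuative criterion of separatedness with DVRs
-/

set_option autoImplicit false

universe u

open CategoryTheory CategoryTheory.Limits AlgebraicGeometry

namespace Groth.Agent.Helper4.DVRSep

/-- Every point of a scheme is a specialization of the generic point of an irreducible component. -/
theorem exists_generic_specializes (X : Scheme.{u}) (x : X) :
    ∃ η : X, closure {η} ∈ irreducibleComponents (X : Type u) ∧ η ⤳ x := by
  have hirr : IsIrreducible (irreducibleComponent x) := isIrreducible_irreducibleComponent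
  have hcl : IsClosed (irreducibleComponent x) := isClosed_irreducibleComponent
  obtain ⟨η, hη⟩ := QuasiSober.sober hirr hcl
  refine ⟨η, ?_, ?_⟩
  · rw [hη.def]
    exact irreducibleComponent_mem_irreducibleComponents x
  · rw [specializes_iff_mem_closure, hη.def]
    exact mem_irreducibleComponent

set_option maxHeartbeats 800000 in
theorem isSeparated_of_dvr_of_generizing {X Y U : Scheme.{u}} [IsLocallyNoetherian Y] (f : X ⟶ Y)
    [LocallyOfFiniteType f] (h : U ⟶ X) [LocallyOfFiniteType h] (G : Set U)
    (hG : ∀ x : X, ∃ u₀ ∈ G, h u₀ ⤳ x)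
    (H : ∀ u₀ ∈ G, ∀ (A : ValuationSubring (U.residueField u₀)), IsDiscreteValuationRing A →
      ∀ l₁ l₂ : Spec (CommRingCat.of A) ⟶ X, l₁ ≫ f = l₂ ≫ f →
        Spec.map (CommRingCat.ofHom A.subtype) ≫ l₁ = U.fromSpecResidueField u₀ ≫ h →
        Spec.map (CommRingCat.ofHom A.subtype) ≫ l₂ = U.fromSpecResidueField u₀ ≫ h → l₁ = l₂) :
    IsSeparated f := by
  have hX : IsLocallyNoetherian X := LocallyOfFiniteType.isLocallyNoetherian f
  have hZ : IsLocallyNoetherian (pullback f f) :=
    LocallyOfFiniteType.isLocallyNoetherian (pullback.fst f f ≫ f)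
  have hΔft : LocallyOfFiniteType (pullback.diagonal f) :=
    locallyOfFiniteType_of_comp (pullback.diagonal f) (pullback.fst f f)
  have hqs : QuasiSeparated f := inferInstance
  have hΔqc : QuasiCompact (pullback.diagonal f) := hqs.1
  constructor
  have hcl : IsClosedMap (pullback.diagonal f) := by
    rw [isClosedMap_iff_specializingMap]
    intro x z' hxz'
    suffices hex : ∃ x'' : X, (pullback.diagonal f) x'' = z' by
      obtain ⟨x'', hx''⟩ := hex
      refine ⟨x'', ?_, hx''⟩
      have hxz'' : (pullback.diagonal f) x ⤳ z' := hxz'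
      rw [← hx''] at hxz''
      exact ((pullback.diagonal f).isEmbedding.isInducing.specializes_iff).mp hxz''
    obtain ⟨u₀, hu₀G, hu₀x⟩ := hG x
    have hsp : (h ≫ pullback.diagonal f) u₀ ⤳ z' := by
      rw [Scheme.Hom.comp_apply]
      exact (hu₀x.map (pullback.diagonal f).continuous).trans hxz'
    by_cases hz : z' = (h ≫ pullback.diagonal f) u₀
    · exact ⟨h u₀, by rw [hz, Scheme.Hom.comp_apply]⟩
    obtain ⟨A, k, hA, hclosed, hcomm⟩ :=
      DVRSpec.exists_dvr_through_specialization (h ≫ pullback.diagonal f) u₀ z' hsp hz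
    let l₁ : Spec (CommRingCat.of A) ⟶ X := k ≫ pullback.fst f f
    let l₂ : Spec (CommRingCat.of A) ⟶ X := k ≫ pullback.snd f f
    have hι₁ : Spec.map (CommRingCat.ofHom A.subtype) ≫ l₁ = U.fromSpecResidueField u₀ ≫ h := by
      change Spec.map (CommRingCat.ofHom A.subtype) ≫ k ≫ pullback.fst f f = _
      rw [← Category.assoc, hcomm, Category.assoc, Category.assoc, pullback.diagonal_fst,
        Category.comp_id]
    have hι₂ : Spec.map (CommRingCat.ofHom A.subtype) ≫ l₂ = U.fromSpecResidueField u₀ ≫ h := by
      change Spec.map (CommRingCat.ofHom A.subtype) ≫ k ≫ pullback.snd f f = _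
      rw [← Category.assoc, hcomm, Category.assoc, Category.assoc, pullback.diagonal_snd,
        Category.comp_id]
    have h12 : l₁ = l₂ := by
      apply H u₀ hu₀G A hA l₁ l₂ _ hι₁ hι₂
      change (k ≫ pullback.fst f f) ≫ f = (k ≫ pullback.snd f f) ≫ f
      rw [Category.assoc, Category.assoc, pullback.condition]
    have hk : k = l₁ ≫ pullback.diagonal f := by
      apply pullback.hom_ext
      · rw [Category.assoc, pullback.diagonal_fst, Category.comp_id]
      · rw [Category.assoc, pullback.diagonal_snd, Category.comp_id, h12]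
    refine ⟨l₁ (IsLocalRing.closedPoint A), ?_⟩
    rw [← Scheme.Hom.comp_apply, ← hk]
    exact hclosed
  exact .of_isPreimmersion _ hcl.isClosed_range

end Groth.Agent.Helper4.DVRSep
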