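import Mathlib
import Groth.Agent.Lib.Helper4.DVRVal

/-!
# Finite generation of a field over an affine chart, general form (helper4)
-/

set_option autoImplicit false
universe u
open CategoryTheory CategoryTheory.Limits AlgebraicGeometry IsLocalRing

namespace Groth.Agent.Helper4.DVRVal

set_option maxHeartbeats 800000 in
/-- general form of `exists_finset_closure_eq_top`: `L` is a field essentially of finite type over
the local ring of `U` at `u`. -/
theorem exists_finset_closure_eq_top' {U S : Scheme.{u}} (p : U ⟶ S) [LocallyOfFiniteType p] (u : U)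
    {L : Type u} [Field L] (ψ' : U.presheaf.stalk u ⟶ CommRingCat.of L)
    (hψ' : ψ'.hom.EssFiniteType)
    (V : S.Opens) (hV : IsAffineOpen V) (hpu : p u ∈ V) (ρ : Γ(S, V) ⟶ CommRingCat.of L)
    (hρ : Spec.map ρ ≫ hV.fromSpec = Spec.map ψ' ≫ U.fromSpecStalk u ≫ p) :
    ∃ σ : Finset L, Subfield.closure (Set.range ρ.hom ∪ (σ : Set L)) = ⊤ := by
  classical
  let ρ₀ : Γ(S, V) ⟶ CommRingCat.of L := S.presheaf.germ V (p u) hpu ≫ p.stalkMap u ≫ ψ'
  have hρ₀ : Spec.map ρ₀ ≫ hV.fromSpec = Spec.map ψ' ≫ U.fromSpecStalk u ≫ p := by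
    have h1 : Spec.map (S.presheaf.germ V (p u) hpu) ≫ hV.fromSpec = S.fromSpecStalk (p u) :=
      hV.fromSpecStalk_eq_fromSpecStalk hpu
    rw [Spec.map_comp, Spec.map_comp, Category.assoc, Category.assoc, h1,
      Scheme.SpecMap_stalkMap_fromSpecStalk]
  have hρeq : ρ = ρ₀ := by
    apply Spec.map_injective
    rw [← cancel_mono hV.fromSpec, hρ, hρ₀]
  let ψ : S.presheaf.stalk (p u) →+* L := (p.stalkMap u ≫ ψ').hom
  have hψ : ψ.EssFiniteType := by
    have h1 : (p.stalkMap u).hom.EssFiniteType := LocallyOfFiniteType.stalkMap p u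
    exact RingHom.EssFiniteType.comp h1 hψ'
  letI : Algebra (S.presheaf.stalk (p u)) L := ψ.toAlgebra
  have hψ'' : Algebra.EssFiniteType (S.presheaf.stalk (p u)) L := hψ
  obtain ⟨σ, hσ⟩ := hψ''.cond
  rw [Algebra.essFiniteType_cond_iff] at hσ
  refine ⟨σ, ?_⟩
  rw [eq_top_iff]
  intro s _
  set F := Subfield.closure (Set.range ρ.hom ∪ (σ : Set L)) with hF
  have h1 : ∀ a, ρ.hom a ∈ F := fun a => Subfield.subset_closure (Or.inl ⟨a, rfl⟩)
  have hρψ : ∀ a, ρ.hom a = ψ ((S.presheaf.germ V (p u) hpu).hom a) := by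
    intro a
    rw [hρeq]
    rfl
  have h2 : ∀ b, ψ b ∈ F := by
    intro b
    letI := S.presheaf.algebra_section_stalk ⟨p u, hpu⟩
    have hloc := hV.isLocalization_stalk ⟨p u, hpu⟩
    obtain ⟨⟨a, s'⟩, has⟩ := IsLocalization.surj (hV.primeIdealOf ⟨p u, hpu⟩).asIdeal.primeCompl b
    have hgerm : ∀ t : Γ(S, V), algebraMap Γ(S, V) (S.presheaf.stalk (p u)) t =
        (S.presheaf.germ V (p u) hpu).hom t := fun t => rfl
    have hu : IsUnit ((S.presheaf.germ V (p u) hpu).hom s'.1) := by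
      rw [← hgerm]
      exact IsLocalization.map_units _ s'
    have h3 : ψ b * ρ.hom s'.1 = ρ.hom a := by
      rw [hρψ, hρψ, ← map_mul, ← hgerm, ← hgerm]
      exact congrArg ψ has
    have h4 : ρ.hom s'.1 ≠ 0 := by
      rw [hρψ]
      exact (hu.map ψ).ne_zero
    rw [eq_div_of_mul_eq h4 h3]
    exact F.div_mem (h1 _) (h1 _)
  have h3 : ∀ t ∈ Algebra.adjoin (S.presheaf.stalk (p u)) (σ : Set L), t ∈ F := by
    intro t ht
    induction ht using Algebra.adjoin_induction with
    | mem t ht => exact Subfield.subset_closure (Or.inr ht)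
    | algebraMap r => exact h2 r
    | add _ _ _ _ h h' => exact F.add_mem h h'
    | mul _ _ _ _ h h' => exact F.mul_mem h h'
  obtain ⟨t, ht, htu, hst⟩ := hσ s
  have h5 : s = (s * t) / t := (mul_div_cancel_right₀ s htu.ne_zero).symm
  rw [h5]
  exact F.div_mem (h3 _ hst) (h3 _ ht)

end Groth.Agent.Helper4.DVRVal
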