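import Mathlib

set_option autoImplicit false
universe u
open AlgebraicGeometry CategoryTheory CategoryTheory.Limits MorphismProperty

namespace Groth.Agent.Helper4.DiagLFP

instance : MorphismProperty.RespectsRight @LocallyOfFinitePresentation @IsOpenImmersion where
  postcomp i hi f hf := by
    have : IsOpenImmersion i := hi
    have : LocallyOfFinitePresentation f := hf
    infer_instance

variable {X Y : Scheme.{u}} (f : X ⟶ Y)

set_option backward.isDefEq.respectTransparency.types false in
/-- the diagonal of a morphism locally of finite type is locally of finite presentation -/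
theorem locallyOfFinitePresentation_diagonal [LocallyOfFiniteType f] :
    LocallyOfFinitePresentation (pullback.diagonal f) := by
  wlog hX : (∃ S, X = Spec S) ∧ ∃ R, Y = Spec R
  · let 𝒰Y := Y.affineCover
    let 𝒰X (j : (Y.affineCover.pullback₁ f).I₀) :
        ((Y.affineCover.pullback₁ f).X j).OpenCover := Scheme.affineCover _
    apply IsZariskiLocalAtTarget.of_range_subset_iSup (P := @LocallyOfFinitePresentation) _
      (Scheme.Pullback.range_diagonal_subset_diagonalCoverDiagonalRange f 𝒰Y 𝒰X)
    intro ⟨i, j⟩
    rw [arrow_mk_iso_iff (P := @LocallyOfFinitePresentation)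
      (Scheme.Pullback.diagonalRestrictIsoDiagonal f 𝒰Y 𝒰X i j)]
    have hfin : LocallyOfFiniteType ((𝒰X i).f j ≫ pullback.snd f (𝒰Y.f i)) :=
      comp_mem _ _ _ inferInstance (pullback_snd _ _ inferInstance)
    exact this _ ⟨⟨_, rfl⟩, ⟨_, rfl⟩⟩
  obtain ⟨⟨S, rfl⟩, R, rfl⟩ := hX
  obtain ⟨f, rfl⟩ := Spec.map_surjective f
  have hft : RingHom.FiniteType f.hom :=
    (HasRingHomProperty.Spec_iff (P := @LocallyOfFiniteType)).mp inferInstance
  algebraize [f.hom]
  rw [show f = CommRingCat.ofHom (algebraMap R S) from rfl, diagonal_SpecMap R S,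
    cancel_right_of_respectsIso (P := @LocallyOfFinitePresentation),
    HasRingHomProperty.Spec_iff (P := @LocallyOfFinitePresentation)]
  have hF : Function.Surjective (Algebra.TensorProduct.lmul' R (S := S)).toRingHom :=
    fun x ↦ ⟨.mk _ _ _ x 1, by simp⟩
  exact RingHom.FinitePresentation.of_surjective _ hF (KaehlerDifferential.ideal_fg R S)

end Groth.Agent.Helper4.DiagLFP
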