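import Mathlib
import Groth.Agent.Lib.Helper4.LesLen
import Groth.Agent.Lib.Lead.KerFree2

universe u v
open CategoryTheory CategoryTheory.Limits Finset AlgebraicGeometry Opposite TopologicalSpace

namespace Groth.Agent.Helper4.ExSeq

section Cat

variable {𝒞 : Type*} [Category 𝒞] [Abelian 𝒞]

/-- splice: from `M -f→ N -g→ P -g'→ Q` exact at `N` and `P`... only exactness at `N` needed,
with `f` mono, get the short exact sequence `0 → M → N → ker g' → 0`. -/
theorem shortExact_splice {M N P Q : 𝒞} (f : M ⟶ N) (g : N ⟶ P) (g' : P ⟶ Q) (w : f ≫ g = 0)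
    (w' : g ≫ g' = 0) [Mono f] (h : (ShortComplex.mk f g w).Exact)
    (h' : (ShortComplex.mk g g' w').Exact) :
    (ShortComplex.mk f (kernel.lift g' g w') (by
      rw [← cancel_mono (kernel.ι g'), Category.assoc, kernel.lift_ι, w, zero_comp])).ShortExact := by
  have hepi : Epi (kernel.lift g' g w') := (ShortComplex.exact_iff_epi_kernel_lift _).1 h'
  let S₁ : ShortComplex 𝒞 := ShortComplex.mk f (kernel.lift g' g w') (by
      rw [← cancel_mono (kernel.ι g'), Category.assoc, kernel.lift_ι, w, zero_comp])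
  let S₂ : ShortComplex 𝒞 := ShortComplex.mk f g w
  let φ : S₁ ⟶ S₂ :=
    { τ₁ := 𝟙 _
      τ₂ := 𝟙 _
      τ₃ := kernel.ι g'
      comm₁₂ := by simp [S₁, S₂]
      comm₂₃ := by simp [S₁, S₂] }
  haveI : Epi φ.τ₁ := by dsimp [φ]; infer_instance
  haveI : IsIso φ.τ₂ := by dsimp [φ]; infer_instance
  haveI : Mono φ.τ₃ := by dsimp [φ]; infer_instance
  have hex : S₁.Exact := (ShortComplex.exact_iff_of_epi_of_isIso_of_mono φ).2 h
  exact { exact := hex, mono_f := ‹Mono f›, epi_g := hepi }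

theorem exact_kernel_ι {N P : 𝒞} (g : N ⟶ P) :
    (ShortComplex.mk (kernel.ι g) g (kernel.condition g)).Exact :=
  ShortComplex.exact_of_f_is_kernel _ (kernelIsKernel g)

end Cat

section Lin

variable {k : Type u} [Field k] {A B C : Type v} [AddCommGroup A] [AddCommGroup B] [AddCommGroup C]
  [Module k A] [Module k B] [Module k C]

theorem finrank_le_of_exact (f : A →ₗ[k] B) (g : B →ₗ[k] C) (h : Function.Exact f g)
    [Module.Finite k A] [Module.Finite k C] :
    Module.finrank k B ≤ Module.finrank k A + Module.finrank k C := by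
  have hker : LinearMap.ker g = LinearMap.range f := LinearMap.exact_iff.1 h
  haveI : Module.Finite k (LinearMap.ker g) := by
    rw [hker]; infer_instance
  haveI : Module.Finite k (B ⧸ LinearMap.ker g) :=
    Module.Finite.equiv g.quotKerEquivRange.symm
  haveI : Module.Finite k B := Module.Finite.of_submodule_quotient (LinearMap.ker g)
  have h1 := LinearMap.finrank_range_add_finrank_ker g
  have h2 : Module.finrank k (LinearMap.ker g) ≤ Module.finrank k A := by
    rw [hker]; exact LinearMap.finrank_range_le f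
  have h3 : Module.finrank k (LinearMap.range g) ≤ Module.finrank k C :=
    Submodule.finrank_le _
  omega

theorem finrank_le_of_injective' (f : A →ₗ[k] B) (hf : Function.Injective f) [Module.Finite k B] :
    Module.finrank k A ≤ Module.finrank k B :=
  LinearMap.finrank_le_finrank_of_injective hf

end Lin

theorem sum_Icc_one (n : ℕ) (f : ℕ → ℤ) :
    ∑ j ∈ Finset.Icc 1 n, f j = ∑ t ∈ Finset.range n, f (t + 1) := by
  induction n with
  | zero => simp
  | succ n ih =>
    rw [Finset.sum_Icc_succ_top (by omega), ih, Finset.sum_range_succ]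

section HH

open Groth.Agent.Helper26.PnFin Groth.Agent.Helper4.LesLen

variable (k : Type u) [Field k] {X : Scheme.{u}} [X.Over (Spec (CommRingCat.of k))]

/-- `dim_k H^i(X, M)` -/
noncomputable def hh (M : X.Modules) (i : ℕ) : ℕ := Module.finrank k (Coh.HH X M i)

theorem hh_mid_le {M N P : X.Modules} {f : M ⟶ N} {g : N ⟶ P} {w : f ≫ g = 0}
    (hS : (ShortComplex.mk f g w).ShortExact) (i : ℕ)
    [Module.Finite k (Coh.HH X M i)] [Module.Finite k (Coh.HH X P i)] :
    hh k N i ≤ hh k M i + hh k P i :=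
  finrank_le_of_exact (Canon.HHlin k f i) (Canon.HHlin k g i)
    (exact_f_g k (ShortComplex.mk f g w) hS i)

theorem hh_left_succ_le {M N P : X.Modules} {f : M ⟶ N} {g : N ⟶ P} {w : f ≫ g = 0}
    (hS : (ShortComplex.mk f g w).ShortExact) (i : ℕ)
    [Module.Finite k (Coh.HH X P i)] [Module.Finite k (Coh.HH X N (i + 1))] :
    hh k M (i + 1) ≤ hh k P i + hh k N (i + 1) :=
  finrank_le_of_exact (deltaLin k (ShortComplex.mk f g w) hS i) (Canon.HHlin k f (i + 1))
    (exact_d_f k (ShortComplex.mk f g w) hS i)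

theorem hh_left_zero_le {M N P : X.Modules} {f : M ⟶ N} {g : N ⟶ P} {w : f ≫ g = 0}
    (hS : (ShortComplex.mk f g w).ShortExact)
    [Module.Finite k (Coh.HH X N 0)] :
    hh k M 0 ≤ hh k N 0 :=
  LinearMap.finrank_le_finrank_of_injective (f := Canon.HHlin k f 0)
    (injective_f_zero k (ShortComplex.mk f g w) hS)

variable [IsProper (X ↘ Spec (CommRingCat.of k))]

theorem finite_HH (M : X.Modules) (hM : Coh.IsCoh M) (i : ℕ) : Module.Finite k (Coh.HH X M i) :=
  Groth.Agent.S0002.result k X M hM i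

theorem isLocallyNoetherian_of_proper (k : Type u) [Field k] (X : Scheme.{u})
    [X.Over (Spec (CommRingCat.of k))] [IsProper (X ↘ Spec (CommRingCat.of k))] :
    IsLocallyNoetherian X :=
  LocallyOfFiniteType.isLocallyNoetherian (X ↘ Spec (CommRingCat.of k))

theorem isCoh_Z (k : Type u) [Field k] {X : Scheme.{u}}
    [X.Over (Spec (CommRingCat.of k))] [IsProper (X ↘ Spec (CommRingCat.of k))]
    (C : ℕ → X.Modules) (hC : ∀ j, Coh.IsCoh (C j)) (d : ∀ j, C j ⟶ C (j + 1)) (j : ℕ) :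
    Coh.IsCoh (kernel (d j)) := by
  haveI : IsLocallyNoetherian X := isLocallyNoetherian_of_proper k X
  exact Groth.Agent.Lead.KerFree.isCoh_kernel (hC j) (hC (j + 1)) (d j)

/-- `h^m(Z_{j+1}) ≤ Σ_{t ≤ m} h^{m-t}(C_{j+1+t})`. -/
theorem bound_Z (k : Type u) [Field k] {X : Scheme.{u}}
    [X.Over (Spec (CommRingCat.of k))] [IsProper (X ↘ Spec (CommRingCat.of k))]
    (C : ℕ → X.Modules) (hC : ∀ j, Coh.IsCoh (C j)) (d : ∀ j, C j ⟶ C (j + 1))
    (hd : ∀ j, d j ≫ d (j + 1) = 0)
    (hex : ∀ j, (ShortComplex.mk (d j) (d (j + 1)) (hd j)).Exact) (m : ℕ) : ∀ j : ℕ,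
    hh k (kernel (d (j + 1))) m ≤ ∑ t ∈ Finset.range (m + 1), hh k (C (j + 1 + t)) (m - t) := by
  induction m with
  | zero =>
    intro j
    have hS := shortExact_splice (kernel.ι (d (j + 1))) (d (j + 1)) (d (j + 1 + 1))
      (kernel.condition _) (hd (j + 1)) (exact_kernel_ι _) (hex (j + 1))
    haveI : Module.Finite k (Coh.HH X (C (j + 1)) 0) := finite_HH k _ (hC (j + 1)) 0
    have := hh_left_zero_le k hS
    simpa using this
  | succ m ih =>
    intro j
    have hS := shortExact_splice (kernel.ι (d (j + 1))) (d (j + 1)) (d (j + 1 + 1))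
      (kernel.condition _) (hd (j + 1)) (exact_kernel_ι _) (hex (j + 1))
    haveI : Module.Finite k (Coh.HH X (C (j + 1)) (m + 1)) := finite_HH k _ (hC (j + 1)) (m + 1)
    haveI : Module.Finite k (Coh.HH X (kernel (d (j + 1 + 1))) m) :=
      finite_HH k _ (isCoh_Z k C hC d (j + 1 + 1)) m
    have h1 : hh k (kernel (d (j + 1))) (m + 1) ≤
        hh k (kernel (d (j + 1 + 1))) m + hh k (C (j + 1)) (m + 1) := hh_left_succ_le k hS m
    have h2 := ih (j + 1)
    have h3 : ∑ t ∈ Finset.range (m + 1), hh k (C (j + 1 + (t + 1))) (m + 1 - (t + 1)) =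
        ∑ t ∈ Finset.range (m + 1), hh k (C (j + 1 + 1 + t)) (m - t) := by
      refine Finset.sum_congr rfl (fun t _ => ?_)
      rw [show j + 1 + (t + 1) = j + 1 + 1 + t by omega, show m + 1 - (t + 1) = m - t by omega]
    calc hh k (kernel (d (j + 1))) (m + 1)
        ≤ hh k (kernel (d (j + 1 + 1))) m + hh k (C (j + 1)) (m + 1) := h1
      _ ≤ (∑ t ∈ Finset.range (m + 1), hh k (C (j + 1 + 1 + t)) (m - t)) +
            hh k (C (j + 1)) (m + 1) := Nat.add_le_add_right h2 _
      _ = ∑ t ∈ Finset.range (m + 1 + 1), hh k (C (j + 1 + t)) (m + 1 - t) := by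
          rw [Finset.sum_range_succ' (fun t => hh k (C (j + 1 + t)) (m + 1 - t)) (m + 1), h3]
          rfl

theorem main_bound (k : Type u) [Field k] {X : Scheme.{u}}
    [X.Over (Spec (CommRingCat.of k))] [IsProper (X ↘ Spec (CommRingCat.of k))]
    (C : ℕ → X.Modules) (hC : ∀ j, Coh.IsCoh (C j)) (d : ∀ j, C j ⟶ C (j + 1))
    (hd : ∀ j, d j ≫ d (j + 1) = 0)
    (hex : ∀ j, (ShortComplex.mk (d j) (d (j + 1)) (hd j)).Exact) [Mono (d 0)] (i : ℕ) :
    |(hh k (C 0) i : ℤ) - (hh k (C 1) i : ℤ)| ≤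
      (Finset.Icc 1 (i + 1)).sum (fun j => ((hh k (C (j + 1)) (i + 1 - j) : ℕ) : ℤ)) +
        (Finset.Icc 1 i).sum (fun j => ((hh k (C (j + 1)) (i - j) : ℕ) : ℤ)) := by
  have hS := shortExact_splice (d 0) (d 1) (d 2) (hd 0) (hd 1) (hex 0) (hex 1)
  have hZ := isCoh_Z k C hC d 2
  haveI : ∀ n, Module.Finite k (Coh.HH X (C 0) n) := fun n => finite_HH k _ (hC 0) n
  haveI : ∀ n, Module.Finite k (Coh.HH X (C 1) n) := fun n => finite_HH k _ (hC 1) n
  haveI : ∀ n, Module.Finite k (Coh.HH X (kernel (d 2)) n) := fun n => finite_HH k _ hZ n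
  have e1 : (Finset.Icc 1 (i + 1)).sum (fun j => ((hh k (C (j + 1)) (i + 1 - j) : ℕ) : ℤ)) =
      ((∑ t ∈ Finset.range (i + 1), hh k (C (1 + 1 + t)) (i - t) : ℕ) : ℤ) := by
    rw [sum_Icc_one, Nat.cast_sum]
    refine Finset.sum_congr rfl (fun t _ => ?_)
    rw [show t + 1 + 1 = 1 + 1 + t by omega, show i + 1 - (t + 1) = i - t by omega]
  have hmid : hh k (C 1) i ≤ hh k (C 0) i + hh k (kernel (d 2)) i := hh_mid_le k hS i
  have hU : hh k (kernel (d 2)) i ≤ ∑ t ∈ Finset.range (i + 1), hh k (C (1 + 1 + t)) (i - t) :=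
    bound_Z k C hC d hd hex i 1
  rw [e1]
  rcases i with _ | i
  · have h0 : hh k (C 0) 0 ≤ hh k (C 1) 0 := hh_left_zero_le k hS
    have e0 : (Finset.Icc 1 0).sum (fun j => ((hh k (C (j + 1)) (0 - j) : ℕ) : ℤ)) = 0 := by
      simp
    rw [e0, abs_le]
    constructor
    · have : (0 : ℤ) ≤ ((∑ t ∈ Finset.range (0 + 1), hh k (C (1 + 1 + t)) (0 - t) : ℕ) : ℤ) :=
        Int.natCast_nonneg _
      omega
    · omega
  · have e2 : (Finset.Icc 1 (i + 1)).sum (fun j => ((hh k (C (j + 1)) (i + 1 - j) : ℕ) : ℤ)) =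
        ((∑ t ∈ Finset.range (i + 1), hh k (C (1 + 1 + t)) (i - t) : ℕ) : ℤ) := by
      rw [sum_Icc_one, Nat.cast_sum]
      refine Finset.sum_congr rfl (fun t _ => ?_)
      rw [show t + 1 + 1 = 1 + 1 + t by omega, show i + 1 - (t + 1) = i - t by omega]
    have hV : hh k (kernel (d 2)) i ≤ ∑ t ∈ Finset.range (i + 1), hh k (C (1 + 1 + t)) (i - t) :=
      bound_Z k C hC d hd hex i 1
    have hleft : hh k (C 0) (i + 1) ≤ hh k (kernel (d 2)) i + hh k (C 1) (i + 1) :=
      hh_left_succ_le k hS i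
    rw [e2, abs_le]
    constructor <;> omega

end HH

end Groth.Agent.Helper4.ExSeq
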