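import Mathlib
import Groth.Agent.Lib.Helper4.FPExt7

/-!
# Descent of finitely presented quotients along cofiltered limits with affine transition maps
(helper4)
-/

set_option autoImplicit false
universe u
open CategoryTheory CategoryTheory.Limits AlgebraicGeometry Opposite TopologicalSpace
open Groth.Agent.Helper13.QCoh Groth.Agent.Helper13.FinType Groth.Agent.Helper13.LocFree
open Scheme.Modules Groth.Agent.Helper13.QCohLocal Groth.Agent.Helper13.GenLoc

namespace Groth.Agent.Helper4.FPExt

theorem exists_relations_pullback {S S₀ : Scheme.{u}} (π : S ⟶ S₀) [IsAffineHom π]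
    [CompactSpace S₀] [QuasiSeparatedSpace S₀] (F₀ : S₀.Modules)
    [hF₀ : SheafOfModules.IsFinitePresentation (R := S₀.ringCatSheaf) F₀]
    {G : S.Modules} [G.IsQuasicoherent]
    [hG : SheafOfModules.IsFinitePresentation (R := S.ringCatSheaf) G]
    (p : (Scheme.Modules.pullback π).obj F₀ ⟶ G) [Epi p] :
    ∃ (G₁ : S₀.Modules) (h : (Scheme.Modules.pullback π).obj G₁ ⟶
        (Scheme.Modules.pullback π).obj F₀) (w : h ≫ p = 0),
      SheafOfModules.IsFinitePresentation (R := S₀.ringCatSheaf) G₁ ∧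
      IsIso (cokernel.desc h p w) := by
  haveI : F₀.IsQuasicoherent := inferInstance
  haveI hpfp : SheafOfModules.IsFinitePresentation (R := S.ringCatSheaf)
      ((Scheme.Modules.pullback π).obj F₀) :=
    Groth.Agent.Helper9.PrinPart4.isFinitePresentation_pullback π F₀
  haveI : ((Scheme.Modules.pullback π).obj F₀).IsQuasicoherent := inferInstance
  haveI : (kernel p : S.Modules).IsQuasicoherent := isQuasicoherent_kernel p
  haveI : SheafOfModules.IsFiniteType (R := S.ringCatSheaf) (kernel p : S.Modules) := by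
    rw [isFiniteType_iff_finite_sections]
    intro O hO
    haveI := finitePresentation_sections_of_isFinitePresentation
      ((Scheme.Modules.pullback π).obj F₀) hO
    haveI := finitePresentation_sections_of_isFinitePresentation G hO
    exact finite_sections_kernel_of_epi p hO
  obtain ⟨G₁, ψ₁, hG₁, hψ₁⟩ := exists_fp_pullback_epi π (kernel p : S.Modules)
  haveI := hψ₁
  exact ⟨G₁, ψ₁ ≫ kernel.ι p, comp_kernel_ι_comp p ψ₁, hG₁, isIso_cokernel_desc_of_epi p ψ₁⟩

/-- core of `Lim8.exists_quotient_finitePresentation_descend`. -/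
theorem exists_descend_quotient {I : Type u} [SmallCategory I] [IsCofiltered I]
    (D : I ⥤ Scheme.{u}) (c : Limits.Cone D) (hc : Limits.IsLimit c)
    [∀ (i j : I) (f : i ⟶ j), IsAffineHom (D.map f)] (i₀ : I)
    [CompactSpace (D.obj i₀)] [QuasiSeparatedSpace (D.obj i₀)]
    (F₀ : (D.obj i₀).Modules) [F₀.IsQuasicoherent]
    [hF₀ : SheafOfModules.IsFinitePresentation (R := (D.obj i₀).ringCatSheaf) F₀]
    {G : c.pt.Modules} [G.IsQuasicoherent]
    [hG : SheafOfModules.IsFinitePresentation (R := c.pt.ringCatSheaf) G]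
    (p : (Scheme.Modules.pullback (c.π.app i₀)).obj F₀ ⟶ G) [Epi p] :
    ∃ (j : I) (φ : j ⟶ i₀) (Gj : (D.obj j).Modules) (_ : Gj.IsQuasicoherent)
      (pj : (Scheme.Modules.pullback (D.map φ)).obj F₀ ⟶ Gj)
      (e : (Scheme.Modules.pullback (c.π.app j)).obj Gj ≅ G),
      SheafOfModules.IsFinitePresentation (R := (D.obj j).ringCatSheaf) Gj ∧ Epi pj ∧
        ((Scheme.Modules.pullbackComp (c.π.app j) (D.map φ) ≪≫
          Scheme.Modules.pullbackCongr (c.w φ)).app F₀).inv ≫
          (Scheme.Modules.pullback (c.π.app j)).map pj ≫ e.hom = p := by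
  haveI : ∀ {i j : I} (f : i ⟶ j), IsAffineHom (D.map f) := fun f => inferInstance
  haveI : IsAffineHom (c.π.app i₀) := isAffineHom_π_app D c hc i₀
  obtain ⟨G₁, h, w, hG₁, hiso⟩ := exists_relations_pullback (S := c.pt) (c.π.app i₀) F₀ p
  haveI := hG₁
  haveI : G₁.IsQuasicoherent := inferInstance
  obtain ⟨j, φ, hj, hhj⟩ := Groth.Agent.S4811.result D c hc i₀ G₁ F₀ hG₁ h
  haveI hA : SheafOfModules.IsFinitePresentation (R := (D.obj j).ringCatSheaf)
      ((Scheme.Modules.pullback (D.map φ)).obj G₁) :=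
    Groth.Agent.Helper9.PrinPart4.isFinitePresentation_pullback (D.map φ) G₁
  haveI hB : SheafOfModules.IsFinitePresentation (R := (D.obj j).ringCatSheaf)
      ((Scheme.Modules.pullback (D.map φ)).obj F₀) :=
    Groth.Agent.Helper9.PrinPart4.isFinitePresentation_pullback (D.map φ) F₀
  haveI : ((Scheme.Modules.pullback (D.map φ)).obj G₁).IsQuasicoherent := inferInstance
  have hFj : SheafOfModules.IsFinitePresentation (R := (D.obj j).ringCatSheaf)
      (cokernel hj : (D.obj j).Modules) :=
    isFinitePresentation_cokernel (fun O hO => by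
      haveI := finitePresentation_sections_of_isFinitePresentation
        ((Scheme.Modules.pullback (D.map φ)).obj G₁) hO
      infer_instance) hj
  have hFjq : (cokernel hj : (D.obj j).Modules).IsQuasicoherent := by
    haveI := hFj
    infer_instance
  let e₁ := (Scheme.Modules.pullbackComp (c.π.app j) (D.map φ) ≪≫
    Scheme.Modules.pullbackCongr (c.w φ)).app G₁
  let e₀ := (Scheme.Modules.pullbackComp (c.π.app j) (D.map φ) ≪≫
    Scheme.Modules.pullbackCongr (c.w φ)).app F₀
  have hsq : (Scheme.Modules.pullback (c.π.app j)).map hj ≫ e₀.hom = e₁.hom ≫ h := by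
    rw [← hhj, Iso.hom_inv_id_assoc]
  let i1 : (Scheme.Modules.pullback (c.π.app j)).obj (cokernel hj) ≅
      cokernel ((Scheme.Modules.pullback (c.π.app j)).map hj) :=
    PreservesCokernel.iso (Scheme.Modules.pullback (c.π.app j)) hj
  let i2 : cokernel ((Scheme.Modules.pullback (c.π.app j)).map hj) ≅ cokernel h :=
    cokernel.mapIso _ _ e₁ e₀ hsq
  haveI := hiso
  refine ⟨j, φ, cokernel hj, hFjq, cokernel.π hj, i1 ≪≫ i2 ≪≫ asIso (cokernel.desc h p w),
    hFj, inferInstance, ?_⟩
  have s1 : (Scheme.Modules.pullback (c.π.app j)).map (cokernel.π hj) ≫ i1.hom =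
      cokernel.π ((Scheme.Modules.pullback (c.π.app j)).map hj) :=
    PreservesCokernel.π_iso_hom _ _
  have s2 : cokernel.π ((Scheme.Modules.pullback (c.π.app j)).map hj) ≫ i2.hom =
      e₀.hom ≫ cokernel.π h := cokernel.π_desc _ _ _
  have s3 : cokernel.π h ≫ cokernel.desc h p w = p := cokernel.π_desc _ _ _
  show e₀.inv ≫ (Scheme.Modules.pullback (c.π.app j)).map (cokernel.π hj) ≫
    (i1.hom ≫ i2.hom ≫ cokernel.desc h p w) = p
  calc e₀.inv ≫ (Scheme.Modules.pullback (c.π.app j)).map (cokernel.π hj) ≫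
        (i1.hom ≫ i2.hom ≫ cokernel.desc h p w)
      = e₀.inv ≫ (((Scheme.Modules.pullback (c.π.app j)).map (cokernel.π hj) ≫ i1.hom) ≫
          i2.hom) ≫ cokernel.desc h p w := by simp only [Category.assoc]
    _ = e₀.inv ≫ (e₀.hom ≫ cokernel.π h) ≫ cokernel.desc h p w := by rw [s1, s2]
    _ = p := by rw [Category.assoc, s3, Iso.inv_hom_id_assoc]

end Groth.Agent.Helper4.FPExt
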