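import Groth.Prelude.Def_PerfAux
import Groth.Agent.Lib.Helper4.IntNumBC
import Groth.Agent.Lib.Helper5.BCF4
import Groth.Agent.Lib.Helper13.PullbackLocal

/-!
# Fibres of a base change and their cohomology (helper lemmas for S4508)

For `f : X ⟶ Y`, `g : Y' ⟶ Y` and `y' : Y'`, the fibre of `pullback.snd f g` at `y'` is the base change
of the fibre of `f` at `g y'` along the residue field extension `κ(g y') → κ(y')`.  Consequently the
Betti numbers of the fibres agree (flat base change along a field extension).
-/

set_option autoImplicit false
set_option linter.style.haveILetI false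
universe u
open CategoryTheory CategoryTheory.Limits AlgebraicGeometry

namespace Groth.Agent.Helper4.FibreBC

variable {X Y Y' : Scheme.{u}} (f : X ⟶ Y) (g : Y' ⟶ Y)

/-- The comparison map from the fibre of the base change at `y'` to the fibre of `f` at `g y'`. -/
noncomputable def fibMap (y' : Y') :
    (pullback.snd f g).fiber y' ⟶ f.fiber (g.base y') :=
  pullback.lift ((pullback.snd f g).fiberι y' ≫ pullback.fst f g)
    ((pullback.snd f g).fiberToSpecResidueField y' ≫ Spec.map (g.residueFieldMap y'))
    (by
      have h1 : ((pullback.snd f g).fiberι y' ≫ pullback.fst f g) ≫ f =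
          (pullback.snd f g).fiberToSpecResidueField y' ≫ Y'.fromSpecResidueField y' ≫ g := by
        rw [Category.assoc, pullback.condition, ← Category.assoc, Scheme.Hom.fiber_fac,
          Category.assoc]
      rw [h1, Category.assoc, Scheme.Hom.SpecMap_residueFieldMap_fromSpecResidueField])

lemma fibMap_fst (y' : Y') :
    fibMap f g y' ≫ f.fiberι (g.base y') = (pullback.snd f g).fiberι y' ≫ pullback.fst f g :=
  pullback.lift_fst _ _ _

lemma fibMap_snd (y' : Y') :
    fibMap f g y' ≫ f.fiberToSpecResidueField (g.base y') =
      (pullback.snd f g).fiberToSpecResidueField y' ≫ Spec.map (g.residueFieldMap y') :=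
  pullback.lift_snd _ _ _

lemma isPullback_fibMap (y' : Y') :
    IsPullback (fibMap f g y') ((pullback.snd f g).fiberToSpecResidueField y')
      (f.fiberToSpecResidueField (g.base y')) (Spec.map (g.residueFieldMap y')) := by
  have s : IsPullback ((pullback.snd f g).fiberι y' ≫ pullback.fst f g)
      ((pullback.snd f g).fiberToSpecResidueField y') f (Y'.fromSpecResidueField y' ≫ g) :=
    IsPullback.paste_horiz
      (IsPullback.of_hasPullback (pullback.snd f g) (Y'.fromSpecResidueField y'))
      (IsPullback.of_hasPullback f g)
  have t : IsPullback (f.fiberι (g.base y')) (f.fiberToSpecResidueField (g.base y')) f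
      (Y.fromSpecResidueField (g.base y')) := IsPullback.of_hasPullback f _
  refine IsPullback.of_right ?_ (fibMap_snd f g y') t
  rw [fibMap_fst, Scheme.Hom.SpecMap_residueFieldMap_fromSpecResidueField]
  exact s

/-- The restriction of the pulled back module to the fibre at `y'` is the pullback along `fibMap` of
the restriction of the module to the fibre at `g y'`. -/
noncomputable def fibModIso (F : X.Modules) (y' : Y') :
    (Scheme.Modules.pullback ((pullback.snd f g).fiberι y')).obj
        ((Scheme.Modules.pullback (pullback.fst f g)).obj F) ≅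
      (Scheme.Modules.pullback (fibMap f g y')).obj
        ((Scheme.Modules.pullback (f.fiberι (g.base y'))).obj F) :=
  (Scheme.Modules.pullbackComp _ _).app F ≪≫
    (Scheme.Modules.pullbackCongr (fibMap_fst f g y').symm).app F ≪≫
    ((Scheme.Modules.pullbackComp _ _).app F).symm

theorem betti_bc [IsProper f] (F : X.Modules) [F.IsQuasicoherent] (y' : Y') (i : ℕ) :
    PerfAux.betti (pullback.snd f g) ((Scheme.Modules.pullback (pullback.fst f g)).obj F) y' i =
      PerfAux.betti f F (g.base y') i := by
  letI : Algebra (Y.residueField (g.base y')) (Y'.residueField y') :=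
    (g.residueFieldMap y').hom.toAlgebra
  letI : (f.fiber (g.base y')).Over (Spec (CommRingCat.of (Y.residueField (g.base y')))) :=
    ⟨f.fiberToSpecResidueField (g.base y')⟩
  letI : ((pullback.snd f g).fiber y').Over (Spec (CommRingCat.of (Y'.residueField y'))) :=
    ⟨(pullback.snd f g).fiberToSpecResidueField y'⟩
  haveI : IsSeparated (f.fiber (g.base y') ↘ Spec (CommRingCat.of (Y.residueField (g.base y')))) :=
    inferInstanceAs (IsSeparated (pullback.snd f (Y.fromSpecResidueField (g.base y'))))
  have h := isPullback_fibMap f g y'
  have e1 := Groth.Agent.Helper13.FieldBC.finrank_HH_baseChange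
    (Y.residueField (g.base y')) (Y'.residueField y') (fibMap f g y') h
    ((Scheme.Modules.pullback (f.fiberι (g.base y'))).obj F) i
  have e2 := (Groth.Agent.Helper4.IntNumBC.HHequiv (Y'.residueField y')
    (fibModIso f g F y') i).finrank_eq
  exact e2.trans e1

theorem eulerChar_bc [IsProper f] (F : X.Modules) [F.IsQuasicoherent] (y' : Y') :
    PerfAux.eulerChar (pullback.snd f g) ((Scheme.Modules.pullback (pullback.fst f g)).obj F) y' =
      PerfAux.eulerChar f F (g.base y') := by
  unfold PerfAux.eulerChar
  refine finsum_congr (fun i => ?_)
  rw [betti_bc f g F y' i]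

end Groth.Agent.Helper4.FibreBC
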