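import Mathlib

/-!
# Finitely generated field extensions of transcendence degree one (helper4)
-/

set_option autoImplicit false
universe u

namespace Groth.Agent.Helper4.FieldFin

open IntermediateField

/-- a finitely generated field extension of transcendence degree one is finite over the subfield
generated by some transcendental element -/
theorem exists_transcendental_finite (k K : Type u) [Field k] [Field K] [Algebra k K]
    (hfg : (⊤ : IntermediateField k K).FG) (htr : Algebra.trdeg k K = 1) :
    ∃ t : K, Transcendental k t ∧ FiniteDimensional (IntermediateField.adjoin k {t}) K := by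
  obtain ⟨s, hs⟩ := exists_isTranscendenceBasis k K
  have hcard : Cardinal.mk s = 1 := by rw [hs.cardinalMk_eq_trdeg, htr]
  obtain ⟨hsub, ⟨⟨t, hts⟩⟩⟩ := Cardinal.eq_one_iff_unique.mp hcard
  have hst : s = {t} := by
    ext y
    constructor
    · intro hy
      have := hsub.elim ⟨y, hy⟩ ⟨t, hts⟩
      exact congrArg Subtype.val this
    · rintro rfl
      exact hts
  have htrans : Transcendental k t := hs.1.transcendental ⟨t, hts⟩
  refine ⟨t, htrans, ?_⟩
  have halg : Algebra.IsAlgebraic (IntermediateField.adjoin k {t}) K := by
    have := hs.isAlgebraic_field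
    rwa [Subtype.range_coe, hst] at this
  obtain ⟨S, hS⟩ := hfg
  have htop : IntermediateField.adjoin (IntermediateField.adjoin k {t}) (S : Set K) = ⊤ :=
    IntermediateField.adjoin_eq_top_of_adjoin_eq_top k hS
  have hfd : FiniteDimensional (IntermediateField.adjoin k {t})
      (IntermediateField.adjoin (IntermediateField.adjoin k {t}) (S : Set K)) :=
    IntermediateField.finiteDimensional_adjoin
      (fun x _ => (halg.isAlgebraic x).isIntegral)
  rw [htop] at hfd
  exact (IntermediateField.topEquiv (F := IntermediateField.adjoin k {t})
    (E := K)).toLinearEquiv.finiteDimensional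

/-- finiteness over a ring hom whose range contains a subfield over which the target is finite -/
theorem finite_of_le_range {L K : Type u} [Field L] [Field K] (φ : L →+* K) (E₀ : Subfield K)
    (hE₀ : ∀ c ∈ E₀, ∃ l, φ l = c) [Module.Finite E₀ K] : φ.Finite := by
  letI := φ.toAlgebra
  change Module.Finite L K
  obtain ⟨s, hs⟩ := (Module.finite_def.mp (inferInstance : Module.Finite E₀ K))
  have key : ∀ x ∈ Submodule.span E₀ (s : Set K), x ∈ Submodule.span L (s : Set K) := by
    intro x hx
    induction hx using Submodule.span_induction with
    | mem y hy => exact Submodule.subset_span hy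
    | zero => exact zero_mem _
    | add a b _ _ ha hb => exact add_mem ha hb
    | smul c y _ ih =>
      obtain ⟨l, hl⟩ := hE₀ c.1 c.2
      have : c • y = l • y := by
        change (c : K) * y = φ l * y
        rw [hl]
      rw [this]
      exact Submodule.smul_mem _ _ ih
  exact ⟨⟨s, eq_top_iff.mpr fun x _ => key x (hs ▸ Submodule.mem_top)⟩⟩

end Groth.Agent.Helper4.FieldFin
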