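import Mathlib

/-!
# Points with a smallest open neighbourhood: `Spec 𝒪_{X,x} ⟶ X` is an open immersion (helper4)
-/

set_option autoImplicit false
universe u
open AlgebraicGeometry CategoryTheory CategoryTheory.Limits TopologicalSpace

namespace Groth.Agent.Helper4.FinSpecOI

/-- if the set of generizations of `x` is open, then `Spec 𝒪_{X,x} ⟶ X` is an open immersion -/
theorem isOpenImmersion_fromSpecStalk {X : Scheme.{u}} (x : X)
    (hopen : IsOpen {y : X | y ⤳ x}) : IsOpenImmersion (X.fromSpecStalk x) := by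
  let G : X.Opens := ⟨{y : X | y ⤳ x}, hopen⟩
  have hxG : x ∈ G := specializes_rfl
  have hmin : ∀ W : X.Opens, x ∈ W → G ≤ W := fun W hW y hy => hy.mem_open W.2 hW
  obtain ⟨_, ⟨V, hV, rfl⟩, hxV, hVG⟩ :=
    X.isBasis_affineOpens.exists_subset_of_mem_open hxG G.2
  have hVG' : (V : X.Opens) = G := le_antisymm hVG (hmin V hxV)
  have hG : IsAffineOpen G := hVG' ▸ hV
  have hbij : Function.Bijective (X.presheaf.germ G x hxG).hom := by
    constructor
    · rw [injective_iff_map_eq_zero]
      intro s hs
      have h1 : (X.presheaf.germ G x hxG).hom s = (X.presheaf.germ G x hxG).hom 0 := by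
        rw [hs, map_zero]
      obtain ⟨W, hxW, iU, iV, e⟩ := X.presheaf.germ_eq x hxG hxG s 0 h1
      have hGW : G ≤ W := hmin W hxW
      have h2 := congrArg (X.presheaf.map (homOfLE hGW).op).hom e
      rw [map_zero, map_zero, ← RingHom.comp_apply, ← CommRingCat.hom_comp,
        ← Functor.map_comp] at h2
      have h3 : iU.op ≫ (homOfLE hGW).op = 𝟙 _ := Subsingleton.elim _ _
      rw [h3, X.presheaf.map_id] at h2
      exact h2
    · intro t
      obtain ⟨W, hxW, s, hs⟩ := X.presheaf.germ_exist (x := x) t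
      have hGW : G ≤ W := hmin W hxW
      refine ⟨(X.presheaf.map (homOfLE hGW).op).hom s, ?_⟩
      rw [← hs]
      exact congrArg (fun f => f.hom s) (X.presheaf.germ_res (homOfLE hGW) x hxG)
  haveI : IsIso (X.presheaf.germ G x hxG) :=
    (ConcreteCategory.isIso_iff_bijective _).mpr hbij
  rw [← hG.fromSpecStalk_eq_fromSpecStalk hxG, IsAffineOpen.fromSpecStalk]
  infer_instance

/-- in a scheme, a point with a finite open neighbourhood has an open set of generizations -/
theorem isOpen_generizations_of_finite {X : Scheme.{u}} (x : X) (U : X.Opens) (hxU : x ∈ U)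
    (hfin : (U : Set X).Finite) : IsOpen {y : X | y ⤳ x} := by
  haveI : Finite ↥U := hfin.to_subtype
  let x' : U := ⟨x, hxU⟩
  have h1 : IsOpen {y : U | y ⤳ x'} := by
    rw [isOpen_iff_forall_specializes]
    intro a b hab hb
    exact hab.trans hb
  have h2 : {y : X | y ⤳ x} = Subtype.val '' {y : U | y ⤳ x'} := by
    ext y
    constructor
    · intro hy
      have hyU : y ∈ U := hy.mem_open U.2 hxU
      exact ⟨⟨y, hyU⟩, (subtype_specializes_iff _ _).mpr hy, rfl⟩
    · rintro ⟨y', hy', rfl⟩
      exact (subtype_specializes_iff _ _).mp hy'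
  rw [h2]
  exact U.2.isOpenMap_subtype_val _ h1

end Groth.Agent.Helper4.FinSpecOI
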