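import Mathlib
import Groth.Agent.Lib.Helper4.FlatClosure2

set_option autoImplicit false
set_option linter.style.haveILetI false
universe u
open CategoryTheory CategoryTheory.Limits AlgebraicGeometry

namespace Groth.Agent.Helper4.FlatClosure

/-- Over a Dedekind domain `R`, a scheme `Z` receiving a quasi-compact scheme-theoretically
dominant morphism from a scheme over the fraction field is flat. -/
theorem flat_of_dominant_of_dedekind (R : Type u) [CommRing R] [IsDedekindDomain R]
    {Z W : Scheme.{u}} (h : Z ⟶ Spec (CommRingCat.of R)) (t : W ⟶ Z) [QuasiCompact t]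
    [IsSchemeTheoreticallyDominant t] (q : W ⟶ Spec (CommRingCat.of (FractionRing R)))
    (hq : t ≫ h = q ≫ Spec.map (CommRingCat.ofHom (algebraMap R (FractionRing R)))) : Flat h := by
  haveI := HasRingHomProperty.instIsZariskiLocalAtSource (P := @Flat.{u})
  rw [IsZariskiLocalAtSource.iff_of_openCover (P := @Flat) Z.affineOpenCover.openCover]
  intro i
  let A : CommRingCat := Z.affineOpenCover.X i
  let g : Spec A ⟶ Z := Z.affineOpenCover.f i
  show Flat (g ≫ h)
  obtain ⟨ψ, hψ⟩ := Spec.map_surjective (g ≫ h)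
  rw [← hψ, HasRingHomProperty.Spec_iff (P := @Flat)]
  letI : Algebra R A := ψ.hom.toAlgebra
  show Module.Flat R A
  rw [IsDedekindDomain.flat_iff_torsion_eq_bot, eq_bot_iff]
  intro a ha
  obtain ⟨r, hr⟩ := (Submodule.mem_torsion_iff a).1 ha
  have h1 : ψ.hom r * a = 0 := hr
  let ti : pullback t g ⟶ Spec A := pullback.snd t g
  haveI : IsOpenImmersion g := inferInstanceAs (IsOpenImmersion (Z.affineOpenCover.openCover.f i))
  haveI : Flat g := inferInstance
  haveI : IsSchemeTheoreticallyDominant ti := IsSchemeTheoreticallyDominant.pullbackSnd t g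
  haveI : QuasiCompact ti := inferInstance
  have hinj := ti.app_injective ⊤
  have hcomm : ti ≫ Spec.map ψ = (pullback.fst t g ≫ q) ≫
      Spec.map (CommRingCat.ofHom (algebraMap R (FractionRing R))) := by
    rw [hψ, Category.assoc, ← hq, ← Category.assoc, ← Category.assoc, pullback.condition]
  have e1 : (Scheme.ΓSpecIso A).inv (ψ.hom r) =
      (Spec.map ψ).appTop ((Scheme.ΓSpecIso (CommRingCat.of R)).inv (r : R)) := by
    have := Scheme.ΓSpecIso_inv_naturality ψ
    exact congr($(this) (r : R))
  have e2 : (Scheme.ΓSpecIso (CommRingCat.of (FractionRing R))).inv (algebraMap R (FractionRing R) r) =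
      (Spec.map (CommRingCat.ofHom (algebraMap R (FractionRing R)))).appTop
        ((Scheme.ΓSpecIso (CommRingCat.of R)).inv (r : R)) := by
    have := Scheme.ΓSpecIso_inv_naturality (CommRingCat.ofHom (algebraMap R (FractionRing R)))
    exact congr($(this) (r : R))
  have hu : IsUnit (ti.appTop ((Scheme.ΓSpecIso A).inv (ψ.hom r))) := by
    rw [e1]
    have e3 : ti.appTop ((Spec.map ψ).appTop ((Scheme.ΓSpecIso (CommRingCat.of R)).inv (r : R))) =
        (ti ≫ Spec.map ψ).appTop ((Scheme.ΓSpecIso (CommRingCat.of R)).inv (r : R)) := by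
      rw [Scheme.Hom.comp_appTop]; rfl
    rw [e3, hcomm, Scheme.Hom.comp_appTop]
    show IsUnit ((pullback.fst t g ≫ q).appTop ((Spec.map (CommRingCat.ofHom
      (algebraMap R (FractionRing R)))).appTop ((Scheme.ΓSpecIso (CommRingCat.of R)).inv (r : R))))
    rw [← e2]
    have hK : IsUnit (algebraMap R (FractionRing R) r) :=
      IsLocalization.map_units (FractionRing R) r
    exact (hK.map (Scheme.ΓSpecIso (CommRingCat.of (FractionRing R))).inv.hom).map
      (pullback.fst t g ≫ q).appTop.hom
  have h2 : ti.appTop ((Scheme.ΓSpecIso A).inv (ψ.hom r)) * ti.appTop ((Scheme.ΓSpecIso A).inv a) = 0 := by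
    rw [← map_mul, ← map_mul, h1, map_zero, map_zero]
  have h3 : ti.appTop ((Scheme.ΓSpecIso A).inv a) = 0 := (hu.mul_right_eq_zero).1 h2
  have h4 : (Scheme.ΓSpecIso A).inv a = 0 := hinj (h3.trans (map_zero _).symm)
  have h5 : a = 0 := by
    have := congrArg (Scheme.ΓSpecIso A).hom h4
    simpa using this
  exact (Submodule.mem_bot _).2 h5

end Groth.Agent.Helper4.FlatClosure
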