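import Mathlib
import Groth.Agent.Lib.Helper4.BCTower

set_option autoImplicit false
universe u
open AlgebraicGeometry CategoryTheory CategoryTheory.Limits TopologicalSpace Topology

namespace Groth.Agent.Helper4.GenFibIrr

theorem preirreducibleSpace_of_generalizingMap {W B : Type*} [TopologicalSpace W]
    [TopologicalSpace B] (q : W → B) (hq : GeneralizingMap q) (β : B)
    (hβ : IsGenericPoint β Set.univ) (hF : IsPreirreducible (q ⁻¹' {β})) :
    PreirreducibleSpace W := by
  refine ⟨?_⟩
  rintro U₁ U₂ hU₁ hU₂ ⟨u₁, -, hu₁⟩ ⟨u₂, -, hu₂⟩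
  have h1 : β ⤳ q u₁ := hβ.specializes (Set.mem_univ _)
  have h2 : β ⤳ q u₂ := hβ.specializes (Set.mem_univ _)
  obtain ⟨v₁, hv₁, e₁⟩ := hq h1
  obtain ⟨v₂, hv₂, e₂⟩ := hq h2
  have hv₁U : v₁ ∈ U₁ := hv₁.mem_open hU₁ hu₁
  have hv₂U : v₂ ∈ U₂ := hv₂.mem_open hU₂ hu₂
  obtain ⟨w, hwF, hw⟩ := hF U₁ U₂ hU₁ hU₂ ⟨v₁, e₁, hv₁U⟩ ⟨v₂, e₂, hv₂U⟩
  exact ⟨w, Set.mem_univ _, hw⟩

/-- a flat morphism to an irreducible scheme maps... : the image of the generic point under a
generalizing map is the generic point -/
theorem map_genericPoint {W B : Scheme.{u}} [IrreducibleSpace W] [IrreducibleSpace B]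
    (p : W ⟶ B) (hp : GeneralizingMap p.base) : p (genericPoint W) = genericPoint B := by
  have h1 : genericPoint B ⤳ p (genericPoint W) :=
    (genericPoint_spec B).specializes (Set.mem_univ _)
  obtain ⟨w, hw, e⟩ := hp h1
  have h2 : genericPoint W ⤳ w := (genericPoint_spec W).specializes (Set.mem_univ _)
  have : w = genericPoint W := (hw.antisymm h2).eq
  rw [← this, e]

variable {k : Type u} [Field k] {X C : Scheme.{u}}

set_option backward.isDefEq.respectTransparency false in
theorem geometricallyIrreducible_comp (g : C ⟶ Spec (CommRingCat.of k)) (f : X ⟶ C)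
    [IrreducibleSpace C] [GeometricallyIrreducible g] [Flat f] [Nonempty X]
    [GeometricallyIrreducible (f.fiberToSpecResidueField (genericPoint C))] :
    GeometricallyIrreducible (f ≫ g) := by
  refine ⟨fun K _ y Z fst snd h => ?_⟩
  -- the base change of `C`
  haveI hCK : IrreducibleSpace ↥(pullback g y) :=
    pullback_of_geometrically (GeometricallyIrreducible.geometrically_irreducibleSpace (f := g)) K y
  let p₁ := pullback.fst g y
  let p₂ := pullback.snd g y
  let fK : Z ⟶ pullback g y := pullback.lift (fst ≫ f) snd (by rw [Category.assoc, h.w])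
  have hfK1 : fK ≫ p₁ = fst ≫ f := pullback.lift_fst _ _ _
  have hfK2 : fK ≫ p₂ = snd := pullback.lift_snd _ _ _
  have hsq : IsPullback fst fK f p₁ := by
    refine IsPullback.of_bot ?_ hfK1.symm (IsPullback.of_hasPullback g y)
    rw [hfK2]
    exact h
  haveI : Flat fK := MorphismProperty.of_isPullback (P := @Flat) hsq inferInstance
  -- `p₁` maps the generic point to the generic point
  set β := genericPoint ↥(pullback g y) with hβ
  have hp₁ : p₁ β = genericPoint C := by
    haveI : Flat y := by
      rw [← Spec.map_preimage y, Flat.SpecMap_iff]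
      show (Spec.preimage y).hom.Flat
      letI := (Spec.preimage y).hom.toAlgebra
      exact (inferInstance : Module.Flat k K)
    exact map_genericPoint p₁ (Flat.generalizingMap p₁)
  -- the fibre of `fK` over `β`
  let L : Type u := (pullback g y).residueField β
  let yβ : Spec (CommRingCat.of L) ⟶ pullback g y := (pullback g y).fromSpecResidueField β
  have hFib : IrreducibleSpace ↥(pullback fK yβ) := by
    have hbig : IsPullback (pullback.fst fK yβ ≫ fst) (pullback.snd fK yβ) f (yβ ≫ p₁) :=
      (IsPullback.of_hasPullback fK yβ).paste_horiz hsq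
    have hfac := Scheme.descResidueField_stalkClosedPointTo_fromSpecResidueField L C (yβ ≫ p₁)
    have hpt : (yβ ≫ p₁) (IsLocalRing.closedPoint L) = genericPoint C := by
      rw [Scheme.Hom.comp_apply]
      have : yβ (IsLocalRing.closedPoint L) = β := Scheme.fromSpecResidueField_apply β _
      rw [this, hp₁]
    obtain ⟨c, hc, φ, hφ⟩ : ∃ (c : C) (_ : c = genericPoint C)
        (φ : C.residueField c ⟶ CommRingCat.of L),
        Spec.map φ ≫ C.fromSpecResidueField c = yβ ≫ p₁ := ⟨_, hpt, _, hfac⟩
    subst hc
    rw [← hφ] at hbig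
    let top : pullback fK yβ ⟶ pullback f (C.fromSpecResidueField (genericPoint C)) :=
      pullback.lift (pullback.fst fK yβ ≫ fst) (pullback.snd fK yβ ≫ Spec.map φ)
        (by rw [Category.assoc, Category.assoc]; exact hbig.w)
    have htop1 : top ≫ pullback.fst f (C.fromSpecResidueField (genericPoint C)) =
        pullback.fst fK yβ ≫ fst := pullback.lift_fst _ _ _
    have htop2 : top ≫ pullback.snd f (C.fromSpecResidueField (genericPoint C)) =
        pullback.snd fK yβ ≫ Spec.map φ := pullback.lift_snd _ _ _
    have hsq2 : IsPullback top (pullback.snd fK yβ)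
        (f.fiberToSpecResidueField (genericPoint C)) (Spec.map φ) := by
      refine IsPullback.of_right ?_ htop2 (IsPullback.of_hasPullback f _)
      rw [htop1]
      exact hbig
    exact (GeometricallyIrreducible.geometrically_irreducibleSpace
      (f := f.fiberToSpecResidueField (genericPoint C))) (Spec.map φ) top _ hsq2
  have hset : fK.base ⁻¹' {β} = Set.range (pullback.fst fK yβ) :=
    (fK.range_fiberι β).symm
  have hpre : IsPreirreducible (fK.base ⁻¹' {β}) := by
    rw [hset, ← Set.image_univ]
    exact ((IrreducibleSpace.isIrreducible_univ _).image _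
      (pullback.fst fK yβ).continuous.continuousOn).isPreirreducible
  haveI : PreirreducibleSpace ↥Z :=
    preirreducibleSpace_of_generalizingMap fK.base (Flat.generalizingMap fK) β
      (genericPoint_spec _) hpre
  haveI : Nonempty ↥Z := by
    haveI : Surjective y := ⟨fun _ => ⟨Nonempty.some inferInstance, Subsingleton.elim _ _⟩⟩
    haveI : Surjective fst := MorphismProperty.of_isPullback (P := @Surjective) h.flip inferInstance
    obtain ⟨x₀⟩ : Nonempty ↥X := inferInstance
    obtain ⟨z, -⟩ := fst.surjective x₀
    exact ⟨z⟩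
  exact ⟨inferInstance⟩

end Groth.Agent.Helper4.GenFibIrr
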