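import Mathlib
import Groth.Prelude.Def_MoreMor
import Groth.Agent.Lib.Helper4.CompCount2

/-!
# Geometric fibres and base change (helper4)

For a cartesian square, the geometric fibre of the base-changed morphism at `y'` is the base change
of the fibre of the original morphism at `g y'` to a separably closed field; hence the numbers of
irreducible / connected components of geometric fibres are compatible with base change.
-/

set_option autoImplicit false
set_option linter.style.haveILetI false
set_option linter.unusedSectionVars false
universe u
open AlgebraicGeometry CategoryTheory CategoryTheory.Limits TensorProduct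

namespace Groth.Agent.Helper4.GeomFibBC

open Groth.Agent.Helper4.BCTower Groth.Agent.Helper4.CompCount Groth.Agent.Helper4.CompCount2

section Top

variable {S W : Type*} [TopologicalSpace S] [TopologicalSpace W]

/-- a homeomorphism induces a bijection on connected components -/
noncomputable def connEquivOfHomeomorph (h : S ≃ₜ W) :
    _root_.ConnectedComponents S ≃ _root_.ConnectedComponents W where
  toFun := Continuous.connectedComponentsMap h.continuous
  invFun := Continuous.connectedComponentsMap h.symm.continuous
  left_inv := by
    intro c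
    obtain ⟨x, rfl⟩ := ConnectedComponents.surjective_coe c
    show _root_.ConnectedComponents.mk (h.symm (h x)) = _root_.ConnectedComponents.mk x
    rw [h.symm_apply_apply]
  right_inv := by
    intro c
    obtain ⟨x, rfl⟩ := ConnectedComponents.surjective_coe c
    show _root_.ConnectedComponents.mk (h (h.symm x)) = _root_.ConnectedComponents.mk x
    rw [h.apply_symm_apply]

end Top

section Main

variable {X Y X' Y' : Scheme.{u}} (f : X ⟶ Y) (f' : X' ⟶ Y') (g' : X' ⟶ X) (g : Y' ⟶ Y)

theorem main (hc : IsPullback g' f' f g) (y' : Y') :
    MoreMor.nGeomIrredComp f' y' = MoreMor.nGeomIrredComp f (g y') ∧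
    MoreMor.nGeomConnComp f' y' = MoreMor.nGeomConnComp f (g y') := by
  have sqF := isPullback_fiberToSpecResidueField_of_isPullback hc y'
  let κ : Type u := Y.residueField (g y')
  let κ' : Type u := Y'.residueField y'
  let Ω : Type u := SeparableClosure κ
  let Ω' : Type u := SeparableClosure κ'
  let ρ : κ →+* κ' := (g.residueFieldMap y').hom
  letI : Algebra κ κ' := ρ.toAlgebra
  letI : Algebra κ Ω' := ((algebraMap κ' Ω').comp ρ).toAlgebra
  haveI : IsScalarTower κ κ' Ω' := IsScalarTower.of_algebraMap_eq (fun _ => rfl)
  let e : Ω →ₐ[κ] Ω' := IsSepClosed.lift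
  letI : Algebra Ω Ω' := e.toRingHom.toAlgebra
  haveI : IsScalarTower κ Ω Ω' := IsScalarTower.of_algebraMap_eq (fun x => (e.commutes x).symm)
  let fy : f.fiber (g y') ⟶ Spec (CommRingCat.of κ) := f.fiberToSpecResidueField (g y')
  have hbot : Spec.map (CommRingCat.ofHom (algebraMap κ' Ω')) ≫ Spec.map (g.residueFieldMap y') =
      yK (k := κ) Ω' := by
    rw [← Spec.map_comp]
    rfl
  have big : IsPullback
      (pullback.fst (f'.fiberToSpecResidueField y') (Spec.map (CommRingCat.ofHom (algebraMap κ' Ω'))) ≫
        pullback.map _ _ _ _ g' (Spec.map (g.residueFieldMap y')) g hc.w.symm (by simp))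
      (pullback.snd (f'.fiberToSpecResidueField y') (Spec.map (CommRingCat.ofHom (algebraMap κ' Ω'))))
      fy (yK (k := κ) Ω') := by
    rw [← hbot]
    exact (IsPullback.of_hasPullback _ _).paste_horiz sqF
  let h : ↥(MoreMor.geomFiber f' y') ≃ₜ ↥(pullback fy (yK (k := κ) Ω')) :=
    big.isoPullback.hom.homeomorph
  constructor
  · unfold MoreMor.nGeomIrredComp
    rw [← Set.encard_congr (irrEquivOfHomeomorph h), Set.encard_congr (irrEquiv Ω Ω' fy)]
    rfl
  · unfold MoreMor.nGeomConnComp
    rw [ENat.card_congr (connEquivOfHomeomorph h)]
    have hmk := mk_connectedComponents_eq_tower Ω Ω' fy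
    show Cardinal.toENat _ = Cardinal.toENat _
    rw [hmk]
    rfl

end Main

end Groth.Agent.Helper4.GeomFibBC
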