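import Mathlib
import Groth.Agent.Lib.Helper4.GeomIrrSep
import Groth.Agent.Lib.Helper4.GeomConnFin

/-!
# Geometric irreducibility and the self fibre product (helper4)
-/

set_option autoImplicit false
set_option linter.style.haveILetI false
universe u
open AlgebraicGeometry CategoryTheory CategoryTheory.Limits TensorProduct

namespace Groth.Agent.Helper4.GeomIrrSep

variable {k : Type u} [Field k] {X : Scheme.{u}} (f : X ⟶ Spec (CommRingCat.of k))

/-- if `X` and `X ⊗_k κ(ξ)` are irreducible then `k` is separably closed in `κ(ξ)` -/
theorem mem_range_of_irreducibleSpace_bc_residueField [IrreducibleSpace X]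
    (φ : k →+* X.residueField (genericPoint X))
    (hφ : Spec.map (CommRingCat.ofHom φ) = X.fromSpecResidueField (genericPoint X) ≫ f)
    (hirr : IrreducibleSpace ↥(pullback f (Spec.map (CommRingCat.ofHom φ))))
    (α : X.residueField (genericPoint X)) (hα : letI := φ.toAlgebra; IsSeparable k α) :
    α ∈ φ.range := by
  letI : Algebra k (X.residueField (genericPoint X)) := φ.toAlgebra
  let E : IntermediateField k (X.residueField (genericPoint X)) := IntermediateField.adjoin k {α}
  haveI : IrreducibleSpace ↥(pullback f (GeomConnFin.yK (X.residueField (genericPoint X)))) := hirr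
  haveI : IrreducibleSpace ↥(pullback f (Spec.map (CommRingCat.ofHom (algebraMap k E)))) :=
    (GeomConnFin.pE_surjective (X.residueField (genericPoint X)) f E).irreducibleSpace
      (GeomConnFin.pE (X.residueField (genericPoint X)) f E).continuous
  have h1 := irreducibleSpace_tensor_of_irreducibleSpace_bc f φ hφ E
  have h2 : IrreducibleSpace (PrimeSpectrum (E ⊗[k] X.residueField (genericPoint X))) :=
    (PrimeSpectrum.homeomorphOfRingEquiv
      (Algebra.TensorProduct.comm k (X.residueField (genericPoint X)) E).toRingEquiv
      ).irreducibleSpace_iff.mp h1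
  exact Groth.Agent.Helper14.SepClosedIn.mem_range_of_isSeparable_of_irreducible α hα h2

/-- **S7594** -/
theorem geometricallyIrreducible_iff_irreducibleSpace_pullback_self :
    GeometricallyIrreducible f ↔ IrreducibleSpace ↥(pullback f f) := by
  haveI : Subsingleton ↥(Spec (CommRingCat.of k)) :=
    inferInstanceAs (Subsingleton (PrimeSpectrum k))
  constructor
  · intro h
    haveI : IrreducibleSpace ↥X := GeometricallyIrreducible.irreducibleSpace_of_subsingleton f
    infer_instance
  · intro h
    have hsurj1 : Function.Surjective (pullback.fst f f).base := by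
      rw [← Set.range_eq_univ, Scheme.Pullback.range_fst]
      ext x
      simp only [Set.mem_preimage, Set.mem_range, Set.mem_univ, iff_true]
      exact ⟨x, rfl⟩
    have hsurj2 : Function.Surjective (pullback.snd f f).base := by
      rw [← Set.range_eq_univ, Scheme.Pullback.range_snd]
      ext x
      simp only [Set.mem_preimage, Set.mem_range, Set.mem_univ, iff_true]
      exact ⟨x, rfl⟩
    haveI hX : IrreducibleSpace ↥X := hsurj1.irreducibleSpace (pullback.fst f f).continuous
    set j := X.fromSpecResidueField (genericPoint X) with hj
    obtain ⟨ψ, hψ⟩ := Spec.map_surjective (j ≫ f)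
    have h1 : IrreducibleSpace ↥(pullback j (pullback.snd f f)) :=
      irreducibleSpace_generic_fibre (pullback.snd f f) hsurj2
    have h2 : IrreducibleSpace ↥(pullback (pullback.snd f f) j) :=
      ((pullbackSymmetry j (pullback.snd f f)).hom.homeomorph.irreducibleSpace_iff).1 h1
    have h3 : IrreducibleSpace ↥(pullback f (j ≫ f)) :=
      ((pullbackLeftPullbackSndIso f f j).hom.homeomorph.irreducibleSpace_iff).1 h2
    rw [← hψ] at h3
    refine geometricallyIrreducible_of_genericPoint f ψ.hom hψ ?_
    intro α hα
    exact mem_range_of_irreducibleSpace_bc_residueField f ψ.hom hψ h3 α hα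

end Groth.Agent.Helper4.GeomIrrSep
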