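import Mathlib
import Groth.Agent.Lib.Helper7.SpreadOut
import Groth.Agent.Lib.Helper15.SpreadOutLfp
import Groth.Agent.Lib.Helper4.SpecCl

/-!
# Morphisms agreeing on the germ at a point agree near the point (helper4; S5104, S9217)
-/

set_option autoImplicit false
universe u
open AlgebraicGeometry CategoryTheory CategoryTheory.Limits

namespace Groth.Agent.Helper4.GermAgree

variable {X Y S : Scheme.{u}}

/-- `a` and `b'` agree on `O`. -/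
def Good (U W₀ : X.Opens) (a : (U : Scheme.{u}) ⟶ Y) (b' : (W₀ : Scheme.{u}) ⟶ Y)
    (O : X.Opens) : Prop :=
  ∃ (h1 : O ≤ U) (h2 : O ≤ W₀), X.homOfLE h2 ≫ b' = X.homOfLE h1 ≫ a

theorem Good.mono {U W₀ : X.Opens} {a : (U : Scheme.{u}) ⟶ Y} {b' : (W₀ : Scheme.{u}) ⟶ Y}
    {O O' : X.Opens} (h : Good U W₀ a b' O) (hle : O' ≤ O) : Good U W₀ a b' O' := by
  obtain ⟨h1, h2, e⟩ := h
  refine ⟨hle.trans h1, hle.trans h2, ?_⟩
  rw [← X.homOfLE_homOfLE hle h1, ← X.homOfLE_homOfLE hle h2, Category.assoc, Category.assoc, e]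

/-- Agreement is local. -/
theorem good_of_local {U W₀ : X.Opens} {a : (U : Scheme.{u}) ⟶ Y} {b' : (W₀ : Scheme.{u}) ⟶ Y}
    (O₂ : X.Opens) (h1 : O₂ ≤ U) (h2 : O₂ ≤ W₀)
    (hloc : ∀ c ∈ O₂, ∃ O, Good U W₀ a b' O ∧ c ∈ O) : Good U W₀ a b' O₂ := by
  refine ⟨h1, h2, ?_⟩
  have hloc' : ∀ c : ↥(O₂ : Scheme.{u}), ∃ O, Good U W₀ a b' O ∧ c.1 ∈ O :=
    fun c => hloc c.1 c.2
  choose O hO hcO using hloc'
  let 𝒱 : ↥(O₂ : Scheme.{u}) → (O₂ : Scheme.{u}).Opens := fun c => O₂.ι ⁻¹ᵁ (O c)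
  have hcov : TopologicalSpace.IsOpenCover 𝒱 := by
    refine TopologicalSpace.IsOpenCover.mk (eq_top_iff.mpr fun c _ => ?_)
    exact TopologicalSpace.Opens.mem_iSup.mpr ⟨c, hcO c⟩
  let 𝒰 : (O₂ : Scheme.{u}).OpenCover := (O₂ : Scheme.{u}).openCoverOfIsOpenCover 𝒱 hcov
  refine Scheme.Cover.hom_ext 𝒰 _ _ fun c => ?_
  change (𝒱 c).ι ≫ X.homOfLE h2 ≫ b' = (𝒱 c).ι ≫ X.homOfLE h1 ≫ a
  obtain ⟨g1, g2, e⟩ := hO c
  let θ : ((𝒱 c : (O₂ : Scheme.{u}).Opens) : Scheme.{u}) ⟶ ((O c : X.Opens) : Scheme.{u}) :=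
    O₂.ι ∣_ (O c)
  have hθ : θ ≫ (O c).ι = (𝒱 c).ι ≫ O₂.ι := morphismRestrict_ι _ _
  have e1 : (𝒱 c).ι ≫ X.homOfLE h2 = θ ≫ X.homOfLE g2 := by
    rw [← cancel_mono W₀.ι, Category.assoc, Category.assoc, Scheme.homOfLE_ι, Scheme.homOfLE_ι, hθ]
  have e2 : (𝒱 c).ι ≫ X.homOfLE h1 = θ ≫ X.homOfLE g1 := by
    rw [← cancel_mono U.ι, Category.assoc, Category.assoc, Scheme.homOfLE_ι, Scheme.homOfLE_ι, hθ]
  rw [← Category.assoc, e1, ← Category.assoc, e2, Category.assoc, Category.assoc, e]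

variable (p : X ⟶ S) (q : Y ⟶ S)

set_option maxHeartbeats 800000 in
/-- Two `S`-morphisms to a scheme locally of finite type which agree on the germ at `x` agree
near every generization of `x`. -/
theorem good_of_germ [LocallyOfFiniteType q] (x : X) (U W₀ : X.Opens) (hxW₀ : x ∈ W₀)
    (a : (U : Scheme.{u}) ⟶ Y) (ha : a ≫ q = U.ι ≫ p)
    (b' : (W₀ : Scheme.{u}) ⟶ Y) (hb' : b' ≫ q = W₀.ι ≫ p)
    (hagree : ∀ {Q : Scheme.{u}} (α : Q ⟶ Spec (X.presheaf.stalk x)) (β : Q ⟶ (U : Scheme.{u})),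
      α ≫ X.fromSpecStalk x = β ≫ U.ι → α ≫ W₀.fromSpecStalkOfMem x hxW₀ ≫ b' = β ≫ a)
    (c : X) (hcU : c ∈ U) (hcW₀ : c ∈ W₀) (hcx : c ⤳ x) :
    ∃ O, Good U W₀ a b' O ∧ c ∈ O := by
  let X₁ : X.Opens := U ⊓ W₀
  let c₁ : (X₁ : Scheme.{u}) := ⟨c, hcU, hcW₀⟩
  let f : (X₁ : Scheme.{u}) ⟶ Y := X.homOfLE (inf_le_left : X₁ ≤ U) ≫ a
  let g : (X₁ : Scheme.{u}) ⟶ Y := X.homOfLE (inf_le_right : X₁ ≤ W₀) ≫ b'
  have hf : f ≫ q = X₁.ι ≫ p := by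
    simp only [f, Category.assoc, ha, Scheme.homOfLE_ι_assoc]
  have hg : g ≫ q = X₁.ι ≫ p := by
    simp only [g, Category.assoc, hb', Scheme.homOfLE_ι_assoc]
  have hsp : X₁.ι c₁ ⤳ x := hcx
  obtain ⟨α, hα⟩ : ∃ α : Spec ((X₁ : Scheme.{u}).presheaf.stalk c₁) ⟶ Spec (X.presheaf.stalk x),
      α ≫ X.fromSpecStalk x = (X₁ : Scheme.{u}).fromSpecStalk c₁ ≫ X₁.ι := by
    refine ⟨Spec.map (X₁.ι.stalkMap c₁) ≫ Spec.map (X.presheaf.stalkSpecializes hsp), ?_⟩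
    rw [Category.assoc, Scheme.SpecMap_stalkSpecializes_fromSpecStalk,
      Scheme.SpecMap_stalkMap_fromSpecStalk]
  have e : (X₁ : Scheme.{u}).fromSpecStalk c₁ ≫ f = (X₁ : Scheme.{u}).fromSpecStalk c₁ ≫ g := by
    have h1 := hagree α ((X₁ : Scheme.{u}).fromSpecStalk c₁ ≫ X.homOfLE (inf_le_left : X₁ ≤ U))
      (by rw [hα, Category.assoc, Scheme.homOfLE_ι])
    have h2 : α ≫ W₀.fromSpecStalkOfMem x hxW₀ =
        (X₁ : Scheme.{u}).fromSpecStalk c₁ ≫ X.homOfLE (inf_le_right : X₁ ≤ W₀) := by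
      apply (cancel_mono W₀.ι).mp
      calc (α ≫ W₀.fromSpecStalkOfMem x hxW₀) ≫ W₀.ι = α ≫ X.fromSpecStalk x := by
            rw [Category.assoc, Scheme.Opens.fromSpecStalkOfMem_ι]
        _ = (X₁ : Scheme.{u}).fromSpecStalk c₁ ≫ X₁.ι := hα
        _ = ((X₁ : Scheme.{u}).fromSpecStalk c₁ ≫ X.homOfLE (inf_le_right : X₁ ≤ W₀)) ≫ W₀.ι := by
            rw [Category.assoc, Scheme.homOfLE_ι]
    calc (X₁ : Scheme.{u}).fromSpecStalk c₁ ≫ f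
        = ((X₁ : Scheme.{u}).fromSpecStalk c₁ ≫ X.homOfLE (inf_le_left : X₁ ≤ U)) ≫ a :=
          (Category.assoc _ _ _).symm
      _ = α ≫ W₀.fromSpecStalkOfMem x hxW₀ ≫ b' := h1.symm
      _ = (α ≫ W₀.fromSpecStalkOfMem x hxW₀) ≫ b' := (Category.assoc _ _ _).symm
      _ = ((X₁ : Scheme.{u}).fromSpecStalk c₁ ≫ X.homOfLE (inf_le_right : X₁ ≤ W₀)) ≫ b' := by
          rw [h2]
      _ = (X₁ : Scheme.{u}).fromSpecStalk c₁ ≫ g := Category.assoc _ _ _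
  obtain ⟨O', hcO', hO'⟩ :=
    Groth.Agent.Helper7.spread_out_unique_of_locallyOfFiniteType' (X₁.ι ≫ p) q f g hf hg e
  refine ⟨X₁.ι ''ᵁ O', ?_, ⟨c₁, hcO', rfl⟩⟩
  have hle : X₁.ι ''ᵁ O' ≤ X₁ := X₁.ι_image_le O'
  refine ⟨hle.trans inf_le_left, hle.trans inf_le_right, ?_⟩
  have k1 : X.homOfLE (hle.trans (inf_le_left : X₁ ≤ U)) =
      (X₁.ι.isoImage O').inv ≫ O'.ι ≫ X.homOfLE (inf_le_left : X₁ ≤ U) := by
    rw [← cancel_mono U.ι, Category.assoc, Category.assoc, Scheme.homOfLE_ι, Scheme.homOfLE_ι,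
      Scheme.Hom.isoImage_inv_ι]
  have k2 : X.homOfLE (hle.trans (inf_le_right : X₁ ≤ W₀)) =
      (X₁.ι.isoImage O').inv ≫ O'.ι ≫ X.homOfLE (inf_le_right : X₁ ≤ W₀) := by
    rw [← cancel_mono W₀.ι, Category.assoc, Category.assoc, Scheme.homOfLE_ι, Scheme.homOfLE_ι,
      Scheme.Hom.isoImage_inv_ι]
  rw [k1, k2, Category.assoc, Category.assoc, Category.assoc, Category.assoc]
  congr 1
  exact hO'.symm


set_option maxHeartbeats 800000 in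
/-- **Agreement shrinks**: if `a : U → Y` and `b' : W₀ → Y` agree on the germ at `x` and `U` meets
some affine neighbourhood of `x` in a quasi-compact set, they agree on `U ∩ W` for some
neighbourhood `W` of `x`. -/
theorem exists_nhd_agree [LocallyOfFiniteType q] (x : X) (U W₀ : X.Opens) (hxW₀ : x ∈ W₀)
    (a : (U : Scheme.{u}) ⟶ Y) (ha : a ≫ q = U.ι ≫ p)
    (b' : (W₀ : Scheme.{u}) ⟶ Y) (hb' : b' ≫ q = W₀.ι ≫ p)
    (hagree : ∀ {Q : Scheme.{u}} (α : Q ⟶ Spec (X.presheaf.stalk x)) (β : Q ⟶ (U : Scheme.{u})),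
      α ≫ X.fromSpecStalk x = β ≫ U.ι → α ≫ W₀.fromSpecStalkOfMem x hxW₀ ≫ b' = β ≫ a)
    (W₁ : X.Opens) (hxW₁ : x ∈ W₁) (hW₁W₀ : W₁ ≤ W₀) (hW₁ : IsAffineOpen W₁)
    (hcomp : IsCompact ((U ⊓ W₁ : X.Opens) : Set X)) :
    ∃ W : X.Opens, x ∈ W ∧ W ≤ W₀ ∧ Good U W₀ a b' (U ⊓ W) := by
  let X₁ : X.Opens := U ⊓ W₁
  haveI : CompactSpace (X₁ : Scheme.{u}) := isCompact_iff_compactSpace.mp hcomp
  haveI : IsAffine (W₁ : Scheme.{u}) := hW₁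
  let j : (X₁ : Scheme.{u}) ⟶ (W₁ : Scheme.{u}) := X.homOfLE (inf_le_right : X₁ ≤ W₁)
  haveI : QuasiCompact j := inferInstance
  let C : Set (X₁ : Scheme.{u}) := {c | ¬ ∃ O, Good U W₀ a b' O ∧ c.1 ∈ O}
  have hC : IsClosed C := by
    rw [← isOpen_compl_iff]
    have : Cᶜ = ⋃ (O : {O : X.Opens // Good U W₀ a b' O}), X₁.ι ⁻¹' (O.1 : Set X) := by
      ext c
      simp only [C, Set.mem_compl_iff, Set.mem_setOf_eq, not_not, Set.mem_iUnion,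
        Set.mem_preimage, SetLike.mem_coe]
      constructor
      · rintro ⟨O, hO, hc⟩
        exact ⟨⟨O, hO⟩, hc⟩
      · rintro ⟨⟨O, hO⟩, hc⟩
        exact ⟨O, hO, hc⟩
    rw [this]
    exact isOpen_iUnion fun O => O.1.2.preimage X₁.ι.continuous
  let I := Scheme.IdealSheafData.vanishingIdeal ⟨C, hC⟩
  have hrC : Set.range I.subschemeι = C := by
    rw [Scheme.IdealSheafData.range_subschemeι, Scheme.IdealSheafData.coe_support_vanishingIdeal]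
    rfl
  let x₁ : (W₁ : Scheme.{u}) := ⟨x, hxW₁⟩
  have hx₁ : x₁ ∉ closure (Set.range (I.subschemeι ≫ j)) := by
    intro hcon
    obtain ⟨t, ht⟩ := SpecCl.exists_specializes_of_mem_closure_range (I.subschemeι ≫ j) x₁ hcon
    let c : (X₁ : Scheme.{u}) := I.subschemeι t
    have hcC : c ∈ C := by rw [← hrC]; exact ⟨t, rfl⟩
    have h1 : W₁.ι ((I.subschemeι ≫ j) t) ⤳ W₁.ι x₁ := ht.map W₁.ι.continuous
    have h2 : W₁.ι ((I.subschemeι ≫ j) t) = c.1 := by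
      rw [← Scheme.Hom.comp_apply, Category.assoc, Scheme.homOfLE_ι, Scheme.Hom.comp_apply]
      rfl
    rw [h2] at h1
    exact hcC (good_of_germ p q x U W₀ hxW₀ a ha b' hb' hagree c.1 c.2.1 (hW₁W₀ c.2.2) h1)
  let N : (W₁ : Scheme.{u}).Opens :=
    ⟨(closure (Set.range (I.subschemeι ≫ j)))ᶜ, isClosed_closure.isOpen_compl⟩
  refine ⟨W₁.ι ''ᵁ N, ⟨x₁, hx₁, rfl⟩, (W₁.ι_image_le N).trans hW₁W₀, ?_⟩
  apply good_of_local (U ⊓ W₁.ι ''ᵁ N) inf_le_left (inf_le_right.trans ((W₁.ι_image_le N).trans hW₁W₀))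
  rintro c ⟨hcU, n, hnN, rfl⟩
  let c₁ : (X₁ : Scheme.{u}) := ⟨W₁.ι n, hcU, n.2⟩
  by_contra hcon
  have hc₁C : c₁ ∈ C := hcon
  rw [← hrC] at hc₁C
  obtain ⟨t, ht⟩ := hc₁C
  apply hnN
  apply subset_closure
  refine ⟨t, ?_⟩
  rw [Scheme.Hom.comp_apply, ht]
  apply Subtype.ext
  have : (j c₁).1 = c₁.1 := Scheme.homOfLE_apply _ _
  exact this

end Groth.Agent.Helper4.GermAgree
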