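import Mathlib
import Groth.Agent.Lib.Helper4.ZMTBir

/-!
# The closure of the graph of a rational map (helper4)
-/

set_option autoImplicit false
universe u
open AlgebraicGeometry CategoryTheory CategoryTheory.Limits

namespace Groth.Agent.Helper4.GraphCl

/-- the scheme-theoretic image of a quasi-compact morphism from a reduced scheme is reduced -/
theorem isReduced_image {X Y : Scheme.{u}} (f : X ⟶ Y) [QuasiCompact f] [IsReduced X] :
    IsReduced f.image := by
  rw [IsReduced.iff_of_openCover (X := f.image) f.ker.subschemeCover.openCover]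
  intro (U : Y.affineOpens)
  have h3 : (f.ker.ideal U).IsRadical := by
    rw [Scheme.Hom.ker_apply]
    exact Ideal.IsRadical.comap (f := (f.app U).hom) Ideal.isRadical_bot
  have h2 : _root_.IsReduced (Γ(Y, U) ⧸ f.ker.ideal U) :=
    (Ideal.isRadical_iff_quotient_reduced _).mp h3
  exact (affine_isReduced_iff (.of (Γ(Y, U) ⧸ f.ker.ideal U))).mpr h2

/-- the scheme-theoretic image of a quasi-compact morphism from an irreducible scheme is
irreducible -/
theorem irreducibleSpace_image {X Y : Scheme.{u}} (f : X ⟶ Y) [QuasiCompact f]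
    [IrreducibleSpace X] : IrreducibleSpace f.image := by
  have hd : DenseRange f.toImage := f.toImage.denseRange
  have h1 : IsIrreducible (Set.range f.toImage) := by
    rw [← Set.image_univ]
    exact (IrreducibleSpace.isIrreducible_univ X).image _ f.toImage.continuous.continuousOn
  have h2 : IsIrreducible (closure (Set.range f.toImage)) := h1.closure
  rw [hd.closure_range] at h2
  exact (irreducibleSpace_def _).mpr h2

section graph

variable {X Y S U : Scheme.{u}} (pX : X ⟶ S) (pY : Y ⟶ S) (j : U ⟶ X) (h : U ⟶ Y)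
  (w : j ≫ pX = h ≫ pY)

/-- the graph of an `S`-morphism `U → Y`, as a morphism into `X ×_S Y` -/
noncomputable abbrev graph : U ⟶ pullback pX pY := pullback.lift j h w

/-- the projection from the closure of the graph to `X` -/
noncomputable abbrev proj : (graph pX pY j h w).image ⟶ X :=
  (graph pX pY j h w).imageι ≫ pullback.fst pX pY

theorem toImage_proj : (graph pX pY j h w).toImage ≫ proj pX pY j h w = j := by
  simp only [proj, graph, Scheme.Hom.toImage_imageι_assoc]
  exact pullback.lift_fst _ _ _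

instance [IsSeparated pY] : IsSeparated (proj pX pY j h w) := by
  unfold proj; infer_instance

instance [LocallyOfFiniteType pY] : LocallyOfFiniteType (proj pX pY j h w) := by
  unfold proj; infer_instance

/-- the closure of the graph is isomorphic to `U` over (the image of) `U` -/
theorem isIso_proj_restrict [IsOpenImmersion j] [IsSeparated pY]
    [QuasiCompact (graph pX pY j h w)] [IsReduced U] :
    IsIso (proj pX pY j h w ∣_ j.opensRange) := by
  set γ := graph pX pY j h w with hγ
  set p := proj pX pY j h w with hp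
  set V := j.opensRange with hV
  have htp : γ.toImage ≫ p = j := toImage_proj pX pY j h w
  have hrange : Set.range γ.toImage ⊆ Set.range (p ⁻¹ᵁ V).ι := by
    rintro _ ⟨u, rfl⟩
    rw [Scheme.Opens.range_ι]
    change p (γ.toImage u) ∈ V
    rw [← Scheme.Hom.comp_apply, htp]
    exact ⟨u, rfl⟩
  let t' : U ⟶ (p ⁻¹ᵁ V : Scheme.{u}) := IsOpenImmersion.lift (p ⁻¹ᵁ V).ι γ.toImage hrange
  have ht' : t' ≫ (p ⁻¹ᵁ V).ι = γ.toImage := IsOpenImmersion.lift_fac _ _ _
  have h1 : t' ≫ (p ∣_ V) = j.isoOpensRange.hom := by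
    rw [← cancel_mono V.ι, Category.assoc, morphismRestrict_ι, reassoc_of% ht', htp,
      Scheme.Hom.isoOpensRange_hom_ι]
  let σ : (V : Scheme.{u}) ⟶ (p ⁻¹ᵁ V : Scheme.{u}) := j.isoOpensRange.inv ≫ t'
  have hσ : σ ≫ (p ∣_ V) = 𝟙 _ := by
    simp only [σ, Category.assoc, h1, Iso.inv_hom_id]
  haveI : IsClosedImmersion (σ ≫ (p ∣_ V)) := by rw [hσ]; infer_instance
  haveI : IsClosedImmersion σ := IsClosedImmersion.of_comp σ (p ∣_ V)
  have hd : DenseRange γ.toImage := γ.toImage.denseRange
  have hdσ : Dense (Set.range σ) := by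
    have h2 : Set.range σ = (p ⁻¹ᵁ V).ι ⁻¹' (Set.range γ.toImage) := by
      simp only [σ, Scheme.Hom.comp_base, TopCat.coe_comp]
      rw [Set.range_comp, Set.range_eq_univ.mpr j.isoOpensRange.inv.surjective, Set.image_univ,
        ← ht']
      simp only [Scheme.Hom.comp_base, TopCat.coe_comp]
      rw [Set.range_comp, Set.preimage_image_eq _ (p ⁻¹ᵁ V).ι.isEmbedding.injective]
    rw [h2]
    exact Dense.preimage hd (p ⁻¹ᵁ V).ι.isOpenEmbedding.isOpenMap
  haveI : Surjective σ := ⟨by
    rw [← Set.range_eq_univ, ← σ.isClosedEmbedding.isClosed_range.closure_eq]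
    exact hdσ.closure_eq⟩
  haveI : IsReduced γ.image := isReduced_image γ
  haveI : IsIso σ := isIso_of_isClosedImmersion_of_surjective σ
  have : p ∣_ V = inv σ := by
    rw [← cancel_epi σ, hσ, IsIso.hom_inv_id]
  rw [this]; infer_instance

/-- **Extension of a rational map at a normal point** (integral case): if the closure of the
graph has an isolated point in the fibre over a normal point `x`, the map extends to a
neighbourhood of `x`. -/
theorem exists_extension [IsIntegral X] [LocallyOfFiniteType pY] [IsSeparated pY]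
    [IsOpenImmersion j] [Nonempty U] [QuasiCompact (graph pX pY j h w)]
    (x : X) (hx : IsIntegrallyClosed (X.presheaf.stalk x))
    (z : ↥(pullback pX pY)) (hz : pullback.fst pX pY z = x)
    (hzΓ : z ∈ closure (Set.range (graph pX pY j h w)))
    (hiso : ∃ W : (pullback pX pY).Opens,
      (W : Set ↥(pullback pX pY)) ∩ closure (Set.range (graph pX pY j h w)) ∩
        (pullback.fst pX pY) ⁻¹' {x} = {z}) :
    ∃ (V : X.Opens) (v : (V : Scheme.{u}) ⟶ Y), x ∈ V ∧ v ≫ pY = V.ι ≫ pX ∧
      (j ∣_ V) ≫ v = (j ⁻¹ᵁ V).ι ≫ h := by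
  haveI : IsIntegral U := isIntegral_of_isOpenImmersion j
  set γ := graph pX pY j h w with hγ
  set p := proj pX pY j h w with hp
  haveI : IsReduced γ.image := isReduced_image γ
  haveI : IrreducibleSpace γ.image := irreducibleSpace_image γ
  haveI : IsIntegral γ.image := isIntegral_of_irreducibleSpace_of_isReduced _
  haveI := isIso_proj_restrict pX pY j h w
  obtain ⟨hgen, hbir⟩ := ZMTBir.birational_of_isIso_morphismRestrict p j.opensRange
    (Set.range_nonempty _)
  have hrange : Set.range γ.imageι = closure (Set.range γ) := by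
    rw [Scheme.IdealSheafData.range_subschemeι, Scheme.Hom.support_ker]
  obtain ⟨z', hz'⟩ : z ∈ Set.range γ.imageι := hrange ▸ hzΓ
  have hpz' : p z' = x := by
    rw [hp, proj, Scheme.Hom.comp_apply, hz', hz]
  obtain ⟨W, hW⟩ := hiso
  have hq : p.QuasiFiniteAt z' := by
    refine ZMTBir.quasiFiniteAt_of_isOpen_singleton_preimage p z' x hpz' ?_
    have hopen : IsOpen (Subtype.val ⁻¹' (γ.imageι ⁻¹' (W : Set ↥(pullback pX pY))) :
        Set (p ⁻¹' {x})) :=
      (W.isOpen.preimage γ.imageι.continuous).preimage continuous_subtype_val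
    convert hopen using 1
    ext ⟨a, ha⟩
    constructor
    · intro hEq
      have hEq2 : (⟨a, ha⟩ : (p ⁻¹' {x})) = ⟨z', hpz'⟩ := hEq
      obtain rfl : a = z' := congrArg Subtype.val hEq2
      change γ.imageι a ∈ (W : Set ↥(pullback pX pY))
      have : z ∈ (W : Set ↥(pullback pX pY)) ∩ closure (Set.range γ) ∩
          (pullback.fst pX pY) ⁻¹' {x} := hW ▸ rfl
      rw [hz']
      exact this.1.1
    · intro haW'
      have haW : γ.imageι a ∈ (W : Set ↥(pullback pX pY)) := haW'
      change (⟨a, ha⟩ : (p ⁻¹' {x})) = ⟨z', hpz'⟩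
      have h1 : γ.imageι a ∈ (W : Set ↥(pullback pX pY)) ∩ closure (Set.range γ) ∩
          (pullback.fst pX pY) ⁻¹' {x} := by
        refine ⟨⟨haW, hrange ▸ ⟨a, rfl⟩⟩, ?_⟩
        have : p a = x := ha
        rwa [hp, proj, Scheme.Hom.comp_apply] at this
      rw [hW] at h1
      exact Subtype.ext (γ.imageι.isClosedEmbedding.injective (h1.trans hz'.symm))
  have hx' : IsIntegrallyClosed (X.presheaf.stalk (p z')) := by rw [hpz']; exact hx
  obtain ⟨V, hxV, hV⟩ := ZMTBir.exists_isIso_morphismRestrict p hgen hbir z' hq hx'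
  refine ⟨V, inv (p ∣_ V) ≫ (p ⁻¹ᵁ V).ι ≫ γ.imageι ≫ pullback.snd pX pY, hpz' ▸ hxV, ?_, ?_⟩
  · simp only [Category.assoc]
    rw [← pullback.condition, IsIso.inv_comp_eq]
    have : γ.imageι ≫ pullback.fst pX pY = p := rfl
    rw [reassoc_of% this, ← morphismRestrict_ι_assoc]
  · have htp : γ.toImage ≫ p = j := toImage_proj pX pY j h w
    have hr : Set.range ((j ⁻¹ᵁ V).ι ≫ γ.toImage) ⊆ Set.range (p ⁻¹ᵁ V).ι := by
      rintro _ ⟨o, rfl⟩
      rw [Scheme.Opens.range_ι]
      change p (((j ⁻¹ᵁ V).ι ≫ γ.toImage) o) ∈ V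
      rw [← Scheme.Hom.comp_apply, Category.assoc, htp]
      exact o.2
    let tO : (j ⁻¹ᵁ V : Scheme.{u}) ⟶ (p ⁻¹ᵁ V : Scheme.{u}) :=
      IsOpenImmersion.lift (p ⁻¹ᵁ V).ι ((j ⁻¹ᵁ V).ι ≫ γ.toImage) hr
    have htO : tO ≫ (p ⁻¹ᵁ V).ι = (j ⁻¹ᵁ V).ι ≫ γ.toImage := IsOpenImmersion.lift_fac _ _ _
    have h1 : tO ≫ (p ∣_ V) = j ∣_ V := by
      rw [← cancel_mono V.ι, Category.assoc, morphismRestrict_ι, reassoc_of% htO, htp,
        morphismRestrict_ι]
    have h2 : (j ∣_ V) ≫ inv (p ∣_ V) = tO := by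
      rw [← h1, Category.assoc, IsIso.hom_inv_id, Category.comp_id]
    rw [reassoc_of% h2, reassoc_of% htO, Scheme.Hom.toImage_imageι_assoc]
    congr 1
    exact pullback.lift_snd _ _ _

end graph

end Groth.Agent.Helper4.GraphCl
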