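import Mathlib
import Groth.Agent.Lib.Helper4.GraphCl

/-!
# Extension of a rational map at a normal point: reduction to the integral affine case (helper4)
-/

set_option autoImplicit false
universe u
open AlgebraicGeometry CategoryTheory CategoryTheory.Limits

namespace Groth.Agent.Helper4.GraphCl

variable {X Y S : Scheme.{u}} (pX : X ⟶ S) (pY : Y ⟶ S)

theorem exists_extension_of_opens [LocallyOfFiniteType pY] [IsSeparated pY]
    (U : X.Opens) (h : (U : Scheme.{u}) ⟶ Y) (hh : U.ι ≫ pX = h ≫ pY)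
    (x : ↥X) (hx : IsIntegrallyClosed (X.presheaf.stalk x))
    (z : ↥(pullback pX pY)) (hz : pullback.fst pX pY z = x)
    (hzΓ : z ∈ closure (Set.range (pullback.lift U.ι h hh)))
    (hiso : ∃ W : (pullback pX pY).Opens,
      (W : Set ↥(pullback pX pY)) ∩ closure (Set.range (pullback.lift U.ι h hh)) ∩
        (pullback.fst pX pY) ⁻¹' {x} = {z})
    (W₁ : X.Opens) (hW₁ : IsAffineOpen W₁) (hxW₁ : x ∈ W₁) [IsIntegral (W₁ : Scheme.{u})]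
    (U₁ : X.Opens) (hU₁ : IsAffineOpen U₁) (hne : (U₁ : Set X).Nonempty) (hU₁U : U₁ ≤ U)
    (hU₁W : U₁ ≤ W₁) :
    ∃ (V : X.Opens) (v : (V : Scheme.{u}) ⟶ Y), x ∈ V ∧ v ≫ pY = V.ι ≫ pX ∧
      X.homOfLE (inf_le_right : U ⊓ V ≤ V) ≫ v = X.homOfLE (inf_le_left : U ⊓ V ≤ U) ≫ h := by
  -- the integral affine scheme `X₁ = W₁`
  let pX₁ : (W₁ : Scheme.{u}) ⟶ S := W₁.ι ≫ pX
  let j : (U₁ : Scheme.{u}) ⟶ (W₁ : Scheme.{u}) := X.homOfLE hU₁W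
  let h₁ : (U₁ : Scheme.{u}) ⟶ Y := X.homOfLE hU₁U ≫ h
  have w₁ : j ≫ pX₁ = h₁ ≫ pY := by
    simp only [j, pX₁, h₁, Category.assoc, ← hh, Scheme.homOfLE_ι_assoc]
  haveI : Nonempty (U₁ : Scheme.{u}) := ⟨⟨hne.some, hne.some_mem⟩⟩
  haveI : IsAffine (W₁ : Scheme.{u}) := hW₁
  haveI : IsAffine (U₁ : Scheme.{u}) := hU₁
  haveI : QuasiCompact (graph pX₁ pY j h₁ w₁) := by
    haveI : QuasiCompact (graph pX₁ pY j h₁ w₁ ≫ pullback.fst pX₁ pY) := by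
      rw [show graph pX₁ pY j h₁ w₁ ≫ pullback.fst pX₁ pY = j from pullback.lift_fst _ _ _]
      infer_instance
    exact QuasiCompact.of_comp _ (pullback.fst pX₁ pY)
  set γ := pullback.lift U.ι h hh with hγ
  set γ₁ := graph pX₁ pY j h₁ w₁ with hγ₁
  -- the open immersion `ρ : P₁ → P`
  let ρ : pullback pX₁ pY ⟶ pullback pX pY :=
    pullback.map pX₁ pY pX pY W₁.ι (𝟙 Y) (𝟙 S) (by simp [pX₁]) (by simp)
  have hρfst : ρ ≫ pullback.fst pX pY = pullback.fst pX₁ pY ≫ W₁.ι := pullback.lift_fst _ _ _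
  have hρsnd : ρ ≫ pullback.snd pX pY = pullback.snd pX₁ pY := by
    have := pullback.lift_snd (f := pX) (g := pY) (pullback.fst pX₁ pY ≫ W₁.ι)
      (pullback.snd pX₁ pY ≫ 𝟙 Y) (by simp [pX₁, pullback.condition])
    exact this.trans (Category.comp_id _)
  have hρrange : Set.range ρ = pullback.fst pX pY ⁻¹' (W₁ : Set X) := by
    rw [Scheme.Pullback.range_map]
    simp
  obtain ⟨z₁, hz₁⟩ : z ∈ Set.range ρ := by
    rw [hρrange]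
    change pullback.fst pX pY z ∈ W₁
    rw [hz]; exact hxW₁
  have hγρ : γ₁ ≫ ρ = X.homOfLE hU₁U ≫ γ := by
    apply pullback.hom_ext
    · rw [Category.assoc, hρfst, Category.assoc]
      simp only [γ₁, γ, graph, pullback.lift_fst, pullback.lift_fst_assoc, j,
        Scheme.homOfLE_ι]
    · rw [Category.assoc, hρsnd, Category.assoc]
      simp only [γ₁, γ, graph, pullback.lift_snd, h₁]
  let x₁ : (W₁ : Scheme.{u}) := ⟨x, hxW₁⟩
  have hx₁ : IsIntegrallyClosed ((W₁ : Scheme.{u}).presheaf.stalk x₁) :=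
    IsIntegrallyClosed.of_equiv (W₁.stalkIso x₁).commRingCatIsoToRingEquiv.symm
  have hfz₁ : pullback.fst pX₁ pY z₁ = x₁ := by
    apply W₁.ι.isOpenEmbedding.injective
    rw [← Scheme.Hom.comp_apply, ← hρfst, Scheme.Hom.comp_apply, hz₁, hz]
    rfl
  have hirr : IsPreirreducible (W₁ : Set X) := by
    have : PreirreducibleSpace (W₁ : Set X) :=
      (inferInstance : PreirreducibleSpace (W₁ : Scheme.{u}))
    exact IsPreirreducible.of_subtype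
  have hcl : ∀ a : ↥(pullback pX₁ pY), ρ a ∈ closure (Set.range γ) →
      a ∈ closure (Set.range γ₁) := by
    intro a ha
    rw [mem_closure_iff]
    intro N hN haN
    have hN' : IsOpen (ρ '' N) := ρ.isOpenEmbedding.isOpenMap _ hN
    obtain ⟨_, ⟨b, hbN, rfl⟩, ⟨u, hu⟩⟩ := mem_closure_iff.mp ha (ρ '' N) hN' ⟨a, haN, rfl⟩
    have hA : IsOpen (U.ι '' (γ ⁻¹' (ρ '' N))) :=
      U.ι.isOpenEmbedding.isOpenMap _ (hN'.preimage γ.continuous)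
    have huW : U.ι u ∈ W₁ := by
      have h1 : U.ι u = pullback.fst pX pY (γ u) := by
        rw [← Scheme.Hom.comp_apply]
        simp only [γ, pullback.lift_fst]
      rw [h1, hu, ← Scheme.Hom.comp_apply, hρfst, Scheme.Hom.comp_apply]
      exact (pullback.fst pX₁ pY b).2
    obtain ⟨y, hyW, ⟨u', hu'N, rfl⟩, hyU₁⟩ := hirr _ _ hA U₁.isOpen
      ⟨U.ι u, huW, ⟨u, ⟨b, hbN, hu.symm⟩, rfl⟩⟩
      ⟨hne.some, hU₁W hne.some_mem, hne.some_mem⟩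
    obtain ⟨b', hb'N, hb'⟩ := hu'N
    refine ⟨b', hb'N, ⟨⟨U.ι u', hyU₁⟩, ρ.isOpenEmbedding.injective ?_⟩⟩
    rw [← Scheme.Hom.comp_apply, hγρ, Scheme.Hom.comp_apply, hb']
    congr 1
    apply U.ι.isOpenEmbedding.injective
    rw [← Scheme.Hom.comp_apply, Scheme.homOfLE_ι]
    rfl
  have hz₁cl : z₁ ∈ closure (Set.range γ₁) := hcl z₁ (hz₁ ▸ hzΓ)
  have hcl' : ∀ a : ↥(pullback pX₁ pY), a ∈ closure (Set.range γ₁) →
      ρ a ∈ closure (Set.range γ) := by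
    intro a ha
    have h1 : ρ a ∈ closure (ρ '' Set.range γ₁) :=
      image_closure_subset_closure_image ρ.continuous ⟨a, ha, rfl⟩
    refine closure_mono ?_ h1
    rintro _ ⟨_, ⟨u, rfl⟩, rfl⟩
    refine ⟨X.homOfLE hU₁U u, ?_⟩
    rw [← Scheme.Hom.comp_apply, ← hγρ, Scheme.Hom.comp_apply]
  have hiso₁ : ∃ W' : (pullback pX₁ pY).Opens,
      (W' : Set ↥(pullback pX₁ pY)) ∩ closure (Set.range γ₁) ∩
        (pullback.fst pX₁ pY) ⁻¹' {x₁} = {z₁} := by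
    obtain ⟨W, hW⟩ := hiso
    refine ⟨ρ ⁻¹ᵁ W, ?_⟩
    have hzmem : z ∈ (W : Set ↥(pullback pX pY)) ∩ closure (Set.range γ) ∩
        (pullback.fst pX pY) ⁻¹' {x} := hW ▸ rfl
    ext a
    constructor
    · rintro ⟨⟨haW, hacl⟩, hax⟩
      have h1 : ρ a ∈ (W : Set ↥(pullback pX pY)) ∩ closure (Set.range γ) ∩
          (pullback.fst pX pY) ⁻¹' {x} := by
        refine ⟨⟨haW, hcl' a hacl⟩, ?_⟩
        change pullback.fst pX pY (ρ a) = x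
        rw [← Scheme.Hom.comp_apply, hρfst, Scheme.Hom.comp_apply]
        have hax' : pullback.fst pX₁ pY a = x₁ := hax
        rw [hax']
        rfl
      rw [hW] at h1
      exact ρ.isOpenEmbedding.injective (h1.trans hz₁.symm)
    · rintro rfl
      refine ⟨⟨?_, hz₁cl⟩, hfz₁⟩
      change ρ a ∈ W
      rw [hz₁]
      exact hzmem.1.1
  obtain ⟨V₁, v₁, hxV₁, hv₁, hjv₁⟩ := exists_extension pX₁ pY j h₁ w₁ x₁ hx₁ z₁ hfz₁ hz₁cl hiso₁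
  have hxV : x ∈ W₁.ι ''ᵁ V₁ := ⟨x₁, hxV₁, rfl⟩
  have hVW : W₁.ι ''ᵁ V₁ ≤ W₁ := by
    rintro _ ⟨a, -, rfl⟩
    exact a.2
  refine ⟨W₁.ι ''ᵁ V₁, (W₁.ι.isoImage V₁).inv ≫ v₁, hxV, ?_, ?_⟩
  · rw [Category.assoc, hv₁]
    exact Scheme.Hom.isoImage_inv_ι_assoc W₁.ι V₁ pX
  · -- a common point of `U₁` and `V`
    obtain ⟨y, hyW, hyU₁, hyV⟩ := hirr _ _ U₁.isOpen (W₁.ι ''ᵁ V₁).isOpen
      ⟨hne.some, hU₁W hne.some_mem, hne.some_mem⟩ ⟨x, hxW₁, hxV⟩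
    haveI : Nonempty ((U ⊓ W₁.ι ''ᵁ V₁ : X.Opens) : Scheme.{u}) := ⟨⟨y, hU₁U hyU₁, hyV⟩⟩
    haveI : IsIntegral ((U ⊓ W₁.ι ''ᵁ V₁ : X.Opens) : Scheme.{u}) :=
      isIntegral_of_isOpenImmersion (X.homOfLE (inf_le_right.trans hVW))
    have hyO : (⟨y, hyU₁⟩ : (U₁ : Scheme.{u})) ∈ j ⁻¹ᵁ V₁ := by
      obtain ⟨a, haV₁, hay⟩ := hyV
      change j ⟨y, hyU₁⟩ ∈ V₁
      have : j ⟨y, hyU₁⟩ = a := by
        apply W₁.ι.isOpenEmbedding.injective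
        rw [← Scheme.Hom.comp_apply, Scheme.homOfLE_ι]
        exact hay.symm
      rw [this]; exact haV₁
    haveI : Nonempty ((j ⁻¹ᵁ V₁ : (U₁ : Scheme.{u}).Opens) : Scheme.{u}) := ⟨⟨_, hyO⟩⟩
    have hr : Set.range ((j ⁻¹ᵁ V₁).ι ≫ U₁.ι) ⊆ Set.range (U ⊓ W₁.ι ''ᵁ V₁ : X.Opens).ι := by
      rintro _ ⟨o, rfl⟩
      rw [Scheme.Opens.range_ι]
      refine ⟨hU₁U (o.1).2, ⟨j o.1, o.2, ?_⟩⟩
      have : (j ≫ W₁.ι) o.1 = U₁.ι o.1 := by rw [Scheme.homOfLE_ι]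
      exact this
    let ι : ((j ⁻¹ᵁ V₁ : (U₁ : Scheme.{u}).Opens) : Scheme.{u}) ⟶
        ((U ⊓ W₁.ι ''ᵁ V₁ : X.Opens) : Scheme.{u}) :=
      IsOpenImmersion.lift (U ⊓ W₁.ι ''ᵁ V₁ : X.Opens).ι ((j ⁻¹ᵁ V₁).ι ≫ U₁.ι) hr
    have hι : ι ≫ (U ⊓ W₁.ι ''ᵁ V₁ : X.Opens).ι = (j ⁻¹ᵁ V₁).ι ≫ U₁.ι :=
      IsOpenImmersion.lift_fac _ _ _
    haveI : IsOpenImmersion ι := by
      have : IsOpenImmersion (ι ≫ (U ⊓ W₁.ι ''ᵁ V₁ : X.Opens).ι) := by rw [hι]; infer_instance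
      exact IsOpenImmersion.of_comp ι (U ⊓ W₁.ι ''ᵁ V₁ : X.Opens).ι
    haveI : IsDominant ι := ⟨by
      rw [DenseRange]
      exact ι.isOpenEmbedding.isOpen_range.dense (Set.range_nonempty _)⟩
    refine ext_of_isDominant_of_isSeparated pY ?_ ι ?_
    · rw [Category.assoc, Category.assoc, Category.assoc, hv₁, ← hh]
      rw [Scheme.Hom.isoImage_inv_ι_assoc W₁.ι V₁ pX, Scheme.homOfLE_ι_assoc,
        Scheme.homOfLE_ι_assoc]
    · have h1 : ι ≫ X.homOfLE (inf_le_left : U ⊓ W₁.ι ''ᵁ V₁ ≤ U) =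
          (j ⁻¹ᵁ V₁).ι ≫ X.homOfLE hU₁U := by
        rw [← cancel_mono U.ι, Category.assoc, Category.assoc, Scheme.homOfLE_ι,
          Scheme.homOfLE_ι, hι]
      have h2 : ι ≫ X.homOfLE (inf_le_right : U ⊓ W₁.ι ''ᵁ V₁ ≤ W₁.ι ''ᵁ V₁) ≫
          (W₁.ι.isoImage V₁).inv = j ∣_ V₁ := by
        rw [← cancel_mono V₁.ι, ← cancel_mono W₁.ι]
        simp only [Category.assoc]
        rw [Scheme.Hom.isoImage_inv_ι, Scheme.homOfLE_ι, hι, morphismRestrict_ι_assoc]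
        rw [Scheme.homOfLE_ι]
      rw [reassoc_of% h1]
      have h3 : ι ≫ X.homOfLE (inf_le_right : U ⊓ W₁.ι ''ᵁ V₁ ≤ W₁.ι ''ᵁ V₁) ≫
          (W₁.ι.isoImage V₁).inv ≫ v₁ = (j ∣_ V₁) ≫ v₁ := by
        rw [← h2]; simp only [Category.assoc]
      exact h3.trans hjv₁

/-- **Extension of a rational map at a normal point**: let `X` be a locally integral `S`-scheme,
`Y` separated and locally of finite type over `S`, `h : U → Y` an `S`-morphism on a dense open.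
If the closure of the graph of `h` has an isolated point in its fibre over a normal point `x`,
then `h` extends to a neighbourhood of `x`. -/
theorem exists_extension_of_dense [LocallyOfFiniteType pY] [IsSeparated pY]
    (hX : ∀ y : ↥X, ∃ W : X.Opens, y ∈ W ∧ IsIntegral (W : Scheme.{u}))
    (U : X.Opens) (hU : Dense (U : Set ↥X)) (h : (U : Scheme.{u}) ⟶ Y)
    (hh : U.ι ≫ pX = h ≫ pY)
    (x : ↥X) (hx : IsIntegrallyClosed (X.presheaf.stalk x))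
    (z : ↥(pullback pX pY)) (hz : pullback.fst pX pY z = x)
    (hzΓ : z ∈ closure (Set.range (pullback.lift U.ι h hh)))
    (hiso : ∃ W : (pullback pX pY).Opens,
      (W : Set ↥(pullback pX pY)) ∩ closure (Set.range (pullback.lift U.ι h hh)) ∩
        (pullback.fst pX pY) ⁻¹' {x} = {z}) :
    ∃ (V : X.Opens) (v : (V : Scheme.{u}) ⟶ Y), x ∈ V ∧ v ≫ pY = V.ι ≫ pX ∧
      X.homOfLE (inf_le_right : U ⊓ V ≤ V) ≫ v = X.homOfLE (inf_le_left : U ⊓ V ≤ U) ≫ h := by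
  obtain ⟨W₀, hxW₀, hW₀int⟩ := hX x
  obtain ⟨_, ⟨W₁, hW₁, rfl⟩, hxW₁, hW₁W₀⟩ :=
    X.isBasis_affineOpens.exists_subset_of_mem_open hxW₀ W₀.isOpen
  haveI : Nonempty (W₁ : Scheme.{u}) := ⟨⟨x, hxW₁⟩⟩
  haveI : IsIntegral (W₁ : Scheme.{u}) := isIntegral_of_isOpenImmersion (X.homOfLE hW₁W₀)
  obtain ⟨u₀, hu₀W, hu₀U⟩ := hU.inter_open_nonempty W₁ W₁.isOpen ⟨x, hxW₁⟩
  obtain ⟨_, ⟨U₁, hU₁, rfl⟩, hu₀U₁, hU₁le⟩ :=
    X.isBasis_affineOpens.exists_subset_of_mem_open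
      (show u₀ ∈ ((U ⊓ W₁ : X.Opens) : Set X) from ⟨hu₀U, hu₀W⟩) (U ⊓ W₁).isOpen
  have hU₁le' : U₁ ≤ U ⊓ W₁ := hU₁le
  exact exists_extension_of_opens pX pY U h hh x hx z hz hzΓ hiso W₁ hW₁ hxW₁ U₁ hU₁
    ⟨u₀, hu₀U₁⟩ (hU₁le'.trans inf_le_left) (hU₁le'.trans inf_le_right)

end Groth.Agent.Helper4.GraphCl
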