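import Mathlib
import Groth.Agent.Lib.Helper4.GraphCl2
import Groth.Agent.Lib.Helper4.CurveExt3
import Groth.Agent.Lib.Helper4.DVRSpec
import Groth.Agent.Lib.Helper4.DVRVal
import Groth.Agent.Lib.Helper4.SpecCl

/-!
# Extending a section at a normal point: discrete valuation ring criteria (helper4)
(EGA IV 20.4.x type statements; used for S3848, S3849)
-/

set_option autoImplicit false
universe u
open AlgebraicGeometry CategoryTheory CategoryTheory.Limits

namespace Groth.Agent.Helper4.SecDVR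

/-- Glue a morphism on `U` with a compatible morphism on `V`, remembering both restrictions. -/
theorem exists_glue' {X Y S : Scheme.{u}} (pX : X ⟶ S) (pY : Y ⟶ S)
    (U V : X.Opens) (g : (U : Scheme.{u}) ⟶ Y) (hg : g ≫ pY = U.ι ≫ pX)
    (v : (V : Scheme.{u}) ⟶ Y) (hv : v ≫ pY = V.ι ≫ pX)
    (hagree : ∀ {Q : Scheme.{u}} (a : Q ⟶ U) (b : Q ⟶ V), a ≫ U.ι = b ≫ V.ι → b ≫ v = a ≫ g) :
    ∃ (U' : X.Opens) (hUU' : U ≤ U') (hVU' : V ≤ U'),
      ∃ f' : (U' : Scheme.{u}) ⟶ Y, f' ≫ pY = U'.ι ≫ pX ∧ X.homOfLE hUU' ≫ f' = g ∧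
        X.homOfLE hVU' ≫ f' = v := by
  let F : Bool → X.Opens := fun b => bif b then U else V
  let 𝒰 := Scheme.Opens.iSupOpenCover F
  let m : ∀ b : Bool, 𝒰.X b ⟶ Y := fun b => match b with
    | true => g
    | false => v
  have hm : ∀ b, m b ≫ pY = (F b).ι ≫ pX := by
    intro b; cases b
    · exact hv
    · exact hg
  have hι : ∀ b, 𝒰.f b ≫ (⨆ i, F i).ι = (F b).ι := fun b => X.homOfLE_ι (le_iSup F b)
  have compat : ∀ b c : Bool, pullback.fst (𝒰.f b) (𝒰.f c) ≫ m b = pullback.snd _ _ ≫ m c := by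
    intro b c
    have hcond : pullback.fst (𝒰.f b) (𝒰.f c) ≫ (F b).ι = pullback.snd (𝒰.f b) (𝒰.f c) ≫ (F c).ι := by
      rw [← hι b, ← hι c, pullback.condition_assoc]
    cases b <;> cases c
    · have : pullback.fst (𝒰.f false) (𝒰.f false) = pullback.snd (𝒰.f false) (𝒰.f false) :=
        (cancel_mono (F false).ι).mp hcond
      rw [this]
    · exact hagree (pullback.snd (𝒰.f false) (𝒰.f true)) (pullback.fst (𝒰.f false) (𝒰.f true))
        hcond.symm
    · exact (hagree (pullback.fst (𝒰.f true) (𝒰.f false)) (pullback.snd (𝒰.f true) (𝒰.f false))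
        hcond).symm
    · have : pullback.fst (𝒰.f true) (𝒰.f true) = pullback.snd (𝒰.f true) (𝒰.f true) :=
        (cancel_mono (F true).ι).mp hcond
      rw [this]
  refine ⟨⨆ i, F i, le_iSup F true, le_iSup F false, 𝒰.glueMorphisms m compat, ?_, ?_, ?_⟩
  · refine Scheme.Cover.hom_ext 𝒰 _ _ fun b => ?_
    rw [𝒰.ι_glueMorphisms_assoc m compat b, hm b, ← hι b]
    exact Category.assoc _ _ _
  · exact 𝒰.ι_glueMorphisms m compat true
  · exact 𝒰.ι_glueMorphisms m compat false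

/-- An integral affine open neighbourhood of a point with domain stalk in a locally Noetherian
scheme, inside a given neighbourhood. -/
theorem exists_integral_affine_nhd {X : Scheme.{u}} [IsLocallyNoetherian X] (x : X)
    [IsDomain (X.presheaf.stalk x)] (N : X.Opens) (hxN : x ∈ N) :
    ∃ W : X.Opens, IsAffineOpen W ∧ x ∈ W ∧ W ≤ N ∧ IsIntegral (W : Scheme.{u}) := by
  obtain ⟨W, hxW, hW, hWN, hinj⟩ := X.exists_le_and_germ_injective x N hxN
  haveI : IsAffine (W : Scheme.{u}) := hW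
  haveI : Nonempty (W : Scheme.{u}) := ⟨⟨x, hxW⟩⟩
  haveI h1 : IsDomain Γ(X, W) := hinj.isDomain (X.presheaf.germ W x hxW).hom
  haveI h2 : IsDomain Γ((W : Scheme.{u}), ⊤) :=
    (W.topIso.commRingCatIsoToRingEquiv).injective.isDomain
      (W.topIso.commRingCatIsoToRingEquiv : Γ((W : Scheme.{u}), ⊤) →+* Γ(X, W))
  exact ⟨W, hW, hxW, hWN, isIntegral_of_isAffine_of_isDomain _⟩

/-- A morphism from the spectrum of a local ring factors through every open containing the image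
of the closed point. -/
theorem exists_lift_open {X : Scheme.{u}} (R : Type u) [CommRing R] [IsLocalRing R]
    (a : Spec (CommRingCat.of R) ⟶ X) (V : X.Opens) (hV : a (IsLocalRing.closedPoint R) ∈ V) :
    ∃ l : Spec (CommRingCat.of R) ⟶ (V : Scheme.{u}), l ≫ V.ι = a := by
  refine ⟨IsOpenImmersion.lift V.ι a ?_, IsOpenImmersion.lift_fac _ _ _⟩
  rw [Scheme.Opens.range_ι]
  rintro _ ⟨s, rfl⟩
  have h1 : s ⤳ IsLocalRing.closedPoint R := IsLocalRing.specializes_closedPoint s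
  exact (h1.map a.continuous).mem_open V.2 hV


set_option maxHeartbeats 800000 in
/-- **Core**: a section `h` of a separated morphism locally of finite type over a dense open
extends at a normal point `x` as soon as the closure of `h(U)` has an isolated point in its fibre
over `x`. -/
theorem exists_extension_of_isolated {X Y : Scheme.{u}} [IsLocallyNoetherian X] (q : Y ⟶ X)
    [LocallyOfFiniteType q] [IsSeparated q] (U : X.Opens) (h : (U : Scheme.{u}) ⟶ Y)
    (hh : h ≫ q = U.ι) (x : X) (hxU : x ∈ closure (U : Set X)) [IsDomain (X.presheaf.stalk x)]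
    (hx : IsIntegrallyClosed (X.presheaf.stalk x)) (y : Y) (hy : q y = x)
    (hyΓ : y ∈ closure (Set.range h))
    (hiso : ∃ W : Y.Opens, (W : Set Y) ∩ closure (Set.range h) ∩ q ⁻¹' {x} = {y}) :
    ∃ (V : X.Opens) (hxV : x ∈ V) (v : (V : Scheme.{u}) ⟶ Y), v ≫ q = V.ι ∧
      (∀ {Q : Scheme.{u}} (a : Q ⟶ U) (b : Q ⟶ V), a ≫ U.ι = b ≫ V.ι → b ≫ v = a ≫ h) ∧
      v ⟨x, hxV⟩ ∈ closure (Set.range h) := by
  have hh' : U.ι ≫ 𝟙 X = h ≫ q := by rw [hh, Category.comp_id]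
  let P := pullback (𝟙 X) q
  let sn : P ⟶ Y := pullback.snd (𝟙 X) q
  have hfs : pullback.fst (𝟙 X) q = sn ≫ q := by
    have := pullback.condition (f := 𝟙 X) (g := q)
    rw [Category.comp_id] at this
    exact this
  let γ : (U : Scheme.{u}) ⟶ P := pullback.lift U.ι h hh'
  have hγ : γ ≫ sn = h := pullback.lift_snd _ _ _
  let e : P ≃ₜ Y := sn.homeomorph
  have he : ∀ w, e w = sn w := fun _ => rfl
  let z : P := e.symm y
  have hzy : sn z = y := e.apply_symm_apply y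
  have hz : pullback.fst (𝟙 X) q z = x := by
    rw [hfs, Scheme.Hom.comp_apply, hzy, hy]
  have hrange : Set.range h = e '' Set.range γ := by
    rw [← hγ]
    ext w
    constructor
    · rintro ⟨t, rfl⟩
      exact ⟨γ t, ⟨t, rfl⟩, (Scheme.Hom.comp_apply _ _ _).symm⟩
    · rintro ⟨_, ⟨t, rfl⟩, rfl⟩
      exact ⟨t, Scheme.Hom.comp_apply _ _ _⟩
  have hcl : ∀ w : P, w ∈ closure (Set.range γ) ↔ sn w ∈ closure (Set.range h) := by
    intro w
    rw [hrange, ← e.image_closure]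
    constructor
    · intro hw; exact ⟨w, hw, rfl⟩
    · rintro ⟨w', hw', hww'⟩
      rwa [← e.injective hww']
  have hzΓ : z ∈ closure (Set.range γ) := by rw [hcl, hzy]; exact hyΓ
  obtain ⟨W, hW⟩ := hiso
  have hiso' : ∃ W' : P.Opens, (W' : Set P) ∩ closure (Set.range γ) ∩
      (pullback.fst (𝟙 X) q) ⁻¹' {x} = {z} := by
    refine ⟨sn ⁻¹ᵁ W, ?_⟩
    ext w
    constructor
    · rintro ⟨⟨hw1, hw2⟩, hw3⟩
      have hw3' : q (sn w) = x := by
        have : pullback.fst (𝟙 X) q w = x := hw3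
        rwa [hfs, Scheme.Hom.comp_apply] at this
      have : sn w ∈ (W : Set Y) ∩ closure (Set.range h) ∩ q ⁻¹' {x} :=
        ⟨⟨hw1, (hcl w).mp hw2⟩, hw3'⟩
      rw [hW] at this
      have h2 : sn w = sn z := by rw [hzy]; exact this
      exact e.injective h2
    · rintro rfl
      have : y ∈ (W : Set Y) ∩ closure (Set.range h) ∩ q ⁻¹' {x} := by rw [hW]; rfl
      refine ⟨⟨?_, hzΓ⟩, hz⟩
      change sn z ∈ W
      rw [hzy]
      exact this.1.1
  obtain ⟨W₁, hW₁, hxW₁, -, hW₁int⟩ := exists_integral_affine_nhd x ⊤ trivial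
  obtain ⟨u₀, hu₀W, hu₀U⟩ := mem_closure_iff.mp hxU W₁ W₁.isOpen hxW₁
  obtain ⟨_, ⟨U₁, hU₁, rfl⟩, hu₀U₁, hU₁le⟩ :=
    X.isBasis_affineOpens.exists_subset_of_mem_open
      (show u₀ ∈ ((U ⊓ W₁ : X.Opens) : Set X) from ⟨hu₀U, hu₀W⟩) (U ⊓ W₁).isOpen
  have hU₁le' : U₁ ≤ U ⊓ W₁ := hU₁le
  obtain ⟨V, v, hxV, hv, hag⟩ :=
    GraphCl.exists_extension_of_opens (𝟙 X) q U h hh' x hx z hz hzΓ hiso' W₁ hW₁ hxW₁ U₁ hU₁
      ⟨u₀, hu₀U₁⟩ (hU₁le'.trans inf_le_left) (hU₁le'.trans inf_le_right)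
  rw [Category.comp_id] at hv
  -- shrink to an integral neighbourhood
  let V₂ : X.Opens := V ⊓ W₁
  have hxV₂ : x ∈ V₂ := ⟨hxV, hxW₁⟩
  let v₂ : (V₂ : Scheme.{u}) ⟶ Y := X.homOfLE (inf_le_left : V₂ ≤ V) ≫ v
  have hv₂ : v₂ ≫ q = V₂.ι := by
    simp only [v₂, Category.assoc, hv, Scheme.homOfLE_ι]
  have hag₂ : ∀ {Q : Scheme.{u}} (a : Q ⟶ U) (b : Q ⟶ V₂), a ≫ U.ι = b ≫ V₂.ι →
      b ≫ v₂ = a ≫ h := by
    intro Q a b hab
    have := CurveExt.agree_of_homOfLE hag a (b ≫ X.homOfLE (inf_le_left : V₂ ≤ V))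
      (by rw [Category.assoc, Scheme.homOfLE_ι, hab])
    rw [← this, Category.assoc]
  refine ⟨V₂, hxV₂, v₂, hv₂, hag₂, ?_⟩
  -- the value at `x`
  haveI : Nonempty (V₂ : Scheme.{u}) := ⟨⟨x, hxV₂⟩⟩
  haveI : IsIntegral (V₂ : Scheme.{u}) :=
    isIntegral_of_isOpenImmersion (X.homOfLE (inf_le_right : V₂ ≤ W₁))
  let D : Set (V₂ : Scheme.{u}) := V₂.ι ⁻¹' (U : Set X)
  have hDopen : IsOpen D := U.2.preimage V₂.ι.continuous
  have hDne : D.Nonempty := by
    obtain ⟨d, hdV, hdU⟩ := mem_closure_iff.mp hxU V₂ V₂.isOpen hxV₂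
    exact ⟨⟨d, hdV⟩, hdU⟩
  have hDdense : Dense D := hDopen.dense hDne
  have h1 : (⟨x, hxV₂⟩ : (V₂ : Scheme.{u})) ∈ closure D := hDdense _
  have h2 : v₂ ⟨x, hxV₂⟩ ∈ closure (v₂ '' D) :=
    image_closure_subset_closure_image v₂.continuous ⟨_, h1, rfl⟩
  refine closure_mono ?_ h2
  rintro _ ⟨d, hd, rfl⟩
  have hdU : d.1 ∈ U := hd
  have hdUV : d.1 ∈ U ⊓ V₂ := ⟨hdU, d.2⟩
  have h3 := hag₂ (X.homOfLE (inf_le_left : U ⊓ V₂ ≤ U)) (X.homOfLE (inf_le_right : U ⊓ V₂ ≤ V₂))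
    (by rw [Scheme.homOfLE_ι, Scheme.homOfLE_ι])
  have h4 := congrArg (fun f => f (⟨d.1, hdUV⟩ : ((U ⊓ V₂ : X.Opens) : Scheme.{u}))) h3
  simp only [Scheme.Hom.comp_apply] at h4
  rw [Scheme.homOfLE_apply' _ _ hdUV, Scheme.homOfLE_apply' _ _ hdUV] at h4
  exact ⟨⟨d.1, hdU⟩, h4.symm⟩


section Frac

variable {L : Type u} [Field L] (A : ValuationSubring L)

/-- `Spec Frac(A) → Spec L` -/
noncomputable def fracToL : Spec (CommRingCat.of (FractionRing A)) ⟶ Spec (CommRingCat.of L) :=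
  Spec.map (CommRingCat.ofHom ((FractionRing.algEquiv A L).symm : L →+* FractionRing A))

/-- `Spec L → Spec Frac(A)` -/
noncomputable def lToFrac : Spec (CommRingCat.of L) ⟶ Spec (CommRingCat.of (FractionRing A)) :=
  Spec.map (CommRingCat.ofHom ((FractionRing.algEquiv A L) : FractionRing A →+* L))

theorem alg_eq : Spec.map (CommRingCat.ofHom (algebraMap A (FractionRing A))) =
    fracToL A ≫ Spec.map (CommRingCat.ofHom A.subtype) := by
  rw [fracToL, ← Spec.map_comp]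
  congr 1
  ext a
  exact ((FractionRing.algEquiv A L).symm.commutes a).symm

@[reassoc]
theorem lToFrac_fracToL : lToFrac A ≫ fracToL A = 𝟙 _ := by
  rw [lToFrac, fracToL, ← Spec.map_comp, ← Spec.map_id]
  congr 1
  ext a
  exact (FractionRing.algEquiv A L).apply_symm_apply a

@[reassoc]
theorem fracToL_lToFrac : fracToL A ≫ lToFrac A = 𝟙 _ := by
  rw [lToFrac, fracToL, ← Spec.map_comp, ← Spec.map_id]
  congr 1
  ext a
  exact (FractionRing.algEquiv A L).symm_apply_apply a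

@[reassoc]
theorem subtype_eq : Spec.map (CommRingCat.ofHom A.subtype) =
    lToFrac A ≫ Spec.map (CommRingCat.ofHom (algebraMap A (FractionRing A))) := by
  rw [alg_eq, lToFrac_fracToL_assoc]

end Frac

/-- The image of the closed point of a local ring lies in the closure of the image of `h` as soon
as some field-valued point of the local ring factors through `h`. -/
theorem mem_closure_range_of_lift {T Y : Scheme.{u}} (h : T ⟶ Y) (R : Type u) [CommRing R]
    [IsLocalRing R] (K : Type u) [Field K] (φ : R →+* K) (h₁ : Spec (CommRingCat.of R) ⟶ Y)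
    (ub : Spec (CommRingCat.of K) ⟶ T)
    (hcomp : Spec.map (CommRingCat.ofHom φ) ≫ h₁ = ub ≫ h) :
    h₁ (IsLocalRing.closedPoint R) ∈ closure (Set.range h) := by
  let s₀ : Spec (CommRingCat.of K) := IsLocalRing.closedPoint K
  let ηR : Spec (CommRingCat.of R) := Spec.map (CommRingCat.ofHom φ) s₀
  have h1 : ηR ⤳ IsLocalRing.closedPoint R := IsLocalRing.specializes_closedPoint ηR
  have h2 : h₁ ηR ⤳ h₁ (IsLocalRing.closedPoint R) := h1.map h₁.continuous
  have h3 : h₁ ηR = h (ub s₀) := by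
    rw [← Scheme.Hom.comp_apply, ← Scheme.Hom.comp_apply, hcomp]
  rw [specializes_iff_mem_closure] at h2
  refine closure_mono ?_ h2
  rw [Set.singleton_subset_iff, h3]
  exact ⟨_, rfl⟩

/-- If `h` extends to `h'` on `U' ∋ x`, every local-ring point through `x` lifts. -/
theorem lift_of_extension {X Y : Scheme.{u}} (q : Y ⟶ X) (U : X.Opens)
    (h : (U : Scheme.{u}) ⟶ Y) (x : X) (U' : X.Opens) (hUU' : U ≤ U')
    (h' : (U' : Scheme.{u}) ⟶ Y) (hxU' : x ∈ U') (hq : h' ≫ q = U'.ι)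
    (hres : X.homOfLE hUU' ≫ h' = h)
    (R : Type u) [CommRing R] [IsLocalRing R] {K : CommRingCat.{u}}
    (φ : CommRingCat.of R ⟶ K) (a : Spec (CommRingCat.of R) ⟶ X)
    (ha : a (IsLocalRing.closedPoint R) = x) (ub : Spec K ⟶ (U : Scheme.{u}))
    (hub : ub ≫ U.ι = Spec.map φ ≫ a) :
    ∃ h₁ : Spec (CommRingCat.of R) ⟶ Y, h₁ ≫ q = a ∧
      h₁ (IsLocalRing.closedPoint R) = h' ⟨x, hxU'⟩ ∧ Spec.map φ ≫ h₁ = ub ≫ h := by
  obtain ⟨l, hl⟩ := exists_lift_open R a U' (by rw [ha]; exact hxU')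
  refine ⟨l ≫ h', ?_, ?_, ?_⟩
  · rw [Category.assoc, hq, hl]
  · rw [Scheme.Hom.comp_apply]
    congr 1
    apply Subtype.ext
    have := congrArg (fun f => f (IsLocalRing.closedPoint R)) hl
    simp only [Scheme.Hom.comp_apply] at this
    exact this.trans ha
  · rw [← hres, ← Category.assoc, ← Category.assoc]
    congr 1
    rw [← cancel_mono U'.ι, Category.assoc, Category.assoc, hl, Scheme.homOfLE_ι, hub]

/-- a generic point in `U` specializing to `x`. -/
theorem exists_generic_in_dense {X : Scheme.{u}} [IsLocallyNoetherian X] (U : X.Opens) (x : X)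
    (hxU : x ∈ closure (U : Set X)) [IsDomain (X.presheaf.stalk x)] (N : X.Opens) (hxN : x ∈ N) :
    ∃ (W : X.Opens) (_ : IsAffineOpen W) (_ : IsIntegral (W : Scheme.{u})) (_ : x ∈ W)
      (_ : W ≤ N) (η : X), η ∈ U ∧ η ∈ W ∧ ∀ w ∈ W, η ⤳ w := by
  obtain ⟨W, hW, hxW, hWN, hWint⟩ := exists_integral_affine_nhd x N hxN
  let η₁ : (W : Scheme.{u}) := genericPoint (W : Scheme.{u})
  have hη₁ : IsGenericPoint η₁ Set.univ := genericPoint_spec _
  refine ⟨W, hW, hWint, hxW, hWN, η₁.1, ?_, η₁.2, ?_⟩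
  · obtain ⟨d, hdW, hdU⟩ := mem_closure_iff.mp hxU W W.isOpen hxW
    have hO : IsOpen (W.ι ⁻¹' (U : Set X)) := U.2.preimage W.ι.continuous
    have := (hη₁.mem_open_set_iff hO).mpr ⟨⟨d, hdW⟩, trivial, hdU⟩
    exact this
  · intro w hw
    have h1 : η₁ ⤳ (⟨w, hw⟩ : (W : Scheme.{u})) := hη₁.specializes trivial
    exact h1.map W.ι.continuous


/-- (⇒) of S3849. -/
theorem exists_dvr_of_extension {X Y : Scheme.{u}} [IsLocallyNoetherian X] (q : Y ⟶ X)
    (U : X.Opens) (hU : Dense (U : Set X)) (h : (U : Scheme.{u}) ⟶ Y) (x : X) (hxU : x ∉ U)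
    [IsDomain (X.presheaf.stalk x)] (U' : X.Opens) (hUU' : U ≤ U') (h' : (U' : Scheme.{u}) ⟶ Y)
    (hxU' : x ∈ U') (hq : h' ≫ q = U'.ι) (hres : X.homOfLE hUU' ≫ h' = h) :
    ∃ (R : Type u) (_ : CommRing R) (_ : IsDomain R) (_ : IsDiscreteValuationRing R)
      (a : Spec (CommRingCat.of R) ⟶ X)
      (ub : Spec (CommRingCat.of (FractionRing R)) ⟶ (U : Scheme.{u}))
      (h₁ : Spec (CommRingCat.of R) ⟶ Y),
      a (IsLocalRing.closedPoint R) = x ∧
        ub ≫ U.ι = Spec.map (CommRingCat.ofHom (algebraMap R (FractionRing R))) ≫ a ∧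
        h₁ ≫ q = a ∧
        Spec.map (CommRingCat.ofHom (algebraMap R (FractionRing R))) ≫ h₁ = ub ≫ h := by
  obtain ⟨W, hW, hWint, hxW, -, η, hηU, hηW, hηsp⟩ :=
    exists_generic_in_dense U x (hU x) ⊤ trivial
  let ηU : (U : Scheme.{u}) := ⟨η, hηU⟩
  have hsp : U.ι ηU ⤳ x := hηsp x hxW
  have hne : x ≠ U.ι ηU := fun h => hxU (h ▸ hηU)
  obtain ⟨A, a, hA, haC, haG⟩ := DVRSpec.exists_dvr_through_specialization U.ι ηU x hsp hne
  haveI := hA
  let ub := fracToL A ≫ (U : Scheme.{u}).fromSpecResidueField ηU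
  have hub : ub ≫ U.ι = Spec.map (CommRingCat.ofHom (algebraMap A (FractionRing A))) ≫ a := by
    rw [alg_eq, Category.assoc, Category.assoc, haG]
  obtain ⟨h₁, h1, -, h3⟩ := lift_of_extension q U h x U' hUU' h' hxU' hq hres A
    (CommRingCat.ofHom (algebraMap A (FractionRing A))) a haC ub hub
  exact ⟨A, inferInstance, inferInstance, hA, a, ub, h₁, haC, hub, h1, h3⟩

end Groth.Agent.Helper4.SecDVR
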