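import Mathlib
import Groth.Agent.Lib.Helper4.GermAgree
import Groth.Agent.Lib.Helper4.SecDVR
import Groth.Agent.Lib.Helper4.DVRSep2

/-!
# Glueing morphisms near a point (helper4; S9217, S5104)
-/

set_option autoImplicit false
universe u
open AlgebraicGeometry CategoryTheory CategoryTheory.Limits

namespace Groth.Agent.Helper4.GermAgree

variable {X Y S : Scheme.{u}}

set_option maxHeartbeats 800000 in
/-- Two morphisms which agree on the complement of a point `x` and on `Spec O_{X,x}` are equal. -/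
theorem hom_ext_of_compl_singleton (x : X) (U : X.Opens) (hU : (U : Set X) = {x}ᶜ)
    (g₁ g₂ : X ⟶ Y) (h1 : U.ι ≫ g₁ = U.ι ≫ g₂)
    (h2 : X.fromSpecStalk x ≫ g₁ = X.fromSpecStalk x ≫ g₂) : g₁ = g₂ := by
  let E : Scheme.{u} := equalizer g₁ g₂
  let ι : E ⟶ X := equalizer.ι g₁ g₂
  haveI : IsImmersion ι := inferInstance
  let lU : (U : Scheme.{u}) ⟶ E := equalizer.lift U.ι h1
  have hlU : lU ≫ ι = U.ι := equalizer.lift_ι _ _
  let lx : Spec (X.presheaf.stalk x) ⟶ E := equalizer.lift (X.fromSpecStalk x) h2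
  have hlx : lx ≫ ι = X.fromSpecStalk x := equalizer.lift_ι _ _
  let cp : Spec (X.presheaf.stalk x) := IsLocalRing.closedPoint _
  have hinj : Function.Injective ι := ι.isEmbedding.injective
  have hcases : ∀ e : E, (∃ u : (U : Scheme.{u}), e = lU u) ∨ e = lx cp := by
    intro e
    by_cases he : ι e ∈ U
    · left
      refine ⟨⟨ι e, he⟩, hinj ?_⟩
      rw [← Scheme.Hom.comp_apply, hlU]
      rfl
    · right
      apply hinj
      have : ι e = x := by
        have h3 : ι e ∉ (U : Set X) := he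
        rw [hU] at h3
        simpa using h3
      rw [this, ← Scheme.Hom.comp_apply, hlx, Scheme.fromSpecStalk_closedPoint]
  have hsurj : Function.Surjective ι := by
    intro c
    by_cases hc : c ∈ U
    · refine ⟨lU ⟨c, hc⟩, ?_⟩
      rw [← Scheme.Hom.comp_apply, hlU]
      rfl
    · refine ⟨lx cp, ?_⟩
      have : c = x := by
        have h3 : c ∉ (U : Set X) := hc
        rw [hU] at h3
        simpa using h3
      rw [this, ← Scheme.Hom.comp_apply, hlx, Scheme.fromSpecStalk_closedPoint]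
  have hoe : Topology.IsOpenEmbedding ι :=
    ⟨ι.isEmbedding, by rw [hsurj.range_eq]; exact isOpen_univ⟩
  have key : ∀ (F : Spec (X.presheaf.stalk x) ⟶ X), F = X.fromSpecStalk x →
      Function.Injective (Scheme.stalkClosedPointTo F).hom := by
    rintro _ rfl
    rw [Scheme.stalkClosedPointTo_fromSpecStalk]
    exact (ConcreteCategory.bijective_of_isIso _).1
  have aux : ∀ {A B C : CommRingCat.{u}} (f : A ⟶ B) (g : B ⟶ C),
      Function.Injective (f ≫ g).hom → Function.Injective f.hom := by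
    intro A B C f g h a b hab
    apply h
    change g.hom (f.hom a) = g.hom (f.hom b)
    rw [hab]
  have hstalk : ∀ e : E, IsIso (ι.stalkMap e) := by
    intro e
    have hs : Function.Surjective (ι.stalkMap e).hom := ι.stalkMap_surjective e
    suffices hi : Function.Injective (ι.stalkMap e).hom from
      (ConcreteCategory.isIso_iff_bijective _).mpr ⟨hi, hs⟩
    rcases hcases e with ⟨u, rfl⟩ | rfl
    · haveI : IsOpenImmersion (lU ≫ ι) := by rw [hlU]; infer_instance
      have h3 : Function.Injective ((lU ≫ ι).stalkMap u).hom :=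
        (ConcreteCategory.bijective_of_isIso _).1
      rw [Scheme.Hom.stalkMap_comp] at h3
      exact aux _ _ h3
    · have h3 := key (lx ≫ ι) hlx
      rw [Scheme.stalkClosedPointTo_comp] at h3
      exact aux _ _ h3
  haveI : IsOpenImmersion ι := IsOpenImmersion.iff_isIso_stalkMap.mpr ⟨hoe, hstalk⟩
  haveI : Epi ι.base := (TopCat.epi_iff_surjective _).mpr hsurj
  haveI : IsIso ι := (isIso_iff_isOpenImmersion_and_epi_base ι).mpr ⟨inferInstance, inferInstance⟩
  rw [← cancel_epi ι]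
  exact equalizer.condition g₁ g₂


set_option maxHeartbeats 800000 in
/-- Existence part of S9217. -/
theorem exists_glue_of_germ (p : X ⟶ S) (q : Y ⟶ S) [LocallyOfFinitePresentation q]
    (x : X) (U : X.Opens) (hU : (U : Set X) = {x}ᶜ) [QuasiCompact U.ι]
    (a : (U : Scheme.{u}) ⟶ Y) (b : Spec (X.presheaf.stalk x) ⟶ Y) (ha : a ≫ q = U.ι ≫ p)
    (hb : b ≫ q = X.fromSpecStalk x ≫ p)
    (hab : ((X.fromSpecStalk x) ⁻¹ᵁ U).ι ≫ b = ((X.fromSpecStalk x) ∣_ U) ≫ a) :
    ∃ g : X ⟶ Y, g ≫ q = p ∧ U.ι ≫ g = a ∧ X.fromSpecStalk x ≫ g = b := by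
  obtain ⟨W₀, hxW₀, b', hbb', hb'⟩ := Groth.Agent.Helper15.spread_out_of_lfp' p q b hb
  have hagree : ∀ {Q : Scheme.{u}} (α : Q ⟶ Spec (X.presheaf.stalk x))
      (β : Q ⟶ (U : Scheme.{u})), α ≫ X.fromSpecStalk x = β ≫ U.ι →
      α ≫ W₀.fromSpecStalkOfMem x hxW₀ ≫ b' = β ≫ a := by
    intro Q α β hαβ
    rw [← hbb']
    have hpb := isPullback_morphismRestrict (X.fromSpecStalk x) U
    let l := hpb.lift β α hαβ.symm
    have hl1 : l ≫ ((X.fromSpecStalk x) ∣_ U) = β := hpb.lift_fst _ _ _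
    have hl2 : l ≫ ((X.fromSpecStalk x) ⁻¹ᵁ U).ι = α := hpb.lift_snd _ _ _
    rw [← hl1, ← hl2, Category.assoc, Category.assoc, hab]
  obtain ⟨_, ⟨W₁, hW₁, rfl⟩, hxW₁, hW₁W₀⟩ :=
    X.isBasis_affineOpens.exists_subset_of_mem_open hxW₀ W₀.isOpen
  have hcomp : IsCompact ((U ⊓ W₁ : X.Opens) : Set X) := by
    have h1 : IsCompact (U.ι ⁻¹' (W₁ : Set X)) :=
      QuasiCompact.isCompact_preimage (f := U.ι) _ W₁.2 hW₁.isCompact
    have h2 := h1.image U.ι.continuous
    convert h2 using 1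
    ext c
    simp only [TopologicalSpace.Opens.coe_inf, Set.mem_inter_iff, SetLike.mem_coe, Set.mem_image,
      Set.mem_preimage]
    constructor
    · rintro ⟨hcU, hcW⟩
      exact ⟨⟨c, hcU⟩, hcW, rfl⟩
    · rintro ⟨c', hc', rfl⟩
      exact ⟨c'.2, hc'⟩
  obtain ⟨W, hxW, hWW₀, hgood⟩ :=
    exists_nhd_agree p q x U W₀ hxW₀ a ha b' hb' hagree W₁ hxW₁ hW₁W₀ hW₁ hcomp
  obtain ⟨g1, g2, e⟩ := hgood
  let v : (W : Scheme.{u}) ⟶ Y := X.homOfLE hWW₀ ≫ b'
  have hv : v ≫ q = W.ι ≫ p := by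
    simp only [v, Category.assoc, hb', Scheme.homOfLE_ι_assoc]
  have hagv : X.homOfLE (inf_le_right : U ⊓ W ≤ W) ≫ v =
      X.homOfLE (inf_le_left : U ⊓ W ≤ U) ≫ a := by
    simp only [v]
    rw [← Category.assoc, X.homOfLE_homOfLE]
    exact e
  obtain ⟨U', hUU', hWU', f', hf', hresU, hresW⟩ :=
    SecDVR.exists_glue' p q U W a ha v hv (fun α β hαβ => CurveExt.agree_of_homOfLE hagv α β hαβ)
  have hsurj : Function.Surjective U'.ι := by
    intro c
    by_cases hc : c ∈ U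
    · exact ⟨⟨c, hUU' hc⟩, rfl⟩
    · have : c = x := by
        have h3 : c ∉ (U : Set X) := hc
        rw [hU] at h3
        simpa using h3
      exact ⟨⟨c, hWU' (this ▸ hxW)⟩, rfl⟩
  haveI : Epi U'.ι.base := (TopCat.epi_iff_surjective _).mpr hsurj
  haveI : IsIso U'.ι :=
    (isIso_iff_isOpenImmersion_and_epi_base U'.ι).mpr ⟨inferInstance, inferInstance⟩
  refine ⟨inv U'.ι ≫ f', ?_, ?_, ?_⟩
  · rw [Category.assoc, hf', IsIso.inv_hom_id_assoc]
  · have : U.ι ≫ inv U'.ι = X.homOfLE hUU' := by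
      rw [IsIso.comp_inv_eq, Scheme.homOfLE_ι]
    rw [← Category.assoc, this, hresU]
  · have h1 : X.fromSpecStalk x ≫ inv U'.ι = W.fromSpecStalkOfMem x hxW ≫ X.homOfLE hWU' := by
      rw [IsIso.comp_inv_eq, Category.assoc, Scheme.homOfLE_ι, Scheme.Opens.fromSpecStalkOfMem_ι]
    have h2 : W.fromSpecStalkOfMem x hxW ≫ X.homOfLE hWW₀ = W₀.fromSpecStalkOfMem x hxW₀ := by
      rw [← cancel_mono W₀.ι, Category.assoc, Scheme.homOfLE_ι, Scheme.Opens.fromSpecStalkOfMem_ι,
        Scheme.Opens.fromSpecStalkOfMem_ι]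
    rw [← Category.assoc, h1, Category.assoc, hresW, hbb']
    simp only [v]
    rw [← Category.assoc, h2]

end Groth.Agent.Helper4.GermAgree
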