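import Mathlib
import Groth.Agent.Lib.Helper4.GermAgree2

/-!
# A pseudo-morphism is defined at `x` iff its restriction to `Spec O_{X,x}` is (helper4; S5104)
-/

set_option autoImplicit false
universe u
open AlgebraicGeometry CategoryTheory CategoryTheory.Limits

namespace Groth.Agent.Helper4.GermAgree

variable {X Y S : Scheme.{u}} (pX : X ⟶ S) (pY : Y ⟶ S)

/-- (⇒) -/
theorem germ_of_extension (U : X.Opens) (h : (U : Scheme.{u}) ⟶ Y) (x : X)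
    (V : X.Opens) (v : (V : Scheme.{u}) ⟶ Y) (hxV : x ∈ V) (hv : v ≫ pY = V.ι ≫ pX)
    (hag : X.homOfLE (inf_le_right : U ⊓ V ≤ V) ≫ v = X.homOfLE (inf_le_left : U ⊓ V ≤ U) ≫ h) :
    ∃ w : Spec (X.presheaf.stalk x) ⟶ Y, w ≫ pY = X.fromSpecStalk x ≫ pX ∧
      pullback.fst (X.fromSpecStalk x) U.ι ≫ w = pullback.snd (X.fromSpecStalk x) U.ι ≫ h := by
  refine ⟨V.fromSpecStalkOfMem x hxV ≫ v, ?_, ?_⟩
  · rw [Category.assoc, hv, ← Category.assoc, Scheme.Opens.fromSpecStalkOfMem_ι]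
  · have := CurveExt.agree_of_homOfLE hag (pullback.snd (X.fromSpecStalk x) U.ι)
      (pullback.fst (X.fromSpecStalk x) U.ι ≫ V.fromSpecStalkOfMem x hxV)
      (by rw [Category.assoc, Scheme.Opens.fromSpecStalkOfMem_ι, pullback.condition])
    rw [← this, Category.assoc]

set_option maxHeartbeats 800000 in
/-- (⇐), locally Noetherian case -/
theorem extension_of_germ_noetherian [LocallyOfFinitePresentation pY] [IsLocallyNoetherian X]
    (U : X.Opens) (h : (U : Scheme.{u}) ⟶ Y) (hh : h ≫ pY = U.ι ≫ pX) (x : X)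
    (w : Spec (X.presheaf.stalk x) ⟶ Y) (hw : w ≫ pY = X.fromSpecStalk x ≫ pX)
    (hwU : pullback.fst (X.fromSpecStalk x) U.ι ≫ w = pullback.snd (X.fromSpecStalk x) U.ι ≫ h) :
    ∃ (V : X.Opens) (v : (V : Scheme.{u}) ⟶ Y), x ∈ V ∧ v ≫ pY = V.ι ≫ pX ∧
        X.homOfLE (inf_le_right : U ⊓ V ≤ V) ≫ v = X.homOfLE (inf_le_left : U ⊓ V ≤ U) ≫ h := by
  obtain ⟨W₀, hxW₀, b', hbb', hb'⟩ := Groth.Agent.Helper15.spread_out_of_lfp' pX pY w hw
  have hagree : ∀ {Q : Scheme.{u}} (α : Q ⟶ Spec (X.presheaf.stalk x))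
      (β : Q ⟶ (U : Scheme.{u})), α ≫ X.fromSpecStalk x = β ≫ U.ι →
      α ≫ W₀.fromSpecStalkOfMem x hxW₀ ≫ b' = β ≫ h := by
    intro Q α β hαβ
    rw [← hbb']
    let l := pullback.lift α β hαβ
    have hl1 : l ≫ pullback.fst _ _ = α := pullback.lift_fst _ _ _
    have hl2 : l ≫ pullback.snd _ _ = β := pullback.lift_snd _ _ _
    rw [← hl1, ← hl2, Category.assoc, Category.assoc, hwU]
  obtain ⟨_, ⟨W₁, hW₁, rfl⟩, hxW₁, hW₁W₀⟩ :=
    X.isBasis_affineOpens.exists_subset_of_mem_open hxW₀ W₀.isOpen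
  have hcomp : IsCompact ((U ⊓ W₁ : X.Opens) : Set X) := by
    haveI : IsNoetherianRing Γ(X, W₁) := IsLocallyNoetherian.component_noetherian ⟨W₁, hW₁⟩
    haveI : TopologicalSpace.NoetherianSpace ↥W₁ := noetherianSpace_of_isAffineOpen W₁ hW₁
    have h1 : IsCompact ((Subtype.val : ↥W₁ → X) ⁻¹' (U : Set X)) :=
      TopologicalSpace.NoetherianSpace.isCompact _
    have h2 := h1.image continuous_subtype_val
    convert h2 using 1
    ext c
    simp only [TopologicalSpace.Opens.coe_inf, Set.mem_inter_iff, SetLike.mem_coe, Set.mem_image,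
      Set.mem_preimage]
    constructor
    · rintro ⟨hcU, hcW⟩
      exact ⟨⟨c, hcW⟩, hcU, rfl⟩
    · rintro ⟨c', hc', rfl⟩
      exact ⟨hc', c'.2⟩
  obtain ⟨W, hxW, hWW₀, g1, g2, e⟩ :=
    exists_nhd_agree pX pY x U W₀ hxW₀ h hh b' hb' hagree W₁ hxW₁ hW₁W₀ hW₁ hcomp
  refine ⟨W, X.homOfLE hWW₀ ≫ b', hxW, ?_, ?_⟩
  · simp only [Category.assoc, hb', Scheme.homOfLE_ι_assoc]
  · rw [← Category.assoc, X.homOfLE_homOfLE]
    exact e


set_option maxHeartbeats 800000 in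
/-- (⇐), reduced case with locally finitely many irreducible components -/
theorem extension_of_germ_reduced [LocallyOfFinitePresentation pY] [IsSeparated pY] [IsReduced X]
    (U : X.Opens) (h : (U : Scheme.{u}) ⟶ Y) (hh : h ≫ pY = U.ι ≫ pX) (x : X)
    (hfin : ∃ W : X.Opens, x ∈ W ∧
      {Z : Set X | Z ∈ irreducibleComponents X ∧ (Z ∩ (W : Set X)).Nonempty}.Finite)
    (w : Spec (X.presheaf.stalk x) ⟶ Y) (hw : w ≫ pY = X.fromSpecStalk x ≫ pX)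
    (hwU : pullback.fst (X.fromSpecStalk x) U.ι ≫ w = pullback.snd (X.fromSpecStalk x) U.ι ≫ h) :
    ∃ (V : X.Opens) (v : (V : Scheme.{u}) ⟶ Y), x ∈ V ∧ v ≫ pY = V.ι ≫ pX ∧
        X.homOfLE (inf_le_right : U ⊓ V ≤ V) ≫ v = X.homOfLE (inf_le_left : U ⊓ V ≤ U) ≫ h := by
  obtain ⟨W₀, hxW₀, b', hbb', hb'⟩ := Groth.Agent.Helper15.spread_out_of_lfp' pX pY w hw
  have hagree : ∀ {Q : Scheme.{u}} (α : Q ⟶ Spec (X.presheaf.stalk x))
      (β : Q ⟶ (U : Scheme.{u})), α ≫ X.fromSpecStalk x = β ≫ U.ι →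
      α ≫ W₀.fromSpecStalkOfMem x hxW₀ ≫ b' = β ≫ h := by
    intro Q α β hαβ
    rw [← hbb']
    let l := pullback.lift α β hαβ
    have hl1 : l ≫ pullback.fst _ _ = α := pullback.lift_fst _ _ _
    have hl2 : l ≫ pullback.snd _ _ = β := pullback.lift_snd _ _ _
    rw [← hl1, ← hl2, Category.assoc, Category.assoc, hwU]
  obtain ⟨W', hxW', hfinW'⟩ := hfin
  let Bad : Set (Set X) :=
    {Z | Z ∈ irreducibleComponents X ∧ (Z ∩ (W' : Set X)).Nonempty ∧ x ∉ Z}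
  have hBadfin : Bad.Finite := hfinW'.subset fun Z hZ => ⟨hZ.1, hZ.2.1⟩
  have hBadclosed : IsClosed (⋃₀ Bad) := by
    rw [Set.sUnion_eq_biUnion]
    exact Set.Finite.isClosed_biUnion hBadfin
      fun Z hZ => isClosed_of_mem_irreducibleComponents Z hZ.1
  let W₁ : X.Opens := W₀ ⊓ W' ⊓ ⟨(⋃₀ Bad)ᶜ, hBadclosed.isOpen_compl⟩
  have hxW₁ : x ∈ W₁ := by
    refine ⟨⟨hxW₀, hxW'⟩, ?_⟩
    rintro ⟨Z, hZ, hxZ⟩
    exact hZ.2.2 hxZ
  have hgen : ∀ c ∈ W₁, ∃ η, η ⤳ c ∧ η ⤳ x := by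
    rintro c ⟨⟨-, hcW'⟩, hcBad⟩
    obtain ⟨η, hη, hηc⟩ := DVRSep.exists_generic_specializes X c
    refine ⟨η, hηc, ?_⟩
    rw [specializes_iff_mem_closure]
    by_contra hcon
    apply hcBad
    refine ⟨closure {η}, ⟨hη, ⟨c, specializes_iff_mem_closure.mp hηc, hcW'⟩, hcon⟩, ?_⟩
    exact specializes_iff_mem_closure.mp hηc
  let X₁ : X.Opens := U ⊓ W₁
  have hW₁W₀ : W₁ ≤ W₀ := inf_le_left.trans inf_le_left
  let f : (X₁ : Scheme.{u}) ⟶ Y := X.homOfLE (inf_le_left : X₁ ≤ U) ≫ h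
  let g : (X₁ : Scheme.{u}) ⟶ Y := X.homOfLE (inf_le_right.trans hW₁W₀ : X₁ ≤ W₀) ≫ b'
  have hfg : f ≫ pY = g ≫ pY := by
    simp only [f, g, Category.assoc, hh, hb', Scheme.homOfLE_ι_assoc]
  let ι : pullback (X.fromSpecStalk x) X₁.ι ⟶ (X₁ : Scheme.{u}) :=
    pullback.snd (X.fromSpecStalk x) X₁.ι
  haveI : IsDominant ι := by
    refine ⟨?_⟩
    rw [DenseRange, Scheme.Pullback.range_snd, Scheme.range_fromSpecStalk]
    intro c₁
    obtain ⟨η, hηc, hηx⟩ := hgen c₁.1 c₁.2.2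
    have hηX₁ : η ∈ X₁ := hηc.mem_open X₁.2 c₁.2
    let η₁ : (X₁ : Scheme.{u}) := ⟨η, hηX₁⟩
    have h1 : η₁ ⤳ c₁ := by
      rw [← X₁.ι.isEmbedding.isInducing.specializes_iff]
      exact hηc
    refine closure_mono ?_ (specializes_iff_mem_closure.mp h1)
    rw [Set.singleton_subset_iff]
    exact hηx
  have hι : ι ≫ f = ι ≫ g := by
    have h1 := hagree (pullback.fst (X.fromSpecStalk x) X₁.ι)
      (ι ≫ X.homOfLE (inf_le_left : X₁ ≤ U))
      (by rw [Category.assoc, Scheme.homOfLE_ι]; exact pullback.condition)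
    have h2 : pullback.fst (X.fromSpecStalk x) X₁.ι ≫ W₀.fromSpecStalkOfMem x hxW₀ =
        ι ≫ X.homOfLE (inf_le_right.trans hW₁W₀ : X₁ ≤ W₀) := by
      apply (cancel_mono W₀.ι).mp
      rw [Category.assoc, Category.assoc, Scheme.Opens.fromSpecStalkOfMem_ι, Scheme.homOfLE_ι]
      exact pullback.condition
    calc ι ≫ f = (ι ≫ X.homOfLE (inf_le_left : X₁ ≤ U)) ≫ h := (Category.assoc _ _ _).symm
      _ = pullback.fst (X.fromSpecStalk x) X₁.ι ≫ W₀.fromSpecStalkOfMem x hxW₀ ≫ b' := h1.symm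
      _ = (pullback.fst (X.fromSpecStalk x) X₁.ι ≫ W₀.fromSpecStalkOfMem x hxW₀) ≫ b' :=
          (Category.assoc _ _ _).symm
      _ = (ι ≫ X.homOfLE (inf_le_right.trans hW₁W₀ : X₁ ≤ W₀)) ≫ b' := by rw [h2]
      _ = ι ≫ g := Category.assoc _ _ _
  have hfgeq : f = g := ext_of_isDominant_of_isSeparated pY hfg ι hι
  refine ⟨W₁, X.homOfLE hW₁W₀ ≫ b', hxW₁, ?_, ?_⟩
  · simp only [Category.assoc, hb', Scheme.homOfLE_ι_assoc]
  · rw [← Category.assoc, X.homOfLE_homOfLE]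
    exact hfgeq.symm

end Groth.Agent.Helper4.GermAgree
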