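import Mathlib
import Groth.Agent.Lib.Helper4.GrpAff

/-!
# `U · U⁻¹` covers the identity component (helper4)
-/

set_option autoImplicit false
set_option linter.style.haveILetI false
set_option linter.unusedSectionVars false
universe u v
open CategoryTheory CategoryTheory.Limits AlgebraicGeometry MonoidalCategory CartesianMonoidalCategory
  MonObj GrpObj

namespace Groth.Agent.Helper4.GrpDiv

open Groth.Agent.Helper16.GrpIrr Groth.Agent.Helper4.GrpConn Groth.Agent.Helper4.GrpAff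

section Cat

variable {C : Type u} [Category.{v} C] [CartesianMonoidalCategory C] (G : C) [GrpObj G]

theorem lift_trans_div (φ : 𝟙_ C ⟶ G) :
    lift (Groth.Agent.Helper16.GrpIrr.trans G φ) (𝟙 G ≫ ι[G]) ≫ μ[G] = toUnit G ≫ φ := by
  rw [Category.id_comp, ← Hom.mul_def]
  unfold Groth.Agent.Helper16.GrpIrr.trans
  have h : (ι[G] : G ⟶ G) = (𝟙 G)⁻¹ := by rw [Hom.inv_def, Category.id_comp]
  rw [h, mul_inv_cancel_right]

/-- `(a, b) ↦ (a, b⁻¹)` -/
def dlt : G ⊗ G ≅ G ⊗ G where
  hom := lift (fst G G) (snd G G ≫ ι[G])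
  inv := lift (fst G G) (snd G G ≫ ι[G])
  hom_inv_id := by apply CartesianMonoidalCategory.hom_ext <;> simp
  inv_hom_id := by apply CartesianMonoidalCategory.hom_ext <;> simp

theorem lift_dlt (a b : G ⟶ G) : lift a b ≫ (dlt G).hom = lift a (b ≫ ι[G]) := by
  apply CartesianMonoidalCategory.hom_ext <;> simp [dlt]

end Cat

variable {k : Type u} [Field k] (G : Over (Spec (CommRingCat.of k))) [GrpObj G]

instance isIso_dlt_left : IsIso (dlt G).hom.left :=
  inferInstanceAs (IsIso ((Over.forget _).map (dlt G).hom))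

instance isIso_phi_left : IsIso (phi G).hom.left :=
  inferInstanceAs (IsIso ((Over.forget _).map (phi G).hom))

theorem isOpenMap_mul : IsOpenMap μ[G].left := by
  have h : μ[G] = (phi G).hom ≫ fst G G := (phi_hom_fst G).symm
  haveI : UniversallyOpen G.hom := inferInstance
  have h1 : IsOpenMap (fst G G).left := (pullback.fst G.hom G.hom).isOpenMap
  have h2 : IsOpenMap (phi G).hom.left := (phi G).hom.left.homeomorph.isOpenMap
  have h3 : (μ[G].left : (G ⊗ G).left → G.left) = (fst G G).left ∘ (phi G).hom.left := by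
    rw [h, Over.comp_left]
    rfl
  rw [h3]
  exact h1.comp h2

end Groth.Agent.Helper4.GrpDiv

namespace Groth.Agent.Helper4.GrpDiv

open Groth.Agent.Helper16.GrpIrr Groth.Agent.Helper4.GrpConn Groth.Agent.Helper4.GrpAff

variable {k : Type u} [Field k] [IsAlgClosed k] (G : Over (Spec (CommRingCat.of k))) [GrpObj G]
  [LocallyOfFiniteType G.hom]

set_option maxHeartbeats 1000000 in
theorem main (U : G.left.Opens) (hne : (U : Set ↥G.left).Nonempty)
    (hU : (U : Set ↥G.left) ⊆ connectedComponent (ept G)) :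
    connectedComponent (ept G) ⊆ Set.range
      ((((Over.homMk U.ι rfl : Over.mk (U.ι ≫ G.hom) ⟶ G) ⊗ₘ
          ((Over.homMk U.ι rfl : Over.mk (U.ι ≫ G.hom) ⟶ G) ≫ ι[G])) ≫ μ[G]).left) := by
  obtain ⟨iU, hiU⟩ : ∃ iU : Over.mk (U.ι ≫ G.hom) ⟶ G, iU = Over.homMk U.ι rfl := ⟨_, rfl⟩
  rw [← hiU]
  have hiUl : iU.left = U.ι := by rw [hiU]; rfl
  obtain ⟨ψ, hψ⟩ : ∃ ψ : Over.mk (U.ι ≫ G.hom) ⊗ Over.mk (U.ι ≫ G.hom) ⟶ G,
    ψ = (iU ⊗ₘ (iU ≫ ι[G])) ≫ μ[G] := ⟨_, rfl⟩
  rw [← hψ]
  have hψ' : ψ = (iU ⊗ₘ iU) ≫ (dlt G).hom ≫ μ[G] := by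
    rw [hψ, ← Category.assoc]
    congr 1
    apply CartesianMonoidalCategory.hom_ext
    · simp [dlt]
    · simp [dlt]
  haveI : IsOpenImmersion iU.left := by rw [hiUl]; infer_instance
  haveI : IsOpenImmersion (iU ⊗ₘ iU).left := by
    rw [Over.tensorHom_left]
    infer_instance
  -- the range of ψ is open
  have hopen : IsOpen (Set.range ψ.left) := by
    have h1 : IsOpenMap ((dlt G).hom ≫ μ[G]).left := by
      have h3 : (((dlt G).hom ≫ μ[G]).left : (G ⊗ G).left → G.left) =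
          μ[G].left ∘ (dlt G).hom.left := by
        rw [Over.comp_left]
        rfl
      rw [h3]
      exact (isOpenMap_mul G).comp (dlt G).hom.left.homeomorph.isOpenMap
    have h2 : (ψ.left : _ → G.left) = ((dlt G).hom ≫ μ[G]).left ∘ (iU ⊗ₘ iU).left := by
      rw [hψ', Over.comp_left]
      rfl
    rw [h2, Set.range_comp]
    exact h1 _ (iU ⊗ₘ iU).left.isOpenEmbedding.isOpen_range
  have hmem : ∀ (p : (G ⊗ G).left), (fst G G).left p ∈ U → (snd G G).left p ∈ U →
      μ[G].left ((dlt G).hom.left p) ∈ Set.range ψ.left := by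
    intro p h1 h2
    have hr := Scheme.Pullback.range_map (U.ι ≫ G.hom) (U.ι ≫ G.hom) G.hom G.hom U.ι U.ι (𝟙 _)
      (by simp) (by simp)
    have hp : p ∈ Set.range (iU ⊗ₘ iU).left := by
      have e : (iU ⊗ₘ iU).left = pullback.map (U.ι ≫ G.hom) (U.ι ≫ G.hom) G.hom G.hom U.ι U.ι (𝟙 _)
          (by simp) (by simp) := by
        rw [Over.tensorHom_left]
        congr 1
      rw [e, hr]
      refine ⟨?_, ?_⟩
      · rw [Set.mem_preimage, Scheme.Opens.range_ι]
        exact h1
      · rw [Set.mem_preimage, Scheme.Opens.range_ι]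
        exact h2
    obtain ⟨p', rfl⟩ := hp
    refine ⟨p', ?_⟩
    rw [hψ', Over.comp_left, Over.comp_left, Scheme.Hom.comp_apply, Scheme.Hom.comp_apply]
  -- main argument
  intro x hxC
  by_contra hxV
  haveI : JacobsonSpace G.left := LocallyOfFiniteType.jacobsonSpace G.hom
  obtain ⟨x₀, ⟨hx₀cl, hx₀V⟩, hx₀closed⟩ := nonempty_inter_closedPoints (X := G.left)
    (Z := closure {x} ∩ (Set.range ψ.left)ᶜ) ⟨x, subset_closure rfl, hxV⟩
    (isClosed_closure.isLocallyClosed.inter hopen.isClosed_compl.isLocallyClosed)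
  have hx₀closed' : IsClosed ({x₀} : Set G.left) := hx₀closed
  have hx₀C : x₀ ∈ connectedComponent (ept G) :=
    (isClosed_connectedComponent.closure_subset_iff.2 (Set.singleton_subset_iff.2 hxC)) hx₀cl
  obtain ⟨φ, hφ⟩ := exists_rational G x₀ hx₀closed'
  apply hx₀V
  have hcc : connectedComponent (ptOf G φ) = connectedComponent (ept G) := by
    rw [hφ]
    exact (connectedComponent_eq hx₀C).symm
  have himg := trans_image_cc G φ
  rw [hcc] at himg
  obtain ⟨τ, hτ⟩ : ∃ τ : G ⟶ G, τ = Groth.Agent.Helper16.GrpIrr.trans G φ := ⟨_, rfl⟩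
  rw [← hτ] at himg
  haveI : IsIso τ.left := by rw [hτ]; infer_instance
  have hU'sub : τ.left ⁻¹' (U : Set G.left) ⊆ connectedComponent (ept G) := by
    intro g hg
    have : τ.left g ∈ τ.left '' connectedComponent (ept G) := by
      rw [himg]; exact hU hg
    obtain ⟨c, hc, hcg⟩ := this
    rw [← τ.left.homeomorph.injective hcg]
    exact hc
  have hirr : IsIrreducible (connectedComponent (ept G)) := by
    rw [connectedComponent_unit_eq]
    exact isIrreducible_irreducibleComponent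
  obtain ⟨u₀, hu₀⟩ := hne
  obtain ⟨g₀, hg₀⟩ := τ.left.homeomorph.surjective u₀
  have hg₀U : g₀ ∈ τ.left ⁻¹' (U : Set G.left) := by
    show τ.left g₀ ∈ U
    have : τ.left g₀ = u₀ := hg₀
    rw [this]; exact hu₀
  obtain ⟨h, hhC, hhU, hhU'⟩ := hirr.2 (U : Set G.left) (τ.left ⁻¹' (U : Set G.left)) U.isOpen
    (U.isOpen.preimage τ.left.continuous) ⟨u₀, hU hu₀, hu₀⟩ ⟨g₀, hU'sub hg₀U, hg₀U⟩
  have key := hmem ((lift τ (𝟙 G)).left h) ?_ ?_
  · have e : μ[G].left ((dlt G).hom.left ((lift τ (𝟙 G)).left h)) = x₀ := by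
      rw [← Scheme.Hom.comp_apply, ← Scheme.Hom.comp_apply, ← Over.comp_left, ← Over.comp_left,
        ← Category.assoc, lift_dlt, hτ, lift_trans_div, Over.comp_left, Scheme.Hom.comp_apply, ← hφ]
      exact congrArg _ (Subsingleton.elim (α := PrimeSpectrum k) _ _)
    rw [← e]
    exact key
  · rw [← Scheme.Hom.comp_apply, ← Over.comp_left, lift_fst]
    exact hhU'
  · rw [← Scheme.Hom.comp_apply, ← Over.comp_left, lift_snd]
    exact hhU

end Groth.Agent.Helper4.GrpDiv
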