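import Groth.Prelude.Def_FGA
import Mathlib.AlgebraicGeometry.Noetherian
import Mathlib.AlgebraicGeometry.Morphisms.FiniteType
import Mathlib.AlgebraicGeometry.Pullbacks
import Mathlib.CategoryTheory.Comma.Over.Basic

/-!
# Base change of a pair representing the Hilbert functor (helper lemmas for S17081)
-/

set_option autoImplicit false
universe u
open CategoryTheory CategoryTheory.Limits AlgebraicGeometry

namespace Groth.Agent.Helper4.HilbBC

variable {X S : Scheme.{u}} (f : X ⟶ S)

/-- `FGA.hilbPull` is `IdealSheafData.comap` along `XTmap`. -/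
lemma hilbPull_eq_comap {T T' : Over S} (g : T' ⟶ T) (I : (PicF.XT f T).IdealSheafData) :
    FGA.hilbPull f g I = I.comap (PicF.XTmap f g) := by
  unfold FGA.hilbPull Scheme.IdealSheafData.comap
  rw [← Scheme.Hom.ker_comp_of_isIso (pullbackSymmetry _ _).hom]
  simp

/-- Transport of an ideal sheaf along an isomorphism, and back. -/
lemma comap_inv_comap_hom {A B : Scheme.{u}} (e : A ≅ B) (I : A.IdealSheafData) :
    (I.comap e.inv).comap e.hom = I := by
  rw [← Scheme.IdealSheafData.comap_comp, e.hom_inv_id, Scheme.IdealSheafData.comap_id]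

lemma comap_hom_comap_inv {A B : Scheme.{u}} (e : A ≅ B) (I : B.IdealSheafData) :
    (I.comap e.hom).comap e.inv = I := by
  rw [← Scheme.IdealSheafData.comap_comp, e.inv_hom_id, Scheme.IdealSheafData.comap_id]

/-- The closed subscheme of the transported ideal sheaf maps isomorphically to the original one,
compatibly with the inclusions. -/
lemma exists_iso_subscheme_comap_inv {A B : Scheme.{u}} (e : A ≅ B) (I : A.IdealSheafData) :
    ∃ φ : (I.comap e.inv).subscheme ⟶ I.subscheme, IsIso φ ∧
      (I.comap e.inv).subschemeι = φ ≫ I.subschemeι ≫ e.hom := by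
  refine ⟨(I.comapIso e.inv).hom ≫ pullback.snd e.inv I.subschemeι, inferInstance, ?_⟩
  rw [← Scheme.IdealSheafData.comapIso_hom_fst, Category.assoc]
  congr 1
  rw [← pullback.condition_assoc, e.inv_hom_id, Category.comp_id]


section BaseChange

variable {S' : Scheme.{u}} (h : S' ⟶ S) (H : Over S)

/-- The comparison map `X' ×_{S'} H' ⟶ X ×_S H`. -/
noncomputable abbrev bcMap :
    PicF.XT (pullback.snd f h) (Over.mk (pullback.snd H.hom h)) ⟶ PicF.XT f H :=
  pullback.map (pullback.snd f h) (pullback.snd H.hom h) f H.hom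
      (pullback.fst f h) (pullback.fst H.hom h) h pullback.condition.symm pullback.condition.symm

/-- An `S'`-scheme viewed as an `S`-scheme. -/
abbrev overS (T' : Over S') : Over S := Over.mk (T'.hom ≫ h)

/-- The canonical iso `X' ×_{S'} T' ≅ X ×_S T'`. -/
noncomputable abbrev eT (T' : Over S') :
    PicF.XT (pullback.snd f h) T' ≅ PicF.XT f (overS h T') :=
  pullbackLeftPullbackSndIso f h T'.hom

/-- An `S'`-morphism `T' ⟶ H'` gives an `S`-morphism `T' ⟶ H`. -/
noncomputable abbrev toH {T' : Over S'} (g : T' ⟶ Over.mk (pullback.snd H.hom h)) :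
    overS h T' ⟶ H :=
  Over.homMk (g.left ≫ pullback.fst H.hom h) (by
    have := Over.w g
    dsimp at this ⊢
    rw [Category.assoc, pullback.condition, ← Category.assoc, this])

lemma XTmap_bcMap {T' : Over S'} (g : T' ⟶ Over.mk (pullback.snd H.hom h)) :
    PicF.XTmap (pullback.snd f h) g ≫ bcMap f h H =
      (eT f h T').hom ≫ PicF.XTmap f (toH h H g) := by
  apply pullback.hom_ext
  · simp only [PicF.XTmap, bcMap, eT, toH, pullback.map, Category.assoc]
    rw [pullback.lift_fst]
    erw [pullback.lift_fst_assoc]
    rw [pullback.lift_fst, Category.comp_id, Category.comp_id]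
    erw [pullbackLeftPullbackSndIso_hom_fst]
  · simp only [PicF.XTmap, bcMap, eT, toH, pullback.map, Category.assoc]
    rw [pullback.lift_snd]
    erw [pullback.lift_snd_assoc]
    rw [pullback.lift_snd]
    erw [pullbackLeftPullbackSndIso_hom_snd_assoc]
    simp

end BaseChange

end Groth.Agent.Helper4.HilbBC
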