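import Mathlib
import Groth.Agent.Lib.Helper4.Homog6

/-!
# Homogeneous spaces under a group scheme over a field, VII: quasi-compactness, rational points
(helper4)
-/

set_option autoImplicit false
set_option linter.style.haveILetI false
set_option linter.unusedSectionVars false
universe u v
open CategoryTheory CategoryTheory.Limits AlgebraicGeometry MonoidalCategory CartesianMonoidalCategory
  MonObj GrpObj

namespace Groth.Agent.Helper4.Homog

open Groth.Agent.Helper28.AlgGrpShear Groth.Agent.Helper4.GrpConn Groth.Agent.Helper16.GrpIrr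
open Groth.Agent.Helper4.BCTower

section Compact

variable {k : Type u} [Field k] {G X : Over (Spec (CommRingCat.of k))} [GrpObj G]
  (a : AlgGrp.Action G X)

/-- the identity irreducible component of a group scheme over a field is quasi-compact -/
theorem isCompact_irreducibleComponent_ept (G : Over (Spec (CommRingCat.of k))) [GrpObj G] :
    IsCompact (irreducibleComponent (ept G)) :=
  (connectedComponent_unit_irreducible_compact G).2.of_isClosed_subset
    isClosed_irreducibleComponent irreducibleComponent_subset_connectedComponent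

/-- `C⁰ · U` is quasi-compact for `U` affine open -/
theorem isCompact_unit_act (U : X.left.Opens) (hU : IsAffineOpen U) :
    IsCompact (a.act.left '' ((fst G X).left ⁻¹' irreducibleComponent (ept G) ∩
      (snd G X).left ⁻¹' (U : Set X.left))) := by
  obtain ⟨T, i, hi, hrange⟩ := Groth.Agent.Helper4.GalOrbit.exists_closedImmersion
    (irreducibleComponent (ept G)) isClosed_irreducibleComponent
  haveI := hi
  haveI : CompactSpace T := by
    rw [← isCompact_univ_iff, i.isEmbedding.isCompact_iff, Set.image_univ]
    have : Set.range i = irreducibleComponent (ept G) := hrange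
    rw [this]
    exact isCompact_irreducibleComponent_ept G
  haveI : IsAffine U.toScheme := hU
  haveI : QuasiCompact (U.ι ≫ X.hom) := inferInstance
  haveI : CompactSpace ↥(pullback (i ≫ G.hom) (U.ι ≫ X.hom)) := inferInstance
  have h := Scheme.Pullback.range_map (i ≫ G.hom) (U.ι ≫ X.hom) G.hom X.hom i U.ι (𝟙 _)
    (by simp) (by simp)
  have h2 : (fst G X).left ⁻¹' irreducibleComponent (ept G) ∩
      (snd G X).left ⁻¹' (U : Set X.left) =
      Set.range (pullback.map (i ≫ G.hom) (U.ι ≫ X.hom) G.hom X.hom i U.ι (𝟙 _)
        (by simp) (by simp)) := by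
    rw [h]
    have e1 : Set.range i = irreducibleComponent (ept G) := hrange
    rw [e1, Scheme.Opens.range_ι]
    rfl
  rw [h2]
  exact (isCompact_range (Scheme.Hom.continuous _)).image a.act.left.continuous

/-- **an irreducible homogeneous space under a group scheme over a field is quasi-compact** -/
theorem compactSpace_of_irreducibleSpace (hΦ : Surjective (lift a.act (snd G X)).left)
    [IrreducibleSpace X.left] : CompactSpace X.left := by
  obtain ⟨x⟩ : Nonempty X.left := inferInstance
  obtain ⟨_, ⟨U, hUaff, rfl⟩, hxU, -⟩ :=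
    X.left.isBasis_affineOpens.exists_subset_of_mem_open (Set.mem_univ x) isOpen_univ
  have hξ : closure {genericPoint X.left} = Set.univ := (genericPoint_spec X.left).def
  have hξU : genericPoint X.left ∈ U :=
    (genericPoint_specializes x).mem_open U.isOpen hxU
  have huniv : Set.univ ∈ irreducibleComponents X.left := by
    rw [irreducibleComponents_eq_singleton]
    rfl
  have hV : a.act.left '' ((fst G X).left ⁻¹' irreducibleComponent (ept G) ∩
      (snd G X).left ⁻¹' (U : Set X.left)) = Set.univ := by
    rw [unit_act_eq_sUnion a hΦ U]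
    apply Set.eq_univ_of_univ_subset
    intro z hz
    exact ⟨Set.univ, ⟨huniv, _, hξU, hξ⟩, hz⟩
  rw [← isCompact_univ_iff, ← hV]
  exact isCompact_unit_act a U hUaff

end Compact

section Rational

variable {k : Type u} [Field k] {G X : Over (Spec (CommRingCat.of k))} [GrpObj G]
  (a : AlgGrp.Action G X)

/-- the fibre of `X_K ⟶ X` over a rational point is a single point -/
theorem eq_of_fst_eq_rational {K : Type u} [Field K]
    (c : Spec (CommRingCat.of K) ⟶ Spec (CommRingCat.of k))
    (x : 𝟙_ (Over (Spec (CommRingCat.of k))) ⟶ X) (pt : (𝟙_ (Over (Spec (CommRingCat.of k)))).left)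
    (u₁ u₂ : ↥(pullback X.hom c)) (h1 : pullback.fst X.hom c u₁ = x.left pt)
    (h2 : pullback.fst X.hom c u₂ = x.left pt) : u₁ = u₂ := by
  have hw : x.left ≫ X.hom = 𝟙 _ := Over.w x
  haveI : IsIso (x.left ≫ X.hom) := by rw [hw]; infer_instance
  haveI : IsIso (pullback.snd (x.left ≫ X.hom) c) := inferInstance
  have hsub : Subsingleton ↥(pullback x.left (pullback.fst X.hom c)) := by
    have e := (pullbackRightPullbackFstIso X.hom c x.left ≪≫
      asIso (pullback.snd (x.left ≫ X.hom) c)).hom.homeomorph
    haveI : Subsingleton ↥(Spec (CommRingCat.of K)) :=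
      inferInstanceAs (Subsingleton (PrimeSpectrum K))
    exact e.injective.subsingleton
  have hr : ∀ u : ↥(pullback X.hom c), pullback.fst X.hom c u = x.left pt →
      u ∈ Set.range (pullback.snd x.left (pullback.fst X.hom c)) := by
    intro u hu
    rw [Scheme.Pullback.range_snd]
    exact ⟨pt, hu.symm⟩
  obtain ⟨p₁, rfl⟩ := hr u₁ h1
  obtain ⟨p₂, rfl⟩ := hr u₂ h2
  rw [Subsingleton.elim p₁ p₂]

/-- **the irreducible component through a rational point of a homogeneous space is geometrically
irreducible** -/
theorem isIrreducible_preimage_of_rational (hΦ : Surjective (lift a.act (snd G X)).left)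
    (x : 𝟙_ (Over (Spec (CommRingCat.of k))) ⟶ X) (pt : (𝟙_ (Over (Spec (CommRingCat.of k)))).left)
    (C : Set X.left) (hC : C ∈ irreducibleComponents X.left) (hx : x.left pt ∈ C)
    (K : Type u) [Field K] [Algebra k K] :
    IsIrreducible ((pullback.fst X.hom (yK (k := k) K)) ⁻¹' C) := by
  obtain ⟨x', hx'⟩ := fst_surjective X.hom K (x.left pt)
  have hx'' : pullback.fst X.hom (yK (k := k) K) x' = x.left pt := hx'
  have key : (pullback.fst X.hom (yK (k := k) K)) ⁻¹' C = irreducibleComponent x' := by
    apply subset_antisymm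
    · intro z' hz'
      obtain ⟨T', hT', hz'T', himg⟩ :=
        Groth.Agent.Helper4.IrrCompBC.exists_mem_irreducibleComponents X.hom K hC z' hz'
      have hxC : x.left pt ∈ (pullback.fst X.hom (yK (k := k) K)).base '' T' := by
        rw [himg]
        exact hx
      obtain ⟨x'', hx''T', hx''eq⟩ := hxC
      have hxx : x'' = x' := eq_of_fst_eq_rational (yK (k := k) K) x pt x'' x' hx''eq hx''
      have heq : T' = irreducibleComponent x' :=
        irreducibleComponent_unique' (a.bc (yK (k := k) K)) (surjective_bc _ a hΦ) x' _ _ hT'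
          (irreducibleComponent_mem_irreducibleComponents x') (hxx ▸ hx''T')
          mem_irreducibleComponent
      rw [← heq]
      exact hz'T'
    · intro z' hz'
      have hirr : IsIrreducible (pullback.fst X.hom (yK (k := k) K) '' irreducibleComponent x') :=
        isIrreducible_irreducibleComponent.image _
          (pullback.fst X.hom (yK (k := k) K)).continuous.continuousOn
      exact subset_of_unique_irreducibleComponent (x.left pt)
        (irreducibleComponent_unique' a hΦ (x.left pt)) C hC hx _ hirr
        ⟨x', mem_irreducibleComponent, hx''⟩ ⟨z', hz', rfl⟩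
  rw [key]
  exact isIrreducible_irreducibleComponent

end Rational

section Orbit

variable {k : Type u} [Field k] {G X : Over (Spec (CommRingCat.of k))} [GrpObj G]
  (a : AlgGrp.Action G X)

theorem fst_lift_id (x : 𝟙_ (Over (Spec (CommRingCat.of k))) ⟶ X) (g : G.left) :
    (fst G X).left ((lift (𝟙 G) (toUnit G ≫ x)).left g) = g := by
  rw [← Scheme.Hom.comp_apply, ← Over.comp_left, lift_fst]
  rfl

theorem snd_lift_id (x : 𝟙_ (Over (Spec (CommRingCat.of k))) ⟶ X)
    (pt : (𝟙_ (Over (Spec (CommRingCat.of k)))).left) (g : G.left) :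
    (snd G X).left ((lift (𝟙 G) (toUnit G ≫ x)).left g) = x.left pt := by
  rw [← Scheme.Hom.comp_apply, ← Over.comp_left, lift_snd, Over.comp_left, Scheme.Hom.comp_apply]
  exact congrArg _ (Subsingleton.elim (α := PrimeSpectrum k) _ _)

theorem orbitMap_apply (x : 𝟙_ (Over (Spec (CommRingCat.of k))) ⟶ X) (g : G.left) :
    (a.orbitMap x).left g = a.act.left ((lift (𝟙 G) (toUnit G ≫ x)).left g) := by
  rw [← Scheme.Hom.comp_apply, ← Over.comp_left]
  rfl

theorem fst_comp_lift_id (x : 𝟙_ (Over (Spec (CommRingCat.of k))) ⟶ X) :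
    fst G (𝟙_ (Over (Spec (CommRingCat.of k)))) ≫ lift (𝟙 G) (toUnit G ≫ x) = G ◁ x := by
  apply CartesianMonoidalCategory.hom_ext
  · simp
  · simp only [Category.assoc, lift_snd, whiskerLeft_snd]
    rw [← Category.assoc]
    congr 1
    exact toUnit_unique _ _

/-- a point of `G × X` lying over a rational point `x` of `X` is of the form `(g, x)` -/
theorem exists_lift_id_eq (x : 𝟙_ (Over (Spec (CommRingCat.of k))) ⟶ X)
    (pt : (𝟙_ (Over (Spec (CommRingCat.of k)))).left) (w : (G ⊗ X).left)
    (hw : (snd G X).left w = x.left pt) :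
    ∃ g : G.left, (lift (𝟙 G) (toUnit G ≫ x)).left g = w := by
  have sq := (isPullback_snd G x).map (Over.forget _)
  obtain ⟨t, -, ht2⟩ := Scheme.exists_preimage_of_isPullback sq pt w hw.symm
  have ht2' : (G ◁ x).left t = w := ht2
  refine ⟨(fst G (𝟙_ (Over (Spec (CommRingCat.of k))))).left t, ?_⟩
  rw [← Scheme.Hom.comp_apply, ← Over.comp_left, fst_comp_lift_id, ht2']

/-- **the orbit map of a rational point maps the identity component of `G` onto the irreducible
component of the point** -/
theorem orbitMap_image_unit (hΦ : Surjective (lift a.act (snd G X)).left)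
    (x : 𝟙_ (Over (Spec (CommRingCat.of k))) ⟶ X)
    (pt : (𝟙_ (Over (Spec (CommRingCat.of k)))).left) :
    (a.orbitMap x).left '' irreducibleComponent (ept G) = irreducibleComponent (x.left pt) := by
  have hZ := irreducibleComponent_mem_irreducibleComponents (x.left pt)
  apply subset_antisymm
  · rintro _ ⟨g, hg, rfl⟩
    rw [orbitMap_apply]
    apply act_mem_of_mem_unit a hZ
    · rw [fst_lift_id]
      exact hg
    · rw [snd_lift_id x pt]
      exact mem_irreducibleComponent
  · intro z hz
    obtain ⟨ξ, hξ⟩ := QuasiSober.sober hZ.1 (isClosed_of_mem_irreducibleComponents _ hZ)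
    have hξcl : closure {ξ} = irreducibleComponent (x.left pt) := hξ
    obtain ⟨w₂, hw2a, hw2b, hw2c⟩ := exists_act_generic a hΦ hZ hξcl hz
    obtain ⟨w, hwa, hwb, hwc⟩ := exists_act_generic a hΦ hZ hξcl
      (mem_irreducibleComponent (x := x.left pt))
    obtain ⟨w₁, hw1a, hw1b, hw1c⟩ := exists_inv a w
    obtain ⟨w₃, p, hp1, hp2, hw3a, hw3b, hw3c⟩ := exists_comp a w₁ w₂ (by rw [hw1c, hwb, hw2b])
    have hmem : (fst G X).left w₃ ∈ irreducibleComponent (ept G) := by
      rw [hw3a]
      apply mul_mem_unit G p
      · rw [hp1]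
        exact hw2a
      · rw [hp2, hw1a]
        exact inv_mem_unit G hwa
    obtain ⟨g, hg⟩ := exists_lift_id_eq x pt w₃ (by rw [hw3b, hw1b, hwc])
    refine ⟨g, ?_, ?_⟩
    · rw [← fst_lift_id x g, hg]
      exact hmem
    · rw [orbitMap_apply, hg, hw3c, hw2c]

end Orbit

end Groth.Agent.Helper4.Homog
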