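import Mathlib
import Groth.Agent.Lib.Helper3.HopfLemma
import Groth.Agent.Lib.Helper13.FieldBC2
import Groth.Agent.Lib.Helper13.TensorFinLocFree
import Groth.Agent.Lib.Helper13.TensorMap
import Groth.Agent.Lib.Helper13.FinProj7
import Groth.Agent.Lib.Helper9.ResVan
import Groth.Agent.Lib.Helper13.IntInv

/-!
# `h⁰(E₁) + h⁰(E₂) ≤ h⁰(E₁ ⊗ E₂) + 1` on an integral proper scheme over an algebraically closed field
(helper4)

The multiplication of sections `H⁰(E₁) × H⁰(E₂) → H⁰(E₁ ⊗ E₂)` of finite locally free modules on an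
integral scheme is 1-generic (look at the germs at the generic point), and the Hopf lemma
(helper3) gives the inequality.
-/

set_option autoImplicit false
universe u
open CategoryTheory CategoryTheory.Limits AlgebraicGeometry Opposite TopologicalSpace TensorProduct
open Groth.Agent.Helper13.StalkBasis Groth.Agent.Helper13.Tensor
open Groth.Agent.Helper13.TensorFinLocFree

namespace Groth.Agent.Helper4.HopfH0

section Alg

/-- over a field, a pure tensor vanishes only if one of its factors does. -/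
lemma tmul_eq_zero_field {K M N : Type*} [Field K] [AddCommGroup M] [Module K M] [AddCommGroup N]
    [Module K N] (m : M) (n : N) (h : m ⊗ₜ[K] n = 0) : m = 0 ∨ n = 0 := by
  by_contra hcon
  push Not at hcon
  obtain ⟨hm, hn⟩ := hcon
  obtain ⟨f, hf⟩ : ∃ f : Module.Dual K M, f m ≠ 0 := by
    by_contra h'
    push Not at h'
    exact hm ((Module.forall_dual_apply_eq_zero_iff K m).1 h')
  obtain ⟨g, hg⟩ : ∃ g : Module.Dual K N, g n ≠ 0 := by
    by_contra h'
    push Not at h'
    exact hn ((Module.forall_dual_apply_eq_zero_iff K n).1 h')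
  have h1 : TensorProduct.lid K K (TensorProduct.map f g (m ⊗ₜ[K] n)) = 0 := by
    rw [h, map_zero, map_zero]
  rw [TensorProduct.map_tmul, TensorProduct.lid_tmul, smul_eq_mul] at h1
  exact mul_ne_zero hf hg h1

end Alg

variable {X : Scheme.{u}}

/-- the specialization maps of a module are semilinear over those of the structure sheaf. -/
lemma spec_smul (E : X.Modules) {x z : X} (h : x ⤳ z) (c : X.presheaf.stalk z)
    (m : E.presheaf.stalk z) :
    E.presheaf.stalkSpecializes h (c • m) =
      (X.presheaf.stalkSpecializes h c : X.presheaf.stalk x) • E.presheaf.stalkSpecializes h m := by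
  obtain ⟨W, hW, a, s, rfl, rfl⟩ := exists_rep₂ z E.presheaf c m
  rw [← germ_smul, TopCat.Presheaf.germ_stalkSpecializes_apply,
    TopCat.Presheaf.germ_stalkSpecializes_apply, TopCat.Presheaf.germ_stalkSpecializes_apply,
    germ_smul]

/-- on an integral scheme the specialization maps of the structure sheaf are injective. -/
lemma spec_eq_zero [IsIntegral X] {x z : X} (h : x ⤳ z) (c : X.presheaf.stalk z)
    (hc : X.presheaf.stalkSpecializes h c = 0) : c = 0 := by
  obtain ⟨W, hW, a, rfl⟩ := TopCat.Presheaf.exists_germ_eq X.presheaf c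
  rw [TopCat.Presheaf.germ_stalkSpecializes_apply] at hc
  have ha : a = 0 :=
    germ_injective_of_isIntegral X x (h.mem_open W.isOpen hW) (by rw [hc, map_zero])
  rw [ha, map_zero]

lemma genericPoint_specializes [IsIntegral X] (z : X) : genericPoint X ⤳ z :=
  (genericPoint_spec X).specializes trivial

/-- on an integral scheme, a section of a finite locally free module with a vanishing germ is
zero. -/
theorem eq_zero_of_germ_eq_zero [IsIntegral X] (E : X.Modules) (hE : FlatMod.IsFinLocFree E)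
    {U : X.Opens} (t : Γ(E, U)) (y : X) (hy : y ∈ U) (h : E.presheaf.germ U y hy t = 0) :
    t = 0 := by
  have hη : E.presheaf.germ U (genericPoint X)
      ((genericPoint_specializes y).mem_open U.isOpen hy) t = 0 := by
    rw [← TopCat.Presheaf.germ_stalkSpecializes_apply E.presheaf hy (genericPoint_specializes y),
      h, map_zero]
  apply TopCat.Presheaf.section_ext ⟨E.presheaf, E.isSheaf⟩ U t 0
  intro z hz
  rw [map_zero]
  obtain ⟨V, n, s, hzV, hb⟩ := exists_isBasisAt_of_isFinLocFree E hE z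
  obtain ⟨c, hc⟩ := (hb z hzV).2 (E.presheaf.germ U z hz t)
  have h1 : comb E s (genericPoint X) ((genericPoint_specializes z).mem_open V.isOpen hzV)
      (fun i => X.presheaf.stalkSpecializes (genericPoint_specializes z) (c i)) = 0 := by
    have h0 := congrArg (E.presheaf.stalkSpecializes (genericPoint_specializes z)) hc
    rw [TopCat.Presheaf.germ_stalkSpecializes_apply, hη] at h0
    rw [← h0]
    unfold comb
    rw [map_sum]
    refine Finset.sum_congr rfl (fun i _ => ?_)
    rw [spec_smul, TopCat.Presheaf.germ_stalkSpecializes_apply]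
  have h2 := (hb _ _).1 (h1.trans (comb_zero E s _ _).symm)
  have h3 : c = 0 := by
    funext i
    exact spec_eq_zero (genericPoint_specializes z) (c i) (congrFun h2 i)
  rw [← hc, h3, comb_zero]

/-- on an integral scheme, the product of two nonzero global sections of finite locally free
modules is nonzero. -/
theorem tmul_eq_zero [IsIntegral X] (E₁ E₂ : X.Modules) (h₁ : FlatMod.IsFinLocFree E₁)
    (h₂ : FlatMod.IsFinLocFree E₂) (m : Γ(E₁, ⊤)) (n : Γ(E₂, ⊤)) (h : tmul E₁ E₂ m n = 0) :
    m = 0 ∨ n = 0 := by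
  have h0 := stalkTensorEquiv_germ E₁ E₂ (genericPoint X) (W := ⊤) trivial m n
  rw [h, map_zero] at h0
  have h1 : E₁.presheaf.germ ⊤ (genericPoint X) trivial m ⊗ₜ[X.presheaf.stalk (genericPoint X)]
      E₂.presheaf.germ ⊤ (genericPoint X) trivial n = 0 :=
    (stalkTensorEquiv E₁ E₂ (genericPoint X)).injective (h0.trans (map_zero _).symm)
  rcases tmul_eq_zero_field (K := X.functionField) _ _ h1 with h2 | h2
  · left; exact eq_zero_of_germ_eq_zero E₁ h₁ m _ trivial h2
  · right; exact eq_zero_of_germ_eq_zero E₂ h₂ n _ trivial h2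

open Groth.Agent.Helper13.FieldBC in
lemma E_symm_smul (M : X.Modules) (r : Coh.Γtop X) (w : Γ(M, ⊤)) :
    (E M).symm (toΓ r • w) = r • (E M).symm w := by
  apply (E M).injective
  rw [AddEquiv.apply_symm_apply, E_smul, AddEquiv.apply_symm_apply]

section Mul

variable (k : Type u) [Field k] [X.Over (Spec (CommRingCat.of k))]

open Groth.Agent.Helper13.FieldBC in
lemma E_ksmul (M : X.Modules) (c : k) (x : Coh.HH X M 0) :
    E M (c • x) = toΓ (Coh.toGlobal (X ↘ Spec (CommRingCat.of k)) c) • E M x :=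
  E_smul M _ x

open Groth.Agent.Helper13.FieldBC in
lemma E_symm_ksmul (M : X.Modules) (c : k) (w : Γ(M, ⊤)) :
    (E M).symm (toΓ (Coh.toGlobal (X ↘ Spec (CommRingCat.of k)) c) • w) = c • (E M).symm w :=
  E_symm_smul M _ w

open Groth.Agent.Helper13.FieldBC in
/-- multiplication of global sections `H⁰(E₁) × H⁰(E₂) → H⁰(E₁ ⊗ E₂)` as a `k`-bilinear map. -/
noncomputable def mulH0 (E₁ E₂ : X.Modules) :
    Coh.HH X E₁ 0 →ₗ[k] Coh.HH X E₂ 0 →ₗ[k] Coh.HH X (CohB1.tensorMod E₁ E₂) 0 :=
  LinearMap.mk₂ k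
    (fun x y => (E (CohB1.tensorMod E₁ E₂)).symm (tmul E₁ E₂ (E E₁ x) (E E₂ y)))
    (by intro x x' y; rw [map_add, tmul_add_left, map_add])
    (by intro c x y; rw [E_ksmul, tmul_smul_left, E_symm_ksmul])
    (by intro x y y'; rw [map_add, tmul_add_right, map_add])
    (by intro c x y; rw [E_ksmul, tmul_smul_right, E_symm_ksmul])

open Groth.Agent.Helper13.FieldBC in
lemma mulH0_apply (E₁ E₂ : X.Modules) (x : Coh.HH X E₁ 0) (y : Coh.HH X E₂ 0) :
    mulH0 k E₁ E₂ x y = (E (CohB1.tensorMod E₁ E₂)).symm (tmul E₁ E₂ (E E₁ x) (E E₂ y)) := rfl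

end Mul

open Groth.Agent.Helper13.FieldBC in
/-- **`h⁰(E₁) + h⁰(E₂) ≤ h⁰(E₁ ⊗ E₂) + 1`** for finite locally free modules with nonzero sections
on an integral proper scheme over an algebraically closed field. -/
theorem finrank_h0_add_le (k : Type u) [Field k] [IsAlgClosed k]
    (X : Scheme.{u}) [X.Over (Spec (CommRingCat.of k))] [IsIntegral X]
    [IsProper (X ↘ (Spec (CommRingCat.of k)))]
    (E₁ E₂ : X.Modules) (h₁ : FlatMod.IsFinLocFree E₁) (h₂ : FlatMod.IsFinLocFree E₂)
    [Nontrivial (Coh.HH X E₁ 0)] [Nontrivial (Coh.HH X E₂ 0)] :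
    Module.finrank k (Coh.HH X E₁ 0) + Module.finrank k (Coh.HH X E₂ 0) ≤
      Module.finrank k (Coh.HH X (CohB1.tensorMod E₁ E₂) 0) + 1 := by
  have := Groth.Agent.Helper13.FinProj.finite_HH_of_isProper k X E₁
    (Groth.Agent.Helper9.ResVan.isCoh_of_isFinLocFree E₁ h₁) 0
  have := Groth.Agent.Helper13.FinProj.finite_HH_of_isProper k X E₂
    (Groth.Agent.Helper9.ResVan.isCoh_of_isFinLocFree E₂ h₂) 0
  have := Groth.Agent.Helper13.FinProj.finite_HH_of_isProper k X (CohB1.tensorMod E₁ E₂)
    (Groth.Agent.Helper9.ResVan.isCoh_of_isFinLocFree _ (isFinLocFree_tensorMod E₁ E₂ h₁ h₂)) 0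
  refine Groth.Agent.Helper3.HopfLemma.hopf k (mulH0 k E₁ E₂) ?_
  intro a b ha hb h
  rw [mulH0_apply] at h
  have h' : tmul E₁ E₂ (E E₁ a) (E E₂ b) = 0 := by
    have := congrArg (E (CohB1.tensorMod E₁ E₂)) h
    rwa [AddEquiv.apply_symm_apply, map_zero] at this
  rcases tmul_eq_zero E₁ E₂ h₁ h₂ _ _ h' with h2 | h2
  · exact ha ((E E₁).injective (h2.trans (map_zero _).symm))
  · exact hb ((E E₂).injective (h2.trans (map_zero _).symm))

/-- invertible modules are finite locally free (restated to keep imports small). -/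
lemma isFinLocFree_of_isInvertible (L : X.Modules) (hL : PicF.IsInvertible L) :
    FlatMod.IsFinLocFree L := fun x => by
  obtain ⟨U, hxU, ⟨e⟩⟩ := hL x
  exact ⟨U, 1, hxU, ⟨e ≪≫
    (coproductUniqueIso (fun _ : Fin 1 => Coh.structureModule (U : Scheme.{u}))).symm⟩⟩

end Groth.Agent.Helper4.HopfH0
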