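import Mathlib
import Groth.Agent.Lib.Helper7.FPColim2

/-!
# Locally of finite presentation from surjectivity of `colim Mor(T_j, X) → Mor(lim T_j, X)`
(adaptation of `Helper7.FPColim.liftsDirected_appLE` to a surjectivity-only hypothesis).
-/

open CategoryTheory Limits AlgebraicGeometry Topology

universe u

namespace Groth.Agent.Helper4.LfpSurj

open Groth.Agent.Helper7 Groth.Agent.Helper7.FPColim

set_option maxHeartbeats 1000000 in
theorem liftsDirected_appLE {X S : Scheme.{u}} (f : X ⟶ S)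
    (h : ∀ (J : Type u) [Preorder J] [IsDirected J (· ≤ ·)] [Nonempty J] (D : Jᵒᵖ ⥤ Scheme.{u})
      (t : D ⟶ (Functor.const Jᵒᵖ).obj S) (c : Limits.Cone D) (_ : Limits.IsLimit c),
      (∀ j, IsAffine (D.obj j)) → ∀ (j₀ : Jᵒᵖ) (g : c.pt ⟶ X), g ≫ f = c.π.app j₀ ≫ t.app j₀ →
        ∃ (j : Jᵒᵖ) (gj : D.obj j ⟶ X), gj ≫ f = t.app j ∧ c.π.app j ≫ gj = g)
    {U : S.Opens} (hU : IsAffineOpen U) {V : X.Opens} (hV : IsAffineOpen V) (e : V ≤ f ⁻¹ᵁ U) :
    LiftsDirected (Under.mk (f.appLE U V e)) := by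
  intro J _ _ _ F c hc ψ
  have : IsFiltered J := inferInstance
  have : IsConnected Jᵒᵖ := IsCofiltered.isConnected _
  have hlim := ZconeIsLimit hU F c hc
  have hfromSpec : hU.isoSpec.inv ≫ U.ι = hU.fromSpec := rfl
  -- the scheme-level limit
  let D : Jᵒᵖ ⥤ Scheme.{u} := (Zdiag hU F ⋙ Over.map U.ι) ⋙ Over.forget S
  let cD : Cone D := (Over.forget S).mapCone (Zcone hU F c)
  have hD : IsLimit cD := isLimitOfPreserves (Over.forget S) hlim
  let t : D ⟶ (Functor.const Jᵒᵖ).obj S :=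
    { app := fun j => ((Zdiag hU F ⋙ Over.map U.ι).obj j).hom
      naturality := fun j k m => by
        dsimp only [Functor.const_obj_obj, Functor.const_obj_map]
        rw [Category.comp_id]
        exact Over.w ((Zdiag hU F ⋙ Over.map U.ι).map m) }
  have hg₀' : (Spec.map ψ.right ≫ hV.fromSpec) ≫ f =
      (Spec.map c.pt.hom ≫ hU.isoSpec.inv) ≫ U.ι := by
    rw [Category.assoc, Category.assoc, hfromSpec,
      ← IsAffineOpen.SpecMap_appLE_fromSpec f hU hV e, ← Spec.map_comp_assoc]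
    congr 2
    exact Under.w ψ
  let g₀ : cD.pt ⟶ X := Spec.map ψ.right ≫ hV.fromSpec
  have hg₀ : g₀ ≫ f = (Zcone hU F c).pt.hom := hg₀'
  let j₀ : Jᵒᵖ := Opposite.op (Classical.arbitrary J)
  have hcond : g₀ ≫ f = cD.π.app j₀ ≫ t.app j₀ := by
    rw [hg₀]
    exact (Over.w ((Zcone hU F c).π.app j₀)).symm
  obtain ⟨k, gk', hgk1, hgk2⟩ := h J D t cD hD (fun j => by dsimp [D, Zdiag]; infer_instance)
    j₀ g₀ hcond
  let gk : Spec (F.obj k.unop).right ⟶ X := gk'
  have hgkleft : Spec.map (c.ι.app k.unop).right ≫ gk = Spec.map ψ.right ≫ hV.fromSpec := hgk2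
  have hgkw : gk ≫ f = Spec.map (F.obj k.unop).hom ≫ hU.fromSpec := by
    refine hgk1.trans ?_
    change (Spec.map (F.obj k.unop).hom ≫ hU.isoSpec.inv) ≫ U.ι = _
    rw [Category.assoc, hfromSpec]
  have haff : ∀ {i j : Jᵒᵖ} (m : i ⟶ j), IsAffineHom (D.map m) := fun m => by
    dsimp [D, Zdiag]; infer_instance
  have hcpt : CompactSpace (D.obj k) :=
    inferInstanceAs (CompactSpace (Spec (F.obj k.unop).right))
  let W : (Spec (F.obj k.unop).right).Opens := gk ⁻¹ᵁ V
  have hempty : cD.π.app k ⁻¹' (Set.univ ∩ Set.univ ∩ (W : Set (Spec (F.obj k.unop).right))ᶜ) =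
      ∅ := by
    rw [Set.eq_empty_iff_forall_notMem]
    rintro x ⟨-, hx⟩
    apply hx
    change gk (Spec.map (c.ι.app k.unop).right x) ∈ V
    have h1 : gk (Spec.map (c.ι.app k.unop).right x) = hV.fromSpec (Spec.map ψ.right x) := by
      have := congrArg (fun m => m.base x) hgkleft
      exact this
    rw [h1]
    have : hV.fromSpec (Spec.map ψ.right x) ∈ Set.range hV.fromSpec := ⟨_, rfl⟩
    rw [hV.range_fromSpec] at this
    exact this
  obtain ⟨l, ψ₀, H⟩ := LimBC.exists_preimage_inter_eq_empty D cD hD (k := k)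
    IsConstructible.univ Set.univ isOpen_univ isCompact_univ _ W.2.isClosed_compl hempty
  have H' := H l (𝟙 l)
  rw [Category.id_comp] at H'
  let tl : Spec (F.obj l.unop).right ⟶ Spec (F.obj k.unop).right :=
    Spec.map (F.map ψ₀.unop).right
  have H'' : tl ⁻¹' (Set.univ ∩ Set.univ ∩ (W : Set (Spec (F.obj k.unop).right))ᶜ) = ∅ := H'
  let g'' : Spec (F.obj l.unop).right ⟶ X := tl ≫ gk
  have hrange : Set.range g''.base ⊆ Set.range hV.fromSpec.base := by
    rw [hV.range_fromSpec]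
    rintro _ ⟨x, rfl⟩
    by_contra hx
    have : x ∈ tl ⁻¹' (Set.univ ∩ Set.univ ∩ (W : Set (Spec (F.obj k.unop).right))ᶜ) := by
      refine ⟨⟨trivial, trivial⟩, ?_⟩
      intro hW
      apply hx
      exact hW
    rw [H''] at this
    exact this
  let lift : Spec (F.obj l.unop).right ⟶ Spec Γ(X, V) :=
    IsOpenImmersion.lift hV.fromSpec g'' hrange
  have hlift : lift ≫ hV.fromSpec = g'' := IsOpenImmersion.lift_fac _ _ _
  let χ₀ : Γ(X, V) ⟶ (F.obj l.unop).right := Spec.preimage lift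
  have hχ₀ : Spec.map χ₀ = lift := Spec.map_preimage _
  have hw : f.appLE U V e ≫ χ₀ = (F.obj l.unop).hom := by
    apply Spec.map_injective
    rw [← cancel_mono hU.fromSpec, Spec.map_comp, Category.assoc,
      IsAffineOpen.SpecMap_appLE_fromSpec f hU hV e, hχ₀, ← Category.assoc, hlift]
    change (tl ≫ gk) ≫ f = _
    rw [Category.assoc, hgkw, ← Spec.map_comp_assoc, Under.w]
  refine ⟨l.unop, Under.homMk χ₀ hw, ?_⟩
  ext1
  apply Spec.map_injective
  rw [← cancel_mono hV.fromSpec]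
  change Spec.map (χ₀ ≫ (c.ι.app l.unop).right) ≫ hV.fromSpec = Spec.map ψ.right ≫ hV.fromSpec
  rw [Spec.map_comp, Category.assoc, hχ₀, hlift, ← hgkleft]
  change Spec.map (c.ι.app l.unop).right ≫ tl ≫ gk = _
  rw [← Spec.map_comp_assoc, ← Under.comp_right, c.w]

theorem locallyOfFinitePresentation {X S : Scheme.{u}} (f : X ⟶ S)
    (h : ∀ (J : Type u) [Preorder J] [IsDirected J (· ≤ ·)] [Nonempty J] (D : Jᵒᵖ ⥤ Scheme.{u})
      (t : D ⟶ (Functor.const Jᵒᵖ).obj S) (c : Limits.Cone D) (_ : Limits.IsLimit c),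
      (∀ j, IsAffine (D.obj j)) → ∀ (j₀ : Jᵒᵖ) (g : c.pt ⟶ X), g ≫ f = c.π.app j₀ ≫ t.app j₀ →
        ∃ (j : Jᵒᵖ) (gj : D.obj j ⟶ X), gj ≫ f = t.app j ∧ c.π.app j ≫ gj = g) :
    LocallyOfFinitePresentation f := by
  rw [HasRingHomProperty.iff_appLE (P := @LocallyOfFinitePresentation)]
  intro U V e
  exact finitePresentation_of_liftsDirected _ (liftsDirected_appLE f h U.2 V.2 e)

end Groth.Agent.Helper4.LfpSurj
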