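import Mathlib
import Groth.Agent.Lib.Helper4.LimModelP
import Groth.Agent.Lib.Helper4.LimStage

/-!
# Isomorphisms of models descend (helper4)
-/

set_option autoImplicit false
universe u
open AlgebraicGeometry CategoryTheory CategoryTheory.Limits TopologicalSpace

namespace Groth.Agent.Helper4.LimDesc

open Groth.Agent.Helper7.LimSep

variable {I : Type u} [SmallCategory I] [IsCofiltered I] {D : I ⥤ Scheme.{u}} {c : Cone D}
  [∀ {i j} (f : i ⟶ j), IsAffineHom (D.map f)]
  [∀ i, CompactSpace (D.obj i)] [∀ i, QuasiSeparatedSpace (D.obj i)]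

namespace Model.Hom

variable {i : I} {X Y : Scheme.{u}} {x : X ⟶ c.pt} {y : Y ⟶ c.pt} {MX : Model D c x i}
    {MY : Model D c y i} {f : X ⟶ Y}

/-- the underlying morphism of a morphism of models is of finite presentation -/
theorem lfp_f₀ (h : Hom MX MY f) : LocallyOfFinitePresentation h.f₀ := by
  have h1 : LocallyOfFinitePresentation (h.f₀ ≫ MY.m) := by rw [h.w]; infer_instance
  exact Groth.Agent.Helper7.LfpComp.locallyOfFinitePresentation_of_comp h.f₀ MY.m inferInstance h1

set_option backward.isDefEq.respectTransparency false in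
/-- surjectivity descends to morphisms of models at a further stage -/
theorem exists_surjective (hc : IsLimit c) (h : Hom MX MY f) (hf : f ≫ y = x) [Surjective f] :
    ∃ (j : I) (φ : j ⟶ i), Surjective (h.reindex hf φ).f₀ := by
  have h1 : LocallyOfFinitePresentation h.f₀ := h.lfp_f₀
  have h2 : QuasiCompact h.f₀ := quasiCompact_of_compactSpace h.f₀
  have h3 : QuasiCompact MY.m := quasiCompact_of_compactSpace MY.m
  have h4 : QuasiSeparated MY.m := (quasiSeparated_iff_quasiSeparatedSpace MY.m).mpr inferInstance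
  obtain ⟨j, φ, hj⟩ := Groth.Agent.Helper4.LimStage.exists_surjective_stage D c hc i h.f₀ MY.m
    f y MY.g MX.g MY.pb (h.isPullback hf)
  refine ⟨j, φ, ?_⟩
  exact (snd_iff_of_isPullback @Surjective (h.reindex_isPullback hf φ).flip).mpr hj

/-- a morphism of models which is a surjective open immersion is an isomorphism -/
theorem isIso_of (h : Hom MX MY f) [IsOpenImmersion h.f₀] [Surjective h.f₀] : IsIso h.f₀ :=
  (isIso_iff_isOpenImmersion_and_surjective h.f₀).mpr ⟨inferInstance, inferInstance⟩

set_option backward.isDefEq.respectTransparency false in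
/-- isomorphisms descend to morphisms of models at a further stage -/
theorem exists_isIso (hc : IsLimit c) (h : Hom MX MY f) (hf : f ≫ y = x) [IsIso f] :
    ∃ (j₁ : I) (φ₁ : j₁ ⟶ i) (j₂ : I) (φ₂ : j₂ ⟶ j₁),
      IsIso ((h.reindex hf φ₁).reindex hf φ₂).f₀ := by
  obtain ⟨j₁, φ₁, h1⟩ := h.exists_isOpenImmersion hc hf
  obtain ⟨j₂, φ₂, h2⟩ := (h.reindex hf φ₁).exists_surjective hc hf
  exact ⟨j₁, φ₁, j₂, φ₂, isIso_of _⟩

end Model.Hom

end Groth.Agent.Helper4.LimDesc
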