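import Mathlib
import Groth.Agent.Lib.Helper4.LimDesc4
import Groth.Agent.Lib.Helper4.LimSubalg

/-!
# Combining two Noetherian approximations (helper4), S9737
-/

set_option autoImplicit false
universe u
open AlgebraicGeometry CategoryTheory CategoryTheory.Limits TopologicalSpace Opposite

namespace Groth.Agent.Helper4.LimCombine

open Groth.Agent.Helper4.LimDesc Groth.Agent.Helper4.LimSubalg

/-- an affine scheme with finitely generated ring of global sections is locally Noetherian -/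
theorem isLocallyNoetherian_of_finiteType {S : Scheme.{u}} [IsAffine S]
    (hS : Algebra.FiniteType ℤ Γ(S, ⊤)) : IsLocallyNoetherian S := by
  have : IsNoetherianRing Γ(S, ⊤) := Algebra.FiniteType.isNoetherianRing ℤ _
  exact isLocallyNoetherian_of_isOpenImmersion S.isoSpec.hom

section factor

variable {A : Type u} [CommRing A] {B : Type u} [CommRing B]

/-- the range of a ring hom from a finitely generated `ℤ`-algebra, as a `ℤ`-subalgebra -/
noncomputable def rangeSub (ρ : B →+* A) : Subalgebra ℤ A := ρ.toIntAlgHom.range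

theorem rangeSub_fg (ρ : B →+* A) (hB : Algebra.FiniteType ℤ B) : (rangeSub ρ).FG := by
  have h1 : (⊤ : Subalgebra ℤ B).FG := hB.out
  have h2 := h1.map ρ.toIntAlgHom
  rwa [Algebra.map_top] at h2

/-- factorisation through a subalgebra containing the range -/
noncomputable def factorHom (ρ : B →+* A) (A₀ : Subalgebra ℤ A) (h : rangeSub ρ ≤ A₀) :
    B →+* A₀ :=
  (ρ.toIntAlgHom.codRestrict A₀ (fun x => h ⟨x, rfl⟩)).toRingHom

theorem factorHom_comp (ρ : B →+* A) (A₀ : Subalgebra ℤ A) (h : rangeSub ρ ≤ A₀) :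
    (algebraMap A₀ A).comp (factorHom ρ A₀ h) = ρ := by
  ext x
  rfl

end factor


section model

variable {X S : Scheme.{u}} [IsAffine S] (f : X ⟶ S)
  {X₁ S₁ : Scheme.{u}} [IsAffine X₁] [IsAffine S₁] (f₁ : X₁ ⟶ S₁) (g₁ : S ⟶ S₁) (g₁' : X ⟶ X₁)
  (lam : J Γ(S, ⊤)) (hle : rangeSub g₁.appTop.hom ≤ lam.1)

/-- the morphism from the stage `Spec A_λ` to `S₁` -/
noncomputable def stageMap : (D Γ(S, ⊤)).obj (op lam) ⟶ S₁ :=
  Spec.map (CommRingCat.ofHom (factorHom g₁.appTop.hom lam.1 hle)) ≫ S₁.isoSpec.inv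

theorem cone_π_app : (cone Γ(S, ⊤)).π.app (op lam) =
    Spec.map (CommRingCat.ofHom (algebraMap lam.1 Γ(S, ⊤))) := rfl

set_option backward.isDefEq.respectTransparency false in
theorem stageMap_spec :
    S.isoSpec.hom ≫ (cone Γ(S, ⊤)).π.app (op lam) ≫ stageMap g₁ lam hle = g₁ := by
  rw [cone_π_app, stageMap, ← Category.assoc (Spec.map _), ← Spec.map_comp, ← CommRingCat.ofHom_comp,
    factorHom_comp, CommRingCat.ofHom_hom, ← Category.assoc, Scheme.isoSpec_hom_naturality,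
    Category.assoc, Iso.hom_inv_id, Category.comp_id]


variable {f f₁ g₁ g₁'}

set_option backward.isDefEq.respectTransparency false in
/-- the model at stage `λ` obtained from a pullback presentation of `f` -/
noncomputable def mkModel [LocallyOfFinitePresentation f₁] (h₁ : IsPullback g₁' f f₁ g₁) :
    Model (D Γ(S, ⊤)) (cone Γ(S, ⊤)) (f ≫ S.isoSpec.hom) (op lam) where
  M := pullback f₁ (stageMap g₁ lam hle)
  m := pullback.snd _ _
  g := pullback.lift g₁' ((f ≫ S.isoSpec.hom) ≫ (cone Γ(S, ⊤)).π.app (op lam)) (by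
    rw [Category.assoc, Category.assoc, stageMap_spec, h₁.w])
  lfp := inferInstance
  cpt := inferInstance
  qs := inferInstance
  pb := by
    have hbig : IsPullback g₁' (f ≫ S.isoSpec.hom) f₁
        ((cone Γ(S, ⊤)).π.app (op lam) ≫ stageMap g₁ lam hle) := by
      refine IsPullback.of_iso h₁ (Iso.refl _) (Iso.refl _) S.isoSpec (Iso.refl _) (by simp)
        (by simp) (by simp) ?_
      rw [Iso.refl_hom, Category.comp_id, stageMap_spec]
    refine IsPullback.of_right ?_ ?_ (IsPullback.of_hasPullback f₁ (stageMap g₁ lam hle))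
    · rw [pullback.lift_fst]
      exact hbig
    · rw [pullback.lift_snd]

end model


section main

instance reindex_isAffine {A : Type u} [CommRing A] {V : Scheme.{u}} {v : V ⟶ (cone A).pt}
    {i j : (J A)ᵒᵖ} (M : Model (D A) (cone A) v i) [IsAffine M.M] (φ : j ⟶ i) :
    IsAffine (M.reindex φ).M :=
  inferInstanceAs (IsAffine (pullback ((D A).map φ) M.m))

set_option backward.isDefEq.respectTransparency false in
/-- **Combining two Noetherian approximations** (S9737). -/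
theorem combine (P Q : MorphismProperty Scheme.{u}) [P.IsStableUnderBaseChange]
    [Q.IsStableUnderBaseChange]
    {X S : Scheme.{u}} (f : X ⟶ S) [IsAffine X] [IsAffine S] [LocallyOfFinitePresentation f]
    {X₁ S₁ X₂ S₂ : Scheme.{u}} [IsAffine X₁] [IsAffine S₁] [IsAffine X₂] [IsAffine S₂]
    (f₁ : X₁ ⟶ S₁) (g₁ : S ⟶ S₁) (g₁' : X ⟶ X₁) (h₁ : IsPullback g₁' f f₁ g₁)
    (f₂ : X₂ ⟶ S₂) (g₂ : S ⟶ S₂) (g₂' : X ⟶ X₂) (h₂ : IsPullback g₂' f f₂ g₂)
    (hS₁ : Algebra.FiniteType ℤ Γ(S₁, ⊤)) (hS₂ : Algebra.FiniteType ℤ Γ(S₂, ⊤))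
    [LocallyOfFiniteType f₁] [LocallyOfFiniteType f₂] (hP : P f₁) (hQ : Q f₂) :
    ∃ (X₀ S₀ : Scheme.{u}) (f₀ : X₀ ⟶ S₀) (g : S ⟶ S₀) (g' : X ⟶ X₀), IsAffine X₀ ∧ IsAffine S₀ ∧
      IsPullback g' f f₀ g ∧ Algebra.FiniteType ℤ Γ(S₀, ⊤) ∧ LocallyOfFiniteType f₀ ∧ P f₀ ∧
      Q f₀ := by
  have hN₁ : IsLocallyNoetherian S₁ := isLocallyNoetherian_of_finiteType hS₁
  have hN₂ : IsLocallyNoetherian S₂ := isLocallyNoetherian_of_finiteType hS₂
  have hfp₁ : LocallyOfFinitePresentation f₁ := inferInstance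
  have hfp₂ : LocallyOfFinitePresentation f₂ := inferInstance
  -- the stage
  let lam : J Γ(S, ⊤) := ⟨rangeSub g₁.appTop.hom ⊔ rangeSub g₂.appTop.hom,
    (rangeSub_fg _ hS₁).sup (rangeSub_fg _ hS₂)⟩
  have hle₁ : rangeSub g₁.appTop.hom ≤ lam.1 := le_sup_left
  have hle₂ : rangeSub g₂.appTop.hom ≤ lam.1 := le_sup_right
  let M₁ := mkModel lam hle₁ h₁
  let M₂ := mkModel lam hle₂ h₂
  have hc := isLimit Γ(S, ⊤)
  have hPM₁ : P M₁.m := P.pullback_snd _ _ hP
  have hQM₂ : Q M₂.m := Q.pullback_snd _ _ hQ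
  have hA₁ : IsAffine M₁.M := inferInstanceAs (IsAffine (pullback f₁ (stageMap g₁ lam hle₁)))
  have hA₂ : IsAffine M₂.M := inferInstanceAs (IsAffine (pullback f₂ (stageMap g₂ lam hle₂)))
  obtain ⟨j, φ, ⟨h⟩⟩ := Model.exists_hom hc M₁ M₂ (𝟙 X) (Category.id_comp _)
  obtain ⟨j₁, φ₁, j₂, φ₂, hiso⟩ := h.exists_isIso hc (Category.id_comp _)
  let N₁ := ((M₁.reindex φ).reindex φ₁).reindex φ₂
  let N₂ := ((M₂.reindex φ).reindex φ₁).reindex φ₂
  let θ := ((h.reindex (Category.id_comp _) φ₁).reindex (Category.id_comp _) φ₂)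
  have hPN₁ : P N₁.m :=
    Model.reindex_m_of P _ φ₂ (Model.reindex_m_of P _ φ₁ (Model.reindex_m_of P _ φ hPM₁))
  have hQN₂ : Q N₂.m :=
    Model.reindex_m_of Q _ φ₂ (Model.reindex_m_of Q _ φ₁ (Model.reindex_m_of Q _ φ hQM₂))
  have hQN₁ : Q N₁.m := by
    have : N₁.m = θ.f₀ ≫ N₂.m := θ.w.symm
    rw [this]
    exact (Q.cancel_left_of_respectsIso θ.f₀ N₂.m).mpr hQN₂
  refine ⟨N₁.M, (D Γ(S, ⊤)).obj j₂, N₁.m, S.isoSpec.hom ≫ (cone Γ(S, ⊤)).π.app j₂, N₁.g,
    inferInstance, inferInstance, ?_, ?_, inferInstance, hPN₁, hQN₁⟩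
  · refine IsPullback.of_iso N₁.pb (Iso.refl _) (Iso.refl _) S.isoSpec.symm (Iso.refl _)
      (by simp) (by simp) (by simp) (by simp)
  · have hft : Algebra.FiniteType ℤ j₂.unop.1 := (Subalgebra.fg_iff_finiteType _).mp j₂.unop.2
    have e' : j₂.unop.1 ≃+* Γ(Spec (CommRingCat.of j₂.unop.1), ⊤) :=
      (Scheme.ΓSpecIso (CommRingCat.of j₂.unop.1)).symm.commRingCatIsoToRingEquiv
    exact Algebra.FiniteType.equiv hft e'.toIntAlgEquiv

end main

end Groth.Agent.Helper4.LimCombine
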