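import Mathlib
import Groth.Agent.Lib.Helper4.LimFin

/-!
# Integral limits of finite-type schemes with finite transition maps (helper4)
-/

set_option autoImplicit false
universe u
open AlgebraicGeometry CategoryTheory CategoryTheory.Limits

namespace Groth.Agent.Helper4.LimFin2

open Groth.Agent.Helper4.LimCI Groth.Agent.Helper4.LimCI2 Groth.Agent.Helper4.LimCI3
  Groth.Agent.Helper4.LimFin

attribute [local instance] IsCofiltered.isConnected

set_option backward.isDefEq.respectTransparency false in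
set_option backward.isDefEq.respectTransparency.types false in
theorem exists_isFinite_hom {I : Type u} [SmallCategory I] [IsCofiltered I] (S : Scheme.{u})
    [CompactSpace S] [QuasiSeparatedSpace S] (D : I ⥤ Over S) (c : Cone D) (hc : IsLimit c)
    [∀ (i j : I) (f : i ⟶ j), IsFinite (D.map f).left] [∀ i, CompactSpace (D.obj i).left]
    [∀ i, QuasiSeparatedSpace (D.obj i).left] [∀ i, LocallyOfFiniteType (D.obj i).hom]
    [IsIntegralHom c.pt.hom] :
    ∃ i₀ : I, ∀ (i : I) (_ : i ⟶ i₀), IsFinite (D.obj i).hom := by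
  let E' : I ⥤ Scheme.{u} := D ⋙ Over.forget S
  let cE' : Cone E' := (Over.forget S).mapCone c
  have hcE' : IsLimit cE' := isLimitOfPreserves (Over.forget S) hc
  haveI hfin : ∀ {i j : I} (f : i ⟶ j), IsFinite (E'.map f) :=
    fun f => inferInstanceAs (IsFinite (D.map f).left)
  haveI : ∀ {i j : I} (f : i ⟶ j), IsAffineHom (E'.map f) := fun f => inferInstance
  haveI : ∀ i, CompactSpace (E'.obj i) := fun i => inferInstanceAs (CompactSpace (D.obj i).left)
  haveI : ∀ i, QuasiSeparatedSpace (E'.obj i) :=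
    fun i => inferInstanceAs (QuasiSeparatedSpace (D.obj i).left)
  let t : E' ⟶ (Functor.const I).obj S :=
    { app := fun i => (D.obj i).hom
      naturality := fun i j f => by simp [E'] }
  let E : I ⥤ Scheme.{u} := (Functor.const I).obj S
  haveI : ∀ {i j : I} (f : i ⟶ j), IsAffineHom (E.map f) :=
    fun f => inferInstanceAs (IsAffineHom (𝟙 S))
  let cE : Cone E := constCone I S
  have hcE : IsLimit cE := isLimitConstCone I S
  obtain ⟨i₁⟩ := IsCofiltered.nonempty (C := I)
  have hw : ∀ k, cE'.π.app k ≫ t.app k = c.pt.hom := fun k => Over.w (c.π.app k)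
  haveI : IsAffineHom (cE'.π.app i₁ ≫ t.app i₁) := by rw [hw]; infer_instance
  obtain ⟨k₁, _, hk₁⟩ := exists_isAffineHom_app S E' t cE' hcE' i₁
  haveI : CompactSpace (E.obj k₁) := ‹CompactSpace S›
  haveI : IsIntegralHom (show cE'.pt ⟶ cE.pt from c.pt.hom) := ‹IsIntegralHom c.pt.hom›
  obtain ⟨l, hl⟩ := exists_isFinite_stage E' E t cE' hcE' cE hcE c.pt.hom
    (fun k => by
      rw [hw]
      simp only [cE, constCone_π, NatTrans.id_app]
      exact (Category.comp_id _).symm)
    k₁ (fun n => inferInstanceAs (LocallyOfFiniteType (D.obj n.left).hom))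
    (fun V hV n ψ => by
      have hU : IsAffineOpen (t.app k₁ ⁻¹ᵁ V) := hV.preimage (t.app k₁)
      have e : E'.map n.hom ⁻¹ᵁ (t.app k₁ ⁻¹ᵁ V) =
          E'.map ψ.left ⁻¹ᵁ (E'.map (Over.mk (𝟙 k₁)).hom ⁻¹ᵁ (t.app k₁ ⁻¹ᵁ V)) := by
        have e0 : E'.map ψ.left ≫ E'.map (Over.mk (𝟙 k₁)).hom = E'.map n.hom := by
          rw [← E'.map_comp, Over.w ψ]
        rw [← e0, Scheme.Hom.comp_preimage]
      have h1 : IsFinite ((opensDiagram E' k₁ (t.app k₁ ⁻¹ᵁ V)).map ψ) :=
        isFinite_resLE_of_eq (E'.map ψ.left) _ _ e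
      have h2 : IsAffine ((opensDiagram E' k₁ (t.app k₁ ⁻¹ᵁ V)).obj (Over.mk (𝟙 k₁))) :=
        hU.preimage (E'.map (Over.mk (𝟙 k₁)).hom)
      have h3 : ((opensDiagram E' k₁ (t.app k₁ ⁻¹ᵁ V)).map ψ).appTop.hom.IsIntegral :=
        ((HasAffineProperty.iff_of_isAffine (P := @IsFinite)).mp h1).2.to_isIntegral
      refine RingHom.IsIntegral.tower_top
        (((opensDiagram E' k₁ (t.app k₁ ⁻¹ᵁ V)).map ψ).appTop.hom.codRestrict _
          (fun x => Subring.subset_closure (Or.inl ⟨x, rfl⟩))) _ ?_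
      exact h3)
  exact ⟨l.left, fun i f => hl (Over.mk (f ≫ l.hom)) (Over.homMk f)⟩

end Groth.Agent.Helper4.LimFin2
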