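import Mathlib
import Groth.Agent.Lib.Helper4.LimModelP

/-!
# Quasi-coherent ideals of finite type descend along cofiltered limits (helper4), S9220
-/

set_option autoImplicit false
universe u
open AlgebraicGeometry CategoryTheory CategoryTheory.Limits TopologicalSpace

namespace Groth.Agent.Helper4.LimIdeal

open Groth.Agent.Helper4.LimDesc

section closedImm

variable {X Y : Scheme.{u}} (f : X ⟶ Y) [IsClosedImmersion f]

set_option backward.isDefEq.respectTransparency false in
/-- a closed immersion whose kernel is of finite type on affine opens is locally of finite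
presentation -/
theorem lfp_of_ker_fg (h : ∀ U : Y.affineOpens, (f.ker.ideal U).FG) :
    LocallyOfFinitePresentation f := by
  rw [IsZariskiLocalAtTarget.iff_of_iSup_eq_top (P := @LocallyOfFinitePresentation)
    (fun U : Y.affineOpens => U.1) (iSup_affineOpens_eq_top Y)]
  intro U
  have hU : IsAffine U.1.toScheme := U.2
  have hV : IsAffine (f ⁻¹ᵁ U.1).toScheme := U.2.preimage f
  rw [HasRingHomProperty.iff_of_isAffine (P := @LocallyOfFinitePresentation),
    morphismRestrict_appTop]
  let U' : Y.affineOpens := ⟨U.1.ι ''ᵁ ⊤, by rw [Scheme.Opens.ι_image_top]; exact U.2⟩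
  have h1 : (f.app U'.1).hom.FinitePresentation := by
    refine RingHom.FinitePresentation.of_surjective _ (f.app_surjective U'.1 U'.2) ?_
    rw [← Scheme.Hom.ker_apply]
    exact h U'
  rw [CommRingCat.hom_comp]
  refine RingHom.FinitePresentation.comp ?_ h1
  refine RingHom.FinitePresentation.of_bijective ?_
  exact (ConcreteCategory.isIso_iff_bijective _).mp inferInstance

set_option backward.isDefEq.respectTransparency false in
/-- the kernel of a closed immersion of finite presentation is of finite type on affine opens -/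
theorem ker_fg_of_lfp [LocallyOfFinitePresentation f] (U : Y.affineOpens) :
    (f.ker.ideal U).FG := by
  rw [Scheme.Hom.ker_apply]
  have hV : IsAffineOpen (f ⁻¹ᵁ U.1) := U.2.preimage f
  have h1 : (f.appLE U.1 (f ⁻¹ᵁ U.1) le_rfl).hom.FinitePresentation :=
    HasRingHomProperty.appLE (P := @LocallyOfFinitePresentation) f inferInstance U ⟨_, hV⟩ le_rfl
  rw [Scheme.Hom.appLE_eq_app] at h1
  have h2 : Function.Surjective (f.app U.1).hom := f.app_surjective U.1 U.2
  letI : Algebra Γ(Y, U.1) Γ(X, f ⁻¹ᵁ U.1) := (f.app U.1).hom.toAlgebra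
  haveI : Algebra.FinitePresentation Γ(Y, U.1) Γ(X, f ⁻¹ᵁ U.1) := h1
  exact Algebra.FinitePresentation.ker_fG_of_surjective
    (Algebra.ofId Γ(Y, U.1) Γ(X, f ⁻¹ᵁ U.1)) h2

end closedImm


section main

variable {I : Type u} [SmallCategory I] [IsCofiltered I] {D : I ⥤ Scheme.{u}} {c : Cone D}
  [∀ {i j} (f : i ⟶ j), IsAffineHom (D.map f)]
  [∀ i, CompactSpace (D.obj i)] [∀ i, QuasiSeparatedSpace (D.obj i)]

set_option backward.isDefEq.respectTransparency false in
/-- comap of the kernel of a closed immersion is the kernel of its base change -/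
theorem comap_ker_of_isPullback {Z Z' S S' : Scheme.{u}} {g : Z ⟶ Z'} {ι : Z ⟶ S} {ι' : Z' ⟶ S'}
    {π : S ⟶ S'} (h : IsPullback g ι ι' π) [IsClosedImmersion ι'] :
    ι'.ker.comap π = ι.ker := by
  have h1 : IsPullback (g ≫ ι'.toImage) ι ι'.imageι π := by
    refine IsPullback.of_iso h (Iso.refl _) (asIso ι'.toImage) (Iso.refl _) (Iso.refl _)
      (by simp) (by simp) ?_ (by simp)
    simp [Scheme.Hom.toImage_imageι]
  let e := h1.flip.isoPullback
  have he : e.hom ≫ pullback.fst π ι'.ker.subschemeι = ι := h1.flip.isoPullback_hom_fst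
  rw [Scheme.IdealSheafData.comap, ← he, Scheme.Hom.ker_comp_of_isIso]

set_option backward.isDefEq.respectTransparency false in
/-- **S9220** -/
theorem exists_idealSheaf_descend (hc : IsLimit c) (J : c.pt.IdealSheafData)
    (hJ : ∀ U : c.pt.affineOpens, (J.ideal U).FG) :
    ∃ (i : I) (Ji : (D.obj i).IdealSheafData), (∀ U : (D.obj i).affineOpens, (Ji.ideal U).FG) ∧
      Ji.comap (c.π.app i) = J := by
  have hker : J.subschemeι.ker = J := J.ker_subschemeι
  have hlfp : LocallyOfFinitePresentation J.subschemeι :=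
    lfp_of_ker_fg J.subschemeι (by rw [hker]; exact hJ)
  obtain ⟨i, ⟨M⟩⟩ := exists_model_top hc J.subschemeι
  obtain ⟨j, φ, hj⟩ := M.exists_reindex_isClosedImmersion hc
  have := (M.reindex φ).lfp
  refine ⟨j, (M.reindex φ).m.ker, fun U => ker_fg_of_lfp _ U, ?_⟩
  rw [comap_ker_of_isPullback (M.reindex φ).pb, hker]

end main

end Groth.Agent.Helper4.LimIdeal
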