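import Mathlib
import Groth.Agent.Lib.Helper4.LimImm
import Groth.Agent.Lib.Helper4.LimCI3

/-!
# Immersions over a fixed base descend to a stage: closed immersion transitions (helper4)
-/

set_option autoImplicit false
universe u
open AlgebraicGeometry CategoryTheory CategoryTheory.Limits

namespace Groth.Agent.Helper4.LimImm2

open Groth.Agent.Helper4.LimImm Groth.Agent.Helper4.LimCI3

variable {I : Type u} [SmallCategory I] [IsCofiltered I] (S : Scheme.{u})
  (D : I ⥤ Scheme.{u}) (t : D ⟶ (Functor.const I).obj S) (c : Cone D) (hc : IsLimit c)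

set_option backward.isDefEq.respectTransparency false in
include hc in
theorem exists_forall_isImmersion_app [QuasiSeparatedSpace S]
    [∀ {i j : I} (f : i ⟶ j), IsClosedImmersion (D.map f)]
    [∀ i, CompactSpace (D.obj i)] [∀ i, QuasiSeparatedSpace (D.obj i)]
    [∀ i, LocallyOfFiniteType (t.app i)] (i₀ : I)
    [IsImmersion (c.π.app i₀ ≫ t.app i₀)] :
    ∃ i₁ : I, ∀ (i : I) (_ : i ⟶ i₁), IsImmersion (t.app i) := by
  haveI : ∀ {i j : I} (f : i ⟶ j), IsAffineHom (D.map f) := fun f => inferInstance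
  let g : c.pt ⟶ S := c.π.app i₀ ≫ t.app i₀
  have : CompactSpace c.pt := Scheme.compactSpace_of_isLimit D c hc
  obtain ⟨Ω, hΩc, hΩr, hΩle⟩ := exists_isCompact_opens_between
    (isCompact_range g.continuous) g.coborderRange subset_coborder
  -- a stage landing in `Ω`
  have H : c.π.app i₀ ⁻¹ᵁ ⊤ ≤ c.π.app i₀ ⁻¹ᵁ (t.app i₀ ⁻¹ᵁ Ω) := by
    intro x _
    exact hΩr ⟨x, rfl⟩
  obtain ⟨m, ψ, hm⟩ := exists_map_preimage_le_map_preimage D c hc (i := i₀) (U := ⊤)
    isCompact_univ H
  have hrange : ∀ n : Over m, Set.range (t.app n.left) ⊆ (Ω : Set S) := by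
    rintro n _ ⟨x, rfl⟩
    have e : D.map (n.hom ≫ ψ) ≫ t.app i₀ = t.app n.left := map_comp_app S D t _
    have hx : (D.map n.hom) x ∈ D.map ψ ⁻¹ᵁ (t.app i₀ ⁻¹ᵁ Ω) := hm trivial
    have hx' : (D.map (n.hom ≫ ψ) ≫ t.app i₀) x ∈ Ω := by
      rw [D.map_comp]; exact hx
    rw [e] at hx'
    exact hx'
  let D' : Over m ⥤ Scheme.{u} := Over.forget m ⋙ D
  let t' : D' ⟶ (Functor.const (Over m)).obj Ω.toScheme :=
    { app := fun n => liftOpen (t.app n.left) Ω (hrange n)
      naturality := fun n₁ n₂ f => by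
        rw [← cancel_mono Ω.ι]
        simp only [Functor.const_obj_obj, Functor.const_obj_map, Category.comp_id, Category.assoc,
          liftOpen_ι]
        exact map_comp_app S D t f.left }
  let c' : Cone D' := c.whisker (Over.forget m)
  have hc' : IsLimit c' := (Functor.Initial.isLimitWhiskerEquiv (Over.forget m) c).symm hc
  haveI : ∀ {n₁ n₂ : Over m} (f : n₁ ⟶ n₂), IsClosedImmersion (D'.map f) :=
    fun f => inferInstanceAs (IsClosedImmersion (D.map f.left))
  haveI : ∀ n : Over m, CompactSpace (D'.obj n) := fun n => inferInstanceAs (CompactSpace (D.obj n.left))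
  haveI : ∀ n : Over m, QuasiSeparatedSpace (D'.obj n) :=
    fun n => inferInstanceAs (QuasiSeparatedSpace (D.obj n.left))
  haveI : ∀ n : Over m, LocallyOfFiniteType (t'.app n) := fun n => by
    have : LocallyOfFiniteType (liftOpen (t.app n.left) Ω (hrange n) ≫ Ω.ι) := by
      rw [liftOpen_ι]; infer_instance
    exact locallyOfFiniteType_of_comp _ Ω.ι
  haveI : CompactSpace Ω.toScheme := isCompact_iff_compactSpace.mp hΩc
  haveI : QuasiSeparatedSpace Ω.toScheme := quasiSeparatedSpace_of_quasiSeparated Ω.ι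
  let k₀ : Over m := Over.mk (𝟙 m)
  have hg : (c'.π.app k₀ ≫ t'.app k₀) ≫ Ω.ι = g := by
    simp only [Category.assoc, t', liftOpen_ι, c', Cone.whisker_π, Functor.whiskerLeft_app,
      Over.forget_obj]
    exact π_comp_app_eq S D t c _ _
  haveI : IsClosedImmersion (c'.π.app k₀ ≫ t'.app k₀) := by
    have e : (c'.π.app k₀ ≫ t'.app k₀) ≫ S.homOfLE hΩle = g.liftCoborder := by
      rw [← cancel_mono g.coborderRange.ι, Category.assoc, Scheme.homOfLE_ι, hg,
        Scheme.Hom.liftCoborder_ι]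
    have : IsClosedImmersion ((c'.π.app k₀ ≫ t'.app k₀) ≫ S.homOfLE hΩle) := by
      rw [e]; infer_instance
    exact IsClosedImmersion.of_comp _ (S.homOfLE hΩle)
  obtain ⟨n, hn⟩ := exists_isClosedImmersion_app Ω.toScheme D' t' c' hc' k₀
  refine ⟨n.left, fun i χ => ?_⟩
  have e : D.map χ ≫ t'.app n ≫ Ω.ι = t.app i := by
    simp only [t', liftOpen_ι]
    exact map_comp_app S D t χ
  rw [← e]
  infer_instance

end Groth.Agent.Helper4.LimImm2
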