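import Mathlib

/-!
# The residue field of a point of a cofiltered limit is the colimit of the residue fields (helper4)
-/

set_option autoImplicit false
universe u
open AlgebraicGeometry CategoryTheory CategoryTheory.Limits

namespace Groth.Agent.Helper4.LimRes

/-- every element of the residue field at a point of an affine open is a quotient of values of
sections over that open -/
theorem exists_evaluation_eq {X : Scheme.{u}} {V : X.Opens} (hV : IsAffineOpen V) (s : X)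
    (hs : s ∈ V) (a : X.residueField s) :
    ∃ g h : Γ(X, V), X.evaluation V s hs h ≠ 0 ∧
      a * X.evaluation V s hs h = X.evaluation V s hs g := by
  obtain ⟨σ, rfl⟩ := X.residue_surjective s a
  letI := X.presheaf.algebra_section_stalk ⟨s, hs⟩
  have hloc := hV.isLocalization_stalk ⟨s, hs⟩
  obtain ⟨⟨g, h⟩, hgh⟩ := IsLocalization.surj (hV.primeIdealOf ⟨s, hs⟩).asIdeal.primeCompl σ
  have hgerm : ∀ t : Γ(X, V), algebraMap Γ(X, V) (X.presheaf.stalk s) t =
      X.presheaf.germ V s hs t := fun t => rfl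
  refine ⟨g, h, ?_, ?_⟩
  · have hu : IsUnit (algebraMap Γ(X, V) (X.presheaf.stalk s) h) := IsLocalization.map_units _ h
    rw [hgerm] at hu
    exact (hu.map (X.residue s).hom).ne_zero
  · have := congrArg (X.residue s).hom hgh
    rw [map_mul, hgerm, hgerm] at this
    exact this

theorem evaluation_appLE {X Y : Scheme.{u}} (f : X ⟶ Y) (U : Y.Opens) (V : X.Opens)
    (e : V ≤ f ⁻¹ᵁ U) (x : X) (hx : x ∈ V) (t : Γ(Y, U)) :
    (f.residueFieldMap x).hom (Y.evaluation U (f x) (e hx) t) =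
      X.evaluation V x hx (f.appLE U V e t) := by
  have h1 := Scheme.evaluation_naturality_apply f x (e hx) t
  refine h1.trans ?_
  change (X.residue x).hom (X.presheaf.germ (f ⁻¹ᵁ U) x (e hx) (f.app U t)) =
    (X.residue x).hom (X.presheaf.germ V x hx (X.presheaf.map (homOfLE e).op (f.app U t)))
  rw [TopCat.Presheaf.germ_res_apply]

section limit

variable {I : Type u} [SmallCategory I] [IsCofiltered I] (D : I ⥤ Scheme.{u})
  [∀ {i j} (f : i ⟶ j), IsAffineHom (D.map f)] (c : Cone D) (hc : IsLimit c)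

omit [IsCofiltered I] [∀ {i j} (f : i ⟶ j), IsAffineHom (D.map f)] in
theorem preimage_le (i₀ : I) (U : (D.obj i₀).Opens) (j : Over i₀) :
    c.π.app i₀ ⁻¹ᵁ U ≤ c.π.app j.left ⁻¹ᵁ (D.map j.hom ⁻¹ᵁ U) := by
  rw [← Scheme.Hom.comp_preimage, c.w]

set_option backward.isDefEq.respectTransparency false in
include hc in
/-- sections over the preimage of an affine open of a stage come from a later stage -/
theorem exists_appLE_eq (i₀ : I) (U : (D.obj i₀).Opens) (hU : IsAffineOpen U)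
    (g : Γ(c.pt, c.π.app i₀ ⁻¹ᵁ U)) :
    ∃ (j : Over i₀) (gj : Γ(D.obj j.left, D.map j.hom ⁻¹ᵁ U)),
      (c.π.app j.left).appLE (D.map j.hom ⁻¹ᵁ U) (c.π.app i₀ ⁻¹ᵁ U) (preimage_le D c i₀ U j) gj
        = g := by
  have hA : ∀ j, IsAffine ((opensDiagram D i₀ U).obj j) := fun j => hU.preimage (D.map j.hom)
  obtain ⟨j, t, ht⟩ := exists_appTop_π_eq_of_isAffine_of_isLimit (opensDiagram D i₀ U)
    (opensCone D c i₀ U) (isLimitOpensCone D c hc i₀ U) ((c.π.app i₀ ⁻¹ᵁ U).topIso.inv g)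
  refine ⟨j, (D.map j.hom ⁻¹ᵁ U).topIso.hom t, ?_⟩
  have e := Scheme.Hom.resLE_app_top (c.π.app j.left) (preimage_le D c i₀ U j)
  have h1 : ((opensCone D c i₀ U).π.app j).appTop t =
      (c.π.app i₀ ⁻¹ᵁ U).topIso.inv ((c.π.app j.left).appLE (D.map j.hom ⁻¹ᵁ U)
        (c.π.app i₀ ⁻¹ᵁ U) (preimage_le D c i₀ U j) ((D.map j.hom ⁻¹ᵁ U).topIso.hom t)) := by
    have e2 : ((opensCone D c i₀ U).π.app j).appTop = _ := e
    rw [e2]
    rfl
  rw [h1] at ht
  have hinj : Function.Injective (c.π.app i₀ ⁻¹ᵁ U).topIso.inv :=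
    (ConcreteCategory.bijective_of_isIso (c.π.app i₀ ⁻¹ᵁ U).topIso.inv).injective
  exact hinj ht

omit [IsCofiltered I] [∀ {i j} (f : i ⟶ j), IsAffineHom (D.map f)] in
theorem appLE_transport (i₀ : I) (U : (D.obj i₀).Opens) {m j : Over i₀} (f : m ⟶ j)
    (t : Γ(D.obj j.left, D.map j.hom ⁻¹ᵁ U)) :
    ∃ t' : Γ(D.obj m.left, D.map m.hom ⁻¹ᵁ U),
      (c.π.app m.left).appLE _ _ (preimage_le D c i₀ U m) t' =
        (c.π.app j.left).appLE _ _ (preimage_le D c i₀ U j) t := by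
  have e1 : D.map m.hom ⁻¹ᵁ U ≤ D.map f.left ⁻¹ᵁ (D.map j.hom ⁻¹ᵁ U) := by
    rw [← Scheme.Hom.comp_preimage, ← D.map_comp, Over.w f]
  refine ⟨(D.map f.left).appLE _ _ e1 t, ?_⟩
  have h1 := Scheme.Hom.appLE_comp_appLE (c.π.app m.left) (D.map f.left) _ _ _ e1
    (preimage_le D c i₀ U m)
  have h2 := congr($h1 t)
  rw [CommRingCat.comp_apply] at h2
  rw [h2]
  have h3 : c.π.app m.left ≫ D.map f.left = c.π.app j.left := c.w f.left
  simp only [h3]

include hc in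
/-- the residue field of a point of a cofiltered limit with affine transition maps is the union of
the residue fields of its images -/
theorem exists_residueFieldMap_eq (s : c.pt) (a : c.pt.residueField s) :
    ∃ (i : I) (b : (D.obj i).residueField ((c.π.app i).base s)),
      ((c.π.app i).residueFieldMap s).hom b = a := by
  obtain ⟨i₀⟩ := IsCofiltered.nonempty (C := I)
  obtain ⟨U, hU, hxU, -⟩ := exists_isAffineOpen_mem_and_subset (x := (c.π.app i₀) s)
    (U := ⊤) trivial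
  have := isAffineHom_π_app D c hc i₀
  have hV : IsAffineOpen (c.π.app i₀ ⁻¹ᵁ U) := hU.preimage (c.π.app i₀)
  have hs : s ∈ c.π.app i₀ ⁻¹ᵁ U := hxU
  obtain ⟨g, h, hh, hgh⟩ := exists_evaluation_eq hV s hs a
  obtain ⟨j₁, g₁, hg₁⟩ := exists_appLE_eq D c hc i₀ U hU g
  obtain ⟨j₂, h₂, hh₂⟩ := exists_appLE_eq D c hc i₀ U hU h
  obtain ⟨m, ⟨f₁⟩, ⟨f₂⟩⟩ : ∃ m : Over i₀, Nonempty (m ⟶ j₁) ∧ Nonempty (m ⟶ j₂) :=
    ⟨IsCofiltered.min j₁ j₂, ⟨IsCofiltered.minToLeft j₁ j₂⟩, ⟨IsCofiltered.minToRight j₁ j₂⟩⟩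
  obtain ⟨g', hg'⟩ := appLE_transport D c i₀ U f₁ g₁
  obtain ⟨h', hh'⟩ := appLE_transport D c i₀ U f₂ h₂
  have hsm : s ∈ c.π.app m.left ⁻¹ᵁ (D.map m.hom ⁻¹ᵁ U) := preimage_le D c i₀ U m hs
  have eg : ((c.π.app m.left).residueFieldMap s).hom
      ((D.obj m.left).evaluation (D.map m.hom ⁻¹ᵁ U) ((c.π.app m.left) s) hsm g') =
      c.pt.evaluation (c.π.app i₀ ⁻¹ᵁ U) s hs g :=
    (evaluation_appLE (c.π.app m.left) (D.map m.hom ⁻¹ᵁ U) (c.π.app i₀ ⁻¹ᵁ U)
      (preimage_le D c i₀ U m) s hs g').trans (congrArg _ (hg'.trans hg₁))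
  have eh : ((c.π.app m.left).residueFieldMap s).hom
      ((D.obj m.left).evaluation (D.map m.hom ⁻¹ᵁ U) ((c.π.app m.left) s) hsm h') =
      c.pt.evaluation (c.π.app i₀ ⁻¹ᵁ U) s hs h :=
    (evaluation_appLE (c.π.app m.left) (D.map m.hom ⁻¹ᵁ U) (c.π.app i₀ ⁻¹ᵁ U)
      (preimage_le D c i₀ U m) s hs h').trans (congrArg _ (hh'.trans hh₂))
  refine ⟨m.left, (D.obj m.left).evaluation (D.map m.hom ⁻¹ᵁ U) ((c.π.app m.left) s) hsm g' /
    (D.obj m.left).evaluation (D.map m.hom ⁻¹ᵁ U) ((c.π.app m.left) s) hsm h', ?_⟩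
  rw [map_div₀]
  refine (congrArg₂ (· / ·) eg eh).trans ?_
  exact (eq_div_of_mul_eq hh hgh).symm

end limit

end Groth.Agent.Helper4.LimRes
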