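import Mathlib
import Groth.Agent.Lib.Helper4.LimCI2
import Groth.Agent.Lib.Helper4.LimAff

/-!
# Separatedness of a cofiltered limit descends to a stage (helper4)
-/

set_option autoImplicit false
universe u
open AlgebraicGeometry CategoryTheory CategoryTheory.Limits

namespace Groth.Agent.Helper4.LimSep3

open Groth.Agent.Helper4.LimCI Groth.Agent.Helper4.LimCI2 Groth.Agent.Helper4.LimAff

section affine

variable {J : Type u} [SmallCategory J] [IsCofiltered J] (E' E₁ E₂ : J ⥤ Scheme.{u})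
  [∀ j, IsAffine (E'.obj j)] [∀ j, IsAffine (E₁.obj j)] [∀ j, IsAffine (E₂.obj j)]
  (α₁ : E' ⟶ E₁) (α₂ : E' ⟶ E₂)
  (cE' : Cone E') (hcE' : IsLimit cE') (cE₁ : Cone E₁) (hcE₁ : IsLimit cE₁)
  (cE₂ : Cone E₂) (hcE₂ : IsLimit cE₂)
  (F₁ : cE'.pt ⟶ cE₁.pt) (F₂ : cE'.pt ⟶ cE₂.pt)
  (hF₁ : ∀ k, cE'.π.app k ≫ α₁.app k = F₁ ≫ cE₁.π.app k)
  (hF₂ : ∀ k, cE'.π.app k ≫ α₂.app k = F₂ ≫ cE₂.π.app k)

/-- the subring of the sections at stage `m` generated by the two target systems -/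
def genSub (m : J) : Subring Γ(E'.obj m, ⊤) :=
  Subring.closure (Set.range (α₁.app m).appTop.hom ∪ Set.range (α₂.app m).appTop.hom)

omit [IsCofiltered J] [∀ j, IsAffine (E'.obj j)] [∀ j, IsAffine (E₁.obj j)]
  [∀ j, IsAffine (E₂.obj j)] in
theorem map_mem_genSub {m n : J} (χ : n ⟶ m) {y : Γ(E'.obj m, ⊤)}
    (hy : y ∈ genSub E' E₁ E₂ α₁ α₂ m) :
    (E'.map χ).appTop.hom y ∈ genSub E' E₁ E₂ α₁ α₂ n := by
  have hle : genSub E' E₁ E₂ α₁ α₂ m ≤ (genSub E' E₁ E₂ α₁ α₂ n).comap (E'.map χ).appTop.hom := by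
    rw [genSub, Subring.closure_le]
    rintro s (⟨r, rfl⟩ | ⟨r, rfl⟩)
    · have e3 : (α₁.app m).appTop ≫ (E'.map χ).appTop =
          (E₁.map χ).appTop ≫ (α₁.app n).appTop := by
        simp only [← Scheme.Hom.comp_appTop]
        rw [α₁.naturality]
      have h3 := congr($e3 r)
      simp only [CommRingCat.comp_apply] at h3
      rw [SetLike.mem_coe, Subring.mem_comap]
      change (E'.map χ).appTop ((α₁.app m).appTop r) ∈ genSub E' E₁ E₂ α₁ α₂ n
      rw [h3]
      exact Subring.subset_closure (Or.inl ⟨_, rfl⟩)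
    · have e3 : (α₂.app m).appTop ≫ (E'.map χ).appTop =
          (E₂.map χ).appTop ≫ (α₂.app n).appTop := by
        simp only [← Scheme.Hom.comp_appTop]
        rw [α₂.naturality]
      have h3 := congr($e3 r)
      simp only [CommRingCat.comp_apply] at h3
      rw [SetLike.mem_coe, Subring.mem_comap]
      change (E'.map χ).appTop ((α₂.app m).appTop r) ∈ genSub E' E₁ E₂ α₁ α₂ n
      rw [h3]
      exact Subring.subset_closure (Or.inr ⟨_, rfl⟩)
  exact hle hy

omit [∀ j, IsAffine (E'.obj j)] in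
include hcE₁ hcE₂ hF₁ hF₂ in
/-- every section of the limit lies, at some stage, in the subring generated by the two systems -/
theorem exists_mem_genSub_of_limit (hJ : JointlyGen F₁.appTop F₂.appTop) (x : Γ(cE'.pt, ⊤)) :
    ∃ (m : J) (y : Γ(E'.obj m, ⊤)), y ∈ genSub E' E₁ E₂ α₁ α₂ m ∧
      (cE'.π.app m).appTop.hom y = x := by
  have hx : x ∈ Subring.closure (Set.range F₁.appTop.hom ∪ Set.range F₂.appTop.hom) := by
    rw [hJ]; trivial
  have trans : ∀ {m n : J} (χ : n ⟶ m) (y : Γ(E'.obj m, ⊤)),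
      (cE'.π.app n).appTop.hom ((E'.map χ).appTop.hom y) = (cE'.π.app m).appTop.hom y := by
    intro m n χ y
    have e2 : (E'.map χ).appTop ≫ (cE'.π.app n).appTop = (cE'.π.app m).appTop := by
      simp only [← Scheme.Hom.comp_appTop]
      rw [cE'.w]
    exact congr($e2 y)
  induction hx using Subring.closure_induction with
  | mem x hx =>
    rcases hx with ⟨s, rfl⟩ | ⟨s, rfl⟩
    · obtain ⟨l, sl, rfl⟩ := exists_appTop_π_eq_of_isAffine_of_isLimit E₁ cE₁ hcE₁ s
      refine ⟨l, (α₁.app l).appTop.hom sl, Subring.subset_closure (Or.inl ⟨_, rfl⟩), ?_⟩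
      have e1 : (α₁.app l).appTop ≫ (cE'.π.app l).appTop =
          (cE₁.π.app l).appTop ≫ F₁.appTop := by
        simp only [← Scheme.Hom.comp_appTop]
        rw [hF₁ l]
      exact congr($e1 sl)
    · obtain ⟨l, sl, rfl⟩ := exists_appTop_π_eq_of_isAffine_of_isLimit E₂ cE₂ hcE₂ s
      refine ⟨l, (α₂.app l).appTop.hom sl, Subring.subset_closure (Or.inr ⟨_, rfl⟩), ?_⟩
      have e1 : (α₂.app l).appTop ≫ (cE'.π.app l).appTop =
          (cE₂.π.app l).appTop ≫ F₂.appTop := by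
        simp only [← Scheme.Hom.comp_appTop]
        rw [hF₂ l]
      exact congr($e1 sl)
  | zero =>
    obtain ⟨m⟩ := IsCofiltered.nonempty (C := J)
    exact ⟨m, 0, Subring.zero_mem _, map_zero _⟩
  | one =>
    obtain ⟨m⟩ := IsCofiltered.nonempty (C := J)
    exact ⟨m, 1, Subring.one_mem _, map_one _⟩
  | add x₁ x₂ _ _ h₁ h₂ =>
    obtain ⟨m₁, y₁, hy₁, rfl⟩ := h₁
    obtain ⟨m₂, y₂, hy₂, rfl⟩ := h₂
    refine ⟨IsCofiltered.min m₁ m₂, (E'.map (IsCofiltered.minToLeft m₁ m₂)).appTop.hom y₁ +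
      (E'.map (IsCofiltered.minToRight m₁ m₂)).appTop.hom y₂,
      Subring.add_mem _ (map_mem_genSub E' E₁ E₂ α₁ α₂ _ hy₁)
        (map_mem_genSub E' E₁ E₂ α₁ α₂ _ hy₂), ?_⟩
    rw [map_add, trans, trans]
  | neg x _ h =>
    obtain ⟨m, y, hy, rfl⟩ := h
    exact ⟨m, -y, Subring.neg_mem _ hy, map_neg _ _⟩
  | mul x₁ x₂ _ _ h₁ h₂ =>
    obtain ⟨m₁, y₁, hy₁, rfl⟩ := h₁
    obtain ⟨m₂, y₂, hy₂, rfl⟩ := h₂
    refine ⟨IsCofiltered.min m₁ m₂, (E'.map (IsCofiltered.minToLeft m₁ m₂)).appTop.hom y₁ *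
      (E'.map (IsCofiltered.minToRight m₁ m₂)).appTop.hom y₂,
      Subring.mul_mem _ (map_mem_genSub E' E₁ E₂ α₁ α₂ _ hy₁)
        (map_mem_genSub E' E₁ E₂ α₁ α₂ _ hy₂), ?_⟩
    rw [map_mul, trans, trans]

include hcE' hcE₁ hcE₂ hF₁ hF₂ in
theorem exists_mem_genSub (hJ : JointlyGen F₁.appTop F₂.appTop) (k₁ : J)
    (t : Γ(E'.obj k₁, ⊤)) :
    ∃ (m : J) (ψ : m ⟶ k₁), (E'.map ψ).appTop.hom t ∈ genSub E' E₁ E₂ α₁ α₂ m := by
  obtain ⟨l, y, hy, hyt⟩ := exists_mem_genSub_of_limit E' E₁ E₂ α₁ α₂ cE' cE₁ hcE₁ cE₂ hcE₂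
    F₁ F₂ hF₁ hF₂ hJ ((cE'.π.app k₁).appTop.hom t)
  let l' := IsCofiltered.min l k₁
  let p : l' ⟶ l := IsCofiltered.minToLeft l k₁
  let q : l' ⟶ k₁ := IsCofiltered.minToRight l k₁
  have trans : ∀ {m n : J} (χ : n ⟶ m) (y : Γ(E'.obj m, ⊤)),
      (cE'.π.app n).appTop.hom ((E'.map χ).appTop.hom y) = (cE'.π.app m).appTop.hom y := by
    intro m n χ y
    have e2 : (E'.map χ).appTop ≫ (cE'.π.app n).appTop = (cE'.π.app m).appTop := by
      simp only [← Scheme.Hom.comp_appTop]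
      rw [cE'.w]
    exact congr($e2 y)
  let x : Γ(E'.obj l', ⊤) := (E'.map p).appTop.hom y
  let y' : Γ(E'.obj l', ⊤) := (E'.map q).appTop.hom t
  have hxy : (cE'.π.app l').appTop (x - y') = 0 := by
    rw [map_sub, sub_eq_zero]
    change (cE'.π.app l').appTop.hom ((E'.map p).appTop.hom y) =
      (cE'.π.app l').appTop.hom ((E'.map q).appTop.hom t)
    rw [trans, trans, hyt]
  obtain ⟨m, f, hm⟩ := exists_appTop_map_eq_zero_of_isAffine_of_isLimit E' cE' hcE' l' (x - y') hxy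
  rw [map_sub, sub_eq_zero] at hm
  refine ⟨m, f ≫ q, ?_⟩
  have e4 : (E'.map q).appTop ≫ (E'.map f).appTop = (E'.map (f ≫ q)).appTop := by
    simp only [← Scheme.Hom.comp_appTop]
    rw [E'.map_comp]
  have h4 := congr($e4 t)
  simp only [CommRingCat.comp_apply] at h4
  change (E'.map (f ≫ q)).appTop t ∈ _
  rw [← h4]
  change (E'.map f).appTop y' ∈ _
  rw [← hm]
  exact map_mem_genSub E' E₁ E₂ α₁ α₂ f (map_mem_genSub E' E₁ E₂ α₁ α₂ p hy)

include hcE' hcE₁ hcE₂ hF₁ hF₂ in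
/-- joint generation descends to a stage -/
theorem exists_forall_jointlyGen (hJ : JointlyGen F₁.appTop F₂.appTop) (k₁ : J)
    [LocallyOfFiniteType (α₁.app k₁)]
    (hJG : ∀ (n : J) (ψ : n ⟶ k₁), JointlyGen (E'.map ψ).appTop (α₁.app n).appTop) :
    ∃ (l : J) (_ : l ⟶ k₁), ∀ (n : J) (_ : n ⟶ l),
      JointlyGen (α₁.app n).appTop (α₂.app n).appTop := by
  have hft : RingHom.FiniteType (α₁.app k₁).appTop.hom :=
    (HasRingHomProperty.iff_of_isAffine (P := @LocallyOfFiniteType)).mp inferInstance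
  obtain ⟨T, hT⟩ : ∃ T : Finset Γ(E'.obj k₁, ⊤),
      Subring.closure (Set.range (α₁.app k₁).appTop.hom ∪ (T : Set Γ(E'.obj k₁, ⊤))) = ⊤ := by
    algebraize [(α₁.app k₁).appTop.hom]
    obtain ⟨T, hT⟩ :=
      (Algebra.FiniteType.out : (⊤ : Subalgebra Γ(E₁.obj k₁, ⊤) Γ(E'.obj k₁, ⊤)).FG)
    refine ⟨T, ?_⟩
    have h1 := congrArg Subalgebra.toSubring hT
    rw [Algebra.adjoin_eq_ring_closure, Algebra.top_toSubring] at h1
    exact h1
  have comp : ∀ {m n : J} (ψ : m ⟶ k₁) (χ : n ⟶ m) (t : Γ(E'.obj k₁, ⊤)),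
      (E'.map (χ ≫ ψ)).appTop.hom t = (E'.map χ).appTop.hom ((E'.map ψ).appTop.hom t) := by
    intro m n ψ χ t
    have e4 : (E'.map ψ).appTop ≫ (E'.map χ).appTop = (E'.map (χ ≫ ψ)).appTop := by
      simp only [← Scheme.Hom.comp_appTop]
      rw [E'.map_comp]
    exact congr($(e4.symm) t)
  have key : ∀ T : Finset Γ(E'.obj k₁, ⊤), ∃ (m : J) (ψ : m ⟶ k₁), ∀ t ∈ T,
      (E'.map ψ).appTop.hom t ∈ genSub E' E₁ E₂ α₁ α₂ m := by
    classical
    intro T
    induction T using Finset.induction_on with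
    | empty => exact ⟨k₁, 𝟙 _, by simp⟩
    | insert t T' _ ih =>
      obtain ⟨m₁, ψ₁, h₁⟩ := ih
      obtain ⟨m₂, ψ₂, hr⟩ := exists_mem_genSub E' E₁ E₂ α₁ α₂ cE' hcE' cE₁ hcE₁ cE₂ hcE₂
        F₁ F₂ hF₁ hF₂ hJ k₁ t
      obtain ⟨m, χ₁, χ₂, hχ⟩ := IsCofiltered.cospan ψ₁ ψ₂
      refine ⟨m, χ₁ ≫ ψ₁, ?_⟩
      intro t' ht'
      rw [Finset.mem_insert] at ht'
      rcases ht' with rfl | ht'
      · rw [hχ, comp]
        exact map_mem_genSub E' E₁ E₂ α₁ α₂ χ₂ hr
      · rw [comp]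
        exact map_mem_genSub E' E₁ E₂ α₁ α₂ χ₁ (h₁ t' ht')
  obtain ⟨m, ψ, hm⟩ := key T
  refine ⟨m, ψ, fun n χ => ?_⟩
  change genSub E' E₁ E₂ α₁ α₂ n = ⊤
  rw [eq_top_iff, ← hJG n (χ ≫ ψ), Subring.closure_le]
  rintro s (⟨r, rfl⟩ | ⟨r, rfl⟩)
  · have hle : Subring.closure (Set.range (α₁.app k₁).appTop.hom ∪ (T : Set Γ(E'.obj k₁, ⊤))) ≤
        (genSub E' E₁ E₂ α₁ α₂ n).comap (E'.map (χ ≫ ψ)).appTop.hom := by
      rw [Subring.closure_le]
      rintro s (⟨r, rfl⟩ | hs)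
      · have e3 : (α₁.app k₁).appTop ≫ (E'.map (χ ≫ ψ)).appTop =
            (E₁.map (χ ≫ ψ)).appTop ≫ (α₁.app n).appTop := by
          simp only [← Scheme.Hom.comp_appTop]
          rw [α₁.naturality]
        have h3 := congr($e3 r)
        simp only [CommRingCat.comp_apply] at h3
        rw [SetLike.mem_coe, Subring.mem_comap]
        change (E'.map (χ ≫ ψ)).appTop ((α₁.app k₁).appTop r) ∈ genSub E' E₁ E₂ α₁ α₂ n
        rw [h3]
        exact Subring.subset_closure (Or.inl ⟨_, rfl⟩)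
      · rw [SetLike.mem_coe, Subring.mem_comap, comp]
        exact map_mem_genSub E' E₁ E₂ α₁ α₂ χ (hm s hs)
    have : r ∈ Subring.closure
        (Set.range (α₁.app k₁).appTop.hom ∪ (T : Set Γ(E'.obj k₁, ⊤))) := by rw [hT]; trivial
    exact hle this
  · exact Subring.subset_closure (Or.inl ⟨r, rfl⟩)

end affine

section criterion

theorem JointlyGen.comp_surjective {S R' S' S'' : CommRingCat.{u}} {c : S ⟶ S'} {d : R' ⟶ S'}
    (h : JointlyGen c d) (g : S' ⟶ S'') (hg : Function.Surjective g.hom) :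
    JointlyGen (c ≫ g) (d ≫ g) := by
  rw [JointlyGen, eq_top_iff]
  intro x _
  obtain ⟨y, rfl⟩ := hg x
  have hy : y ∈ Subring.closure (Set.range c.hom ∪ Set.range d.hom) := by rw [h]; trivial
  have hle : Subring.closure (Set.range c.hom ∪ Set.range d.hom) ≤
      (Subring.closure (Set.range (c ≫ g).hom ∪ Set.range (d ≫ g).hom)).comap g.hom := by
    rw [Subring.closure_le]
    rintro s (⟨r, rfl⟩ | ⟨r, rfl⟩)
    · exact Subring.subset_closure (Or.inl ⟨r, rfl⟩)
    · exact Subring.subset_closure (Or.inr ⟨r, rfl⟩)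
  exact hle hy

theorem surjective_of_jointlyGen_comp {S R' S' S'' : CommRingCat.{u}} {c : S ⟶ S'} {d : R' ⟶ S'}
    (g : S' ⟶ S'') (h : JointlyGen (c ≫ g) (d ≫ g)) : Function.Surjective g.hom := by
  intro x
  have hx : x ∈ Subring.closure (Set.range (c ≫ g).hom ∪ Set.range (d ≫ g).hom) := by
    rw [h]; trivial
  have hle : Subring.closure (Set.range (c ≫ g).hom ∪ Set.range (d ≫ g).hom) ≤ g.hom.range := by
    rw [Subring.closure_le]
    rintro s (⟨r, rfl⟩ | ⟨r, rfl⟩)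
    · exact ⟨c.hom r, rfl⟩
    · exact ⟨d.hom r, rfl⟩
  exact hle hx

/-- the sections over `W` are generated by the restrictions of sections over `U` and `V` -/
def JG {X : Scheme.{u}} (W U V : X.Opens) (hU : W ≤ U) (hV : W ≤ V) : Prop :=
  JointlyGen (X.homOfLE hU).appTop (X.homOfLE hV).appTop

theorem JG.congr {X : Scheme.{u}} {W W' U V : X.Opens} {hU : W ≤ U} {hV : W ≤ V}
    (h : JG W U V hU hV) (e : W = W') : JG W' U V (e ▸ hU) (e ▸ hV) := by
  subst e; exact h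

variable {X Y : Scheme.{u}} (f : X ⟶ Y) [IsAffine Y]

/-- the canonical map from `U ⊓ V` to `U ×_Y V` -/
noncomputable def infToProd (U V : X.Opens) : (U ⊓ V).toScheme ⟶ pullback (U.ι ≫ f) (V.ι ≫ f) :=
  pullback.lift (X.homOfLE inf_le_left) (X.homOfLE inf_le_right) (by simp)

theorem isPullback_inf (U V : X.Opens) :
    IsPullback (X.homOfLE (inf_le_left : U ⊓ V ≤ U)) (X.homOfLE (inf_le_right : U ⊓ V ≤ V))
      U.ι V.ι :=
  IsOpenImmersion.isPullback (X.homOfLE inf_le_left) (X.homOfLE inf_le_right)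
      U.ι V.ι (by simp) (by rw [Scheme.opensRange_homOfLE, Scheme.Opens.opensRange_ι,
        Scheme.Hom.preimage_inf, Scheme.Opens.ι_preimage_self, inf_top_eq])

theorem infToProd_eq (U V : X.Opens) :
    infToProd f U V = (isPullback_inf U V).isoPullback.hom ≫ pullback.mapDesc U.ι V.ι f := by
  apply pullback.hom_ext
  · rw [Category.assoc, pullback.mapDesc, pullback.lift_fst, infToProd, pullback.lift_fst,
      Category.comp_id, IsPullback.isoPullback_hom_fst]
  · rw [Category.assoc, pullback.mapDesc, pullback.lift_snd, infToProd, pullback.lift_snd,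
      Category.comp_id, IsPullback.isoPullback_hom_snd]

theorem jg_of_isSeparated [IsSeparated f] {U V : X.Opens} (hU : IsAffineOpen U)
    (hV : IsAffineOpen V) : JG (U ⊓ V) U V inf_le_left inf_le_right := by
  have : IsAffine U.toScheme := hU
  have : IsAffine V.toScheme := hV
  have hcl : IsClosedImmersion (infToProd f U V) := by
    rw [infToProd_eq]; infer_instance
  have hs : Function.Surjective (infToProd f U V).appTop :=
    (IsClosedImmersion.isAffine_surjective_of_isAffine (infToProd f U V)).2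
  have hpo := isPushout_appTop_of_isPullback (IsPullback.of_hasPullback (U.ι ≫ f) (V.ι ≫ f))
  have h := JointlyGen.comp_surjective (jointlyGen_of_isPushout hpo) (infToProd f U V).appTop hs
  have e1 : infToProd f U V ≫ pullback.fst _ _ = X.homOfLE inf_le_left := pullback.lift_fst _ _ _
  have e2 : infToProd f U V ≫ pullback.snd _ _ = X.homOfLE inf_le_right := pullback.lift_snd _ _ _
  rw [JG, ← e1, ← e2, Scheme.Hom.comp_appTop, Scheme.Hom.comp_appTop]
  exact h

set_option backward.isDefEq.respectTransparency.types false in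
theorem isSeparated_of_jg {ι : Type u} (U : ι → X.Opens) (hcov : TopologicalSpace.IsOpenCover U)
    (hA : ∀ a, IsAffineOpen (U a)) (hI : ∀ a b, IsAffineOpen (U a ⊓ U b))
    (hJ : ∀ a b, JG (U a ⊓ U b) (U a) (U b) inf_le_left inf_le_right) : IsSeparated f := by
  have : ∀ a, IsAffine ((X.openCoverOfIsOpenCover U hcov).X a) := hA
  rw [IsSeparated.isSeparated_eq_diagonal_isClosedImmersion, ← HasAffineProperty.diagonal_iff @IsClosedImmersion]
  letI := HasAffineProperty.isLocal_affineProperty @IsClosedImmersion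
  refine AffineTargetMorphismProperty.diagonal_of_openCover_source
    (Q := fun X _ f _ => IsAffine X ∧ Function.Surjective f.appTop) f
    (X.openCoverOfIsOpenCover U hcov) ?_
  intro a b
  change IsAffine _ ∧ Function.Surjective (pullback.mapDesc (U a).ι (U b).ι f).appTop
  have : IsAffine (U a).toScheme := hA a
  have : IsAffine (U b).toScheme := hA b
  have : IsAffine (U a ⊓ U b).toScheme := hI a b
  have hs : Function.Surjective (infToProd f (U a) (U b)).appTop := by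
    apply surjective_of_jointlyGen_comp (c := (pullback.fst ((U a).ι ≫ f) ((U b).ι ≫ f)).appTop)
      (d := (pullback.snd ((U a).ι ≫ f) ((U b).ι ≫ f)).appTop)
    have h := hJ a b
    have e1 : infToProd f (U a) (U b) ≫ pullback.fst _ _ = X.homOfLE inf_le_left :=
      pullback.lift_fst _ _ _
    have e2 : infToProd f (U a) (U b) ≫ pullback.snd _ _ = X.homOfLE inf_le_right :=
      pullback.lift_snd _ _ _
    rw [JG, ← e1, ← e2, Scheme.Hom.comp_appTop, Scheme.Hom.comp_appTop] at h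
    exact h
  have hcl : IsClosedImmersion (infToProd f (U a) (U b)) :=
    IsClosedImmersion.of_surjective_of_isAffine _ hs
  rw [infToProd_eq] at hcl
  have hcl' : IsClosedImmersion (pullback.mapDesc (U a).ι (U b).ι f) :=
    (MorphismProperty.cancel_left_of_respectsIso @IsClosedImmersion _ _).1 hcl
  exact IsClosedImmersion.isAffine_surjective_of_isAffine (pullback.mapDesc (U a).ι (U b).ι f)

end criterion

section stage

variable {I : Type u} [SmallCategory I] (D : I ⥤ Scheme.{u})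

set_option backward.isDefEq.respectTransparency false in
/-- inclusion of opens induces a transformation of the diagrams of preimages -/
noncomputable def opensLE (k₁ : I) {W U : (D.obj k₁).Opens} (h : W ≤ U) :
    opensDiagram D k₁ W ⟶ opensDiagram D k₁ U where
  app j := (D.obj j.left).homOfLE ((D.map j.hom).preimage_mono h)
  naturality j k f := by
    simp only [opensDiagram_map, opensDiagram_obj, Scheme.Hom.resLE_map, Scheme.Hom.map_resLE]

set_option backward.isDefEq.respectTransparency false in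
theorem isPullback_opensLE (k₁ : I) {W U : (D.obj k₁).Opens} (h : W ≤ U) {j k : Over k₁}
    (f : j ⟶ k) :
    IsPullback ((opensDiagram D k₁ W).map f) ((opensLE D k₁ h).app j) ((opensLE D k₁ h).app k)
      ((opensDiagram D k₁ U).map f) := by
  have e1 : D.map f.left ⁻¹ᵁ (D.map k.hom ⁻¹ᵁ W) = D.map j.hom ⁻¹ᵁ W := by
    rw [← Scheme.Hom.comp_preimage, ← D.map_comp, Over.w f]
  have e2 : D.map f.left ⁻¹ᵁ (D.map k.hom ⁻¹ᵁ U) = D.map j.hom ⁻¹ᵁ U := by
    rw [← Scheme.Hom.comp_preimage, ← D.map_comp, Over.w f]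
  have := Scheme.Hom.isPullback_resLE (f := D.map f.left) (g := D.map f.left)
    (iX := 𝟙 _) (iY := 𝟙 _) IsPullback.of_id_snd
    (US := D.map k.hom ⁻¹ᵁ U) (UT := D.map j.hom ⁻¹ᵁ U) (UX := D.map k.hom ⁻¹ᵁ W)
    e2.ge (by simpa using (D.map k.hom).preimage_mono h) (UY := D.map j.hom ⁻¹ᵁ W)
    (by rw [e1]; simpa using (D.map j.hom).preimage_mono h)
  simp only [Scheme.Hom.resLE_id] at this
  exact this

end stage

section stage2

variable {I : Type u} [SmallCategory I] [IsCofiltered I] (D : I ⥤ Scheme.{u})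
  [∀ {i j} (f : i ⟶ j), IsAffineHom (D.map f)] (c : Cone D) (hc : IsLimit c)

set_option backward.isDefEq.respectTransparency false in
include hc in
theorem exists_forall_jg (k₁ : I) (U V : (D.obj k₁).Opens) (hU : IsAffineOpen U)
    (hV : IsAffineOpen V) (hW : IsAffineOpen (U ⊓ V))
    (hJ : JG (c.π.app k₁ ⁻¹ᵁ (U ⊓ V)) (c.π.app k₁ ⁻¹ᵁ U) (c.π.app k₁ ⁻¹ᵁ V)
      ((c.π.app k₁).preimage_mono inf_le_left) ((c.π.app k₁).preimage_mono inf_le_right)) :
    ∃ l : Over k₁, ∀ (n : Over k₁) (_ : n ⟶ l),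
      JG (D.map n.hom ⁻¹ᵁ (U ⊓ V)) (D.map n.hom ⁻¹ᵁ U) (D.map n.hom ⁻¹ᵁ V)
        ((D.map n.hom).preimage_mono inf_le_left) ((D.map n.hom).preimage_mono inf_le_right) := by
  have hA' : ∀ j, IsAffine ((opensDiagram D k₁ (U ⊓ V)).obj j) :=
    fun j => hW.preimage (D.map j.hom)
  have hA₁ : ∀ j, IsAffine ((opensDiagram D k₁ U).obj j) := fun j => hU.preimage (D.map j.hom)
  have hA₂ : ∀ j, IsAffine ((opensDiagram D k₁ V).obj j) := fun j => hV.preimage (D.map j.hom)
  let F₁ : (opensCone D c k₁ (U ⊓ V)).pt ⟶ (opensCone D c k₁ U).pt :=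
    c.pt.homOfLE ((c.π.app k₁).preimage_mono inf_le_left)
  let F₂ : (opensCone D c k₁ (U ⊓ V)).pt ⟶ (opensCone D c k₁ V).pt :=
    c.pt.homOfLE ((c.π.app k₁).preimage_mono inf_le_right)
  have hF₁ : ∀ k, (opensCone D c k₁ (U ⊓ V)).π.app k ≫ (opensLE D k₁ inf_le_left).app k =
      F₁ ≫ (opensCone D c k₁ U).π.app k := by
    intro k
    simp only [opensCone_pt, opensCone_π_app, opensLE, F₁, Scheme.Hom.resLE_map,
      Scheme.Hom.map_resLE]
  have hF₂ : ∀ k, (opensCone D c k₁ (U ⊓ V)).π.app k ≫ (opensLE D k₁ inf_le_right).app k =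
      F₂ ≫ (opensCone D c k₁ V).π.app k := by
    intro k
    simp only [opensCone_pt, opensCone_π_app, opensLE, F₂, Scheme.Hom.resLE_map,
      Scheme.Hom.map_resLE]
  have hlft : LocallyOfFiniteType ((opensLE D k₁ (inf_le_left : U ⊓ V ≤ U)).app (Over.mk (𝟙 k₁))) := by
    simp only [opensLE]; infer_instance
  obtain ⟨l, _, hl⟩ := exists_forall_jointlyGen (opensDiagram D k₁ (U ⊓ V)) (opensDiagram D k₁ U)
    (opensDiagram D k₁ V) (opensLE D k₁ inf_le_left) (opensLE D k₁ inf_le_right)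
    (opensCone D c k₁ (U ⊓ V)) (isLimitOpensCone D c hc k₁ (U ⊓ V))
    (opensCone D c k₁ U) (isLimitOpensCone D c hc k₁ U)
    (opensCone D c k₁ V) (isLimitOpensCone D c hc k₁ V) F₁ F₂ hF₁ hF₂ hJ (Over.mk (𝟙 k₁))
    (fun n ψ => jointlyGen_of_isPushout
      (isPushout_appTop_of_isPullback (isPullback_opensLE D k₁ inf_le_left ψ)))
  exact ⟨l, fun n χ => hl n χ⟩

end stage2

theorem JG.congr3 {X : Scheme.{u}} {W W' U U' V V' : X.Opens} {hU : W ≤ U} {hV : W ≤ V}
    (h : JG W U V hU hV) (e : W = W') (eU : U = U') (eV : V = V') :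
    JG W' U' V' (e ▸ eU ▸ hU) (e ▸ eV ▸ hV) := by
  subst e eU eV; exact h

section stage3

variable {I : Type u} [SmallCategory I] [IsCofiltered I] (D : I ⥤ Scheme.{u})
  [∀ {i j} (f : i ⟶ j), IsAffineHom (D.map f)] (c : Cone D) (hc : IsLimit c)

set_option backward.isDefEq.respectTransparency false in
include hc in
theorem exists_forall_isAffineOpen_and_jg [∀ i, QuasiSeparatedSpace (D.obj i)]
    [c.pt.IsSeparated] (i₀ : I) (U V : (D.obj i₀).Opens) (hU : IsAffineOpen U)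
    (hV : IsAffineOpen V) :
    ∃ m : Over i₀, ∀ (n : Over i₀) (_ : n ⟶ m),
      IsAffineOpen (D.map n.hom ⁻¹ᵁ (U ⊓ V)) ∧
      JG (D.map n.hom ⁻¹ᵁ (U ⊓ V)) (D.map n.hom ⁻¹ᵁ U) (D.map n.hom ⁻¹ᵁ V)
        ((D.map n.hom).preimage_mono inf_le_left) ((D.map n.hom).preimage_mono inf_le_right) := by
  have hcomp : IsCompact ((U ⊓ V : (D.obj i₀).Opens) : Set (D.obj i₀)) :=
    QuasiSeparatedSpace.inter_isCompact U.1 V.1 U.2 hU.isCompact V.2 hV.isCompact
  have haff : ∀ i, IsAffineHom (c.π.app i) := fun i => isAffineHom_π_app D c hc i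
  have hWlim : IsAffineOpen (c.π.app i₀ ⁻¹ᵁ (U ⊓ V)) := by
    rw [Scheme.Hom.preimage_inf]
    have : IsAffineHom (pullback.diagonal (terminal.from c.pt)) := inferInstance
    exact IsAffineOpen.inf (X := c.pt) (hU.preimage (c.π.app i₀)) (hV.preimage (c.π.app i₀))
  obtain ⟨l, ψ, hl⟩ := exists_isAffineOpen_map_preimage D c hc i₀ (U ⊓ V) hcomp hWlim
  have hU' : IsAffineOpen (D.map ψ ⁻¹ᵁ U) := hU.preimage (D.map ψ)
  have hV' : IsAffineOpen (D.map ψ ⁻¹ᵁ V) := hV.preimage (D.map ψ)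
  have hW' : IsAffineOpen (D.map ψ ⁻¹ᵁ U ⊓ D.map ψ ⁻¹ᵁ V) := by
    rw [← Scheme.Hom.preimage_inf]; exact hl
  have hJ := jg_of_isSeparated (terminal.from c.pt) (hU'.preimage (c.π.app l))
    (hV'.preimage (c.π.app l))
  obtain ⟨l', hl'⟩ := exists_forall_jg D c hc l (D.map ψ ⁻¹ᵁ U) (D.map ψ ⁻¹ᵁ V) hU' hV' hW' hJ
  refine ⟨Over.mk (l'.hom ≫ ψ), fun n g => ?_⟩
  have hw : g.left ≫ l'.hom ≫ ψ = n.hom := Over.w g
  have e : ∀ X : (D.obj i₀).Opens,
      D.map (g.left ≫ l'.hom) ⁻¹ᵁ (D.map ψ ⁻¹ᵁ X) = D.map n.hom ⁻¹ᵁ X := by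
    intro X
    rw [← Scheme.Hom.comp_preimage, ← D.map_comp, Category.assoc, hw]
  have h1 := hl' (Over.mk (g.left ≫ l'.hom)) (Over.homMk g.left)
  refine ⟨?_, ?_⟩
  · rw [← e, Scheme.Hom.preimage_inf]
    exact hW'.preimage (D.map (g.left ≫ l'.hom))
  · exact h1.congr3 (by rw [← Scheme.Hom.preimage_inf]; exact e _) (e U) (e V)

end stage3

section stage4

variable {I : Type u} [SmallCategory I] [IsCofiltered I] (D : I ⥤ Scheme.{u})
  [∀ {i j} (f : i ⟶ j), IsAffineHom (D.map f)] (c : Cone D) (hc : IsLimit c)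

set_option backward.isDefEq.respectTransparency false in
include hc in
/-- if a cofiltered limit of quasi-compact quasi-separated schemes with affine transition maps is
separated, then so are all stages beyond some index -/
theorem exists_forall_isSeparated [∀ i, CompactSpace (D.obj i)]
    [∀ i, QuasiSeparatedSpace (D.obj i)] [c.pt.IsSeparated] :
    ∃ i₁ : I, ∀ (i : I) (_ : i ⟶ i₁), (D.obj i).IsSeparated := by
  classical
  obtain ⟨i₀⟩ := IsCofiltered.nonempty (C := I)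
  have hcov : ∀ y : D.obj i₀, ∃ V : (D.obj i₀).Opens, IsAffineOpen V ∧ y ∈ V := by
    intro y
    obtain ⟨_, ⟨V, hV, rfl⟩, hyV, -⟩ := (D.obj i₀).isBasis_affineOpens.exists_subset_of_mem_open
      (Set.mem_univ y) isOpen_univ
    exact ⟨V, hV, hyV⟩
  choose V hV hyV using hcov
  obtain ⟨t, ht⟩ := CompactSpace.elim_nhds_subcover
    (fun y => ((V y : (D.obj i₀).Opens) : Set (D.obj i₀))) (fun y => (V y).2.mem_nhds (hyV y))
  choose m hm using fun (p : (D.obj i₀) × (D.obj i₀)) =>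
    exists_forall_isAffineOpen_and_jg D c hc i₀ (V p.1) (V p.2) (hV p.1) (hV p.2)
  obtain ⟨m₀, hm₀⟩ := IsCofiltered.inf_objs_exists ((t ×ˢ t).image m)
  refine ⟨m₀.left, fun i χ => ?_⟩
  let n : Over i₀ := Over.mk (χ ≫ m₀.hom)
  let g₀ : n ⟶ m₀ := Over.homMk χ
  let U : ↥t → (D.obj i).Opens := fun a => D.map n.hom ⁻¹ᵁ V a.1
  have hcovU : TopologicalSpace.IsOpenCover U := by
    rw [TopologicalSpace.IsOpenCover, eq_top_iff]
    intro x _
    have hx : (D.map n.hom) x ∈ (⊤ : Set (D.obj i₀)) := trivial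
    rw [← ht] at hx
    obtain ⟨a, hat, hxa⟩ := Set.mem_iUnion₂.1 hx
    exact TopologicalSpace.Opens.mem_iSup.2 ⟨⟨a, hat⟩, hxa⟩
  have key : ∀ a b : ↥t, IsAffineOpen (U a ⊓ U b) ∧
      JG (U a ⊓ U b) (U a) (U b) inf_le_left inf_le_right := by
    intro a b
    obtain ⟨χ'⟩ := hm₀ (Finset.mem_image_of_mem m (Finset.mk_mem_product a.2 b.2))
    exact hm (a.1, b.1) n (g₀ ≫ χ')
  have : IsSeparated (terminal.from (D.obj i)) :=
    isSeparated_of_jg (terminal.from (D.obj i)) U hcovU (fun a => (hV a.1).preimage _)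
      (fun a b => (key a b).1) (fun a b => (key a b).2)
  exact ⟨this⟩

end stage4

end Groth.Agent.Helper4.LimSep3
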