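import Mathlib
import Groth.Agent.Lib.Helper4.LimSep3
import Groth.Agent.Lib.Helper4.LimCI3

/-!
# Separatedness over a fixed quasi-separated base descends to a stage (helper4)
-/

set_option autoImplicit false
universe u
open AlgebraicGeometry CategoryTheory CategoryTheory.Limits

namespace Groth.Agent.Helper4.LimSep4

open Groth.Agent.Helper4.LimSep3 Groth.Agent.Helper4.LimCI3

variable {I : Type u} [SmallCategory I] [IsCofiltered I] (S : Scheme.{u})
  (D : I ⥤ Scheme.{u}) (t : D ⟶ (Functor.const I).obj S) (c : Cone D) (hc : IsLimit c)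

set_option backward.isDefEq.respectTransparency false in
include hc in
theorem exists_forall_isSeparated_preimage [QuasiSeparatedSpace S]
    [∀ {i j : I} (f : i ⟶ j), IsAffineHom (D.map f)]
    [∀ i, CompactSpace (D.obj i)] [∀ i, QuasiSeparatedSpace (D.obj i)] (i₀ : I)
    [IsSeparated (c.π.app i₀ ≫ t.app i₀)] (W : S.Opens) (hW : IsAffineOpen W) :
    ∃ l : Over i₀, ∀ (n : Over i₀) (_ : n ⟶ l),
      ((D.map n.hom ⁻¹ᵁ (t.app i₀ ⁻¹ᵁ W) : (D.obj n.left).Opens) : Scheme.{u}).IsSeparated := by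
  have hqc : QuasiCompact (t.app i₀) := by
    haveI : QuasiSeparatedSpace ↥(((Functor.const I).obj S).obj i₀) := ‹QuasiSeparatedSpace S›
    infer_instance
  let U : (D.obj i₀).Opens := t.app i₀ ⁻¹ᵁ W
  have hU : IsCompact (U : Set (D.obj i₀)) :=
    QuasiCompact.isCompact_preimage _ W.2 hW.isCompact
  have (j : Over i₀) : CompactSpace ((opensDiagram D i₀ U).obj j) :=
    isCompact_iff_compactSpace.mp (QuasiCompact.isCompact_preimage _ U.2 hU)
  have (j : Over i₀) : QuasiSeparatedSpace ((opensDiagram D i₀ U).obj j) :=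
    (isQuasiSeparated_iff_quasiSeparatedSpace _ (D.map _ ⁻¹ᵁ _).2).mp (.of_quasiSeparatedSpace _)
  have hWa : IsAffine (W : Scheme.{u}) := hW
  have h1 : IsSeparated ((c.π.app i₀ ≫ t.app i₀) ∣_ W) := inferInstance
  have h2 : (((c.π.app i₀ ≫ t.app i₀) ⁻¹ᵁ W : c.pt.Opens) : Scheme.{u}).IsSeparated :=
    (HasAffineProperty.iff_of_isAffine (P := @IsSeparated)).mp h1
  have h3 : (opensCone D c i₀ U).pt.IsSeparated := h2
  obtain ⟨i₁, h⟩ := exists_forall_isSeparated (opensDiagram D i₀ U) (opensCone D c i₀ U)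
    (isLimitOpensCone D c hc i₀ U)
  exact ⟨i₁, h⟩

set_option backward.isDefEq.respectTransparency false in
include hc in
theorem exists_forall_isSeparated_app [QuasiSeparatedSpace S]
    [∀ {i j : I} (f : i ⟶ j), IsAffineHom (D.map f)]
    [∀ i, CompactSpace (D.obj i)] [∀ i, QuasiSeparatedSpace (D.obj i)] (i₀ : I)
    [IsSeparated (c.π.app i₀ ≫ t.app i₀)] :
    ∃ i₁ : I, ∀ (i : I) (_ : i ⟶ i₁), IsSeparated (t.app i) := by
  classical
  have hcov : ∀ x : D.obj i₀, ∃ W : S.Opens, IsAffineOpen W ∧ (t.app i₀) x ∈ W := by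
    intro x
    obtain ⟨_, ⟨W, hW, rfl⟩, hyW, -⟩ := S.isBasis_affineOpens.exists_subset_of_mem_open
      (Set.mem_univ ((t.app i₀) x)) isOpen_univ
    exact ⟨W, hW, hyW⟩
  choose W hW hxW using hcov
  obtain ⟨s, hs⟩ := CompactSpace.elim_nhds_subcover
    (fun x => ((t.app i₀ ⁻¹ᵁ W x : (D.obj i₀).Opens) : Set (D.obj i₀)))
    (fun x => (t.app i₀ ⁻¹ᵁ W x).2.mem_nhds (hxW x))
  choose l hl using fun x => exists_forall_isSeparated_preimage S D t c hc i₀ (W x) (hW x)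
  obtain ⟨m, hm⟩ := IsCofiltered.inf_objs_exists (s.image l)
  refine ⟨m.left, fun i χ => ?_⟩
  let n : Over i₀ := Over.mk (χ ≫ m.hom)
  let g₀ : n ⟶ m := Over.homMk χ
  have ht : D.map n.hom ≫ t.app i₀ = t.app i := map_comp_app S D t n.hom
  let Ω : S.Opens := ⨆ x : ↥s, W x.1
  have hrange : Set.range (t.app i) ⊆ Set.range Ω.ι := by
    rintro _ ⟨y, rfl⟩
    have hy : (D.map n.hom) y ∈ (⊤ : Set (D.obj i₀)) := trivial
    rw [← hs] at hy
    obtain ⟨a, has, hya⟩ := Set.mem_iUnion₂.1 hy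
    have h1 : (t.app i) y ∈ W a := by
      rw [← ht]; exact hya
    have h2 : (t.app i) y ∈ Ω := TopologicalSpace.Opens.mem_iSup.2 ⟨⟨a, has⟩, h1⟩
    simpa using h2
  let τ : D.obj i ⟶ Ω := IsOpenImmersion.lift Ω.ι (t.app i) hrange
  have hτ : τ ≫ Ω.ι = t.app i := IsOpenImmersion.lift_fac _ _ _
  have hsep : IsSeparated τ := by
    apply IsZariskiLocalAtTarget.of_forall_exists_morphismRestrict (P := @IsSeparated)
    intro y
    obtain ⟨a, hya⟩ := TopologicalSpace.Opens.mem_iSup.1 y.2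
    refine ⟨Ω.ι ⁻¹ᵁ W a.1, hya, ?_⟩
    have hle : W a.1 ≤ Ω := le_iSup (fun x : ↥s => W x.1) a
    have haff : IsAffine ((Ω.ι ⁻¹ᵁ W a.1 : Ω.toScheme.Opens) : Scheme.{u}) :=
      (hW a.1).preimage_of_isOpenImmersion Ω.ι (by simpa using hle)
    obtain ⟨χ'⟩ := hm (Finset.mem_image_of_mem l a.2)
    have h1 := hl a.1 n (g₀ ≫ χ')
    have e : D.map n.hom ⁻¹ᵁ (t.app i₀ ⁻¹ᵁ W a.1) = τ ⁻¹ᵁ (Ω.ι ⁻¹ᵁ W a.1) := by
      rw [← Scheme.Hom.comp_preimage, ← Scheme.Hom.comp_preimage, ht, hτ]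
    rw [e] at h1
    exact (HasAffineProperty.iff_of_isAffine (P := @IsSeparated)).mpr h1
  have : IsSeparated (τ ≫ Ω.ι) := inferInstance
  rwa [hτ] at this

end Groth.Agent.Helper4.LimSep4
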