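import Mathlib
import Groth.Agent.Lib.Helper4.LimSm2

/-!
# Smooth / étale / unramified morphisms descend to a stage of a cofiltered limit, III:
the pointwise statement (helper4)
-/

set_option autoImplicit false
universe u
open AlgebraicGeometry CategoryTheory CategoryTheory.Limits

namespace Groth.Agent.Helper4.LimSm

open Groth.Agent.Helper4.LimSmRing Groth.Agent.Helper7.LimBC Groth.Agent.Helper7.LimSep

variable {P : MorphismProperty Scheme.{u}}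
  {Q : ∀ {R S : Type u} [CommRing R] [CommRing S], (R →+* S) → Prop}

variable {I : Type u} [SmallCategory I] [IsCofiltered I] (D : I ⥤ Scheme.{u})
  [∀ {i j} (f : i ⟶ j), IsAffineHom (D.map f)] (c : Cone D) (hc : IsLimit c)

omit [IsCofiltered I] [∀ {i j} (f : i ⟶ j), IsAffineHom (D.map f)] in
/-- from a stage to the limit, pointwise -/
theorem nhd_of_stage (hP : Nice P) (i₀ : I) {X₀ Y₀ : Scheme.{u}} (f₀ : X₀ ⟶ Y₀)
    (g₀ : Y₀ ⟶ D.obj i₀)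
    {X Y : Scheme.{u}} (f : X ⟶ Y) (g : Y ⟶ c.pt) (qY : Y ⟶ Y₀) (qX : X ⟶ X₀)
    (hY : IsPullback qY g g₀ (c.π.app i₀)) (hX : IsPullback qX f f₀ qY) (x : ↥X)
    {j : I} (φ : j ⟶ i₀) {Xj Yj : Scheme.{u}} (fj : Xj ⟶ Yj) (gj : Yj ⟶ D.obj j) (pY : Yj ⟶ Y₀)
    (pX : Xj ⟶ X₀) (rX : X ⟶ Xj) (hYj : IsPullback pY gj g₀ (D.map φ))
    (hXj : IsPullback pX fj f₀ pY) (e1 : rX ≫ pX = qX) (e2 : rX ≫ fj ≫ gj = f ≫ g ≫ c.π.app j)
    (V : Xj.Opens) (hxV : rX.base x ∈ V) (hV : P (V.ι ≫ fj)) :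
    ∃ U : X.Opens, x ∈ U ∧ P (U.ι ≫ f) := by
  have := hP.bc
  let uY : Y ⟶ Yj := hYj.lift qY (g ≫ c.π.app j) (by rw [Category.assoc, Cone.w, hY.w])
  have huY : uY ≫ pY = qY := hYj.lift_fst _ _ _
  have huY2 : uY ≫ gj = g ≫ c.π.app j := hYj.lift_snd _ _ _
  have e3 : rX ≫ fj = f ≫ uY := by
    apply hYj.hom_ext
    · rw [Category.assoc, Category.assoc, huY, ← hXj.w, reassoc_of% e1, hX.w]
    · rw [Category.assoc, Category.assoc, huY2, e2]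
  have hsq : IsPullback rX f fj uY := by
    refine IsPullback.of_right ?_ e3 hXj
    rw [e1, huY]
    exact hX
  exact ⟨rX ⁻¹ᵁ V, hxV, MorphismProperty.of_isPullback (isPullback_restrict hsq V) hV⟩

set_option backward.isDefEq.respectTransparency false in
set_option maxHeartbeats 1000000 in
include hc in
/-- from the limit to a stage, pointwise -/
theorem stage_of_nhd [HasRingHomProperty P Q] (hP : Nice P) (hD : TensorDescends @Q)
    (i₀ : I) {X₀ Y₀ : Scheme.{u}} (f₀ : X₀ ⟶ Y₀) (g₀ : Y₀ ⟶ D.obj i₀)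
    [LocallyOfFinitePresentation f₀]
    {X Y : Scheme.{u}} (f : X ⟶ Y) (g : Y ⟶ c.pt) (qY : Y ⟶ Y₀) (qX : X ⟶ X₀)
    (hY : IsPullback qY g g₀ (c.π.app i₀)) (hX : IsPullback qX f f₀ qY) (x : ↥X)
    (U : X.Opens) (hxU : x ∈ U) (hU : P (U.ι ≫ f)) :
    ∃ (j : I) (φ : j ⟶ i₀) (Xj Yj : Scheme.{u}) (fj : Xj ⟶ Yj) (gj : Yj ⟶ D.obj j)
      (pY : Yj ⟶ Y₀) (pX : Xj ⟶ X₀) (rX : X ⟶ Xj), IsPullback pY gj g₀ (D.map φ) ∧
        IsPullback pX fj f₀ pY ∧ rX ≫ pX = qX ∧ rX ≫ fj ≫ gj = f ≫ g ≫ c.π.app j ∧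
          ∃ V : Xj.Opens, rX.base x ∈ V ∧ P (V.ι ≫ fj) := by
  have := hP.respectsIso
  let E := pbDiagram D i₀ g₀
  let cE := pbCone D c i₀ g₀
  have hcE : IsLimit cE := isLimitPbCone D c hc i₀ g₀
  let k₀ : Over i₀ := Over.mk (𝟙 i₀)
  have hiso : IsIso (D.map k₀.hom) := inferInstanceAs (IsIso (D.map (𝟙 i₀)))
  let p₀ : E.obj k₀ ⟶ Y₀ := pullback.snd (D.map k₀.hom) g₀
  have hp₀ : IsIso p₀ := inferInstance
  let ι₀ : X₀ ⟶ E.obj k₀ := f₀ ≫ inv p₀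
  have hB : IsPullback (𝟙 X₀) ι₀ f₀ p₀ := IsPullback.of_horiz_isIso ⟨by simp [ι₀]⟩
  have hι₀ : LocallyOfFinitePresentation ι₀ := inferInstance
  let eY : Y ≅ pullback (c.π.app i₀) g₀ := hY.flip.isoPullback
  have heY1 : eY.hom ≫ pullback.fst (c.π.app i₀) g₀ = g := hY.flip.isoPullback_hom_fst
  have heY2 : eY.hom ≫ pullback.snd (c.π.app i₀) g₀ = qY := hY.flip.isoPullback_hom_snd
  have e1 : cE.π.app k₀ ≫ p₀ = pullback.snd (c.π.app i₀) g₀ := by simp [cE, p₀]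
  have hX' : IsPullback (f ≫ eY.hom) qX (cE.π.app k₀) ι₀ := by
    refine IsPullback.of_iso hX.flip (Iso.refl _) eY (Iso.refl _) (asIso p₀).symm ?_ ?_ ?_ ?_
    · simp
    · simp
    · simp only [Iso.symm_hom, asIso_inv, IsIso.comp_inv_eq, Category.assoc]
      rw [e1, heY2]
    · simp [ι₀]
  let θ : X ≅ pullback (cE.π.app k₀) ι₀ := hX'.isoPullback
  have hθ1 : θ.hom ≫ pullback.fst (cE.π.app k₀) ι₀ = f ≫ eY.hom := hX'.isoPullback_hom_fst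
  have hθ2 : θ.hom ≫ pullback.snd (cE.π.app k₀) ι₀ = qX := hX'.isoPullback_hom_snd
  let U' : (pullback (cE.π.app k₀) ι₀).Opens := θ.inv ⁻¹ᵁ U
  have hxU' : θ.hom x ∈ U' := by
    change θ.inv (θ.hom x) ∈ U
    rw [← Scheme.Hom.comp_apply, θ.hom_inv_id]
    exact hxU
  have hU' : P (U'.ι ≫ pullback.fst (cE.π.app k₀) ι₀) := by
    have e0 : pullback.fst (cE.π.app k₀) ι₀ = θ.inv ≫ f ≫ eY.hom := by
      rw [← hθ1, Iso.inv_hom_id_assoc]
    have e : U'.ι ≫ pullback.fst (cE.π.app k₀) ι₀ = (θ.inv ∣_ U) ≫ (U.ι ≫ f) ≫ eY.hom := by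
      rw [e0, ← Category.assoc U'.ι, ← morphismRestrict_ι]
      simp
    rw [e, P.cancel_left_of_respectsIso, P.cancel_right_of_respectsIso]
    exact hU
  obtain ⟨j, V, hxV, hV⟩ := exists_nhd_stage E cE hcE k₀ ι₀ hP hD (θ.hom x) U' hxU' hU'
  let fj := pullback.fst (E.map j.hom) ι₀
  let pX := pullback.snd (E.map j.hom) ι₀
  let gj := pullback.fst (D.map j.left.hom) g₀
  let pY := pullback.snd (D.map j.left.hom) g₀
  have e2 : E.map j.hom ≫ p₀ = pY := by simp [E, p₀, pY]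
  have hXj : IsPullback pX fj f₀ pY := by
    have := (IsPullback.of_hasPullback (E.map j.hom) ι₀).flip.paste_horiz hB
    rw [Category.comp_id, e2] at this
    exact this
  let rX : X ⟶ pullback (E.map j.hom) ι₀ := θ.hom ≫ (pbCone E cE k₀ ι₀).π.app j
  refine ⟨j.left.left, j.left.hom, _, _, fj, gj, pY, pX, rX,
    (IsPullback.of_hasPullback _ _).flip, hXj, ?_, ?_, V, hxV, hV⟩
  · simp [rX, pX, hθ2]
  · have e3 : (pbCone E cE k₀ ι₀).π.app j ≫ fj = pullback.fst (cE.π.app k₀) ι₀ ≫ cE.π.app j.left := by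
      simp [fj]
    have e4 : cE.π.app j.left ≫ gj = pullback.fst (c.π.app i₀) g₀ ≫ c.π.app j.left.left := by
      simp [cE, gj]
    simp only [rX, Category.assoc]
    rw [reassoc_of% e3, e4, reassoc_of% hθ1, reassoc_of% heY1]

include hc in
/-- `P` holds near a point of the limit iff it holds near its image at some stage -/
theorem nhd_iff_stage [HasRingHomProperty P Q] (hP : Nice P) (hD : TensorDescends @Q)
    (i₀ : I) {X₀ Y₀ : Scheme.{u}} (f₀ : X₀ ⟶ Y₀) (g₀ : Y₀ ⟶ D.obj i₀)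
    [LocallyOfFinitePresentation g₀] [LocallyOfFinitePresentation (f₀ ≫ g₀)]
    {X Y : Scheme.{u}} (f : X ⟶ Y) (g : Y ⟶ c.pt) (qY : Y ⟶ Y₀) (qX : X ⟶ X₀)
    (hY : IsPullback qY g g₀ (c.π.app i₀)) (hX : IsPullback qX f f₀ qY) (x : ↥X) :
    (∃ U : X.Opens, x ∈ U ∧ P (U.ι ≫ f)) ↔
      ∃ (j : I) (φ : j ⟶ i₀) (Xj Yj : Scheme.{u}) (fj : Xj ⟶ Yj) (gj : Yj ⟶ D.obj j)
        (pY : Yj ⟶ Y₀) (pX : Xj ⟶ X₀) (rX : X ⟶ Xj), IsPullback pY gj g₀ (D.map φ) ∧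
          IsPullback pX fj f₀ pY ∧ rX ≫ pX = qX ∧ rX ≫ fj ≫ gj = f ≫ g ≫ c.π.app j ∧
            ∃ V : Xj.Opens, rX.base x ∈ V ∧ P (V.ι ≫ fj) := by
  have hf₀ : LocallyOfFinitePresentation f₀ :=
    Groth.Agent.Helper7.LfpComp.locallyOfFinitePresentation_of_comp f₀ g₀ inferInstance
      inferInstance
  constructor
  · rintro ⟨U, hxU, hU⟩
    exact stage_of_nhd D c hc hP hD i₀ f₀ g₀ f g qY qX hY hX x U hxU hU
  · rintro ⟨j, φ, Xj, Yj, fj, gj, pY, pX, rX, hYj, hXj, e1, e2, V, hxV, hV⟩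
    exact nhd_of_stage D c hP i₀ f₀ g₀ f g qY qX hY hX x φ fj gj pY pX rX hYj hXj e1 e2 V hxV hV

end Groth.Agent.Helper4.LimSm
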