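import Mathlib
import Groth.Agent.Lib.Helper4.LimSep2
import Groth.Agent.Lib.Helper4.DiagLFP
import Groth.Agent.Lib.Helper7.LimOImm

/-!
# Unramified morphisms descend to a stage of a cofiltered limit (helper4)
-/

set_option autoImplicit false
universe u
open AlgebraicGeometry CategoryTheory CategoryTheory.Limits

namespace Groth.Agent.Helper4.LimUnr

open Groth.Agent.Helper7.LimBC Groth.Agent.Helper4.LimStage Groth.Agent.Helper4.LimAff
  Groth.Agent.Helper4.LimOImm Groth.Agent.Helper7.LimSep Groth.Agent.Helper4.LimCI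
  Groth.Agent.Helper4.DiagLFP

variable {I : Type u} [SmallCategory I] [IsCofiltered I] (D : I ⥤ Scheme.{u})
  [∀ {i j} (f : i ⟶ j), IsAffineHom (D.map f)] (c : Cone D) (hc : IsLimit c)

set_option backward.isDefEq.respectTransparency false in
include hc in
/-- an immersion locally of finite presentation between quasi-compact quasi-separated schemes over
a stage whose base change to the limit is an open immersion has this property at a stage -/
theorem exists_isOpenImmersion_snd_snd (i₀ : I) {X₀ Z₀ : Scheme.{u}} (Δ₀ : X₀ ⟶ Z₀)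
    (h₀ : Z₀ ⟶ D.obj i₀) [CompactSpace Z₀] [IsImmersion Δ₀] [LocallyOfFinitePresentation Δ₀]
    [QuasiCompact Δ₀]
    (h : IsOpenImmersion (pullback.snd Δ₀ (pullback.snd (c.π.app i₀) h₀))) :
    ∃ (k : I) (φ : k ⟶ i₀), IsOpenImmersion (pullback.snd Δ₀ (pullback.snd (D.map φ) h₀)) := by
  let E := pbDiagram D i₀ h₀
  let cE := pbCone D c i₀ h₀
  have hcE : IsLimit cE := isLimitPbCone D c hc i₀ h₀
  let k₀ : Over i₀ := Over.mk (𝟙 i₀)
  have hiso : IsIso (D.map k₀.hom) := inferInstanceAs (IsIso (D.map (𝟙 i₀)))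
  let p₀ : E.obj k₀ ⟶ Z₀ := pullback.snd (D.map k₀.hom) h₀
  have hp₀ : IsIso p₀ := inferInstance
  let ι₀ : X₀ ⟶ E.obj k₀ := Δ₀ ≫ inv p₀
  have hB : IsPullback (𝟙 X₀) ι₀ Δ₀ p₀ := IsPullback.of_horiz_isIso ⟨by simp [ι₀]⟩
  have hEc : CompactSpace (E.obj k₀) := inferInstance
  have key : ∀ {T : Scheme.{u}} (u : T ⟶ E.obj k₀),
      IsOpenImmersion (pullback.snd ι₀ u) ↔ IsOpenImmersion (pullback.snd Δ₀ (u ≫ p₀)) := by
    intro T u
    exact snd_iff_of_isPullback @IsOpenImmersion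
      ((IsPullback.of_hasPullback ι₀ u).paste_horiz hB)
  have e1 : cE.π.app k₀ ≫ p₀ = pullback.snd (c.π.app i₀) h₀ := by simp [cE, p₀]
  have h' : IsOpenImmersion (pullback.snd ι₀ (cE.π.app k₀)) := by
    rw [key, e1]; exact h
  obtain ⟨j, φ, hj⟩ := exists_isOpenImmersion_snd E cE hcE k₀ ι₀ h'
  refine ⟨j.left, j.hom, ?_⟩
  have e2 : E.map φ ≫ p₀ = pullback.snd (D.map j.hom) h₀ := by simp [E, p₀]
  rw [key, e2] at hj
  exact hj

set_option backward.isDefEq.respectTransparency false in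
include hc in
theorem exists_formallyUnramified_stage (i₀ : I) [CompactSpace (D.obj i₀)]
    [QuasiSeparatedSpace (D.obj i₀)] {X₀ Y₀ : Scheme.{u}} (f₀ : X₀ ⟶ Y₀)
    (g₀ : Y₀ ⟶ D.obj i₀) [CompactSpace X₀] [QuasiSeparatedSpace X₀] [CompactSpace Y₀]
    [QuasiSeparatedSpace Y₀] [LocallyOfFiniteType f₀]
    {X Y : Scheme.{u}} (f : X ⟶ Y) (g : Y ⟶ c.pt) (qY : Y ⟶ Y₀) (qX : X ⟶ X₀)
    (hY : IsPullback qY g g₀ (c.π.app i₀)) (hX : IsPullback qX f f₀ qY) [FormallyUnramified f] :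
    ∃ (j : I) (φ : j ⟶ i₀),
      FormallyUnramified (pullback.snd f₀ (pullback.fst g₀ (D.map φ))) := by
  let Z₀ := pullback f₀ f₀
  let Δ₀ : X₀ ⟶ Z₀ := pullback.diagonal f₀
  let h₀ : Z₀ ⟶ D.obj i₀ := pullback.fst f₀ f₀ ≫ f₀ ≫ g₀
  have hqc0 : QuasiCompact f₀ := inferInstance
  have hqs0 : QuasiSeparated f₀ := inferInstance
  have hqc : QuasiCompact (pullback.fst f₀ f₀) :=
    MorphismProperty.pullback_fst (P := @QuasiCompact) _ _ inferInstance
  have hqs : QuasiSeparated (pullback.fst f₀ f₀) :=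
    MorphismProperty.pullback_fst (P := @QuasiSeparated) _ _ inferInstance
  have : CompactSpace ↥Z₀ := QuasiCompact.compactSpace_of_compactSpace (pullback.fst f₀ f₀)
  have : QuasiSeparatedSpace ↥Z₀ := quasiSeparatedSpace_of_quasiSeparated (pullback.fst f₀ f₀)
  have hΔ3 : IsImmersion Δ₀ := inferInstance
  have hΔ1 : LocallyOfFinitePresentation Δ₀ := locallyOfFinitePresentation_diagonal f₀
  have hΔ2 : QuasiCompact Δ₀ := inferInstance
  have hft : LocallyOfFiniteType f :=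
    MorphismProperty.of_isPullback (P := @LocallyOfFiniteType) hX inferInstance
  -- the diagonal of `f`
  let ρ := pullback.map f f f₀ f₀ qX qX qY hX.w.symm hX.w.symm
  have hsq : IsPullback qX (pullback.diagonal f) Δ₀ ρ := isPullback_diagonal hX
  have hcl : IsOpenImmersion (pullback.snd Δ₀ ρ) :=
    (snd_iff_of_isPullback @IsOpenImmersion hsq).1 inferInstance
  let y : pullback (c.π.app i₀) h₀ ⟶ Y :=
    hY.lift (pullback.snd _ _ ≫ pullback.fst f₀ f₀ ≫ f₀) (pullback.fst _ _)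
      (by rw [Category.assoc, Category.assoc]; exact pullback.condition.symm)
  let v₁ : pullback (c.π.app i₀) h₀ ⟶ X :=
    hX.lift (pullback.snd _ _ ≫ pullback.fst f₀ f₀) y (by simp [y])
  let v₂ : pullback (c.π.app i₀) h₀ ⟶ X :=
    hX.lift (pullback.snd _ _ ≫ pullback.snd f₀ f₀) y (by simp [y, pullback.condition])
  let ε : pullback (c.π.app i₀) h₀ ⟶ pullback f f := pullback.lift v₁ v₂ (by simp [v₁, v₂])
  have hε : pullback.snd (c.π.app i₀) h₀ = ε ≫ ρ := by
    apply pullback.hom_ext <;> simp [ε, ρ, v₁, v₂]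
  have hcl' : IsOpenImmersion (pullback.snd Δ₀ (pullback.snd (c.π.app i₀) h₀)) :=
    snd_comp @IsOpenImmersion Δ₀ ρ ε _ hcl hε
  obtain ⟨k, φk, hk'⟩ := exists_isOpenImmersion_snd_snd D c hc i₀ Δ₀ h₀ hcl'
  refine ⟨k, φk, ?_⟩
  let pY := pullback.fst g₀ (D.map φk)
  let fk := pullback.snd f₀ pY
  have hXk : IsPullback (pullback.fst f₀ pY) fk f₀ pY := IsPullback.of_hasPullback _ _
  let ρk := pullback.map fk fk f₀ f₀ _ _ pY hXk.w.symm hXk.w.symm
  have hsqk : IsPullback _ (pullback.diagonal fk) Δ₀ ρk := isPullback_diagonal hXk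
  change FormallyUnramified fk
  let εk : pullback fk fk ⟶ pullback (D.map φk) h₀ :=
    pullback.lift (pullback.fst fk fk ≫ fk ≫ pullback.snd g₀ (D.map φk)) ρk (by
      have e1 : ρk ≫ pullback.fst f₀ f₀ = pullback.fst fk fk ≫ pullback.fst f₀ pY :=
        pullback.lift_fst _ _ _
      have e2 : pullback.fst f₀ pY ≫ f₀ = fk ≫ pY := pullback.condition
      have e3 : pY ≫ g₀ = pullback.snd g₀ (D.map φk) ≫ D.map φk := pullback.condition
      simp only [Category.assoc, h₀]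
      rw [reassoc_of% e1, reassoc_of% e2, e3])
  have hoi : IsOpenImmersion (pullback.diagonal fk) := by
    rw [snd_iff_of_isPullback @IsOpenImmersion hsqk]
    exact snd_comp @IsOpenImmersion Δ₀ _ εk _ hk' (by simp [εk])
  infer_instance

end Groth.Agent.Helper4.LimUnr
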