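import Mathlib

/-!
# Quasi-finite slices through a point of a fibre (towards S2760)
-/

universe u

open CategoryTheory CategoryTheory.Limits AlgebraicGeometry TopologicalSpace Topology TensorProduct

namespace Groth.Agent.Helper4.LqfCover

/-- Ring-level: for a finite-type algebra `R → S` and a prime `p` of `R` with non-empty fibre,
there are a finitely generated ideal `I` of `S` and a prime `Q ⊇ I` over `p` which is the only
prime containing `I` over `p`. -/
theorem exists_fg_ideal_isolating {R S : Type*} [CommRing R] [CommRing S] [Algebra R S]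
    [Algebra.FiniteType R S] (p : Ideal R) [p.IsPrime] (P : Ideal S) [P.IsPrime] [P.LiesOver p] :
    ∃ (I : Ideal S) (Q : Ideal S), I.FG ∧ Q.IsPrime ∧ I ≤ Q ∧ Q.under R = p ∧
      ∀ Q' : Ideal S, Q'.IsPrime → I ≤ Q' → Q'.under R = p → Q' = Q := by
  classical
  let q0 := PrimeSpectrum.primesOverOrderIsoFiber R S p ⟨P, ‹_›, ‹_›⟩
  have hnt : Nontrivial (p.Fiber S) := q0.nontrivial
  have : IsNoetherianRing (p.Fiber S) :=
    Algebra.FiniteType.isNoetherianRing p.ResidueField (p.Fiber S)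
  obtain ⟨𝔫, h𝔫⟩ := Ideal.exists_maximal (p.Fiber S)
  obtain ⟨gens, hgens⟩ := (IsNoetherian.noetherian 𝔫 : 𝔫.FG)
  choose r hr s hs using fun n : p.Fiber S => Ideal.Fiber.exists_smul_eq_one_tmul p n
  have hunit : ∀ (𝔪 : Ideal (p.Fiber S)) [𝔪.IsPrime] (a : R), a ∉ p →
      algebraMap R (p.Fiber S) a ∉ 𝔪 := by
    intro 𝔪 _ a ha h
    apply ha
    have : 𝔪.under R = p := (Ideal.over_def 𝔪 p).symm
    rw [← this]
    exact h
  let Q : Ideal S := 𝔫.comap (Algebra.TensorProduct.includeRight : S →ₐ[R] p.Fiber S)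
  have hQ : ((PrimeSpectrum.primesOverOrderIsoFiber R S p).symm ⟨𝔫, h𝔫.isPrime⟩ : Ideal S) = Q :=
    rfl
  refine ⟨Ideal.span (gens.image s : Set S), Q, ⟨gens.image s, rfl⟩, ?_, ?_, ?_, ?_⟩
  · have := h𝔫.isPrime
    exact Ideal.comap_isPrime _ _
  · rw [Ideal.span_le]
    intro a ha
    simp only [Finset.coe_image, Set.mem_image, Finset.mem_coe] at ha
    obtain ⟨n, hn, rfl⟩ := ha
    show (1 : p.ResidueField) ⊗ₜ[R] s n ∈ 𝔫
    rw [← hs n, Algebra.smul_def]
    exact Ideal.mul_mem_left _ _ (hgens ▸ Ideal.subset_span hn)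
  · have := ((PrimeSpectrum.primesOverOrderIsoFiber R S p).symm ⟨𝔫, h𝔫.isPrime⟩).2.2
    rw [← hQ]
    exact (this.over).symm
  · intro Q' hQ' hIQ' hQ'p
    have hlo : Q'.LiesOver p := ⟨hQ'p.symm⟩
    let 𝔫' := PrimeSpectrum.primesOverOrderIsoFiber R S p ⟨Q', hQ', hlo⟩
    have h𝔫' : (𝔫'.asIdeal.comap (Algebra.TensorProduct.includeRight : S →ₐ[R] p.Fiber S)) = Q' :=
      congrArg Subtype.val ((PrimeSpectrum.primesOverOrderIsoFiber R S p).symm_apply_apply
        ⟨Q', hQ', hlo⟩)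
    have hle : 𝔫 ≤ 𝔫'.asIdeal := by
      rw [← hgens, Ideal.span_le]
      intro n hn
      have h1 : s n ∈ Q' := hIQ' (Ideal.subset_span (Finset.mem_coe.mpr (Finset.mem_image_of_mem s hn)))
      rw [← h𝔫'] at h1
      have h2 : (1 : p.ResidueField) ⊗ₜ[R] s n ∈ 𝔫'.asIdeal := h1
      rw [← hs n, Algebra.smul_def] at h2
      rcases 𝔫'.2.mem_or_mem h2 with h3 | h3
      · exact absurd h3 (hunit 𝔫'.asIdeal _ (hr n))
      · exact h3
    have heq : 𝔫 = 𝔫'.asIdeal := h𝔫.eq_of_le 𝔫'.2.ne_top hle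
    rw [← h𝔫', ← heq]


/-- In a compact quasi-separated space, constructible sets are clopen for the constructible
topology. -/
theorem isOpen_constructibleTopology_of_isConstructible {X : Type*} [TopologicalSpace X]
    [CompactSpace X] {s : Set X} (hs : IsConstructible s) :
    IsOpen[constructibleTopology X] s ∧ IsOpen[constructibleTopology X] sᶜ := by
  induction hs using IsConstructible.empty_union_induction with
  | open_retrocompact U hUo hUc =>
    refine ⟨hUc.isCompact.isOpen_constructibleTopology_of_isOpen hUo, ?_⟩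
    exact IsCompact.isOpen_constructibleTopology_of_isClosed (by simpa using hUc.isCompact)
      hUo.isClosed_compl
  | union s hs t ht ihs iht =>
    refine ⟨@IsOpen.union _ _ _ (constructibleTopology X) ihs.1 iht.1, ?_⟩
    rw [Set.compl_union]
    exact @IsOpen.inter _ (constructibleTopology X) _ _ ihs.2 iht.2
  | compl s hs ih => exact ⟨ih.2, by simpa using ih.1⟩

/-- A cover of a spectral space by constructible sets has a finite subcover. -/
theorem exists_finite_subcover_of_isConstructible {X : Type*} [TopologicalSpace X]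
    [CompactSpace X] [QuasiSober X] [PrespectralSpace X] [QuasiSeparatedSpace X]
    {ι : Type*} (C : ι → Set X) (hC : ∀ i, IsConstructible (C i)) (hcov : ∀ x, ∃ i, x ∈ C i) :
    ∃ t : Finset ι, ∀ x, ∃ i ∈ t, x ∈ C i := by
  have hcpt : CompactSpace (WithConstructibleTopology X) := inferInstance
  obtain ⟨t, ht⟩ := isCompact_univ.elim_finite_subcover
    (fun i => (WithTopology.ofTopology (t := constructibleTopology X)) ⁻¹' (C i))
    (fun i => by
      rw [WithConstructibleTopology.isOpen_iff]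
      exact (isOpen_constructibleTopology_of_isConstructible (hC i)).1)
    (fun x _ => by
      obtain ⟨i, hi⟩ := hcov (WithTopology.ofTopology x)
      exact Set.mem_iUnion.mpr ⟨i, hi⟩)
  refine ⟨t, fun x => ?_⟩
  have := ht (Set.mem_univ (WithTopology.toTopology _ x))
  simp only [Set.mem_iUnion, Set.mem_preimage] at this
  obtain ⟨i, hi, hx⟩ := this
  exact ⟨i, hi, hx⟩


/-- Through every point of the image of a morphism locally of finite presentation there is an
affine quasi-finite slice, mapping into a prescribed open neighbourhood. -/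
theorem exists_affine_lqf_through {X S : Scheme.{u}} (f : X ⟶ S) [LocallyOfFinitePresentation f]
    (x₀ : X) (U : S.Opens) (hU : f x₀ ∈ U) :
    ∃ (T : Scheme.{u}) (h : T ⟶ X), IsAffine T ∧ LocallyOfFinitePresentation (h ≫ f) ∧
      LocallyQuasiFinite (h ≫ f) ∧ f x₀ ∈ Set.range (h ≫ f) ∧ Set.range (h ≫ f) ⊆ U := by
  obtain ⟨U', hU', hsU', hU'U⟩ : ∃ U' : S.Opens, IsAffineOpen U' ∧ f x₀ ∈ U' ∧ U' ≤ U := by
    obtain ⟨_, ⟨W, hW, rfl⟩, h1, h2⟩ :=
      S.isBasis_affineOpens.exists_subset_of_mem_open hU U.2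
    exact ⟨W, hW, h1, h2⟩
  obtain ⟨V, hV, hxV, hVU⟩ : ∃ V : X.Opens, IsAffineOpen V ∧ x₀ ∈ V ∧ V ≤ f ⁻¹ᵁ U' := by
    obtain ⟨_, ⟨W, hW, rfl⟩, h1, h2⟩ :=
      X.isBasis_affineOpens.exists_subset_of_mem_open (show x₀ ∈ f ⁻¹ᵁ U' from hsU') (f ⁻¹ᵁ U').2
    exact ⟨W, hW, h1, h2⟩
  let φ := f.appLE U' V hVU
  have hφ : φ.hom.FinitePresentation :=
    HasRingHomProperty.appLE (P := @LocallyOfFinitePresentation) f inferInstance ⟨U', hU'⟩ ⟨V, hV⟩ hVU
  obtain ⟨P, hP⟩ : ∃ P : Spec Γ(X, V), hV.fromSpec P = x₀ := by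
    have : x₀ ∈ Set.range hV.fromSpec := by rw [hV.range_fromSpec]; exact hxV
    exact this
  let p : Spec Γ(S, U') := Spec.map φ P
  have hp : hU'.fromSpec p = f x₀ := by
    rw [← hP, ← Scheme.Hom.comp_apply, ← Scheme.Hom.comp_apply,
      IsAffineOpen.SpecMap_appLE_fromSpec]
  algebraize [φ.hom]
  have : Algebra.FiniteType Γ(S, U') Γ(X, V) := Algebra.FiniteType.of_finitePresentation
  have : P.asIdeal.LiesOver p.asIdeal := ⟨rfl⟩
  obtain ⟨I, Q, hI, hQprime, hIQ, hQp, huniq⟩ :=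
    exists_fg_ideal_isolating p.asIdeal P.asIdeal
  let mkI : Γ(X, V) ⟶ CommRingCat.of (Γ(X, V) ⧸ I) := CommRingCat.ofHom (Ideal.Quotient.mk I)
  let ψ : Γ(S, U') ⟶ CommRingCat.of (Γ(X, V) ⧸ I) := φ ≫ mkI
  have hmkI : mkI.hom.FinitePresentation :=
    RingHom.FinitePresentation.of_surjective _ Ideal.Quotient.mk_surjective
      (by rw [show mkI.hom = Ideal.Quotient.mk I from rfl, Ideal.mk_ker]; exact hI)
  have hψ : ψ.hom.FinitePresentation := hmkI.comp hφ
  let h₀ : Spec (CommRingCat.of (Γ(X, V) ⧸ I)) ⟶ X := Spec.map mkI ≫ hV.fromSpec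
  have hg₀ : h₀ ≫ f = Spec.map ψ ≫ hU'.fromSpec := by
    simp only [h₀, ψ, Category.assoc, Spec.map_comp]
    rw [IsAffineOpen.SpecMap_appLE_fromSpec]
  have : LocallyOfFinitePresentation (Spec.map ψ) :=
    (HasRingHomProperty.Spec_iff (P := @LocallyOfFinitePresentation)).mpr hψ
  have hlfp : LocallyOfFinitePresentation (h₀ ≫ f) := by rw [hg₀]; infer_instance
  -- the isolated point
  obtain ⟨Q₀, hQ₀⟩ : ∃ Q₀ : PrimeSpectrum (Γ(X, V) ⧸ I),
      PrimeSpectrum.comap (Ideal.Quotient.mk I) Q₀ = ⟨Q, hQprime⟩ := by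
    have : (⟨Q, hQprime⟩ : PrimeSpectrum Γ(X, V)) ∈
        Set.range (PrimeSpectrum.comap (Ideal.Quotient.mk I)) := by
      rw [range_comap_of_surjective _ _ Ideal.Quotient.mk_surjective, Ideal.mk_ker]
      exact hIQ
    exact this
  have hQ₀p : Spec.map ψ Q₀ = p := by
    apply PrimeSpectrum.ext
    show (Q₀.asIdeal.comap (Ideal.Quotient.mk I)).comap φ.hom = p.asIdeal
    have : Q₀.asIdeal.comap (Ideal.Quotient.mk I) = Q := congrArg PrimeSpectrum.asIdeal hQ₀
    rw [this]
    exact hQp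
  have hfib : ∀ t : Spec (CommRingCat.of (Γ(X, V) ⧸ I)), Spec.map ψ t = p → t = Q₀ := by
    intro t ht
    apply PrimeSpectrum.comap_injective_of_surjective _ Ideal.Quotient.mk_surjective
    rw [hQ₀]
    apply PrimeSpectrum.ext
    show t.asIdeal.comap (Ideal.Quotient.mk I) = Q
    refine huniq _ (Ideal.comap_isPrime _ _) ?_ ?_
    · intro a ha
      show Ideal.Quotient.mk I a ∈ t.asIdeal
      rw [Ideal.Quotient.eq_zero_iff_mem.mpr ha]
      exact zero_mem _
    · exact congrArg PrimeSpectrum.asIdeal ht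
  have hqf : (Spec.map ψ).QuasiFiniteAt Q₀ := by
    rw [Scheme.Hom.quasiFiniteAt_iff_isOpen_singleton_asFiber]
    have hsub : Subsingleton ((Spec.map ψ) ⁻¹' {Spec.map ψ Q₀}) :=
      ⟨fun a b => Subtype.ext ((hfib a.1 (a.2.trans hQ₀p)).trans (hfib b.1 (b.2.trans hQ₀p)).symm)⟩
    have : Subsingleton ((Spec.map ψ).fiber (Spec.map ψ Q₀)) :=
      ((Spec.map ψ).fiberHomeo _).injective.subsingleton
    exact isOpen_discrete _
  have hqf' : (h₀ ≫ f).QuasiFiniteAt Q₀ := by
    rw [hg₀, Scheme.Hom.quasiFiniteAt_comp_iff]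
    exact hqf
  let W := (h₀ ≫ f).quasiFiniteLocus
  have hQ₀W : Q₀ ∈ W := hqf'
  obtain ⟨T', hT', hQ₀T', hT'W⟩ : ∃ T' : (Spec (CommRingCat.of (Γ(X, V) ⧸ I))).Opens,
      IsAffineOpen T' ∧ Q₀ ∈ T' ∧ T' ≤ W := by
    obtain ⟨_, ⟨W', hW', rfl⟩, h1, h2⟩ :=
      (Spec (CommRingCat.of (Γ(X, V) ⧸ I))).isBasis_affineOpens.exists_subset_of_mem_open hQ₀W W.2
    exact ⟨W', hW', h1, h2⟩
  have hcomp : (T'.ι ≫ h₀) ≫ f = (Scheme.homOfLE _ hT'W) ≫ (W.ι ≫ (h₀ ≫ f)) := by
    rw [← Category.assoc (Scheme.homOfLE _ hT'W), Scheme.homOfLE_ι, Category.assoc]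
  refine ⟨T', T'.ι ≫ h₀, hT', ?_, ?_, ?_, ?_⟩
  · rw [Category.assoc]; infer_instance
  · rw [hcomp]; infer_instance
  · refine ⟨⟨Q₀, hQ₀T'⟩, ?_⟩
    rw [Category.assoc, Scheme.Hom.comp_apply, hg₀, Scheme.Hom.comp_apply]
    show hU'.fromSpec (Spec.map ψ Q₀) = f x₀
    rw [hQ₀p, hp]
  · rintro _ ⟨t, rfl⟩
    apply hU'U
    rw [Category.assoc, Scheme.Hom.comp_apply, hg₀, Scheme.Hom.comp_apply]
    have : hU'.fromSpec (Spec.map ψ (T'.ι t)) ∈ Set.range hU'.fromSpec := ⟨_, rfl⟩
    rw [hU'.range_fromSpec] at this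
    exact this


/-- Assembling slices into a disjoint union. -/
theorem sigma_assembly {X S : Scheme.{u}} (f : X ⟶ S) {ι : Type u} (T : ι → Scheme.{u})
    (h : ∀ i, T i ⟶ X) (hlfp : ∀ i, LocallyOfFinitePresentation (h i ≫ f))
    (hlqf : ∀ i, LocallyQuasiFinite (h i ≫ f))
    (hsurj : ∀ s : S, ∃ i, s ∈ Set.range (h i ≫ f)) :
    LocallyOfFinitePresentation (Sigma.desc h ≫ f) ∧ LocallyQuasiFinite (Sigma.desc h ≫ f) ∧
      Surjective (Sigma.desc h ≫ f) := by
  refine ⟨?_, ?_, ⟨fun s => ?_⟩⟩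
  · rw [IsZariskiLocalAtSource.iff_of_openCover (P := @LocallyOfFinitePresentation)
      (sigmaOpenCover T)]
    intro i
    show LocallyOfFinitePresentation (Sigma.ι T i ≫ Sigma.desc h ≫ f)
    rw [Sigma.ι_desc_assoc]
    exact hlfp i
  · rw [IsZariskiLocalAtSource.iff_of_openCover (P := @LocallyQuasiFinite)
      (sigmaOpenCover T)]
    intro i
    show LocallyQuasiFinite (Sigma.ι T i ≫ Sigma.desc h ≫ f)
    rw [Sigma.ι_desc_assoc]
    exact hlqf i
  · obtain ⟨i, t, ht⟩ := hsurj s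
    refine ⟨Sigma.ι T i t, ?_⟩
    rw [← Scheme.Hom.comp_apply, Sigma.ι_desc_assoc]
    exact ht

/-- **S2760**: a surjective morphism locally of finite presentation admits a quasi-finite
multi-section. -/
theorem exists_lqf_cover {X S : Scheme.{u}} (f : X ⟶ S)
    [LocallyOfFinitePresentation f] [Surjective f] :
    ∃ (S' : Scheme.{u}) (g : S' ⟶ S) (h : S' ⟶ X), h ≫ f = g ∧ LocallyOfFinitePresentation g ∧
      LocallyQuasiFinite g ∧ Surjective g ∧ (CompactSpace S → IsAffine S') := by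
  classical
  choose x hx using fun s : S => f.surjective s
  by_cases hc : CompactSpace S
  · -- finitely many affine opens cover `S`
    obtain ⟨t, ht⟩ := isCompact_univ.elim_finite_subcover
      (fun U : S.affineOpens => ((U : S.Opens) : Set S)) (fun U => U.1.2)
      (fun s _ => by
        obtain ⟨_, ⟨W, hW, rfl⟩, h1, -⟩ :=
          S.isBasis_affineOpens.exists_subset_of_mem_open (Set.mem_univ s) isOpen_univ
        exact Set.mem_iUnion.mpr ⟨⟨W, hW⟩, h1⟩)
    -- local slices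
    have key : ∀ (U : S.affineOpens) (u : (U : S.Opens)), ∃ (T : Scheme.{u}) (h : T ⟶ X),
        IsAffine T ∧ LocallyOfFinitePresentation (h ≫ f) ∧
        LocallyQuasiFinite (h ≫ f) ∧ u.1 ∈ Set.range (h ≫ f) ∧
        Set.range (h ≫ f) ⊆ (U : S.Opens) := by
      intro U u
      have := exists_affine_lqf_through f (x u.1) U.1 (by rw [hx]; exact u.2)
      rwa [hx] at this
    choose T h hTaff hTlfp hTlqf hTmem hTsub using key
    -- finite subcovers
    have fin : ∀ U : S.affineOpens, ∃ F : Finset (U : S.Opens), ∀ v : (U : S.Opens),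
        ∃ u ∈ F, v.1 ∈ Set.range (h U u ≫ f) := by
      intro U
      have hUaff : IsAffine (U : S.Opens) := U.2
      have hr : ∀ u : (U : S.Opens), Set.range (h U u ≫ f) ⊆ Set.range (U : S.Opens).ι := by
        intro u
        rw [Scheme.Opens.range_ι]
        exact hTsub U u
      let g' : ∀ u : (U : S.Opens), T U u ⟶ (U : S.Opens) := fun u =>
        IsOpenImmersion.lift (U : S.Opens).ι (h U u ≫ f) (hr u)
      have hg' : ∀ u, g' u ≫ (U : S.Opens).ι = h U u ≫ f := fun u =>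
        IsOpenImmersion.lift_fac _ _ _
      have hlfp' : ∀ u, LocallyOfFinitePresentation (g' u) := fun u =>
        MorphismProperty.of_postcomp (W := @LocallyOfFinitePresentation)
          (W' := @IsOpenImmersion) (g' u)
          (U : S.Opens).ι (inferInstanceAs (IsOpenImmersion (U : S.Opens).ι))
          (by rw [hg']; exact hTlfp U u)
      have hcons : ∀ u, IsConstructible (Set.range (g' u)) := by
        intro u
        have := hlfp' u
        have := hTaff U u
        rw [← Set.image_univ]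
        exact (g' u).isConstructible_image IsConstructible.univ
      obtain ⟨F, hF⟩ := exists_finite_subcover_of_isConstructible
        (fun u : (U : S.Opens) => Set.range (g' u)) hcons (fun v => by
          obtain ⟨t, ht⟩ := hTmem U v
          refine ⟨v, t, ?_⟩
          apply (U : S.Opens).ι.isOpenEmbedding.injective
          rw [← Scheme.Hom.comp_apply, hg']
          exact ht)
      refine ⟨F, fun v => ?_⟩
      obtain ⟨u, hu, t, ht⟩ := hF v
      refine ⟨u, hu, t, ?_⟩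
      rw [← hg', Scheme.Hom.comp_apply, ht]
      rfl
    choose F hF using fin
    -- the finite index type
    let J : Type u := Σ U : (t : Set S.affineOpens), (F U.1 : Set (U.1 : S.Opens))
    have : Finite J := by
      have : Finite (t : Set S.affineOpens) := t.finite_toSet
      have : ∀ U : (t : Set S.affineOpens), Finite (F U.1 : Set (U.1 : S.Opens)) :=
        fun U => (F U.1).finite_toSet
      infer_instance
    let TJ : J → Scheme.{u} := fun j => T j.1.1 j.2.1
    let hJ : ∀ j, TJ j ⟶ X := fun j => h j.1.1 j.2.1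
    have := sigma_assembly f TJ hJ (fun j => hTlfp _ _) (fun j => hTlqf _ _) (fun s => by
      have hs := ht (Set.mem_univ s)
      simp only [Set.mem_iUnion] at hs
      obtain ⟨U, hUt, hsU⟩ := hs
      obtain ⟨u, hu, hmem⟩ := hF U ⟨s, hsU⟩
      exact ⟨⟨⟨U, hUt⟩, ⟨u, hu⟩⟩, hmem⟩)
    have haff : ∀ j, IsAffine (TJ j) := fun j => hTaff _ _
    exact ⟨∐ TJ, Sigma.desc hJ ≫ f, Sigma.desc hJ, rfl, this.1, this.2.1, this.2.2,
      fun _ => inferInstance⟩
  · have key : ∀ s : S, ∃ (T : Scheme.{u}) (h : T ⟶ X),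
        IsAffine T ∧ LocallyOfFinitePresentation (h ≫ f) ∧
        LocallyQuasiFinite (h ≫ f) ∧ s ∈ Set.range (h ≫ f) ∧
        Set.range (h ≫ f) ⊆ (⊤ : S.Opens) := by
      intro s
      have := exists_affine_lqf_through f (x s) ⊤ trivial
      rwa [hx] at this
    choose T h hTaff hTlfp hTlqf hTmem hTsub using key
    have := sigma_assembly f T h hTlfp hTlqf (fun s => ⟨s, hTmem s⟩)
    exact ⟨∐ T, Sigma.desc h ≫ f, Sigma.desc h, rfl, this.1, this.2.1, this.2.2,
      fun hc' => absurd hc' hc⟩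

end Groth.Agent.Helper4.LqfCover
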