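import Mathlib

/-!
# The largest open over which a morphism has an fpqc-local property (helper4)

For a property `P` of morphisms of schemes which is stable under base change, Zariski-local on the
target and descends along flat surjective quasi-compact morphisms: compatibility of "the largest
open of the target over which `f` has `P`" with flat base changes whose underlying map is open,
and the consequence for homomorphisms of group schemes (translation argument).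
-/

set_option autoImplicit false
set_option linter.style.haveILetI false
set_option linter.unusedSectionVars false
universe u
open CategoryTheory CategoryTheory.Limits AlgebraicGeometry TopologicalSpace

namespace Groth.Agent.Helper4.MaxOpen

section Sq

variable {A X Y Y' : Scheme.{u}} {fst : A ⟶ X} {snd : A ⟶ Y'} {f : X ⟶ Y} {g : Y' ⟶ Y}

theorem le_aux (sq : IsPullback fst snd f g) (U : Y'.Opens) (N : Y.Opens) (h : U ≤ g ⁻¹ᵁ N) :
    snd ⁻¹ᵁ U ≤ fst ⁻¹ᵁ (f ⁻¹ᵁ N) := by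
  intro a ha
  show f (fst a) ∈ N
  have h1 : g (snd a) ∈ N := h ha
  rwa [← Scheme.Hom.comp_apply, ← sq.w, Scheme.Hom.comp_apply] at h1

/-- restriction of a pullback square to opens -/
theorem isPullback_resLE (sq : IsPullback fst snd f g) (U : Y'.Opens) (N : Y.Opens)
    (h : U ≤ g ⁻¹ᵁ N) :
    IsPullback (fst.resLE (f ⁻¹ᵁ N) (snd ⁻¹ᵁ U) (le_aux sq U N h)) (snd ∣_ U) (f ∣_ N)
      (g.resLE N U h) := by
  have big : IsPullback ((snd ⁻¹ᵁ U).ι ≫ fst) (snd ∣_ U) f (U.ι ≫ g) :=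
    (isPullback_morphismRestrict snd U).flip.paste_horiz sq
  refine IsPullback.of_right ?_ ?_ (isPullback_morphismRestrict f N).flip
  · rw [Scheme.Hom.resLE_comp_ι, Scheme.Hom.resLE_comp_ι]; exact big
  · rw [← cancel_mono N.ι]
    simp only [Category.assoc, morphismRestrict_ι, Scheme.Hom.resLE_comp_ι,
      Scheme.Hom.resLE_comp_ι_assoc, morphismRestrict_ι_assoc, sq.w]

variable {P : MorphismProperty Scheme.{u}}

/-- base change direction -/
theorem of_baseChange [P.IsStableUnderBaseChange]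
    (sq : IsPullback fst snd f g) (W : Y.Opens) (hW : P (f ∣_ W)) : P (snd ∣_ (g ⁻¹ᵁ W)) :=
  P.of_isPullback (isPullback_resLE sq (g ⁻¹ᵁ W) W le_rfl) hW

/-- restriction to a smaller open -/
theorem of_le [P.IsStableUnderBaseChange] {W₁ U : Y'.Opens} (hU : U ≤ W₁)
    (hW₁ : P (snd ∣_ W₁)) : P (snd ∣_ U) := by
  have sq₀ : IsPullback (𝟙 A) snd snd (𝟙 Y') := IsPullback.id_horiz snd
  exact P.of_isPullback (isPullback_resLE sq₀ U W₁ hU) hW₁

/-- descent direction -/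
theorem le_of_descends [P.IsStableUnderBaseChange]
    [P.DescendsAlong (@Flat ⊓ @Surjective ⊓ @QuasiCompact)]
    (sq : IsPullback fst snd f g) [Flat g] (hg : IsOpenMap g)
    (W : Y.Opens) (hmax : ∀ W₀ : Y.Opens, P (f ∣_ W₀) → W₀ ≤ W)
    (W₁ : Y'.Opens) (hW₁ : P (snd ∣_ W₁)) : W₁ ≤ g ⁻¹ᵁ W := by
  intro y' hy'
  obtain ⟨N₀, hN₀, hyN₀⟩ : ∃ N₀ : Y.Opens, IsAffineOpen N₀ ∧ g y' ∈ N₀ := by
    obtain ⟨⟨N₀, hN₀⟩, hy⟩ := Opens.mem_iSup.mp
      ((iSup_affineOpens_eq_top Y).symm ▸ (Opens.mem_top (g y')) : g y' ∈ ⨆ i : Y.affineOpens, (i : Y.Opens))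
    exact ⟨N₀, hN₀, hy⟩
  obtain ⟨U, hU, hyU, hUle⟩ : ∃ U : Y'.Opens, IsAffineOpen U ∧ y' ∈ U ∧
      U ≤ W₁ ⊓ g ⁻¹ᵁ N₀ := by
    have hmem : y' ∈ W₁ ⊓ g ⁻¹ᵁ N₀ := ⟨hy', hyN₀⟩
    obtain ⟨U, hU, hyU, hUle⟩ := Opens.isBasis_iff_nbhd.mp (Scheme.isBasis_affineOpens Y') hmem
    exact ⟨U, hU, hyU, hUle⟩
  let N : Y.Opens := ⟨g '' (U : Set Y'), hg _ U.2⟩
  have hUN : U ≤ g ⁻¹ᵁ N := fun a ha => ⟨a, ha, rfl⟩
  have hNN₀ : (N : Set Y) ⊆ N₀ := by
    rintro _ ⟨a, ha, rfl⟩; exact (hUle ha).2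
  have PB := isPullback_resLE sq U N hUN
  have hPU : P (snd ∣_ U) := of_le (fun a ha => (hUle ha).1) hW₁
  have hflat : Flat (g.resLE N U hUN) := IsZariskiLocalAtSource.resLE hUN ‹Flat g›
  have hsurj : Surjective (g.resLE N U hUN) := by
    refine ⟨fun n => ?_⟩
    obtain ⟨a, ha, hn⟩ := n.2
    exact ⟨⟨a, ha⟩, Subtype.ext (by rw [Scheme.Hom.coe_resLE_apply]; exact hn)⟩
  haveI : CompactSpace (U : Scheme.{u}) := isCompact_iff_compactSpace.mp hU.isCompact
  haveI : QuasiSeparatedSpace (N : Scheme.{u}) :=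
    (isQuasiSeparated_iff_quasiSeparatedSpace _ N.2).mp (hN₀.isQuasiSeparated.of_subset hNN₀)
  have hqc : QuasiCompact (g.resLE N U hUN) := quasiCompact_of_compactSpace _
  have hP : P (f ∣_ N) :=
    MorphismProperty.of_isPullback_of_descendsAlong (Q := @Flat ⊓ @Surjective ⊓ @QuasiCompact)
      PB.flip ⟨⟨hflat, hsurj⟩, hqc⟩ hPU
  exact hmax N hP ⟨y', hyU, rfl⟩

end Sq

end Groth.Agent.Helper4.MaxOpen
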