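import Mathlib
import Groth.Agent.Lib.Helper4.MaxOpen

/-!
# The preimage of the largest open over which a homomorphism has an fpqc-local property (helper4)

Translation argument: for a homomorphism `u : G → H` of `S`-group schemes with `G` flat and
universally open over `S`, the largest open `W` of `H` over which `u` has an fpqc-local property
is stable under right translation by `u(G)`; hence `u⁻¹(W)` is an open subgroup over its image.
-/

set_option autoImplicit false
set_option linter.style.haveILetI false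
set_option linter.unusedSectionVars false
universe u
open CategoryTheory CategoryTheory.Limits AlgebraicGeometry MonoidalCategory CartesianMonoidalCategory
  MonObj GrpObj

namespace Groth.Agent.Helper4.MaxOpen

section Grp

variable {S : Scheme.{u}} {G H : Over S} [GrpObj G] [GrpObj H] (u : G ⟶ H)

/-- `(h, g) ↦ h · u g` -/
noncomputable def mulU : H ⊗ G ⟶ H := fst H G * (snd H G ≫ u)

/-- the shear automorphism `(h, g) ↦ (h · u g, g)` of `H × G` -/
noncomputable def thetaH : H ⊗ G ≅ H ⊗ G where
  hom := lift (mulU u) (snd H G)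
  inv := lift (fst H G * (snd H G ≫ u)⁻¹) (snd H G)
  hom_inv_id := by
    apply CartesianMonoidalCategory.hom_ext
    · rw [Category.assoc, lift_fst, MonObj.comp_mul, GrpObj.comp_inv, lift_fst, lift_snd_assoc,
        mulU, mul_inv_cancel_right, Category.id_comp]
    · rw [Category.assoc, lift_snd, lift_snd, Category.id_comp]
  inv_hom_id := by
    apply CartesianMonoidalCategory.hom_ext
    · rw [Category.assoc, lift_fst, mulU, MonObj.comp_mul, lift_fst, lift_snd_assoc,
        inv_mul_cancel_right, Category.id_comp]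
    · rw [Category.assoc, lift_snd, lift_snd, Category.id_comp]

theorem thetaH_fst : (thetaH u).hom ≫ fst H G = mulU u := lift_fst _ _

theorem thetaH_snd : (thetaH u).hom ≫ snd H G = snd H G := lift_snd _ _

theorem mulU_id : mulU (𝟙 G) = μ[G] := by
  rw [mulU, Category.comp_id, Hom.mul_def, lift_fst_snd, Category.id_comp]

variable [IsMonHom u]

theorem whisker_mulU : (u ▷ G) ≫ mulU u = μ[G] ≫ u := by
  rw [mulU, MonObj.comp_mul, whiskerRight_fst, whiskerRight_snd_assoc, ← MonObj.mul_comp,
    Hom.mul_def, lift_fst_snd, Category.id_comp]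

theorem theta_comm : (thetaH (𝟙 G)).hom ≫ (u ▷ G) = (u ▷ G) ≫ (thetaH u).hom := by
  apply CartesianMonoidalCategory.hom_ext
  · rw [Category.assoc, whiskerRight_fst, ← Category.assoc, thetaH_fst, Category.assoc, thetaH_fst,
      whisker_mulU, mulU_id]
  · rw [Category.assoc, whiskerRight_snd, thetaH_snd, Category.assoc, thetaH_snd, whiskerRight_snd]

/-- the base change square of `u` along the first projection `H × G → H` -/
theorem sq₁ : IsPullback (fst G G).left (u ▷ G).left u.left (fst H G).left := by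
  have big : IsPullback ((u ▷ G).left ≫ (snd H G).left) (fst G G).left G.hom (u.left ≫ H.hom) := by
    have e1 : (u ▷ G).left ≫ (snd H G).left = (snd G G).left := by
      rw [← Over.comp_left, whiskerRight_snd]
    rw [e1, Over.w u]
    exact (IsPullback.of_hasPullback G.hom G.hom).flip
  have p : (u ▷ G).left ≫ (fst H G).left = (fst G G).left ≫ u.left := by
    rw [← Over.comp_left, whiskerRight_fst, Over.comp_left]
  exact (IsPullback.of_right big p (IsPullback.of_hasPullback H.hom G.hom).flip).flip

/-- the base change square of `u` along `(h, g) ↦ h · u g` -/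
theorem sq₂ : IsPullback μ[G].left (u ▷ G).left u.left (mulU u).left := by
  haveI : IsIso (thetaH (𝟙 G)).hom.left :=
    inferInstanceAs (IsIso ((Over.forget _).map (thetaH (𝟙 G)).hom))
  haveI : IsIso (thetaH u).hom.left :=
    inferInstanceAs (IsIso ((Over.forget _).map (thetaH u).hom))
  have sqi : IsPullback (thetaH (𝟙 G)).hom.left (u ▷ G).left (u ▷ G).left (thetaH u).hom.left :=
    IsPullback.of_horiz_isIso ⟨by rw [← Over.comp_left, theta_comm, Over.comp_left]⟩
  have h := sqi.paste_horiz (sq₁ u)
  rwa [← Over.comp_left, ← Over.comp_left, thetaH_fst, thetaH_fst, mulU_id] at h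

end Grp

section Main

variable {S : Scheme.{u}} {G H : Over S} [GrpObj G] [GrpObj H] (u : G ⟶ H) [IsMonHom u]
  {P : MorphismProperty Scheme.{u}} [P.IsStableUnderBaseChange]
  [P.DescendsAlong (@Flat ⊓ @Surjective ⊓ @QuasiCompact)]
  [Flat G.hom] [UniversallyOpen G.hom]

/-- the largest open over which `u` has `P` is stable under right translation by `u(G)` -/
theorem preimage_fst_eq (W : H.left.Opens) (hW : P (u.left ∣_ W))
    (hmax : ∀ W' : H.left.Opens, P (u.left ∣_ W') → W' ≤ W) :
    (fst H G).left ⁻¹ᵁ W = (mulU u).left ⁻¹ᵁ W := by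
  haveI : Flat (fst H G).left := inferInstanceAs (Flat (pullback.fst H.hom G.hom))
  haveI : UniversallyOpen (fst H G).left :=
    inferInstanceAs (UniversallyOpen (pullback.fst H.hom G.hom))
  have e : (mulU u).left = (thetaH u).hom.left ≫ (fst H G).left := by
    rw [← Over.comp_left, thetaH_fst]
  haveI : IsIso (thetaH u).hom.left :=
    inferInstanceAs (IsIso ((Over.forget _).map (thetaH u).hom))
  haveI : Flat (mulU u).left := by rw [e]; infer_instance
  haveI : UniversallyOpen (mulU u).left := by rw [e]; infer_instance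
  apply le_antisymm
  · exact le_of_descends (sq₂ u) (mulU u).left.isOpenMap W hmax _ (of_baseChange (sq₁ u) W hW)
  · exact le_of_descends (sq₁ u) (fst H G).left.isOpenMap W hmax _ (of_baseChange (sq₂ u) W hW)

theorem fst_mem_iff (W : H.left.Opens) (hW : P (u.left ∣_ W))
    (hmax : ∀ W' : H.left.Opens, P (u.left ∣_ W') → W' ≤ W) (z : (G ⊗ G).left) :
    (fst G G).left z ∈ u.left ⁻¹ᵁ W ↔ μ[G].left z ∈ u.left ⁻¹ᵁ W := by
  have h1 : u.left ((fst G G).left z) = (fst H G).left ((u ▷ G).left z) := by
    rw [← Scheme.Hom.comp_apply, ← Scheme.Hom.comp_apply, ← Over.comp_left, ← Over.comp_left,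
      whiskerRight_fst]
  have h2 : u.left (μ[G].left z) = (mulU u).left ((u ▷ G).left z) := by
    rw [← Scheme.Hom.comp_apply, ← Scheme.Hom.comp_apply, ← Over.comp_left, ← Over.comp_left,
      whisker_mulU]
  show u.left ((fst G G).left z) ∈ W ↔ u.left (μ[G].left z) ∈ W
  rw [h1, h2]
  have key := preimage_fst_eq u W hW hmax
  constructor
  · intro h
    have h' : (u ▷ G).left z ∈ (fst H G).left ⁻¹ᵁ W := h
    rw [key] at h'; exact h'
  · intro h
    have h' : (u ▷ G).left z ∈ (mulU u).left ⁻¹ᵁ W := h
    rw [← key] at h'; exact h'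

theorem main (W : H.left.Opens) (hW : P (u.left ∣_ W))
    (hmax : ∀ W' : H.left.Opens, P (u.left ∣_ W') → W' ≤ W) :
    IsOpen (G.hom.base '' ((u.left ⁻¹ᵁ W : G.left.Opens) : Set G.left)) ∧
    (∀ g ∈ u.left ⁻¹ᵁ W, ∀ p : ↥(𝟙_ (Over S)).left,
      (𝟙_ (Over S)).hom.base p = G.hom.base g → η[G].left.base p ∈ u.left ⁻¹ᵁ W) ∧
    (∀ g ∈ u.left ⁻¹ᵁ W, ι[G].left.base g ∈ u.left ⁻¹ᵁ W) ∧
    (∀ z : ↥(G ⊗ G).left, (fst G G).left.base z ∈ u.left ⁻¹ᵁ W →
      (snd G G).left.base z ∈ u.left ⁻¹ᵁ W → μ[G].left.base z ∈ u.left ⁻¹ᵁ W) := by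
  have key := fst_mem_iff u W hW hmax
  have hunit' : ∀ g ∈ u.left ⁻¹ᵁ W, η[G].left ((toUnit G).left g) ∈ u.left ⁻¹ᵁ W := by
    intro g hg
    have hz := (key ((lift (𝟙 G) ι[G]).left g)).mp (by
      rw [← Scheme.Hom.comp_apply, ← Over.comp_left, lift_fst]; exact hg)
    rw [← Scheme.Hom.comp_apply, ← Over.comp_left, GrpObj.right_inv, Over.comp_left,
      Scheme.Hom.comp_apply] at hz
    exact hz
  refine ⟨G.hom.isOpenMap _ (u.left ⁻¹ᵁ W).2, ?_, ?_, ?_⟩
  · intro g hg p hp
    have h1 : (𝟙_ (Over S)).hom ((toUnit G).left g) = G.hom g := by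
      rw [← Scheme.Hom.comp_apply, Over.w]
    have hp' : (toUnit G).left g = p :=
      calc (toUnit G).left g = (𝟙_ (Over S)).hom ((toUnit G).left g) := rfl
        _ = G.hom g := h1
        _ = (𝟙_ (Over S)).hom p := hp.symm
        _ = p := rfl
    have := hunit' g hg
    rw [hp'] at this
    exact this
  · intro g hg
    have hz := (key ((lift ι[G] (𝟙 G)).left g)).mpr (by
      rw [← Scheme.Hom.comp_apply, ← Over.comp_left, GrpObj.left_inv, Over.comp_left,
        Scheme.Hom.comp_apply]
      exact hunit' g hg)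
    rw [← Scheme.Hom.comp_apply, ← Over.comp_left, lift_fst] at hz
    exact hz
  · intro z hz _
    exact (key z).mp hz

end Main

end Groth.Agent.Helper4.MaxOpen
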