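import Mathlib

/-!
# The largest open of the source on which a homomorphism is universally open (helper4)

For a homomorphism `u : G → H` of `S`-group schemes with `G` or `H` universally open over `S`,
the largest open `V` of `G` on which `u` is universally open is stable under products and
inverses and contains the unit of every fibre it meets.
-/

set_option autoImplicit false
set_option linter.style.haveILetI false
set_option linter.unusedSectionVars false
universe u
open CategoryTheory CategoryTheory.Limits AlgebraicGeometry MonoidalCategory CartesianMonoidalCategory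
  MonObj GrpObj

namespace Groth.Agent.Helper4.MaxOpenSrc

section UO

/-- universal openness can be checked after precomposing with a surjection -/
theorem universallyOpen_of_comp_surjective {A B C : Scheme.{u}} (a : A ⟶ B) (b : B ⟶ C)
    [Surjective a] [UniversallyOpen (a ≫ b)] : UniversallyOpen b := by
  rw [UniversallyOpen.eq]
  intro B' C' i₁ i₂ b' sq
  have sqa : IsPullback (pullback.snd a i₁) (pullback.fst a i₁) i₁ a :=
    (IsPullback.of_hasPullback a i₁).flip
  have big : IsPullback (pullback.snd a i₁ ≫ b') (pullback.fst a i₁) i₂ (a ≫ b) :=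
    sqa.paste_horiz sq
  have hopen : IsOpenMap (pullback.snd a i₁ ≫ b') :=
    (‹UniversallyOpen (a ≫ b)›).universally_isOpenMap _ _ _ big
  have hsurj : Function.Surjective (pullback.snd a i₁) :=
    (inferInstance : Surjective (pullback.snd a i₁)).surj
  intro E hE
  have : b' '' E = (pullback.snd a i₁ ≫ b') '' ((pullback.snd a i₁) ⁻¹' E) := by
    ext c
    constructor
    · rintro ⟨e, he, rfl⟩
      obtain ⟨w, rfl⟩ := hsurj e
      exact ⟨w, he, Scheme.Hom.comp_apply _ _ _⟩
    · rintro ⟨w, hw, rfl⟩
      exact ⟨pullback.snd a i₁ w, hw, (Scheme.Hom.comp_apply _ _ _).symm⟩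
  rw [this]
  exact hopen _ (hE.preimage (pullback.snd a i₁).continuous)

end UO

section Cat

variable {S : Scheme.{u}} {X Z : Over S}

/-- the base change square of `u` along the first projection -/
theorem sq_whiskerRight (u : X ⟶ Z) (Y : Over S) :
    IsPullback (fst X Y).left (u ▷ Y).left u.left (fst Z Y).left := by
  have big : IsPullback ((u ▷ Y).left ≫ (snd Z Y).left) (fst X Y).left Y.hom (u.left ≫ Z.hom) := by
    have e1 : (u ▷ Y).left ≫ (snd Z Y).left = (snd X Y).left := by
      rw [← Over.comp_left, whiskerRight_snd]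
    rw [e1, Over.w u]
    exact (IsPullback.of_hasPullback X.hom Y.hom).flip
  have p : (u ▷ Y).left ≫ (fst Z Y).left = (fst X Y).left ≫ u.left := by
    rw [← Over.comp_left, whiskerRight_fst, Over.comp_left]
  exact (IsPullback.of_right big p (IsPullback.of_hasPullback Z.hom Y.hom).flip).flip

/-- the base change square of `u` along the second projection -/
theorem sq_whiskerLeft (u : X ⟶ Z) (Y : Over S) :
    IsPullback (snd Y X).left (Y ◁ u).left u.left (snd Y Z).left := by
  have big : IsPullback ((Y ◁ u).left ≫ (fst Y Z).left) (snd Y X).left Y.hom (u.left ≫ Z.hom) := by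
    have e1 : (Y ◁ u).left ≫ (fst Y Z).left = (fst Y X).left := by
      rw [← Over.comp_left, whiskerLeft_fst]
    rw [e1, Over.w u]
    exact IsPullback.of_hasPullback Y.hom X.hom
  have p : (Y ◁ u).left ≫ (snd Y Z).left = (snd Y X).left ≫ u.left := by
    rw [← Over.comp_left, whiskerLeft_snd, Over.comp_left]
  exact (IsPullback.of_right big p (IsPullback.of_hasPullback Y.hom Z.hom)).flip

/-- points of a pullback square -/
theorem mem_range_of_isPullback {A B C D : Scheme.{u}} {fst' : A ⟶ B} {snd' : A ⟶ C}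
    {f : B ⟶ D} {g : C ⟶ D} (sq : IsPullback fst' snd' f g) (c : C)
    (hc : g c ∈ Set.range f) : c ∈ Set.range snd' := by
  obtain ⟨b, hb⟩ := hc
  obtain ⟨a, -, ha⟩ := Scheme.exists_preimage_of_isPullback sq b c hb
  exact ⟨a, ha⟩

variable {H : Over S} [GrpObj H] (v : X ⟶ H)

/-- `(h, x) ↦ h · v x` -/
noncomputable def mulR : H ⊗ X ⟶ H := fst H X * (snd H X ≫ v)

theorem whiskerLeft_mul : (H ◁ v) ≫ μ[H] = mulR v := by
  have e : H ◁ v = lift (fst H X) (snd H X ≫ v) := by
    apply CartesianMonoidalCategory.hom_ext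
    · rw [whiskerLeft_fst, lift_fst]
    · rw [whiskerLeft_snd, lift_snd]
  rw [e, mulR, Hom.mul_def]

/-- the shear automorphism `(h, x) ↦ (h · v x, x)` of `H × X` -/
noncomputable def shear : H ⊗ X ≅ H ⊗ X where
  hom := lift (mulR v) (snd H X)
  inv := lift (fst H X * (snd H X ≫ v)⁻¹) (snd H X)
  hom_inv_id := by
    apply CartesianMonoidalCategory.hom_ext
    · rw [Category.assoc, lift_fst, MonObj.comp_mul, GrpObj.comp_inv, lift_fst, lift_snd_assoc,
        mulR, mul_inv_cancel_right, Category.id_comp]
    · rw [Category.assoc, lift_snd, lift_snd, Category.id_comp]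
  inv_hom_id := by
    apply CartesianMonoidalCategory.hom_ext
    · rw [Category.assoc, lift_fst, mulR, MonObj.comp_mul, lift_fst, lift_snd_assoc,
        inv_mul_cancel_right, Category.id_comp]
    · rw [Category.assoc, lift_snd, lift_snd, Category.id_comp]

theorem shear_fst : (shear v).hom ≫ fst H X = mulR v := lift_fst _ _

/-- `(h, x) ↦ h · v x` is universally open when `X` is universally open over `S` -/
theorem universallyOpen_mulR [UniversallyOpen X.hom] : UniversallyOpen (mulR v).left := by
  haveI : UniversallyOpen (fst H X).left :=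
    inferInstanceAs (UniversallyOpen (pullback.fst H.hom X.hom))
  haveI : IsIso (shear v).hom.left :=
    inferInstanceAs (IsIso ((Over.forget _).map (shear v).hom))
  have e : (mulR v).left = (shear v).hom.left ≫ (fst H X).left := by
    rw [← Over.comp_left, shear_fst]
  rw [e]
  infer_instance

/-- `(x', x) ↦ w x' · v x` is universally open when `w` and `X → S` are -/
theorem universallyOpen_tensor_mul {X' : Over S} (w : X' ⟶ H) [UniversallyOpen w.left]
    [UniversallyOpen X.hom] : UniversallyOpen ((w ⊗ₘ v) ≫ μ[H]).left := by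
  haveI : UniversallyOpen (w ▷ X).left :=
    MorphismProperty.of_isPullback (P := @UniversallyOpen) (sq_whiskerRight w X) inferInstance
  haveI := universallyOpen_mulR v
  have e : ((w ⊗ₘ v) ≫ μ[H]).left = (w ▷ X).left ≫ (mulR v).left := by
    rw [← Over.comp_left, MonoidalCategory.tensorHom_def, Category.assoc, whiskerLeft_mul]
  rw [e]
  infer_instance

end Cat

section Main

variable {S : Scheme.{u}} {G H : Over S} [GrpObj G] [GrpObj H] (u : G ⟶ H) [IsMonHom u]

theorem main (hG : UniversallyOpen G.hom ∨ UniversallyOpen H.hom)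
    (V : G.left.Opens) (hV : UniversallyOpen (V.ι ≫ u.left))
    (hmax : ∀ W : G.left.Opens, UniversallyOpen (W.ι ≫ u.left) → W ≤ V) :
    IsOpen (G.hom.base '' (V : Set G.left)) ∧
    (∀ g ∈ V, ∀ p : ↥(𝟙_ (Over S)).left,
      (𝟙_ (Over S)).hom.base p = G.hom.base g → η[G].left.base p ∈ V) ∧
    (∀ g ∈ V, ι[G].left.base g ∈ V) ∧
    (∀ z : ↥(G ⊗ G).left, (fst G G).left.base z ∈ V → (snd G G).left.base z ∈ V →
      μ[G].left.base z ∈ V) := by
  have hVS : UniversallyOpen (V.ι ≫ G.hom) := by
    rcases hG with hG | hH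
    · infer_instance
    · have e : V.ι ≫ G.hom = (V.ι ≫ u.left) ≫ H.hom := by rw [Category.assoc, Over.w u]
      rw [e]; infer_instance
  let GV : Over S := Over.mk (V.ι ≫ G.hom)
  let jV : GV ⟶ G := Over.homMk V.ι rfl
  haveI : UniversallyOpen GV.hom := hVS
  haveI : UniversallyOpen (jV ≫ u).left := hV
  haveI : UniversallyOpen jV.left := (inferInstance : UniversallyOpen V.ι)
  have hrange : Set.range jV.left = (V : Set G.left) := Scheme.Opens.range_ι V
  let m : GV ⊗ GV ⟶ G := (jV ⊗ₘ jV) ≫ μ[G]
  have hm : UniversallyOpen m.left := universallyOpen_tensor_mul jV jV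
  have hmu : UniversallyOpen (m ≫ u).left := by
    have e : m ≫ u = ((jV ≫ u) ⊗ₘ (jV ≫ u)) ≫ μ[H] := by
      simp only [m, Category.assoc]
      rw [IsMonHom.mul_hom, MonoidalCategory.tensorHom_comp_tensorHom_assoc]
    rw [e]
    exact universallyOpen_tensor_mul (jV ≫ u) (jV ≫ u)
  let N : G.left.Opens := ⟨Set.range m.left, m.left.isOpenMap.isOpen_range⟩
  have hNV : N ≤ V := by
    apply hmax
    have hr : Set.range m.left ⊆ Set.range N.ι := by
      rw [Scheme.Opens.range_ι]; exact subset_rfl
    let a := IsOpenImmersion.lift N.ι m.left hr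
    have ha : a ≫ N.ι = m.left := IsOpenImmersion.lift_fac _ _ _
    haveI : Surjective a := ⟨fun n => by
      obtain ⟨w, hw⟩ := n.2
      refine ⟨w, N.ι.isEmbedding.injective ?_⟩
      rw [← Scheme.Hom.comp_apply, ha]; exact hw⟩
    haveI : UniversallyOpen (a ≫ N.ι ≫ u.left) := by
      rw [← Category.assoc, ha]; exact hmu
    exact universallyOpen_of_comp_surjective a (N.ι ≫ u.left)
  have hprod : ∀ z : ↥(G ⊗ G).left, (fst G G).left z ∈ V → (snd G G).left z ∈ V →
      μ[G].left z ∈ V := by
    intro z h1 h2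
    have hz1 : z ∈ Set.range (G ◁ jV).left :=
      mem_range_of_isPullback (sq_whiskerLeft jV G) z (by rw [hrange]; exact h2)
    obtain ⟨z₁, rfl⟩ := hz1
    have hz2 : z₁ ∈ Set.range (jV ▷ GV).left :=
      mem_range_of_isPullback (sq_whiskerRight jV GV) z₁ (by
        rw [hrange]
        have : (fst G G).left ((G ◁ jV).left z₁) = (fst G GV).left z₁ := by
          rw [← Scheme.Hom.comp_apply, ← Over.comp_left, whiskerLeft_fst]
        rw [← this]; exact h1)
    obtain ⟨w, rfl⟩ := hz2
    apply hNV
    refine ⟨w, ?_⟩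
    show ((jV ⊗ₘ jV) ≫ μ[G]).left w = _
    rw [MonoidalCategory.tensorHom_def, Over.comp_left, Over.comp_left, Scheme.Hom.comp_apply,
      Scheme.Hom.comp_apply]
  have hinv : ∀ g ∈ V, ι[G].left g ∈ V := by
    intro g hg
    let V' : G.left.Opens := ι[G].left ⁻¹ᵁ V
    have hV' : V' ≤ V := by
      apply hmax
      haveI : IsIso ι[G].left := inferInstanceAs (IsIso ((Over.forget _).map ι[G]))
      haveI : IsIso ι[H].left := inferInstanceAs (IsIso ((Over.forget _).map ι[H]))
      have h1 : (ι[G].left ∣_ V) ≫ V.ι = V'.ι ≫ ι[G].left := morphismRestrict_ι _ _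
      have h2' : ι[G] ≫ u ≫ ι[H] = u := by
        rw [← GrpObj.inv_hom, ← Category.assoc, GrpObj.inv_comp_inv, Category.id_comp]
      have h2 : ι[G].left ≫ u.left ≫ ι[H].left = u.left := congrArg (·.left) h2'
      have e : V'.ι ≫ u.left = (ι[G].left ∣_ V) ≫ (V.ι ≫ u.left) ≫ ι[H].left :=
        calc V'.ι ≫ u.left = V'.ι ≫ (ι[G].left ≫ u.left ≫ ι[H].left) := by rw [h2]
          _ = ((ι[G].left ∣_ V) ≫ V.ι) ≫ u.left ≫ ι[H].left := by rw [h1, Category.assoc]
          _ = (ι[G].left ∣_ V) ≫ (V.ι ≫ u.left) ≫ ι[H].left := by simp only [Category.assoc]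
      haveI := hV
      rw [e]; infer_instance
    apply hV'
    show ι[G].left (ι[G].left g) ∈ V
    rw [← Scheme.Hom.comp_apply, ← Over.comp_left, GrpObj.inv_comp_inv]
    exact hg
  have hunit' : ∀ g ∈ V, η[G].left ((toUnit G).left g) ∈ V := by
    intro g hg
    have := hprod ((lift (𝟙 G) ι[G]).left g)
      (by rw [← Scheme.Hom.comp_apply, ← Over.comp_left, lift_fst]; exact hg)
      (by rw [← Scheme.Hom.comp_apply, ← Over.comp_left, lift_snd]; exact hinv g hg)
    rwa [← Scheme.Hom.comp_apply, ← Over.comp_left, GrpObj.right_inv, Over.comp_left,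
      Scheme.Hom.comp_apply] at this
  refine ⟨?_, ?_, hinv, hprod⟩
  · have hopen := (V.ι ≫ G.hom).isOpenMap.isOpen_range
    convert hopen using 1
    ext s; constructor
    · rintro ⟨g, hg, rfl⟩; exact ⟨⟨g, hg⟩, rfl⟩
    · rintro ⟨g, rfl⟩; exact ⟨g.1, g.2, rfl⟩
  · intro g hg p hp
    have h1 : (𝟙_ (Over S)).hom ((toUnit G).left g) = G.hom g := by
      rw [← Scheme.Hom.comp_apply, Over.w]
    have hp' : (toUnit G).left g = p :=
      calc (toUnit G).left g = (𝟙_ (Over S)).hom ((toUnit G).left g) := rfl
        _ = G.hom g := h1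
        _ = (𝟙_ (Over S)).hom p := hp.symm
        _ = p := rfl
    have := hunit' g hg
    rw [hp'] at this
    exact this

end Main

end Groth.Agent.Helper4.MaxOpenSrc
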