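import Mathlib
import Groth.Agent.S3833
import Groth.Agent.S5104
import Groth.Agent.Lib.Helper14.NerB

/-!
# A proper morphism which is an isomorphism over a schematically dense open is an
isomorphism near every point whose local ring is a valuation ring

(uses `Groth.Agent.Helper14.Ner` for schematic dominance and `S5104` for extending a
rational map defined on `Spec O_{X,x}` to a neighbourhood.)
-/

set_option autoImplicit false
universe u
open CategoryTheory AlgebraicGeometry TopologicalSpace Limits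

namespace Groth.Agent.Helper4.ModelIso

/-- The preimage of `D(a)` under `p : Y ⟶ Spec R` is the basic open of the pulled back function. -/
theorem preimage_basicOpen_eq {R : Type u} [CommRing R] {Y : Scheme.{u}}
    (p : Y ⟶ Spec (CommRingCat.of R)) (a : R) :
    p ⁻¹ᵁ (PrimeSpectrum.basicOpen a) =
      Y.basicOpen (p.appTop ((Scheme.ΓSpecIso (CommRingCat.of R)).inv a)) := by
  rw [← Scheme.preimage_basicOpen_top, basicOpen_eq_of_affine]

/-- For flat `p : Y ⟶ Spec R` over a domain and `a ≠ 0`, all germs of the pullback of `a` are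
nonzerodivisors. -/
theorem germ_mem_nonZeroDivisors {R : Type u} [CommRing R] [IsDomain R] {Y : Scheme.{u}}
    (p : Y ⟶ Spec (CommRingCat.of R)) [Flat p] (a : R) (ha : a ≠ 0) (y : Y) :
    Y.presheaf.germ ⊤ y trivial (p.appTop ((Scheme.ΓSpecIso (CommRingCat.of R)).inv a)) ∈
      nonZeroDivisors (Y.presheaf.stalk y) := by
  set t : Γ(Spec (CommRingCat.of R), ⊤) := (Scheme.ΓSpecIso (CommRingCat.of R)).inv a with ht
  have h2 : Y.presheaf.germ ⊤ y trivial (p.appTop t) =
      p.stalkMap y ((Spec (CommRingCat.of R)).presheaf.germ ⊤ (p y) trivial t) :=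
    (Scheme.Hom.germ_stalkMap_apply p ⊤ y trivial t).symm
  rw [h2]
  have hflat : (p.stalkMap y).hom.Flat := Flat.stalkMap p y
  have ht0 : (Spec (CommRingCat.of R)).presheaf.germ ⊤ (p y) trivial t ≠ 0 := by
    intro h0
    have := germ_injective_of_isIntegral (Spec (CommRingCat.of R)) (p y) (U := ⊤) trivial
    rw [← map_zero ((Spec (CommRingCat.of R)).presheaf.germ ⊤ (p y) trivial).hom] at h0
    have h3 := this h0
    apply ha
    have h4 : (Scheme.ΓSpecIso (CommRingCat.of R)).hom t = 0 := by rw [h3, map_zero]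
    rw [ht] at h4
    simpa using h4
  have htn : (Spec (CommRingCat.of R)).presheaf.germ ⊤ (p y) trivial t ∈
      nonZeroDivisors ((Spec (CommRingCat.of R)).presheaf.stalk (p y)) :=
    mem_nonZeroDivisors_of_ne_zero ht0
  letI := (p.stalkMap y).hom.toAlgebra
  have hfl : Module.Flat ((Spec (CommRingCat.of R)).presheaf.stalk (p y))
      (Y.presheaf.stalk y) := hflat
  have hreg := Module.Flat.isSMulRegular_of_nonZeroDivisors (M := Y.presheaf.stalk y) htn
  rw [mem_nonZeroDivisors_iff_right]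
  intro z hz
  apply hreg
  show _ • z = _ • (0 : Y.presheaf.stalk y)
  rw [smul_zero, Algebra.smul_def, mul_comm]
  exact hz

/-- For flat `p : Y ⟶ Spec R` over a domain, the preimage of a nonempty basic open
`D(a)` is schematically dense. -/
theorem dense_preimage_basicOpen {R : Type u} [CommRing R] [IsDomain R] {Y : Scheme.{u}}
    (p : Y ⟶ Spec (CommRingCat.of R)) [Flat p] (a : R) (ha : a ≠ 0) :
    CInt.IsSchematicallyDense (p ⁻¹ᵁ (PrimeSpectrum.basicOpen a)) := by
  rw [preimage_basicOpen_eq]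
  exact Groth.Agent.S3833.result _ _ (germ_mem_nonZeroDivisors p a ha)

/-- If the image of the germ of `s` at `c` is nonzero in a field `K` over the local ring, then the
`K`-point of `C` lands in the basic open of `s`. -/
theorem range_generic_subset_basicOpen (C : Scheme.{u}) (c : C) (s : Γ(C, ⊤))
    (K : Type u) [Field K] [Algebra (C.presheaf.stalk c) K]
    (hs : algebraMap (C.presheaf.stalk c) K (C.presheaf.germ ⊤ c trivial s) ≠ 0) :
    Set.range (Spec.map (CommRingCat.ofHom (algebraMap (C.presheaf.stalk c) K)) ≫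
      C.fromSpecStalk c) ⊆ C.basicOpen s := by
  rintro _ ⟨x, rfl⟩
  set j := Spec.map (CommRingCat.ofHom (algebraMap (C.presheaf.stalk c) K)) ≫
      C.fromSpecStalk c with hj
  show x ∈ j ⁻¹ᵁ C.basicOpen s
  rw [Scheme.preimage_basicOpen_top]
  have hu : IsUnit (j.appTop s) := by
    have h1 : j.appTop s = (Scheme.ΓSpecIso (CommRingCat.of K)).inv
        (algebraMap (C.presheaf.stalk c) K (C.presheaf.germ ⊤ c trivial s)) := by
      rw [hj, Scheme.Hom.comp_appTop, Scheme.fromSpecStalk_appTop]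
      simp only [CommRingCat.comp_apply, Category.assoc]
      have := Scheme.ΓSpecIso_inv_naturality (CommRingCat.ofHom (algebraMap (C.presheaf.stalk c) K))
      have h2 := congr($this (C.presheaf.germ ⊤ c trivial s))
      simp only [CommRingCat.comp_apply] at h2
      exact h2.symm
    rw [h1]
    exact (IsUnit.mk0 _ hs).map _
  rw [Scheme.basicOpen_of_isUnit _ hu]
  trivial

/-- Existence part of the valuative criterion for a proper morphism. -/
theorem exists_lift_of_isProper {Z C : Scheme.{u}} (g : Z ⟶ C) [IsProper g]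
    (A : CommRingCat.{u}) [IsDomain A] [ValuationRing A] (K : Type u) [Field K] [Algebra A K]
    [IsFractionRing A K]
    (i₁ : Spec (.of K) ⟶ Z) (i₂ : Spec A ⟶ C)
    (h : i₁ ≫ g = Spec.map (CommRingCat.ofHom (algebraMap A K)) ≫ i₂) :
    ∃ w : Spec A ⟶ Z, w ≫ g = i₂ ∧
      Spec.map (CommRingCat.ofHom (algebraMap A K)) ≫ w = i₁ := by
  have hex : ValuativeCriterion.Existence g := by
    have h1 : UniversallyClosed g := inferInstance
    rw [UniversallyClosed.eq_valuativeCriterion] at h1
    exact h1.1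
  obtain ⟨l⟩ := (hex ⟨A, K, i₁, i₂, ⟨h⟩⟩).exists_lift
  exact ⟨l.l, l.fac_right, l.fac_left⟩

/-- A Noetherian local normal domain of dimension one is a valuation ring. -/
theorem valuationRing_of_normal_dim_one (A : Type u) [CommRing A] [IsDomain A] [IsLocalRing A]
    [IsNoetherianRing A] [IsIntegrallyClosed A] (h : ringKrullDim A = 1) : ValuationRing A := by
  have hf : ¬ IsField A := by
    intro hf
    have := ringKrullDim_eq_zero_of_isField hf
    rw [h] at this
    exact one_ne_zero this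
  have : Ring.KrullDimLE 1 A := Ring.krullDimLE_iff.mpr h.le
  have hm : IsLocalRing.maximalIdeal A ≠ ⊥ := IsLocalRing.isField_iff_maximalIdeal_eq.not.mp hf
  have h3 : IsIntegrallyClosed A ∧ ∃! P : Ideal A, P ≠ ⊥ ∧ P.IsPrime := by
    refine ⟨inferInstance, IsLocalRing.maximalIdeal A, ⟨hm, inferInstance⟩, ?_⟩
    rintro P ⟨hP0, hP⟩
    exact IsLocalRing.eq_maximalIdeal (hP.isMaximal_of_ne_bot hP0)
  exact ((IsDiscreteValuationRing.TFAE A hf).out 1 3).mpr h3

/-- Let `g : Z ⟶ C` be proper and of finite presentation over a locally Noetherian `C`,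
an isomorphism over an open `U` such that `U` and `g⁻¹ U` are schematically dense.  If the local
ring at `c` is a valuation ring whose generic point lies in `U`, then `g` is an isomorphism over a
neighbourhood of `c`. -/
theorem exists_nhd_isIso {C Z : Scheme.{u}} [IsLocallyNoetherian C] (g : Z ⟶ C) [IsProper g]
    [LocallyOfFinitePresentation g]
    (U : C.Opens) (hU : CInt.IsSchematicallyDense U)
    (hZU : CInt.IsSchematicallyDense (g ⁻¹ᵁ U))
    (hgen : IsIso (g ∣_ U)) (c : C) [IsDomain (C.presheaf.stalk c)]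
    [ValuationRing (C.presheaf.stalk c)]
    (hc : Set.range (Spec.map (CommRingCat.ofHom (algebraMap (C.presheaf.stalk c)
      (FractionRing (C.presheaf.stalk c)))) ≫ C.fromSpecStalk c) ⊆ U) :
    ∃ V : C.Opens, c ∈ V ∧ IsIso (g ∣_ V) := by
  have hmono := Helper14.Ner.mono_ι_comp g U hgen
  have := hgen
  let h : (U : Scheme.{u}) ⟶ Z := inv (g ∣_ U) ≫ (g ⁻¹ᵁ U).ι
  have hh : h ≫ g = U.ι ≫ 𝟙 C := by
    rw [Category.comp_id, Category.assoc, ← morphismRestrict_ι, IsIso.inv_hom_id_assoc]
  set φ := CommRingCat.ofHom (algebraMap (C.presheaf.stalk c)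
      (FractionRing (C.presheaf.stalk c))) with hφ
  -- the generic point
  let j₀ : Spec (.of (FractionRing (C.presheaf.stalk c))) ⟶ U :=
    IsOpenImmersion.lift U.ι (Spec.map φ ≫ C.fromSpecStalk c)
      (by rw [Scheme.Opens.range_ι]; exact hc)
  have hj₀ : j₀ ≫ U.ι = Spec.map φ ≫ C.fromSpecStalk c := IsOpenImmersion.lift_fac _ _ _
  let i₁ : Spec (.of (FractionRing (C.presheaf.stalk c))) ⟶ Z := j₀ ≫ h
  have hi₁ : i₁ ≫ g = Spec.map φ ≫ C.fromSpecStalk c := by
    rw [Category.assoc, hh, Category.comp_id, hj₀]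
  obtain ⟨w, hw1, -⟩ := exists_lift_of_isProper g (C.presheaf.stalk c)
    (FractionRing (C.presheaf.stalk c)) i₁ (C.fromSpecStalk c) hi₁
  have hcompat : pullback.fst (C.fromSpecStalk c) U.ι ≫ w =
      pullback.snd (C.fromSpecStalk c) U.ι ≫ h := by
    have e1 : (pullback.fst (C.fromSpecStalk c) U.ι ≫ w) ≫ g =
        (pullback.snd (C.fromSpecStalk c) U.ι ≫ h) ≫ g := by
      rw [Category.assoc, hw1, Category.assoc, hh, Category.comp_id, pullback.condition]
    refine Helper14.Ner.eq_of_comp_eq g U hmono _ _ e1 ?_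
    intro t
    rw [← Scheme.Hom.comp_apply, e1, Category.assoc, hh, Category.comp_id,
      Scheme.Hom.comp_apply]
    exact (pullback.snd (C.fromSpecStalk c) U.ι t).2
  obtain ⟨V, v, hcV, hv, -⟩ :=
    (Groth.Agent.S5104.result (pX := 𝟙 C) (pY := g) (Or.inl inferInstance) U hU h hh c).2
      ⟨w, by rw [hw1, Category.comp_id], hcompat⟩
  refine ⟨V, hcV, ?_⟩
  have hv' : v ≫ g = V.ι := by rw [hv, Category.comp_id]
  have hrange : Set.range v ⊆ Set.range (g ⁻¹ᵁ V).ι := by
    rintro _ ⟨t, rfl⟩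
    rw [Scheme.Opens.range_ι]
    show g (v t) ∈ V
    rw [← Scheme.Hom.comp_apply, hv']
    exact t.2
  let σ : (V : Scheme.{u}) ⟶ (g ⁻¹ᵁ V) := IsOpenImmersion.lift (g ⁻¹ᵁ V).ι v hrange
  have hσ : σ ≫ (g ⁻¹ᵁ V).ι = v := IsOpenImmersion.lift_fac _ _ _
  have h1 : σ ≫ g ∣_ V = 𝟙 _ := by
    rw [← cancel_mono V.ι, Category.assoc, morphismRestrict_ι, ← Category.assoc, hσ, hv',
      Category.id_comp]
  have h2 : g ∣_ V ≫ σ = 𝟙 _ := by
    let ι := Z.homOfLE (inf_le_left : g ⁻¹ᵁ V ⊓ g ⁻¹ᵁ U ≤ g ⁻¹ᵁ V)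
    have : IsSchemeTheoreticallyDominant ι :=
      Helper14.Ner.isSchemeTheoreticallyDominant_homOfLE hZU (g ⁻¹ᵁ V)
    have : IsSeparated (g ∣_ V) := inferInstance
    refine Helper14.Ner.ext_of_isSchemeTheoreticallyDominant (g ∣_ V) ?_ ι ?_
    · rw [Category.assoc, h1, Category.comp_id, Category.id_comp]
    · rw [← cancel_mono (g ⁻¹ᵁ V).ι]
      refine (Helper14.Ner.eq_of_comp_eq g U hmono _ _ ?_ ?_).symm
      · simp only [Category.assoc]
        rw [← morphismRestrict_ι, reassoc_of% h1, Category.id_comp]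
      · intro t
        have e : (ι ≫ 𝟙 _) ≫ (g ⁻¹ᵁ V).ι = (g ⁻¹ᵁ V ⊓ g ⁻¹ᵁ U).ι := by
          rw [Category.comp_id, Scheme.homOfLE_ι]
        rw [e]
        exact t.2.2
  exact ⟨σ, h2, h1⟩

end Groth.Agent.Helper4.ModelIso
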