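import Mathlib
import Groth.Agent.Lib.Helper3.FGColim
import Groth.Agent.Lib.Helper7.LimBC

/-!
# Reflecting specializations after base change: reduction to base changes locally of finite type
-/

set_option autoImplicit false

open CategoryTheory Limits AlgebraicGeometry

universe u

namespace Groth.Agent.Helper4.ReflSpec

/-- the base change of `f` along `g` reflects specializations (for every pullback square). -/
def RS {X Y X' : Scheme.{u}} (f : Y ⟶ X) (g : X' ⟶ X) : Prop :=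
  ∀ ⦃P : Scheme.{u}⦄ (a : P ⟶ Y) (b : P ⟶ X'), IsPullback a b f g →
    ∀ p₀ p₁ : P, b p₁ ⤳ b p₀ → p₁ ⤳ p₀

theorem rs_of_pullback {X Y X' : Scheme.{u}} (f : Y ⟶ X) (g : X' ⟶ X)
    (h : ∀ y₀ y₁ : ↥(pullback f g), (pullback.snd f g) y₁ ⤳ (pullback.snd f g) y₀ → y₁ ⤳ y₀) :
    RS f g := by
  intro P a b hP p₀ p₁ hsp
  let e := hP.isoPullback
  have hb : e.hom ≫ pullback.snd f g = b := hP.isoPullback_hom_snd
  have h1 : e.hom p₁ ⤳ e.hom p₀ := by
    apply h
    rw [← Scheme.Hom.comp_apply, ← Scheme.Hom.comp_apply, hb]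
    exact hsp
  have h2 := h1.map e.inv.continuous
  rw [← Scheme.Hom.comp_apply, ← Scheme.Hom.comp_apply, e.hom_inv_id] at h2
  simpa using h2

theorem RS.pullback {X Y X' : Scheme.{u}} {f : Y ⟶ X} {g : X' ⟶ X} (h : RS f g)
    (y₀ y₁ : ↥(pullback f g)) (hsp : (pullback.snd f g) y₁ ⤳ (pullback.snd f g) y₀) : y₁ ⤳ y₀ :=
  h _ _ (IsPullback.of_hasPullback f g) y₀ y₁ hsp

/-- localisation on the base change -/
theorem of_openImmersion {X Y X' X'' : Scheme.{u}} (f : Y ⟶ X) (g : X' ⟶ X) (j : X'' ⟶ X')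
    [IsOpenImmersion j] (h : RS f (j ≫ g)) (y₀ y₁ : ↥(pullback f g))
    (hy₀ : (pullback.snd f g) y₀ ∈ Set.range j)
    (hsp : (pullback.snd f g) y₁ ⤳ (pullback.snd f g) y₀) : y₁ ⤳ y₀ := by
  let m : pullback f (j ≫ g) ⟶ pullback f g :=
    pullback.map f (j ≫ g) f g (𝟙 Y) j (𝟙 X) (by simp) (by simp)
  have hm : Set.range m = pullback.fst f g ⁻¹' Set.range (𝟙 Y : Y ⟶ Y) ∩
      pullback.snd f g ⁻¹' Set.range j :=
    Scheme.Pullback.range_map _ _ _ _ _ _ _ _ _
  have hy₁ : (pullback.snd f g) y₁ ∈ Set.range j :=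
    hsp.mem_open j.isOpenEmbedding.isOpen_range hy₀
  have hms : m ≫ pullback.snd f g = pullback.snd f (j ≫ g) ≫ j := pullback.lift_snd _ _ _
  obtain ⟨z₀, rfl⟩ : y₀ ∈ Set.range m := by
    rw [hm]
    exact ⟨⟨pullback.fst f g y₀, rfl⟩, hy₀⟩
  obtain ⟨z₁, rfl⟩ : y₁ ∈ Set.range m := by
    rw [hm]
    exact ⟨⟨pullback.fst f g y₁, rfl⟩, hy₁⟩
  rw [← Scheme.Hom.comp_apply, ← Scheme.Hom.comp_apply, hms, Scheme.Hom.comp_apply,
    Scheme.Hom.comp_apply, j.isOpenEmbedding.isInducing.specializes_iff] at hsp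
  exact (h.pullback z₀ z₁ hsp).map m.continuous

section affine

open Groth.Agent.Helper3.FGColim Groth.Agent.Helper7.LimBC

variable {X Y : Scheme.{u}} (f : Y ⟶ X)
  (K B : Type u) [CommRing K] [CommRing B] [Algebra K B] (r : Spec (CommRingCat.of K) ⟶ X)
  [LocallyOfFiniteType r]

set_option maxHeartbeats 1000000 in
theorem rs_affine (h : ∀ (X' : Scheme.{u}) (g : X' ⟶ X) [LocallyOfFiniteType g], RS f g) :
    RS f (Spec.map (CommRingCat.ofHom (algebraMap K B)) ≫ r) := by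
  classical
  let J := FGSub K B
  let F : J ⥤ Under (CommRingCat.of K) := diagram K B
  let c : Cocone F := cocone K B
  have hc : IsColimit c := isColimit
  have : IsFiltered J := inferInstance
  have : IsConnected J := IsFiltered.isConnected J
  let E : Jᵒᵖ ⥤ Scheme.{u} := (F ⋙ Under.forget _).op ⋙ Scheme.Spec
  let cE : Cone E := Scheme.Spec.mapCone ((Under.forget _).mapCocone c).op
  have hcE : IsLimit cE :=
    isLimitOfPreserves Scheme.Spec (isColimitOfPreserves (Under.forget _) hc).op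
  have haff : ∀ {i j : Jᵒᵖ} (m : i ⟶ j), IsAffineHom (E.map m) := fun m => by
    dsimp [E]; infer_instance
  -- structure maps
  let q : ∀ j : Jᵒᵖ, E.obj j ⟶ X := fun j => Spec.map (F.obj j.unop).hom ≫ r
  have hq : ∀ {j k : Jᵒᵖ} (m : j ⟶ k), E.map m ≫ q k = q j := by
    intro j k m
    change Spec.map (F.map m.unop).right ≫ Spec.map (F.obj k.unop).hom ≫ r =
      Spec.map (F.obj j.unop).hom ≫ r
    rw [← Spec.map_comp_assoc, Under.w]
  have hqπ : ∀ j : Jᵒᵖ, cE.π.app j ≫ q j =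
      Spec.map (CommRingCat.ofHom (algebraMap K B)) ≫ r := by
    intro j
    change Spec.map (c.ι.app j.unop).right ≫ Spec.map (F.obj j.unop).hom ≫ r = _
    rw [← Spec.map_comp_assoc, Under.w]
    rfl
  have hlft : ∀ j : Jᵒᵖ, LocallyOfFiniteType (q j) := by
    intro j
    have h1 : LocallyOfFiniteType (Spec.map (F.obj j.unop).hom) := by
      rw [HasRingHomProperty.Spec_iff (P := @LocallyOfFiniteType)]
      have : Algebra.FiniteType K j.unop.1 := (Subalgebra.fg_iff_finiteType _).1 j.unop.2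
      change (algebraMap K j.unop.1).FiniteType
      exact RingHom.finiteType_algebraMap.2 this
    exact inferInstanceAs (LocallyOfFiniteType (Spec.map (F.obj j.unop).hom ≫ r))
  let i : Jᵒᵖ := Opposite.op ⟨⊥, Subalgebra.fg_bot⟩
  let gT : pullback f (q i) ⟶ E.obj i := pullback.snd f (q i)
  let G := pbDiagram E i gT
  let cG := pbCone E cE i gT
  have hcG : IsLimit cG := isLimitPbCone E cE hcE i gT
  have sq : ∀ k : Over i, IsPullback (pullback.snd (E.map k.hom) gT ≫ pullback.fst f (q i))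
      (pullback.fst (E.map k.hom) gT) f (q k.left) := by
    intro k
    have h1 : IsPullback (pullback.snd (E.map k.hom) gT) (pullback.fst (E.map k.hom) gT) gT
        (E.map k.hom) := (IsPullback.of_hasPullback _ _).flip
    have h2 : IsPullback (pullback.fst f (q i)) gT f (q i) := IsPullback.of_hasPullback _ _
    have h3 := h1.paste_horiz h2
    rwa [hq] at h3
  have sqpt : IsPullback (pullback.snd (cE.π.app i) gT ≫ pullback.fst f (q i))
      (pullback.fst (cE.π.app i) gT) f (Spec.map (CommRingCat.ofHom (algebraMap K B)) ≫ r) := by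
    have h1 : IsPullback (pullback.snd (cE.π.app i) gT) (pullback.fst (cE.π.app i) gT) gT
        (cE.π.app i) := (IsPullback.of_hasPullback _ _).flip
    have h2 : IsPullback (pullback.fst f (q i)) gT f (q i) := IsPullback.of_hasPullback _ _
    have h3 := h1.paste_horiz h2
    rwa [hqπ] at h3
  have main : ∀ w₀ w₁ : ↥(pullback (cE.π.app i) gT),
      pullback.fst (cE.π.app i) gT w₁ ⤳ pullback.fst (cE.π.app i) gT w₀ → w₁ ⤳ w₀ := by
    intro w₀ w₁ hsp
    rw [specializes_iff_forall_open]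
    intro N hN hw₀
    obtain ⟨_, ⟨k, V, hV, rfl⟩, hw₀V, hle⟩ := TopologicalSpace.Opens.isBasis_iff_nbhd.mp
      (isBasis_preimage_isAffineOpen G cG hcG) (U := ⟨N, hN⟩) hw₀
    apply hle
    have hk := hlft k.left
    let πk : pullback (cE.π.app i) gT ⟶ pullback (E.map k.hom) gT := cG.π.app k
    have e1 : πk ≫ pullback.fst (E.map k.hom) gT =
        pullback.fst (cE.π.app i) gT ≫ cE.π.app k.left := pullback.lift_fst _ _ _
    have h3 : πk w₁ ⤳ πk w₀ := by
      apply h _ (q k.left) _ _ (sq k)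
      rw [← Scheme.Hom.comp_apply, ← Scheme.Hom.comp_apply, e1, Scheme.Hom.comp_apply,
        Scheme.Hom.comp_apply]
      exact hsp.map (cE.π.app k.left).continuous
    exact h3.mem_open V.2 hw₀V
  intro P a b hP p₀ p₁ hsp
  let e : P ≅ pullback (cE.π.app i) gT := hP.isoIsPullback _ _ sqpt
  have hb : e.hom ≫ pullback.fst (cE.π.app i) gT = b := hP.isoIsPullback_hom_snd _ _ sqpt
  have h1 : e.hom p₁ ⤳ e.hom p₀ := by
    apply main
    rw [← Scheme.Hom.comp_apply, ← Scheme.Hom.comp_apply, hb]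
    exact hsp
  have h2 := h1.map e.inv.continuous
  rw [← Scheme.Hom.comp_apply, ← Scheme.Hom.comp_apply, e.hom_inv_id] at h2
  simpa using h2

end affine

theorem main {X Y : Scheme.{u}} (f : Y ⟶ X)
    (h : ∀ (X' : Scheme.{u}) (g : X' ⟶ X) [LocallyOfFiniteType g], RS f g)
    (X' : Scheme.{u}) (g : X' ⟶ X) (y₀ y₁ : ↥(pullback f g))
    (hsp : (pullback.snd f g) y₁ ⤳ (pullback.snd f g) y₀) : y₁ ⤳ y₀ := by
  set x' := (pullback.snd f g) y₀ with hx'
  obtain ⟨_, ⟨U, hU, rfl⟩, hxU, -⟩ := X.isBasis_affineOpens.exists_subset_of_mem_open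
    (Set.mem_univ (g x')) isOpen_univ
  obtain ⟨_, ⟨W, hW, rfl⟩, hxW, hWU⟩ := X'.isBasis_affineOpens.exists_subset_of_mem_open
    (show x' ∈ ((g ⁻¹ᵁ U : X'.Opens) : Set X') from hxU) (g ⁻¹ᵁ U).2
  have e : W ≤ g ⁻¹ᵁ U := hWU
  letI : Algebra Γ(X, U) Γ(X', W) := (g.appLE U W e).hom.toAlgebra
  have hrs := rs_affine f Γ(X, U) Γ(X', W) hU.fromSpec h
  have hfac : Spec.map (CommRingCat.ofHom (algebraMap Γ(X, U) Γ(X', W))) ≫ hU.fromSpec =
      hW.fromSpec ≫ g := IsAffineOpen.SpecMap_appLE_fromSpec g hU hW e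
  rw [hfac] at hrs
  refine of_openImmersion f g hW.fromSpec hrs y₀ y₁ ?_ hsp
  rw [hW.range_fromSpec]
  exact hxW

end Groth.Agent.Helper4.ReflSpec
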