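import Mathlib
import Groth.Agent.Lib.Helper4.ReflSpec
import Groth.Agent.Lib.Helper4.DVRSpec

/-!
# Monomorphisms of schemes induce isomorphisms on residue fields; DVR criterion for
reflecting specializations
-/

set_option autoImplicit false
universe u
open CategoryTheory CategoryTheory.Limits AlgebraicGeometry TensorProduct

namespace Groth.Agent.Helper4.MonoRes

theorem surjective_of_tmul (K L : Type u) [Field K] [Field L] [Algebra K L]
    (h : ∀ s : L, s ⊗ₜ[K] (1 : L) = (1 : L) ⊗ₜ[K] s) : Function.Surjective (algebraMap K L) := by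
  intro a
  by_contra hcon
  have h1 : (1 : L) ∉ Submodule.span K {a} := by
    intro h1
    obtain ⟨c, hc⟩ := Submodule.mem_span_singleton.1 h1
    have hc0 : c ≠ 0 := by
      rintro rfl
      rw [zero_smul] at hc
      exact zero_ne_one hc
    apply hcon
    refine ⟨c⁻¹, ?_⟩
    have : a = c⁻¹ • (1 : L) := by
      rw [← hc, smul_smul, inv_mul_cancel₀ hc0, one_smul]
    rw [this, Algebra.algebraMap_eq_smul_one]
  obtain ⟨f, hf1, hfa⟩ := Submodule.exists_le_ker_of_notMem h1
  let G : L ⊗[K] L →ₗ[K] L := (TensorProduct.lid K L).toLinearMap ∘ₗ (LinearMap.rTensor L f)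
  have hG : ∀ s t : L, G (s ⊗ₜ t) = f s • t := by
    intro s t
    simp [G]
  have h2 := congrArg G (h a)
  rw [hG, hG] at h2
  have hfa0 : f a = 0 := hfa (Submodule.mem_span_singleton_self a)
  rw [hfa0, zero_smul] at h2
  have ha0 : a = 0 := by
    rcases smul_eq_zero.1 h2.symm with h3 | h3
    · exact absurd h3 hf1
    · exact h3
  exact hcon ⟨0, by rw [map_zero, ha0]⟩

theorem surjective_of_epi {K L : Type u} [Field K] [Field L]
    (f : CommRingCat.of K ⟶ CommRingCat.of L) (hf : Epi f) : Function.Surjective f.hom := by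
  letI : Algebra K L := f.hom.toAlgebra
  have h0 : Epi (CommRingCat.ofHom (algebraMap K L)) := hf
  have h1 : Algebra.IsEpi K L := CommRingCat.epi_iff_epi.mp h0
  have h := (Algebra.isEpi_iff_forall_one_tmul_eq K L).1 h1
  exact surjective_of_tmul K L (fun s => (h s).symm)

variable {P X' : Scheme.{u}} (p : P ⟶ X') [Mono p]

/-- a monomorphism of schemes induces epimorphisms on residue fields -/
theorem epi_residueFieldMap (y : P) : Epi (p.residueFieldMap y) := by
  constructor
  intro T i₁ i₂ h12
  have hab : (Spec.map i₁ ≫ P.fromSpecResidueField y) ≫ p =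
      (Spec.map i₂ ≫ P.fromSpecResidueField y) ≫ p := by
    rw [Category.assoc, Category.assoc, ← p.SpecMap_residueFieldMap_fromSpecResidueField y,
      ← Spec.map_comp_assoc, ← Spec.map_comp_assoc, h12]
  have h3 : Spec.map i₁ ≫ P.fromSpecResidueField y = Spec.map i₂ ≫ P.fromSpecResidueField y :=
    (cancel_mono p).1 hab
  have h4 : Spec.map i₁ = Spec.map i₂ := (cancel_mono (P.fromSpecResidueField y)).1 h3
  exact Spec.map_injective h4

/-- a monomorphism of schemes induces isomorphisms on residue fields -/
theorem isIso_residueFieldMap (y : P) : IsIso (p.residueFieldMap y) := by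
  have hepi := epi_residueFieldMap p y
  have hsurj : Function.Surjective (p.residueFieldMap y).hom :=
    surjective_of_epi (K := IsLocalRing.ResidueField (X'.presheaf.stalk (p y)))
      (L := IsLocalRing.ResidueField (P.presheaf.stalk y)) (p.residueFieldMap y) hepi
  have hbij : Function.Bijective (p.residueFieldMap y).hom :=
    ⟨(p.residueFieldMap y).hom.injective, hsurj⟩
  exact (ConcreteCategory.isIso_iff_bijective (p.residueFieldMap y)).2 hbij

/-- lifting field-valued points through a monomorphism, given a preimage of the point -/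
theorem exists_lift_of_residueField (k : CommRingCat.{u}) (x : X') (ρ : X'.residueField x ⟶ k)
    (y : P) (hy : p y = x) :
    ∃ l : Spec k ⟶ P, l ≫ p = Spec.map ρ ≫ X'.fromSpecResidueField x := by
  subst hy
  haveI := isIso_residueFieldMap p y
  refine ⟨Spec.map (inv (p.residueFieldMap y) ≫ ρ) ≫ P.fromSpecResidueField y, ?_⟩
  rw [Category.assoc, ← p.SpecMap_residueFieldMap_fromSpecResidueField y, ← Spec.map_comp_assoc]
  congr 2
  rw [IsIso.hom_inv_id_assoc]

theorem exists_lift_of_field (K : Type u) [Field K] (m : Spec (CommRingCat.of K) ⟶ X') (y : P)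
    (hy : p y = m (IsLocalRing.closedPoint K)) : ∃ l : Spec (CommRingCat.of K) ⟶ P, l ≫ p = m := by
  have h1 := (X'.SpecToEquivOfField K).symm_apply_apply m
  obtain ⟨l, hl⟩ := exists_lift_of_residueField p (CommRingCat.of K) _
    ((X'.SpecToEquivOfField K) m).2 y hy
  refine ⟨l, hl.trans ?_⟩
  exact h1

end Groth.Agent.Helper4.MonoRes
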