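import Mathlib
import Groth.Agent.Lib.Helper4.MonoRes

/-!
# DVR criterion for a monomorphism to reflect specializations universally
-/

set_option autoImplicit false
universe u
open CategoryTheory CategoryTheory.Limits AlgebraicGeometry

namespace Groth.Agent.Helper4.MonoDVR

open Groth.Agent.Helper4

variable {X Y : Scheme.{u}} [IsLocallyNoetherian X] (f : Y ⟶ X) [Mono f]

set_option maxHeartbeats 1000000 in
theorem key
    (h : ∀ S : ValuativeCommSq f, IsDiscreteValuationRing S.R →
        (∃ l₀ : Spec (CommRingCat.of (IsLocalRing.ResidueField S.R)) ⟶ Y,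
            l₀ ≫ f = Spec.map (CommRingCat.ofHom (IsLocalRing.residue S.R)) ≫ S.i₂) →
          S.commSq.HasLift)
    (X' : Scheme.{u}) (g : X' ⟶ X) [LocallyOfFiniteType g] (y₀ y₁ : ↥(pullback f g))
    (hsp : (pullback.snd f g) y₁ ⤳ (pullback.snd f g) y₀) : y₁ ⤳ y₀ := by
  haveI : IsLocallyNoetherian X' := LocallyOfFiniteType.isLocallyNoetherian g
  let p : pullback f g ⟶ X' := pullback.snd f g
  haveI : Mono p := inferInstance
  have hinj : Function.Injective p := p.injective
  by_cases hne : p y₀ = p y₁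
  · rw [hinj hne]
  have hsp' : (𝟙 X' : X' ⟶ X') (p y₁) ⤳ p y₀ := hsp
  obtain ⟨A, hA, hdvr, hclosed, hcomm⟩ :=
    DVRSpec.exists_dvr_through_specialization (𝟙 X') (p y₁) (p y₀) hsp' hne
  rw [Category.comp_id] at hcomm
  -- the generic point
  obtain ⟨i₁', hi₁'⟩ := MonoRes.exists_lift_of_residueField p (X'.residueField (p y₁)) (p y₁)
    (𝟙 _) y₁ rfl
  rw [Spec.map_id, Category.id_comp] at hi₁'
  -- the closed point
  let m : Spec (CommRingCat.of (IsLocalRing.ResidueField A)) ⟶ X' :=
    Spec.map (CommRingCat.ofHom (IsLocalRing.residue A)) ≫ hA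
  have hm : p y₀ = m (IsLocalRing.closedPoint (IsLocalRing.ResidueField A)) := by
    change p y₀ = hA ((Spec.map (CommRingCat.ofHom (IsLocalRing.residue A)))
      (IsLocalRing.closedPoint (IsLocalRing.ResidueField A)))
    have h1 : (Spec.map (CommRingCat.ofHom (IsLocalRing.residue A)))
        (IsLocalRing.closedPoint (IsLocalRing.ResidueField A)) = IsLocalRing.closedPoint A :=
      IsLocalRing.comap_closedPoint (IsLocalRing.residue A)
    rw [h1]
    exact hclosed.symm
  obtain ⟨l₀', hl₀'⟩ := MonoRes.exists_lift_of_field p (IsLocalRing.ResidueField A) m y₀ hm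
  -- the valuative square
  let Sq : ValuativeCommSq f :=
    { R := A
      K := X'.residueField (p y₁)
      i₁ := i₁' ≫ pullback.fst f g
      i₂ := hA ≫ g
      commSq := ⟨by
        rw [Category.assoc, pullback.condition, ← Category.assoc]
        change (i₁' ≫ p) ≫ g = _
        rw [hi₁', ← hcomm, Category.assoc]
        rfl⟩ }
  have hlift : Sq.commSq.HasLift := h Sq hdvr ⟨l₀' ≫ pullback.fst f g, by
    rw [Category.assoc, pullback.condition, ← Category.assoc]
    change (l₀' ≫ p) ≫ g = _
    rw [hl₀', Category.assoc]⟩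
  obtain ⟨⟨l, hl₁, hl₂⟩⟩ := hlift.exists_lift
  let l' : Spec (CommRingCat.of A) ⟶ pullback f g := pullback.lift l hA hl₂
  have hl'p : l' ≫ p = hA := pullback.lift_snd _ _ _
  let η : Spec (CommRingCat.of A) :=
    (Spec.map (CommRingCat.ofHom A.subtype))
      (IsLocalRing.closedPoint (X'.residueField (p y₁)))
  have hη : l' η = y₁ := by
    apply hinj
    change (l' ≫ p) η = p y₁
    rw [hl'p]
    change (Spec.map (CommRingCat.ofHom A.subtype) ≫ hA)
      (IsLocalRing.closedPoint (X'.residueField (p y₁))) = p y₁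
    rw [hcomm, Scheme.fromSpecResidueField_apply]
  have hcl : l' (IsLocalRing.closedPoint A) = y₀ := by
    apply hinj
    change (l' ≫ p) (IsLocalRing.closedPoint A) = p y₀
    rw [hl'p]
    exact hclosed
  have h3 := (IsLocalRing.specializes_closedPoint η).map l'.continuous
  rw [hη, hcl] at h3
  exact h3

theorem main
    (h : ∀ S : ValuativeCommSq f, IsDiscreteValuationRing S.R →
        (∃ l₀ : Spec (CommRingCat.of (IsLocalRing.ResidueField S.R)) ⟶ Y,
            l₀ ≫ f = Spec.map (CommRingCat.ofHom (IsLocalRing.residue S.R)) ≫ S.i₂) →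
          S.commSq.HasLift)
    (X' : Scheme.{u}) (g : X' ⟶ X) (y₀ y₁ : ↥(pullback f g))
    (hsp : (pullback.snd f g) y₁ ⤳ (pullback.snd f g) y₀) : y₁ ⤳ y₀ :=
  ReflSpec.main f (fun X' g _ => ReflSpec.rs_of_pullback f g (key f h X' g)) X' g y₀ y₁ hsp

end Groth.Agent.Helper4.MonoDVR
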