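import Mathlib
import Groth.Agent.Lib.Helper4.MonoRes

/-!
# A monomorphism with the "dense lifting" property over a locally Noetherian base is quasi-compact
-/

set_option autoImplicit false
universe u
open CategoryTheory CategoryTheory.Limits AlgebraicGeometry TopologicalSpace

namespace Groth.Agent.Helper4.MonoQC

/-- Noetherian induction on closed subsets through irreducible closed subsets. -/
theorem closed_induction {α : Type*} [TopologicalSpace α] [NoetherianSpace α] (P : Set α → Prop)
    (h0 : P ∅) (hunion : ∀ Z₁ Z₂ : Set α, P Z₁ → P Z₂ → P (Z₁ ∪ Z₂))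
    (hirr : ∀ Z : Set α, IsClosed Z → IsIrreducible Z →
      (∀ Z' : Set α, IsClosed Z' → Z' ⊂ Z → P Z') → P Z) :
    ∀ Z : Set α, IsClosed Z → P Z := by
  have hN : NoetherianSpace α := inferInstance
  have hwf : WellFoundedLT (Closeds α) := ((noetherianSpace_TFAE α).out 0 1).1 hN
  suffices h : ∀ Z : Closeds α, P (Z : Set α) from fun Z hZ => h ⟨Z, hZ⟩
  intro Z
  induction Z using hwf.induction with
  | _ Z ih =>
  by_cases hne : (Z : Set α) = ∅
  · rw [hne]; exact h0
  by_cases hirrZ : IsPreirreducible (Z : Set α)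
  · apply hirr _ Z.2 ⟨Set.nonempty_iff_ne_empty.2 hne, hirrZ⟩
    intro Z' hZ' hlt
    exact ih ⟨Z', hZ'⟩ hlt
  · rw [isPreirreducible_iff_isClosed_union_isClosed] at hirrZ
    push Not at hirrZ
    obtain ⟨z₁, z₂, hz₁, hz₂, hsub, h1, h2⟩ := hirrZ
    have e : (Z : Set α) = ((Z : Set α) ∩ z₁) ∪ ((Z : Set α) ∩ z₂) := by
      rw [← Set.inter_union_distrib_left]
      exact (Set.inter_eq_left.2 hsub).symm
    rw [e]
    apply hunion
    · refine ih ⟨(Z : Set α) ∩ z₁, Z.2.inter hz₁⟩ ?_
      refine lt_of_le_of_ne (fun x hx => hx.1) ?_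
      intro heq
      apply h1
      intro x hx
      have : x ∈ ((⟨(Z : Set α) ∩ z₁, Z.2.inter hz₁⟩ : Closeds α) : Set α) := by
        rw [heq]; exact hx
      exact this.2
    · refine ih ⟨(Z : Set α) ∩ z₂, Z.2.inter hz₂⟩ ?_
      refine lt_of_le_of_ne (fun x hx => hx.1) ?_
      intro heq
      apply h2
      intro x hx
      have : x ∈ ((⟨(Z : Set α) ∩ z₂, Z.2.inter hz₂⟩ : Closeds α) : Set α) := by
        rw [heq]; exact hx
      exact this.2


variable {X Y : Scheme.{u}} [IsLocallyNoetherian X] (f : Y ⟶ X) [Mono f]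

set_option maxHeartbeats 1000000 in
theorem isCompact_preimage
    (hc : ∀ (A : Type u) [CommRing A] [IsDomain A] (s : Spec (CommRingCat.of A) ⟶ X)
      (D : Set ↥(Spec (CommRingCat.of A))), Dense D →
        (∀ p ∈ D, ∃ l : Spec ((Spec (CommRingCat.of A)).residueField p) ⟶ Y,
            l ≫ f = (Spec (CommRingCat.of A)).fromSpecResidueField p ≫ s) →
          ∃ U : (Spec (CommRingCat.of A)).Opens, (U : Set ↥(Spec (CommRingCat.of A))).Nonempty ∧
            ∃ l : (U : Scheme.{u}) ⟶ Y, l ≫ f = U.ι ≫ s)
    (U : X.Opens) (hU : IsAffineOpen U) : IsCompact (f ⁻¹ᵁ U : Set Y) := by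
  have hinj : Function.Injective f := f.injective
  haveI hR : IsNoetherianRing Γ(X, U) := IsLocallyNoetherian.component_noetherian ⟨U, hU⟩
  haveI : NoetherianSpace ↥(Spec Γ(X, U)) :=
    inferInstanceAs (NoetherianSpace (PrimeSpectrum Γ(X, U)))
  let j : Spec Γ(X, U) ⟶ X := hU.fromSpec
  have key : ∀ Z : Set ↥(Spec Γ(X, U)), IsClosed Z → IsCompact (f ⁻¹' (j '' Z)) := by
    apply closed_induction
    · rw [Set.image_empty, Set.preimage_empty]
      exact isCompact_empty
    · intro Z₁ Z₂ h₁ h₂
      rw [Set.image_union, Set.preimage_union]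
      exact h₁.union h₂
    · intro Z hZ hZirr ih
      -- the prime ideal of `Z`
      let Z₀ : Set (PrimeSpectrum Γ(X, U)) := Z
      have hZ₀ : IsClosed Z₀ := hZ
      have hprime : (PrimeSpectrum.vanishingIdeal Z₀).IsPrime :=
        PrimeSpectrum.isIrreducible_iff_vanishingIdeal_isPrime.1 hZirr
      let 𝔭 : Ideal Γ(X, U) := PrimeSpectrum.vanishingIdeal Z₀
      have hZeq : PrimeSpectrum.zeroLocus (𝔭 : Set Γ(X, U)) = Z₀ := by
        rw [PrimeSpectrum.zeroLocus_vanishingIdeal_eq_closure, hZ₀.closure_eq]
      let A := Γ(X, U) ⧸ 𝔭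
      haveI : IsDomain A := Ideal.Quotient.isDomain 𝔭
      haveI : IsNoetherianRing A := inferInstance
      haveI : NoetherianSpace ↥(Spec (CommRingCat.of A)) :=
        inferInstanceAs (NoetherianSpace (PrimeSpectrum A))
      let q : Spec (CommRingCat.of A) ⟶ Spec Γ(X, U) :=
        Spec.map (CommRingCat.ofHom (Ideal.Quotient.mk 𝔭))
      have hqrange : Set.range q = Z := by
        have h1 := _root_.range_comap_of_surjective A (Ideal.Quotient.mk 𝔭)
          Ideal.Quotient.mk_surjective
        rw [Ideal.mk_ker] at h1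
        exact h1.trans hZeq
      have hqemb : Topology.IsClosedEmbedding q :=
        PrimeSpectrum.isClosedEmbedding_comap_of_surjective A (Ideal.Quotient.mk 𝔭)
          Ideal.Quotient.mk_surjective
      have hqinj : Function.Injective q := hqemb.injective
      let s : Spec (CommRingCat.of A) ⟶ X := q ≫ j
      let D : Set ↥(Spec (CommRingCat.of A)) := s ⁻¹' (Set.range f)
      by_cases hD : Dense D
      · -- the dense case
        have hlifts : ∀ p ∈ D, ∃ l : Spec ((Spec (CommRingCat.of A)).residueField p) ⟶ Y,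
            l ≫ f = (Spec (CommRingCat.of A)).fromSpecResidueField p ≫ s := by
          intro p hp
          obtain ⟨y, hy⟩ := hp
          refine MonoRes.exists_lift_of_field f
            (IsLocalRing.ResidueField ((Spec (CommRingCat.of A)).presheaf.stalk p))
            ((Spec (CommRingCat.of A)).fromSpecResidueField p ≫ s) y ?_
          have h2 : ((Spec (CommRingCat.of A)).fromSpecResidueField p ≫ s)
              (IsLocalRing.closedPoint ((Spec (CommRingCat.of A)).residueField p)) = s p := by
            rw [Scheme.Hom.comp_apply, Scheme.fromSpecResidueField_apply]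
          rw [hy]
          exact h2.symm
        obtain ⟨V, ⟨a₀, ha₀⟩, l, hl⟩ := hc A s D hD hlifts
        let Z' : Set ↥(Spec Γ(X, U)) := q '' ((V : Set ↥(Spec (CommRingCat.of A)))ᶜ)
        have hZ'cl : IsClosed Z' := hqemb.isClosedMap _ V.2.isClosed_compl
        have hZ'sub : Z' ⊂ Z := by
          refine ⟨?_, ?_⟩
          · rintro _ ⟨a, -, rfl⟩
            rw [← hqrange]
            exact ⟨a, rfl⟩
          · intro hsub
            have h1 : q a₀ ∈ Z := by rw [← hqrange]; exact ⟨a₀, rfl⟩
            obtain ⟨b, hb, hbq⟩ := hsub h1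
            rw [hqinj hbq] at hb
            exact hb ha₀
        have hK : IsCompact (Set.range l) := by
          have hVc : IsCompact (V : Set ↥(Spec (CommRingCat.of A))) :=
            NoetherianSpace.isCompact (V : Set ↥(Spec (CommRingCat.of A)))
          haveI : CompactSpace ↥(V : Scheme.{u}) := isCompact_iff_compactSpace.1 hVc
          exact isCompact_range l.continuous
        have heq : f ⁻¹' (j '' Z) = f ⁻¹' (j '' Z') ∪ Set.range l := by
          apply Set.Subset.antisymm
          · rintro y ⟨z, hz, hzy⟩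
            rw [← hqrange] at hz
            obtain ⟨a, rfl⟩ := hz
            by_cases haV : a ∈ V
            · right
              refine ⟨⟨a, haV⟩, ?_⟩
              apply hinj
              rw [← Scheme.Hom.comp_apply, hl, Scheme.Hom.comp_apply, Scheme.Hom.comp_apply]
              exact hzy
            · left
              exact ⟨q a, ⟨a, haV, rfl⟩, hzy⟩
          · rintro y (hy | hy)
            · obtain ⟨z, hz, hzy⟩ := hy
              exact ⟨z, hZ'sub.1 hz, hzy⟩
            · obtain ⟨v, rfl⟩ := hy
              refine ⟨q (V.ι v), ?_, ?_⟩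
              · rw [← hqrange]; exact ⟨_, rfl⟩
              · rw [← Scheme.Hom.comp_apply l f, hl, Scheme.Hom.comp_apply,
                  Scheme.Hom.comp_apply]
        rw [heq]
        exact (ih Z' hZ'cl hZ'sub).union hK
      · -- the non-dense case
        let C : Set ↥(Spec (CommRingCat.of A)) := closure D
        have hCne : ∃ a, a ∉ C := by
          by_contra hcon
          push Not at hcon
          exact hD (fun a => hcon a)
        obtain ⟨a₀, ha₀⟩ := hCne
        let Z' : Set ↥(Spec Γ(X, U)) := q '' C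
        have hZ'cl : IsClosed Z' := hqemb.isClosedMap _ isClosed_closure
        have hZ'sub : Z' ⊂ Z := by
          refine ⟨?_, ?_⟩
          · rintro _ ⟨a, -, rfl⟩
            rw [← hqrange]
            exact ⟨a, rfl⟩
          · intro hsub
            have h1 : q a₀ ∈ Z := by rw [← hqrange]; exact ⟨a₀, rfl⟩
            obtain ⟨b, hb, hbq⟩ := hsub h1
            rw [hqinj hbq] at hb
            exact ha₀ hb
        have heq : f ⁻¹' (j '' Z) = f ⁻¹' (j '' Z') := by
          apply Set.Subset.antisymm
          · rintro y ⟨z, hz, hzy⟩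
            rw [← hqrange] at hz
            obtain ⟨a, rfl⟩ := hz
            refine ⟨q a, ⟨a, subset_closure ⟨y, ?_⟩, rfl⟩, hzy⟩
            rw [Scheme.Hom.comp_apply]
            exact hzy.symm
          · rintro y ⟨z, hz, hzy⟩
            exact ⟨z, hZ'sub.1 hz, hzy⟩
        rw [heq]
        exact ih Z' hZ'cl hZ'sub
  have h1 := key Set.univ isClosed_univ
  rw [Set.image_univ, hU.range_fromSpec] at h1
  exact h1

theorem quasiCompact
    (hc : ∀ (A : Type u) [CommRing A] [IsDomain A] (s : Spec (CommRingCat.of A) ⟶ X)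
      (D : Set ↥(Spec (CommRingCat.of A))), Dense D →
        (∀ p ∈ D, ∃ l : Spec ((Spec (CommRingCat.of A)).residueField p) ⟶ Y,
            l ≫ f = (Spec (CommRingCat.of A)).fromSpecResidueField p ≫ s) →
          ∃ U : (Spec (CommRingCat.of A)).Opens, (U : Set ↥(Spec (CommRingCat.of A))).Nonempty ∧
            ∃ l : (U : Scheme.{u}) ⟶ Y, l ≫ f = U.ι ≫ s) : QuasiCompact f := by
  rw [quasiCompact_iff_forall_isAffineOpen]
  intro U hU
  exact isCompact_preimage f hc U hU

end Groth.Agent.Helper4.MonoQC
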