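import Mathlib
import Groth.Agent.Lib.Helper4.MonoQC
import Groth.Agent.Lib.Helper4.MonoDVR
import Groth.Agent.Lib.Helper4.SpecCl

/-!
# A monomorphism l.f.p. with the DVR lifting property and the dense lifting property is an immersion
-/

set_option autoImplicit false
universe u
open CategoryTheory CategoryTheory.Limits AlgebraicGeometry TopologicalSpace

namespace Groth.Agent.Helper4.MonoImm

theorem locallyQuasiFinite_of_mono {X Y : Scheme.{u}} (f : Y ⟶ X) [Mono f] [LocallyOfFiniteType f] : LocallyQuasiFinite f := by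
  apply LocallyQuasiFinite.of_finite_preimage_singleton
  intro x
  apply Set.Subsingleton.finite
  intro a ha b hb
  exact f.injective (ha.trans hb.symm)

variable {X Y : Scheme.{u}} [IsLocallyNoetherian X] (f : Y ⟶ X) [Mono f]

/-- Key claim: the normalization `N` of `X` in `Y`; a point of `N` over a point of `f(Y)` lies in
`Y`. -/
theorem mem_range_toNormalization [LocallyOfFiniteType f] [QuasiCompact f]
    (hb : ∀ S : ValuativeCommSq f, IsDiscreteValuationRing S.R →
        (∃ l₀ : Spec (CommRingCat.of (IsLocalRing.ResidueField S.R)) ⟶ Y,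
            l₀ ≫ f = Spec.map (CommRingCat.ofHom (IsLocalRing.residue S.R)) ≫ S.i₂) →
          S.commSq.HasLift)
    (n : f.normalization) (hn : f.fromNormalization n ∈ Set.range f) :
    n ∈ Set.range f.toNormalization := by
  obtain ⟨y', hy'⟩ := hn
  let j : Y ⟶ f.normalization := f.toNormalization
  let π : f.normalization ⟶ X := f.fromNormalization
  have hjπ : j ≫ π = f := f.toNormalization_fromNormalization
  -- a generization of n in Y
  obtain ⟨y₁, hy₁⟩ := SpecCl.exists_specializes_of_mem_closure_range j n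
    (by rw [j.denseRange.closure_eq]; exact Set.mem_univ _)
  -- the graph section
  let Γ : Y ⟶ pullback f π := pullback.lift (𝟙 Y) j (by rw [Category.id_comp, hjπ])
  have hΓ1 : Γ ≫ pullback.fst f π = 𝟙 Y := pullback.lift_fst _ _ _
  have hΓ2 : Γ ≫ pullback.snd f π = j := pullback.lift_snd _ _ _
  have : IsClosedImmersion (Γ ≫ pullback.fst f π) := by rw [hΓ1]; infer_instance
  have : IsClosedImmersion Γ := IsClosedImmersion.of_comp Γ (pullback.fst f π)
  have hcl : IsClosed (Set.range Γ) := Γ.isClosedEmbedding.isClosed_range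
  obtain ⟨z'', hz1, hz2⟩ := Scheme.Pullback.exists_preimage_pullback (f := f) (g := π) y' n hy'
  have hsnd : (pullback.snd f π) (Γ y₁) = j y₁ := by
    rw [← Scheme.Hom.comp_apply, hΓ2]
  have hsp : Γ y₁ ⤳ z'' := by
    apply MonoDVR.main f hb f.normalization π z'' (Γ y₁)
    rw [hsnd, hz2]
    exact hy₁
  obtain ⟨y, hy⟩ := hsp.mem_closed hcl ⟨y₁, rfl⟩
  refine ⟨y, ?_⟩
  rw [← hz2, ← hy, ← Scheme.Hom.comp_apply, hΓ2]

end Groth.Agent.Helper4.MonoImm

namespace Groth.Agent.Helper4.MonoImm

variable {X Y : Scheme.{u}} [IsLocallyNoetherian X] (f : Y ⟶ X) [Mono f]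

set_option maxHeartbeats 1000000 in
theorem isImmersion [LocallyOfFinitePresentation f]
    (hb : ∀ S : ValuativeCommSq f, IsDiscreteValuationRing S.R →
        (∃ l₀ : Spec (CommRingCat.of (IsLocalRing.ResidueField S.R)) ⟶ Y,
            l₀ ≫ f = Spec.map (CommRingCat.ofHom (IsLocalRing.residue S.R)) ≫ S.i₂) →
          S.commSq.HasLift)
    (hc : ∀ (A : Type u) [CommRing A] [IsDomain A] (s : Spec (CommRingCat.of A) ⟶ X)
      (D : Set ↥(Spec (CommRingCat.of A))), Dense D →
        (∀ p ∈ D, ∃ l : Spec ((Spec (CommRingCat.of A)).residueField p) ⟶ Y,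
            l ≫ f = (Spec (CommRingCat.of A)).fromSpecResidueField p ≫ s) →
          ∃ U : (Spec (CommRingCat.of A)).Opens, (U : Set ↥(Spec (CommRingCat.of A))).Nonempty ∧
            ∃ l : (U : Scheme.{u}) ⟶ Y, l ≫ f = U.ι ≫ s) :
    IsImmersion f := by
  have : QuasiCompact f := MonoQC.quasiCompact f hc
  have : LocallyQuasiFinite f := locallyQuasiFinite_of_mono f
  let j : Y ⟶ f.normalization := f.toNormalization
  let π : f.normalization ⟶ X := f.fromNormalization
  have hjπ : j ≫ π = f := f.toNormalization_fromNormalization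
  have : IsOpenImmersion j := inferInstanceAs (IsOpenImmersion f.toNormalization)
  have : IsIntegralHom π := inferInstanceAs (IsIntegralHom f.fromNormalization)
  have hclosed : IsClosedMap π := π.isClosedMap
  let W : X.Opens := ⟨(π '' (Set.range j)ᶜ)ᶜ,
    (hclosed _ j.isOpenEmbedding.isOpen_range.isClosed_compl).isOpen_compl⟩
  have hfW : Set.range f ⊆ (W : Set X) := by
    rintro _ ⟨y, rfl⟩ ⟨n, hn, hnx⟩
    exact hn (mem_range_toNormalization f hb n ⟨y, hnx.symm⟩)
  have hpre : π ⁻¹ᵁ W = j.opensRange := by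
    ext n
    constructor
    · intro hn
      by_contra h
      exact hn ⟨n, h, rfl⟩
    · rintro ⟨y, rfl⟩
      apply hfW
      exact ⟨y, congrArg (fun h : Y ⟶ X => h y) hjπ.symm⟩
  let g : Y ⟶ W := IsOpenImmersion.lift W.ι f (by simpa using hfW)
  have hg : g ≫ W.ι = f := IsOpenImmersion.lift_fac _ _ _
  let j' : Y ⟶ (π ⁻¹ᵁ W) := IsOpenImmersion.lift (π ⁻¹ᵁ W).ι j (by rw [hpre]; simp)
  have hj' : j' ≫ (π ⁻¹ᵁ W).ι = j := IsOpenImmersion.lift_fac _ _ _
  have : IsOpenImmersion (j' ≫ (π ⁻¹ᵁ W).ι) := by rw [hj']; infer_instance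
  have : IsOpenImmersion j' := IsOpenImmersion.of_comp j' (π ⁻¹ᵁ W).ι
  have : Surjective j' := by
    constructor
    intro z
    have hz : (z.1 : f.normalization) ∈ j.opensRange := by rw [← hpre]; exact z.2
    obtain ⟨y, hy⟩ := hz
    refine ⟨y, ?_⟩
    apply (π ⁻¹ᵁ W).ι.injective
    rw [← Scheme.Hom.comp_apply, hj']
    exact hy
  have : IsIso j' := (isIso_iff_isOpenImmersion_and_surjective _).mpr ⟨inferInstance, inferInstance⟩
  have hgeq : g = j' ≫ (π ∣_ W) := by
    rw [← cancel_mono W.ι, hg, Category.assoc, morphismRestrict_ι, ← Category.assoc, hj', hjπ]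
  have : IsIntegralHom g := by rw [hgeq]; infer_instance
  have : LocallyOfFiniteType (g ≫ W.ι) := by rw [hg]; infer_instance
  have : LocallyOfFiniteType g := locallyOfFiniteType_of_comp g W.ι
  have : IsFinite g :=
    (IsFinite.iff_isIntegralHom_and_locallyOfFiniteType _).mpr ⟨inferInstance, inferInstance⟩
  have : Mono (g ≫ W.ι) := by rw [hg]; infer_instance
  have : Mono g := mono_of_mono g W.ι
  have : IsClosedImmersion g :=
    (IsClosedImmersion.iff_isFinite_and_mono _).mpr ⟨inferInstance, inferInstance⟩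
  rw [← hg]
  infer_instance

end Groth.Agent.Helper4.MonoImm
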