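import Mathlib
import Groth.Prelude.Def_ProCons
import Groth.Agent.Lib.Helper4.GrpAff
import Groth.Agent.Lib.Helper4.Homog7
import Groth.Agent.Lib.Helper5.ProConsClosure
import Groth.Agent.Lib.Helper23.ProConsLib

/-!
# Rational points of a product of ind-constructible subsets of a group scheme (helper4)

Over an algebraically closed field, a closed point of `A · B` (for ind-constructible subsets `A`,
`B` of a group scheme locally of finite type) is the product of closed points of `A` and `B`.
-/

set_option autoImplicit false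
set_option linter.style.haveILetI false
set_option linter.unusedSectionVars false
universe u
open CategoryTheory CategoryTheory.Limits AlgebraicGeometry MonoidalCategory CartesianMonoidalCategory
  MonObj GrpObj

namespace Groth.Agent.Helper4.MulPts

section Cat

variable {S : Scheme.{u}} {G : Over S} [GrpObj G]

theorem mul_eq : μ[G] = fst G G * snd G G := by
  rw [Hom.mul_def, lift_fst_snd, Category.id_comp]

/-- the shear `(g, h) ↦ (g, g h)` -/
noncomputable def shearL : G ⊗ G ≅ G ⊗ G where
  hom := lift (fst G G) μ[G]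
  inv := lift (fst G G) ((fst G G)⁻¹ * snd G G)
  hom_inv_id := by
    apply CartesianMonoidalCategory.hom_ext
    · rw [Category.assoc, lift_fst, lift_fst, Category.id_comp]
    · rw [Category.assoc, lift_snd, MonObj.comp_mul, GrpObj.comp_inv, lift_fst, lift_snd,
        Category.id_comp, mul_eq, inv_mul_cancel_left]
  inv_hom_id := by
    apply CartesianMonoidalCategory.hom_ext
    · rw [Category.assoc, lift_fst, lift_fst, Category.id_comp]
    · rw [Category.assoc, lift_snd, Category.id_comp, ← Hom.mul_def, mul_inv_cancel_left]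

theorem shearL_fst : (shearL (G := G)).hom ≫ fst G G = fst G G := lift_fst _ _

theorem shearL_snd : (shearL (G := G)).hom ≫ snd G G = μ[G] := lift_snd _ _

variable (zpt : 𝟙_ (Over S) ⟶ G)

/-- `g ↦ (g, g⁻¹ z)` -/
noncomputable def phi : G ⟶ G ⊗ G := lift (𝟙 G) (ι[G] * (toUnit G ≫ zpt))

theorem phi_fst : phi zpt ≫ fst G G = 𝟙 G := lift_fst _ _

theorem phi_mul : phi zpt ≫ μ[G] = toUnit G ≫ zpt := by
  have h : ι[G] = (𝟙 G)⁻¹ := by rw [Hom.inv_def, Category.id_comp]
  rw [phi, ← Hom.mul_def, ← _root_.mul_assoc, h, _root_.mul_inv_cancel, _root_.one_mul]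

theorem phi_shear : phi zpt ≫ (shearL (G := G)).hom = lift (𝟙 G) (toUnit G ≫ zpt) := by
  apply CartesianMonoidalCategory.hom_ext
  · rw [Category.assoc, shearL_fst, phi_fst, lift_fst]
  · rw [Category.assoc, shearL_snd, phi_mul, lift_snd]

end Cat

section Field

variable {k : Type u} [Field k] [IsAlgClosed k] (G : Over (Spec (CommRingCat.of k))) [GrpObj G]
  [LocallyOfFiniteType G.hom]

open Groth.Agent.Helper4.GrpAff

/-- the fibre of the multiplication over a rational point `z` is the image of `g ↦ (g, g⁻¹ z)` -/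
theorem eq_phi_of_mul_eq (zpt : 𝟙_ (Over (Spec (CommRingCat.of k))) ⟶ G) (w : (G ⊗ G).left)
    (hw : μ[G].left w = ptOf G zpt) : w = (phi zpt).left ((fst G G).left w) := by
  haveI : IsIso (shearL (G := G)).hom.left :=
    inferInstanceAs (IsIso ((Over.forget _).map (shearL (G := G)).hom))
  have hinj : Function.Injective (shearL (G := G)).hom.left :=
    (shearL (G := G)).hom.left.homeomorph.injective
  apply hinj
  have h1 : (snd G G).left ((shearL (G := G)).hom.left w) =
      zpt.left (IsLocalRing.closedPoint k) := by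
    rw [← Scheme.Hom.comp_apply, ← Over.comp_left, shearL_snd]; exact hw
  obtain ⟨g', hg'⟩ := Groth.Agent.Helper4.Homog.exists_lift_id_eq zpt (IsLocalRing.closedPoint k) _ h1
  have h2 : g' = (fst G G).left w := by
    have h3 := Groth.Agent.Helper4.Homog.fst_lift_id zpt g'
    rw [hg', ← Scheme.Hom.comp_apply, ← Over.comp_left, shearL_fst] at h3
    exact h3.symm
  rw [← hg', h2, ← Scheme.Hom.comp_apply (phi zpt).left, ← Over.comp_left, phi_shear]

theorem main (A B : Set G.left) (hA : ProCons.IsIndConstructible A)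
    (hB : ProCons.IsIndConstructible B)
    (z : G.left) (hz : IsClosed ({z} : Set G.left))
    (hzAB : z ∈ μ[G].left.base '' {w : ↥(G ⊗ G).left | (fst G G).left.base w ∈ A ∧
      (snd G G).left.base w ∈ B}) :
    ∃ w : ↥(G ⊗ G).left, IsClosed ({w} : Set ↥(G ⊗ G).left) ∧ (fst G G).left.base w ∈ A ∧
      (snd G G).left.base w ∈ B ∧ μ[G].left.base w = z := by
  obtain ⟨zpt, hzpt⟩ := exists_rational G z hz
  obtain ⟨w₀, ⟨hw₀A, hw₀B⟩, hw₀z⟩ := hzAB
  have hK := eq_phi_of_mul_eq G zpt
  obtain ⟨ψ, hψ⟩ : ∃ ψ : G ⟶ G, ψ = phi zpt ≫ snd G G := ⟨_, rfl⟩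
  obtain ⟨x₀, hx₀⟩ : ∃ x₀ : G.left, x₀ = (fst G G).left w₀ := ⟨_, rfl⟩
  have hx₀A : x₀ ∈ A := by rw [hx₀]; exact hw₀A
  have hx₀B : x₀ ∈ ψ.left.base ⁻¹' B := by
    show ψ.left x₀ ∈ B
    have e1 : (snd G G).left w₀ = ψ.left x₀ := by
      conv_lhs => rw [hK w₀ (by rw [hzpt]; exact hw₀z)]
      rw [← Scheme.Hom.comp_apply, ← Over.comp_left, ← hψ, hx₀]
    rw [← e1]; exact hw₀B
  have hBψ : ProCons.IsIndConstructible (ψ.left.base ⁻¹' B) :=
    Groth.Agent.Helper23.ProConsLib.isIndConstructible_preimage ψ.left B hB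
  have n1 := Groth.Agent.Helper5.PC.nhds_of_isIndConstructible hA hx₀A
  have n2 := Groth.Agent.Helper5.PC.nhds_of_isIndConstructible hBψ hx₀B
  have n3 := Filter.inter_mem n1 n2
  rw [mem_nhds_subtype] at n3
  obtain ⟨t, ht, hsub⟩ := n3
  obtain ⟨O, hOt, hO, hxO⟩ := mem_nhds_iff.mp ht
  haveI : JacobsonSpace G.left := LocallyOfFiniteType.jacobsonSpace G.hom
  obtain ⟨g, ⟨hgO, hgcl⟩, hgclosed⟩ := nonempty_inter_closedPoints (X := G.left)
    (Z := O ∩ closure {x₀}) ⟨x₀, hxO, subset_closure rfl⟩
    (hO.isLocallyClosed.inter isClosed_closure.isLocallyClosed)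
  have hg : g ∈ A ∧ ψ.left g ∈ B := hsub (a := ⟨g, hgcl⟩) (hOt hgO)
  have hgclosed' : IsClosed ({g} : Set G.left) := hgclosed
  have hfst : (fst G G).left ((phi zpt).left g) = g := by
    rw [← Scheme.Hom.comp_apply, ← Over.comp_left, phi_fst]; rfl
  have hmul : μ[G].left ((phi zpt).left g) = z := by
    rw [← Scheme.Hom.comp_apply, ← Over.comp_left, phi_mul, Over.comp_left, Scheme.Hom.comp_apply,
      ← hzpt]
    exact congrArg _ (Subsingleton.elim (α := PrimeSpectrum k) _ _)
  refine ⟨(phi zpt).left g, ?_, ?_, ?_, hmul⟩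
  · apply isClosed_of_closure_subset
    intro w' hw'
    have hsp : (phi zpt).left g ⤳ w' := specializes_iff_mem_closure.mpr hw'
    have h1 : μ[G].left w' = z := by
      have := specializes_iff_mem_closure.mp (hsp.map μ[G].left.continuous)
      rw [hmul, hz.closure_eq] at this
      exact this
    have h3 : (fst G G).left w' = g := by
      have := specializes_iff_mem_closure.mp (hsp.map (fst G G).left.continuous)
      rw [hfst, hgclosed'.closure_eq] at this
      exact this
    have h4 := hK w' (by rw [hzpt]; exact h1)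
    rw [h3] at h4
    exact h4
  · show (fst G G).left ((phi zpt).left g) ∈ A
    rw [hfst]; exact hg.1
  · show (snd G G).left ((phi zpt).left g) ∈ B
    rw [← Scheme.Hom.comp_apply, ← Over.comp_left, ← hψ]; exact hg.2

end Field

end Groth.Agent.Helper4.MulPts
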