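import Groth.Agent.Lib.Helper4.NumType
import Groth.Agent.S2171

set_option autoImplicit false
open Finset

namespace Groth.Agent.Helper4

open Models

variable {n : ℕ} (T : Models.NumericalType n)

/-- integer kernel vectors of `a` are real multiples of `m`. -/
theorem NT_ker_real (x : Fin n → ℤ) (hx : T.a.mulVec x = 0) :
    ∃ q : ℝ, ∀ i, (x i : ℝ) = q * (T.m i : ℝ) := by
  let A : Matrix (Fin n) (Fin n) ℝ := T.a.map (Int.cast : ℤ → ℝ)
  let mR : Fin n → ℝ := fun i => (T.m i : ℝ)
  let xR : Fin n → ℝ := fun i => (x i : ℝ)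
  have hsymm : A.IsSymm := by
    ext i j
    simp only [A, Matrix.transpose_apply, Matrix.map_apply]
    rw [T.symm.apply j i]
  have hA : ∀ i j, i ≠ j → 0 ≤ A i j := by
    intro i j hij
    simp only [A, Matrix.map_apply]
    exact_mod_cast T.offDiag_nonneg i j hij
  have hm : ∀ i, 0 < mR i := fun i => by
    simp only [mR]; exact_mod_cast T.m_pos i
  have hcast : ∀ v : Fin n → ℤ, A.mulVec (fun i => (v i : ℝ)) = fun i => ((T.a.mulVec v i : ℤ) : ℝ) := by
    intro v
    funext i
    simp only [A, Matrix.mulVec, dotProduct, Matrix.map_apply]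
    push_cast
    rfl
  have hAm : A.mulVec mR = 0 := by
    rw [hcast T.m, T.mulVec_m]
    funext i; simp
  have hAx : A.mulVec xR = 0 := by
    rw [hcast x, hx]
    funext i; simp
  have hconn : ∀ I : Finset (Fin n), I.Nonempty → I ≠ univ → ∃ i ∈ I, ∃ j ∉ I, A i j ≠ 0 := by
    intro I h1 h2
    obtain ⟨i, hi, j, hj, hne⟩ := T.connected I h1 h2
    refine ⟨i, hi, j, hj, ?_⟩
    simp only [A, Matrix.map_apply]
    exact_mod_cast hne
  have h0 : dotProduct xR (A.mulVec xR) = 0 := by rw [hAx, dotProduct_zero]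
  obtain ⟨q, hq⟩ := ((Groth.Agent.S2171.result A mR hsymm hA hm hAm hconn xR).2).mp h0
  refine ⟨q, fun i => ?_⟩
  have := congrFun hq i
  simpa [xR, mR] using this

theorem NT_ker_eq_zero_of_coord (x : Fin n → ℤ) (hx : T.a.mulVec x = 0) (i₀ : Fin n)
    (h0 : x i₀ = 0) : x = 0 := by
  obtain ⟨q, hq⟩ := NT_ker_real T x hx
  have h1 := hq i₀
  rw [h0] at h1
  have hm : (T.m i₀ : ℝ) ≠ 0 := by exact_mod_cast (T.m_pos i₀).ne'
  have hq0 : q = 0 := by
    simp only [Int.cast_zero] at h1
    rcases mul_eq_zero.mp h1.symm with h | h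
    · exact h
    · exact absurd h hm
  funext i
  have := hq i
  rw [hq0, zero_mul] at this
  exact_mod_cast this

theorem NT_picMatrix_mulVec (z : Fin n → ℤ) (i : Fin n) :
    T.w i * (T.picMatrix.mulVec z) i = (T.a.mulVec z) i := by
  simp only [Matrix.mulVec, dotProduct, Finset.mul_sum]
  apply Finset.sum_congr rfl
  intro j _
  unfold Models.NumericalType.picMatrix
  rw [← mul_assoc, Int.mul_ediv_cancel' (T.w_dvd i j)]

theorem NT_picMatrix_ker_iff (z : Fin n → ℤ) :
    T.picMatrix.mulVec z = 0 ↔ T.a.mulVec z = 0 := by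
  constructor
  · intro h
    funext i
    rw [← NT_picMatrix_mulVec, h]
    simp
  · intro h
    funext i
    have := NT_picMatrix_mulVec T z i
    rw [h] at this
    simp only [Pi.zero_apply] at this ⊢
    exact (mul_eq_zero.mp this).resolve_left (T.w_pos i).ne'

theorem NT_picMatrix_mulVec_m : T.picMatrix.mulVec T.m = 0 :=
  (NT_picMatrix_ker_iff T T.m).mpr T.mulVec_m

end Groth.Agent.Helper4
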