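import Groth.Agent.Lib.Helper4.P1Ring
import Groth.Agent.Lib.Helper15.ProjSpaceProper
import Groth.Agent.Lib.Helper12.RelProjIntegral
import Groth.Agent.Lib.Helper4.CurveMor

/-!
# The projective line over a field and morphisms from the spectrum of a field (helper4)
-/

set_option autoImplicit false
universe u
open AlgebraicGeometry CategoryTheory CategoryTheory.Limits HomogeneousLocalization MvPolynomial
open scoped HomogeneousIdeal

namespace Groth.Agent.Helper4.P1Curve

open Groth.Agent.Helper4.P1Ring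

variable (k : Type u) [Field k] (K : Type u) [Field K] [Algebra k K] (t : K)

/-- the projective line over `k` -/
noncomputable abbrev P : Scheme.{u} := CohB1.ProjSpace 1 k

instance isIntegral_P : IsIntegral (P k) := by
  have h : ((gr k)₊).toIdeal ≠ ⊥ := by
    intro h0
    have h1 : (X 0 : MvPolynomial (Fin 2) k) ∈ ((gr k)₊).toIdeal :=
      HomogeneousIdeal.mem_irrelevant_of_mem (gr k) one_pos (x0_mem k)
    rw [h0, Ideal.mem_bot] at h1
    exact X_ne_zero (0 : Fin 2) h1
  exact Groth.Agent.Helper12.RelProjIntegral.isIntegral_proj (gr k) h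

/-- the chart `X₀ ≠ 0` -/
noncomputable def chart :
    Spec (CommRingCat.of (Away (gr k) (X 0 : MvPolynomial (Fin 2) k))) ⟶ P k :=
  Proj.awayι (gr k) (X 0 : MvPolynomial (Fin 2) k) (x0_mem k) one_pos

instance : IsOpenImmersion (chart k) :=
  (inferInstance : IsOpenImmersion
    (Proj.awayι (gr k) (X 0 : MvPolynomial (Fin 2) k) (x0_mem k) one_pos))

/-- the morphism `Spec K ⟶ ℙ¹` given by `t` -/
noncomputable def g₀ : Spec (CommRingCat.of K) ⟶ P k :=
  Spec.map (CommRingCat.ofHom (ψ k K t)) ≫ chart k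


theorem g₀_apply (ht : Transcendental k t) (x : Spec (CommRingCat.of K)) :
    g₀ k K t x = genericPoint (P k) := by
  haveI : IsDomain (Away (gr k) (X 0 : MvPolynomial (Fin 2) k)) :=
    (ψ_injective k K t ht).isDomain _
  have h1 : chart k (genericPoint
      (Spec (CommRingCat.of (Away (gr k) (X 0 : MvPolynomial (Fin 2) k))))) = genericPoint (P k) :=
    genericPoint_eq_of_isOpenImmersion (chart k)
  have h2 : Spec.map (CommRingCat.ofHom (ψ k K t)) x = genericPoint
      (Spec (CommRingCat.of (Away (gr k) (X 0 : MvPolynomial (Fin 2) k)))) := by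
    rw [genericPoint_eq_bot_of_affine]
    apply PrimeSpectrum.ext
    change Ideal.comap (ψ k K t) x.asIdeal = ⊥
    have hx : x.asIdeal = ⊥ := Ideal.eq_bot_of_prime x.asIdeal
    rw [hx, ← RingHom.ker_eq_comap_bot]
    exact (RingHom.injective_iff_ker_eq_bot _).mp (ψ_injective k K t ht)
  rw [g₀, Scheme.Hom.comp_apply, h2, h1]


theorem fromZero_eq_cst (r : k) :
    fromZeroRingHom (gr k) (Submonoid.powers (X 0 : MvPolynomial (Fin 2) k))
      (algebraMap k (gr k 0) r) = cst k r := by
  apply HomogeneousLocalization.val_injective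
  have hC : (C r : MvPolynomial (Fin 2) k) ∈ gr k 0 := isHomogeneous_C (Fin 2) r
  rw [cst, RingHom.comp_apply, Groth.Agent.Helper6.DehLib.deh_of_mem (x0_mem k) hC, Away.val_mk]
  change Localization.mk ((algebraMap k (gr k 0) r : gr k 0) : MvPolynomial (Fin 2) k) 1 = _
  congr 1

theorem g₀_over :
    g₀ k K t ≫ (P k ↘ Spec (CommRingCat.of k)) =
      Spec.map (CommRingCat.ofHom (algebraMap k K)) := by
  change (Spec.map (CommRingCat.ofHom (ψ k K t)) ≫
    Proj.awayι (gr k) (X 0 : MvPolynomial (Fin 2) k) (x0_mem k) one_pos) ≫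
    (Proj.toSpecZero (gr k) ≫ Spec.map (CommRingCat.ofHom (algebraMap k (gr k 0)))) = _
  rw [Category.assoc, Proj.awayι_toSpecZero_assoc, ← Spec.map_comp, ← Spec.map_comp]
  congr 1
  ext r
  change ψ k K t (fromZeroRingHom (gr k) _ (algebraMap k (gr k 0) r)) = algebraMap k K r
  rw [fromZero_eq_cst, ψ_cst]

end Groth.Agent.Helper4.P1Curve
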