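import Groth.Agent.Lib.Helper4.P1Curve
import Groth.Agent.Lib.Helper4.FieldFin

/-!
# The map of function fields induced by `Spec K ⟶ ℙ¹` (helper4)
-/

set_option autoImplicit false
universe u
open AlgebraicGeometry CategoryTheory CategoryTheory.Limits HomogeneousLocalization MvPolynomial

namespace Groth.Agent.Helper4.P1Curve

open Groth.Agent.Helper4.P1Ring

variable (k : Type u) [Field k] (K : Type u) [Field K] [Algebra k K] (t : K)
  (ht : Transcendental k t)

/-- the induced map on function fields -/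
noncomputable def φ : (P k).functionField →+* K :=
  ((Scheme.stalkClosedPointTo (g₀ k K t)).hom).comp
    ((P k).presheaf.stalkSpecializes
      (specializes_of_eq (g₀_apply k K t ht (IsLocalRing.closedPoint K)))).hom

theorem g₀_eq :
    g₀ k K t = Spec.map (CommRingCat.ofHom (φ k K t ht)) ≫
      (P k).fromSpecStalk (genericPoint (P k)) := by
  have h1 : CommRingCat.ofHom (φ k K t ht) =
      (P k).presheaf.stalkSpecializes
        (specializes_of_eq (g₀_apply k K t ht (IsLocalRing.closedPoint K))) ≫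
        Scheme.stalkClosedPointTo (g₀ k K t) := rfl
  rw [h1, Spec.map_comp, Category.assoc, Scheme.SpecMap_stalkSpecializes_fromSpecStalk,
    Scheme.Spec_stalkClosedPointTo_fromSpecStalk]

theorem φ_stalkMap (r : k) :
    φ k K t ht (Curv2.stalkMap k (P k) (genericPoint (P k)) r) = algebraMap k K r := by
  have h1 := g₀_over k K t
  rw [g₀_eq k K t ht, Category.assoc,
    Groth.Agent.Helper4.CurveMor.fromSpecStalk_over k (P k) (genericPoint (P k)),
    ← Spec.map_comp] at h1
  have h2 := Spec.map_injective h1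
  exact congrArg (fun f => f.hom r) h2



theorem stalkSpecializes_symm_assoc (Z : Scheme.{u}) {x y : Z} (h : x = y) {W : CommRingCat.{u}}
    (f : Z.presheaf.stalk x ⟶ W) :
    Z.presheaf.stalkSpecializes (specializes_of_eq h.symm) ≫
      Z.presheaf.stalkSpecializes (specializes_of_eq h) ≫ f = f := by
  subst h
  simp

set_option backward.isDefEq.respectTransparency false in
theorem exists_fac :
    ∃ ρ : CommRingCat.of (Away (gr k) (X 0 : MvPolynomial (Fin 2) k)) ⟶
        (P k).presheaf.stalk (genericPoint (P k)),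
      ρ ≫ CommRingCat.ofHom (φ k K t ht) = CommRingCat.ofHom (ψ k K t) := by
  have e := g₀_apply k K t ht (IsLocalRing.closedPoint K)
  have h1 : Scheme.stalkClosedPointTo (g₀ k K t) =
      (chart k).stalkMap _ ≫
        Scheme.stalkClosedPointTo (Spec.map (CommRingCat.ofHom (ψ k K t))) :=
    Scheme.stalkClosedPointTo_comp (Spec.map (CommRingCat.ofHom (ψ k K t))) (chart k)
  have h2 := Scheme.germ_stalkClosedPointTo_Spec (CommRingCat.ofHom (ψ k K t))
  have hφ : CommRingCat.ofHom (φ k K t ht) =
      (P k).presheaf.stalkSpecializes (specializes_of_eq e) ≫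
        Scheme.stalkClosedPointTo (g₀ k K t) := rfl
  refine ⟨(Scheme.ΓSpecIso (CommRingCat.of (Away (gr k) (X 0 : MvPolynomial (Fin 2) k)))).inv ≫
    (Spec (CommRingCat.of (Away (gr k) (X 0 : MvPolynomial (Fin 2) k)))).presheaf.germ ⊤ _ trivial ≫
    inv ((chart k).stalkMap
      (Spec.map (CommRingCat.ofHom (ψ k K t)) (IsLocalRing.closedPoint K))) ≫
    (P k).presheaf.stalkSpecializes (specializes_of_eq e.symm), ?_⟩
  rw [hφ]
  simp only [Category.assoc]
  rw [stalkSpecializes_symm_assoc (P k) e, h1, IsIso.inv_hom_id_assoc, h2, Iso.inv_hom_id_assoc]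

theorem exists_φ_eq_ψ (z : Away (gr k) (X 0 : MvPolynomial (Fin 2) k)) :
    ∃ y, φ k K t ht y = ψ k K t z := by
  obtain ⟨ρ, hρ⟩ := exists_fac k K t ht
  exact ⟨ρ.hom z, congrArg (fun f => f.hom z) hρ⟩

theorem exists_φ_eq_t : ∃ y, φ k K t ht y = t := by
  obtain ⟨y, hy⟩ := exists_φ_eq_ψ k K t ht (τ k)
  exact ⟨y, hy.trans (ψ_τ k K t)⟩

end Groth.Agent.Helper4.P1Curve
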