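import Groth.Agent.Lib.Helper4.P1Curve2
import Groth.Agent.S4442

/-!
# The projective line is a curve; finiteness of `K(ℙ¹) → K` (helper4)
-/

set_option autoImplicit false
universe u
open AlgebraicGeometry CategoryTheory CategoryTheory.Limits HomogeneousLocalization MvPolynomial

namespace Groth.Agent.Helper4.P1Curve

open Groth.Agent.Helper4.P1Ring

variable (k : Type u) [Field k] (K : Type u) [Field K] [Algebra k K] (t : K)
  (ht : Transcendental k t)

theorem φ_finite (hfin : FiniteDimensional (IntermediateField.adjoin k {t}) K) :
    (φ k K t ht).Finite := by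
  haveI : Module.Finite (IntermediateField.adjoin k {t}).toSubfield K := hfin
  refine Groth.Agent.Helper4.FieldFin.finite_of_le_range (φ k K t ht)
    (IntermediateField.adjoin k {t}).toSubfield ?_
  intro c hc
  let F : IntermediateField k K :=
    { (φ k K t ht).fieldRange with
      algebraMap_mem' := fun r => ⟨_, φ_stalkMap k K t ht r⟩ }
  have hle : IntermediateField.adjoin k {t} ≤ F := by
    rw [IntermediateField.adjoin_le_iff]
    intro x hx
    rw [Set.mem_singleton_iff] at hx
    rw [hx]
    exact exists_φ_eq_t k K t ht
  exact hle hc

include ht in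
attribute [local instance] Curv2.stalkAlgebra Curv2.resAlgebra in
theorem trdeg_stalk_generic (hfin : FiniteDimensional (IntermediateField.adjoin k {t}) K)
    (htr : Algebra.trdeg k K = 1) :
    Algebra.trdeg k ((P k).presheaf.stalk (genericPoint (P k))) = 1 := by
  letI : Field ((P k).presheaf.stalk (genericPoint (P k))) :=
    (inferInstance : Field (P k).functionField)
  letI := (φ k K t ht).toAlgebra
  haveI : IsScalarTower k ((P k).presheaf.stalk (genericPoint (P k))) K :=
    IsScalarTower.of_algebraMap_eq (fun r => (φ_stalkMap k K t ht r).symm)
  haveI : Module.Finite ((P k).presheaf.stalk (genericPoint (P k))) K := φ_finite k K t ht hfin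
  haveI : Algebra.IsAlgebraic ((P k).presheaf.stalk (genericPoint (P k))) K :=
    Algebra.IsAlgebraic.of_finite _ _
  have h1 := _root_.trdeg_add_eq k ((P k).presheaf.stalk (genericPoint (P k))) (A := K)
  have h0 : Algebra.trdeg ((P k).presheaf.stalk (genericPoint (P k))) K = 0 :=
    _root_.trdeg_eq_zero
  rw [h0, add_zero, htr] at h1
  exact h1

end Groth.Agent.Helper4.P1Curve

namespace Groth.Agent.Helper4.P1Curve

open Groth.Agent.Helper4.P1Ring

variable (k : Type u) [Field k] (K : Type u) [Field K] [Algebra k K] (t : K)
  (ht : Transcendental k t)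

instance isProper_P : IsProper (P k ↘ Spec (CommRingCat.of k)) :=
  Groth.Agent.Helper15.isProper_projSpace_toSpec 1 k

include ht in
attribute [local instance] Curv2.stalkAlgebra Curv2.resAlgebra in
theorem trdeg_residueField_generic (hfin : FiniteDimensional (IntermediateField.adjoin k {t}) K)
    (htr : Algebra.trdeg k K = 1) :
    Algebra.trdeg k ((P k).residueField (genericPoint (P k))) = 1 := by
  letI : Field ((P k).presheaf.stalk (genericPoint (P k))) :=
    (inferInstance : Field (P k).functionField)
  have hbij : Function.Bijective ((P k).residue (genericPoint (P k))).hom :=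
    ⟨RingHom.injective _, Scheme.residue_surjective _ _⟩
  let e : (P k).presheaf.stalk (genericPoint (P k)) ≃ₐ[k]
      (P k).residueField (genericPoint (P k)) :=
    { RingEquiv.ofBijective _ hbij with
      commutes' := fun r => rfl }
  rw [← e.trdeg_eq]
  exact trdeg_stalk_generic k K t ht hfin htr

include ht in
theorem dim_closedPoints (hfin : FiniteDimensional (IntermediateField.adjoin k {t}) K)
    (htr : Algebra.trdeg k K = 1) (x : P k) (hx : IsClosed ({x} : Set (P k))) :
    ringKrullDim ((P k).presheaf.stalk x) = 1 := by
  refine (Groth.Agent.S4442.result k (P k)).mp ?_ x hx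
  intro y hy
  have hy' : y = genericPoint (P k) := by
    have h1 : closure ({y} : Set (P k)) = Set.univ := by
      have h2 : irreducibleComponents (P k) = {Set.univ} := by
        ext s
        constructor
        · intro hs
          exact (hs.2 ⟨Set.univ_nonempty, (IrreducibleSpace.isIrreducible_univ _).2⟩
            (Set.subset_univ s)).antisymm (Set.subset_univ _) |>.symm ▸ rfl
        · rintro rfl
          exact ⟨IrreducibleSpace.isIrreducible_univ _, fun _ _ _ => Set.subset_univ _⟩
      rw [h2] at hy
      exact hy
    exact ((genericPoint_spec (P k)).eq h1).symm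
  subst hy'
  exact trdeg_residueField_generic k K t ht hfin htr

end Groth.Agent.Helper4.P1Curve
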