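import Groth.Agent.Lib.Helper6.DehLib
import Groth.Prelude.Def_CohB1

/-!
# The standard affine chart of the projective line and transcendental elements (helper4)
-/

set_option autoImplicit false
universe u
open HomogeneousLocalization MvPolynomial

namespace Groth.Agent.Helper4.P1Ring

variable (k : Type u) [Field k] (K : Type u) [Field K] [Algebra k K] (t : K)

/-- the grading of `k[X₀, X₁]` -/
noncomputable abbrev gr : ℕ → Submodule k (MvPolynomial (Fin 2) k) := CohB1.polyGrading 1 k

theorem x0_mem : (X 0 : MvPolynomial (Fin 2) k) ∈ gr k 1 := isHomogeneous_X k (0 : Fin 2)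

/-- evaluation at `(1, t)` -/
noncomputable def ev : MvPolynomial (Fin 2) k →ₐ[k] K := aeval ![1, t]

theorem isUnit_ev_x0 : IsUnit ((ev k K t).toRingHom (X 0)) := by
  have : (ev k K t) (X 0) = 1 := by
    simp [ev]
  change IsUnit ((ev k K t) (X 0))
  rw [this]
  exact isUnit_one

/-- the induced map on the affine chart `X₀ ≠ 0` -/
noncomputable def ψ : Away (gr k) (X 0 : MvPolynomial (Fin 2) k) →+* K :=
  (IsLocalization.Away.lift (X 0 : MvPolynomial (Fin 2) k) (isUnit_ev_x0 k K t)).comp
    (algebraMap (Away (gr k) (X 0 : MvPolynomial (Fin 2) k))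
      (Localization.Away (X 0 : MvPolynomial (Fin 2) k)))

theorem ψ_deh_of_mem {n : ℕ} {a : MvPolynomial (Fin 2) k} (ha : a ∈ gr k n) :
    ψ k K t (Groth.Agent.Helper6.DehLib.deh (x0_mem k) a) = ev k K t a := by
  rw [Groth.Agent.Helper6.DehLib.deh_of_mem (x0_mem k) ha]
  unfold ψ
  rw [RingHom.comp_apply, HomogeneousLocalization.algebraMap_apply, Away.val_mk,
    Localization.mk_eq_mk']
  unfold IsLocalization.Away.lift
  rw [IsLocalization.lift_mk'_spec]
  have h1 : (ev k K t) ((X 0 : MvPolynomial (Fin 2) k) ^ n) = 1 := by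
    simp [ev]
  change (ev k K t) a = (ev k K t) ((X 0 : MvPolynomial (Fin 2) k) ^ n) * (ev k K t) a
  rw [h1, one_mul]


theorem ψ_comp_deh :
    (ψ k K t).comp (Groth.Agent.Helper6.DehLib.deh (x0_mem k)) = (ev k K t).toRingHom :=
  Groth.Agent.Helper6.DehLib.ringHom_ext_of_homogeneous (𝒜 := gr k) _ _
    (fun _ _ ha => ψ_deh_of_mem k K t ha)

theorem ψ_deh (a : MvPolynomial (Fin 2) k) :
    ψ k K t (Groth.Agent.Helper6.DehLib.deh (x0_mem k) a) = ev k K t a :=
  congrArg (fun f : MvPolynomial (Fin 2) k →+* K => f a) (ψ_comp_deh k K t)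

/-- the coordinate `X₁ / X₀` on the chart -/
noncomputable def τ : Away (gr k) (X 0 : MvPolynomial (Fin 2) k) :=
  Groth.Agent.Helper6.DehLib.deh (x0_mem k) (X 1)

/-- constants on the chart -/
noncomputable def cst : k →+* Away (gr k) (X 0 : MvPolynomial (Fin 2) k) :=
  (Groth.Agent.Helper6.DehLib.deh (x0_mem k)).comp C

theorem ψ_τ : ψ k K t (τ k) = t := by
  rw [τ, ψ_deh]
  simp [ev]

theorem ψ_cst (r : k) : ψ k K t (cst k r) = algebraMap k K r := by
  rw [cst, RingHom.comp_apply, ψ_deh]
  simp [ev]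

/-- dehomogenization factors through `k[Y]` -/
theorem deh_eq :
    Groth.Agent.Helper6.DehLib.deh (x0_mem k) =
      (Polynomial.eval₂RingHom (cst k) (τ k)).comp
        (aeval (R := k) ![(1 : Polynomial k), Polynomial.X]).toRingHom := by
  apply MvPolynomial.ringHom_ext
  · intro r
    simp [cst]
  · intro i
    fin_cases i
    · simp [Groth.Agent.Helper6.DehLib.deh_self]
    · simp [τ]

theorem ψ_injective (ht : Transcendental k t) : Function.Injective (ψ k K t) := by
  rw [injective_iff_map_eq_zero]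
  intro z hz
  obtain ⟨a, rfl⟩ := Groth.Agent.Helper6.DehLib.deh_surjective (x0_mem k) z
  rw [ψ_deh] at hz
  have h1 : (Polynomial.aeval t) (aeval (R := k) ![(1 : Polynomial k), Polynomial.X] a) =
      ev k K t a := by
    have : ((Polynomial.aeval t : Polynomial k →ₐ[k] K).comp
        (aeval (R := k) ![(1 : Polynomial k), Polynomial.X])) = ev k K t := by
      apply MvPolynomial.algHom_ext
      intro i
      fin_cases i <;> simp [ev]
    exact congrArg (fun f : MvPolynomial (Fin 2) k →ₐ[k] K => f a) this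
  have h2 : aeval (R := k) ![(1 : Polynomial k), Polynomial.X] a = 0 :=
    transcendental_iff.mp ht _ (h1.trans hz)
  rw [deh_eq, RingHom.comp_apply]
  change Polynomial.eval₂RingHom (cst k) (τ k)
    (aeval (R := k) ![(1 : Polynomial k), Polynomial.X] a) = 0
  rw [h2, map_zero]

end Groth.Agent.Helper4.P1Ring
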