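import Mathlib
import Groth.Prelude.Def_Hens2
import Groth.Agent.Lib.Helper26.SmoothAt4
import Groth.Agent.S17593

/-!
# Flat henselian finitely presented algebras are henselizations of flat f.p. algebras (helper4)
-/

set_option autoImplicit false

namespace Groth.Agent.Helper4.PHFlat

open Groth.Agent.Helper26.PH

universe u

theorem main (A : Type u) [CommRing A] (I : Ideal A) [HenselianRing A I]
    (R₀ : Type u) [CommRing R₀] [Algebra A R₀] [Algebra.FinitePresentation A R₀]
    (B : Type u) [CommRing B] [Algebra R₀ B] [Algebra A B] [IsScalarTower A R₀ B]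
    (hB : Hens2.IsPairHenselization R₀ (I.map (algebraMap A R₀)) B) [Module.Flat A B] :
    ∃ (S : Type u) (_ : CommRing S) (_ : Algebra A S) (_ : Algebra S B) (_ : IsScalarTower A S B),
      Algebra.FinitePresentation A S ∧ Module.Flat A S ∧
      Hens2.IsPairHenselization S (I.map (algebraMap A S)) B := by
  have hfl : ∀ (p : Ideal R₀) [p.IsPrime], I.map (algebraMap A R₀) ≤ p →
      Module.Flat A (Localization.AtPrime p) :=
    fun p _ hp => Groth.Agent.Helper26.SmoothAt.flat_localization_of_flat hB A p hp
  obtain ⟨R', _, _, _, hst, het, hbij, hflat⟩ := Groth.Agent.S17593.result A I R₀ hfl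
  haveI := hst
  haveI := het
  have hN : IsNbhd R₀ (I.map (algebraMap A R₀)) R' := ⟨het, hbij⟩
  obtain ⟨σ, -, -⟩ := existsUnique_algHom_of_isNbhd hB R' hN
  letI : Algebra R' B := σ.toRingHom.toAlgebra
  haveI : IsScalarTower R₀ R' B := IsScalarTower.of_algebraMap_eq (fun x => (σ.commutes x).symm)
  haveI : IsScalarTower A R' B := IsScalarTower.of_algebraMap_eq (fun a => by
    rw [IsScalarTower.algebraMap_apply A R₀ B, IsScalarTower.algebraMap_apply A R₀ R']
    exact (σ.commutes _).symm)
  have hPH := isPairHenselization_of_isNbhd hB R' hN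
  haveI : Algebra.FinitePresentation A R' := Algebra.FinitePresentation.trans A R₀ R'
  refine ⟨R', inferInstance, inferInstance, inferInstance, inferInstance, inferInstance, hflat, ?_⟩
  have : I.map (algebraMap A R') = (I.map (algebraMap A R₀)).map (algebraMap R₀ R') := by
    rw [Ideal.map_map, ← IsScalarTower.algebraMap_eq]
  rw [this]
  exact hPH

end Groth.Agent.Helper4.PHFlat
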