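import Mathlib
import Groth.Prelude.Def_Hens2
import Groth.Agent.Lib.Helper26.PHEtLift
import Groth.Agent.S6827
import Groth.Agent.S0536

/-!
# Henselian finitely presented algebras with smooth truncations (helper4)

Smooth analogue of `Groth.Agent.Helper26.PH.exists_etale_surjection`, using the lifting of smooth
algebras along a quotient (S6827) and the lifting of maps from smooth algebras along henselian
pairs (S0536).
-/

set_option autoImplicit false

namespace Groth.Agent.Helper4.PHSmooth

open Groth.Agent.Helper26.PH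

universe u

/-- a surjection `H → B` of `A`-algebras with `B/IⁿB` flat over `A/Iⁿ` and kernel inside `IH` has
kernel inside `IⁿH`. -/
theorem ker_le_pow_of_flat {A : Type u} [CommRing A] (I : Ideal A) {H B : Type u} [CommRing H]
    [CommRing B] [Algebra A H] [Algebra A B] (ψ : H →ₐ[A] B) (hψ : Function.Surjective ψ) (n : ℕ)
    [Module.Flat (A ⧸ I ^ n) (B ⧸ (I ^ n).map (algebraMap A B))]
    (hk : RingHom.ker (ψ : H →+* B) ≤ I.map (algebraMap A H)) (hn : 1 ≤ n) :
    RingHom.ker (ψ : H →+* B) ≤ (I ^ n).map (algebraMap A H) := by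
  have hmapeq : ((I ^ n).map (algebraMap A H)).map (ψ : H →+* B) = (I ^ n).map (algebraMap A B) := by
    rw [Ideal.map_map]
    congr 1
    ext a
    exact ψ.commutes a
  have hmap : (I ^ n).map (algebraMap A H) ≤
      Ideal.comap (ψ : H →+* B) ((I ^ n).map (algebraMap A B)) := by
    rw [← Ideal.map_le_iff_le_comap, hmapeq]
  let ψn₀ : (H ⧸ (I ^ n).map (algebraMap A H)) →+* (B ⧸ (I ^ n).map (algebraMap A B)) :=
    Ideal.quotientMap _ (ψ : H →+* B) hmap
  have hψn₀ : ∀ h, ψn₀ (Ideal.Quotient.mk _ h) = Ideal.Quotient.mk _ (ψ h) := fun h => rfl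
  let ψn : (H ⧸ (I ^ n).map (algebraMap A H)) →ₗ[A ⧸ I ^ n] (B ⧸ (I ^ n).map (algebraMap A B)) :=
    { toFun := ψn₀
      map_add' := map_add ψn₀
      map_smul' := by
        intro a x
        obtain ⟨a, rfl⟩ := Ideal.Quotient.mk_surjective a
        obtain ⟨x, rfl⟩ := Ideal.Quotient.mk_surjective x
        change ψn₀ (Ideal.Quotient.mk _ (a • x)) = Ideal.Quotient.mk _ (a • ψ x)
        rw [hψn₀, map_smul] }
  have hψn_apply : ∀ h, ψn (Ideal.Quotient.mk _ h) = Ideal.Quotient.mk _ (ψ h) := fun h => rfl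
  have hψn_surj : Function.Surjective ψn := by
    intro b
    obtain ⟨b, rfl⟩ := Ideal.Quotient.mk_surjective b
    obtain ⟨h, rfl⟩ := hψ b
    exact ⟨Ideal.Quotient.mk _ h, rfl⟩
  obtain ⟨𝔞, h𝔞⟩ : ∃ 𝔞 : Ideal (A ⧸ I ^ n), 𝔞 = I.map (Ideal.Quotient.mk (I ^ n)) := ⟨_, rfl⟩
  have key := LinearMap.ker_inf_smul_top_eq_smul_of_flat 𝔞 ψn hψn_surj
  have hle : LinearMap.ker ψn ≤
      𝔞 • (⊤ : Submodule (A ⧸ I ^ n) (H ⧸ (I ^ n).map (algebraMap A H))) := by
    intro x hx
    obtain ⟨x, rfl⟩ := Ideal.Quotient.mk_surjective x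
    have hx0 : Ideal.Quotient.mk ((I ^ n).map (algebraMap A B)) (ψ x) = 0 := hx
    rw [Ideal.Quotient.eq_zero_iff_mem, ← hmapeq] at hx0
    obtain ⟨y, hy, hyx⟩ := (Ideal.mem_map_iff_of_surjective (ψ : H →+* B) hψ).mp hx0
    have hxy : x - y ∈ RingHom.ker (ψ : H →+* B) := by
      rw [RingHom.mem_ker, map_sub, sub_eq_zero]
      exact hyx.symm
    have hxI : x ∈ I.map (algebraMap A H) := by
      have h1 := hk hxy
      have h2 : y ∈ I.map (algebraMap A H) :=
        Ideal.map_mono (Ideal.pow_le_self (by omega)) hy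
      have : x = (x - y) + y := by ring
      rw [this]
      exact add_mem h1 h2
    have hxI' : x ∈ I • (⊤ : Submodule A H) := by
      rw [Ideal.smul_top_eq_map]
      exact hxI
    refine Submodule.smul_induction_on hxI' ?_ ?_
    · intro a ha h _
      have : (Ideal.Quotient.mk ((I ^ n).map (algebraMap A H)) (a • h)) =
          (Ideal.Quotient.mk (I ^ n) a) • (Ideal.Quotient.mk ((I ^ n).map (algebraMap A H)) h) :=
        rfl
      rw [this]
      exact Submodule.smul_mem_smul (h𝔞 ▸ Ideal.mem_map_of_mem _ ha) Submodule.mem_top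
    · intro y z hy hz
      rw [map_add]
      exact add_mem hy hz
  have hKeq : LinearMap.ker ψn = 𝔞 • LinearMap.ker ψn := by
    rw [← key]
    exact (inf_eq_left.mpr hle).symm
  have hpow : ∀ m : ℕ, LinearMap.ker ψn = 𝔞 ^ m • LinearMap.ker ψn := by
    intro m
    induction m with
    | zero => rw [pow_zero, Ideal.one_eq_top, Submodule.top_smul]
    | succ m ih =>
      rw [pow_succ, Submodule.mul_smul, ← hKeq]
      exact ih
  have h𝔞n : 𝔞 ^ n = ⊥ := by
    rw [h𝔞, ← Ideal.map_pow]
    exact Ideal.map_quotient_self (I ^ n)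
  have hK0 : LinearMap.ker ψn = ⊥ := by
    rw [hpow n, h𝔞n, Submodule.bot_smul]
  intro x hx
  have h1 : ψn (Ideal.Quotient.mk _ x) = 0 := by
    rw [hψn_apply, show ψ x = 0 from hx, map_zero]
  have h2 : Ideal.Quotient.mk ((I ^ n).map (algebraMap A H)) x ∈ LinearMap.ker ψn := h1
  rw [hK0, Submodule.mem_bot, Ideal.Quotient.eq_zero_iff_mem] at h2
  exact h2

theorem exists_smooth_surjection (A : Type u) [CommRing A] (I : Ideal A)
    [HenselianRing A I] (R₀ : Type u) [CommRing R₀] [Algebra A R₀] [Algebra.FinitePresentation A R₀]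
    (B : Type u) [CommRing B] [Algebra R₀ B] [Algebra A B] [IsScalarTower A R₀ B]
    (hB : Hens2.IsPairHenselization R₀ (I.map (algebraMap A R₀)) B)
    (het : ∀ r : ℕ, 1 ≤ r → Algebra.Smooth (A ⧸ I ^ r) (B ⧸ (I ^ r).map (algebraMap A B))) :
    ∃ (R : Type u) (_ : CommRing R) (_ : Algebra A R) (H : Type u) (_ : CommRing H) (_ : Algebra R H)
      (_ : Algebra A H) (_ : IsScalarTower A R H),
      Algebra.Smooth A R ∧ Hens2.IsPairHenselization R (I.map (algebraMap A R)) H ∧
      ∃ φ : H →ₐ[A] B, Function.Surjective φ ∧ (RingHom.ker φ).FG ∧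
        ∀ n : ℕ, RingHom.ker φ ≤ (I ^ n).map (algebraMap A H) := by
  have hI1 : I ^ 1 = I := pow_one I
  haveI het1 := het 1 le_rfl
  obtain ⟨R, _, _, hRsm, φ, hφs, hφk⟩ :=
    Groth.Agent.S6827.exists_lift (R := A) (I ^ 1) (A₀ := B ⧸ (I ^ 1).map (algebraMap A B))
  haveI := hRsm
  have hBh : HenselianRing B (I.map (algebraMap A B)) := by
    have := hB.1
    rwa [Ideal.map_map, ← IsScalarTower.algebraMap_eq] at this
  haveI hBh1 : HenselianRing B ((I ^ 1).map (algebraMap A B)) := by
    rw [hI1]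
    exact hBh
  obtain ⟨ρ, hρ'⟩ := Groth.Agent.S0536.result A R B ((I ^ 1).map (algebraMap A B)) φ
  have hρ : ∀ x, Ideal.Quotient.mk ((I ^ 1).map (algebraMap A B)) (ρ x) = φ x :=
    fun x => DFunLike.congr_fun hρ' x
  -- the henselization of `R`
  let H := Colim R (I.map (algebraMap A R))
  let _ : Algebra A H := ((algebraMap R H).comp (algebraMap A R)).toAlgebra
  have hstH : IsScalarTower A R H := IsScalarTower.of_algebraMap_eq (fun _ => rfl)
  have hH : Hens2.IsPairHenselization R (I.map (algebraMap A R)) H := colim_isPairHenselization _ _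
  have hleρ : (I.map (algebraMap A R)).map (ρ : R →+* B) ≤ I.map (algebraMap A B) := by
    rw [Ideal.map_map]
    have : (ρ : R →+* B).comp (algebraMap A R) = algebraMap A B := by
      ext a
      exact ρ.commutes a
    rw [this]
  obtain ⟨ψ₀, hψ₀, -⟩ := hH.2 B (I.map (algebraMap A B)) (ρ : R →+* B) hBh hleρ
  have hψ₀' : ∀ x, ψ₀ (algebraMap R H x) = ρ x := fun x => congrArg (fun g => g x) hψ₀
  let ψ : H →ₐ[A] B :=
    { ψ₀ with
      commutes' := by
        intro a
        change ψ₀ (algebraMap R H (algebraMap A R a)) = _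
        rw [hψ₀', AlgHom.commutes] }
  let _ : Algebra H B := ψ₀.toAlgebra
  have hstB : IsScalarTower A H B := IsScalarTower.of_algebraMap_eq (fun a => (ψ.commutes a).symm)
  have hRfp : Algebra.FinitePresentation A R := inferInstance
  obtain ⟨T, _, _, _, hstT, hTfp, hT⟩ := hfp_of_algHom A I R H hH R₀ B hB
  have hHh : HenselianRing H (I.map (algebraMap A H)) := by
    have := hH.1
    rwa [Ideal.map_map, ← IsScalarTower.algebraMap_eq] at this
  have hIHB : (I.map (algebraMap A H)).map (algebraMap H B) = I.map (algebraMap A B) := by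
    rw [Ideal.map_map, ← IsScalarTower.algebraMap_eq]
  -- surjectivity
  have hmod : ∀ b : B, ∃ h : H, b - algebraMap H B h ∈
      (I.map (algebraMap A H)).map (algebraMap H B) := by
    intro b
    obtain ⟨x, hx⟩ := hφs (Ideal.Quotient.mk _ b)
    refine ⟨algebraMap R H x, ?_⟩
    rw [hIHB]
    change b - ψ₀ (algebraMap R H x) ∈ _
    rw [hψ₀', ← hI1, ← Ideal.Quotient.eq, hρ, hx]
  have hsurj : Function.Surjective (algebraMap H B) :=
    surjective_of_surjective_mod H (I.map (algebraMap A H)) T B hT hmod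
  have hfg : (RingHom.ker (algebraMap H B)).FG :=
    ker_fg_of_surjective (I.map (algebraMap A H)) T B hT hsurj
  have hker : RingHom.ker ψ = RingHom.ker (algebraMap H B) := by
    ext x
    rw [RingHom.mem_ker, RingHom.mem_ker]
    rfl
  -- the kernel is contained in `IH`
  have hk1 : RingHom.ker (ψ : H →+* B) ≤ I.map (algebraMap A H) := by
    intro h hh
    rw [RingHom.mem_ker] at hh
    obtain ⟨x, hx⟩ := (bij_iff.1 (quotientMap_bijective hH)).2 h
    rw [Ideal.map_map, ← IsScalarTower.algebraMap_eq] at hx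
    have h1 : ρ x ∈ I.map (algebraMap A B) := by
      have h2 : ψ₀ (h - algebraMap R H x) ∈ (I.map (algebraMap A H)).map (algebraMap H B) :=
        Ideal.mem_map_of_mem _ hx
      rw [hIHB, map_sub, hψ₀'] at h2
      have h3 : ψ₀ h = 0 := hh
      rw [h3, zero_sub] at h2
      simpa using neg_mem h2
    have h4 : x ∈ RingHom.ker φ := by
      rw [RingHom.mem_ker, ← hρ, Ideal.Quotient.eq_zero_iff_mem, hI1]
      exact h1
    rw [hφk, hI1] at h4
    have h5 : algebraMap R H x ∈ I.map (algebraMap A H) := by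
      rw [IsScalarTower.algebraMap_eq A R H, ← Ideal.map_map]
      exact Ideal.mem_map_of_mem _ h4
    have : h = (h - algebraMap R H x) + algebraMap R H x := by ring
    rw [this]
    exact add_mem hx h5
  refine ⟨R, inferInstance, inferInstance, H, inferInstance, inferInstance, inferInstance, hstH,
    hRsm, hH, ψ, hsurj, ?_, ?_⟩
  · rw [hker]
    exact hfg
  · intro n
    rcases Nat.eq_zero_or_pos n with rfl | hn
    · rw [pow_zero, Ideal.one_eq_top, Ideal.map_top]
      exact le_top
    · haveI e2 := het n hn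
      haveI : Module.Flat (A ⧸ I ^ n) (B ⧸ (I ^ n).map (algebraMap A B)) := inferInstance
      have := ker_le_pow_of_flat I ψ hsurj n hk1 hn
      intro x hx
      exact this hx

end Groth.Agent.Helper4.PHSmooth
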