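import Groth.Prelude.Def_PicRel2
import Groth.Agent.Lib.Helper13.PbInv
import Groth.Agent.Lib.Helper4.HilbBC

/-!
# Base change of a representing scheme of the relative Picard functor (helper lemmas for S17906)
-/

set_option autoImplicit false
universe u
open CategoryTheory CategoryTheory.Limits AlgebraicGeometry

namespace Groth.Agent.Helper4.PicRelBC

open Groth.Agent.Helper4.HilbBC

lemma pullCl_comp {Y Y' Y'' : Scheme.{u}} (a : Y'' ⟶ Y') (b : Y' ⟶ Y) (c : PicF.Cl Y) :
    PicF.pullCl a (PicF.pullCl b c) = PicF.pullCl (a ≫ b) c := by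
  induction c using Quot.ind with
  | mk L => exact Quot.sound ⟨(Scheme.Modules.pullbackComp a b).app L⟩

lemma pullCl_id {Y : Scheme.{u}} (c : PicF.Cl Y) : PicF.pullCl (𝟙 Y) c = c := by
  induction c using Quot.ind with
  | mk L => exact Quot.sound ⟨(Scheme.Modules.pullbackId Y).app L⟩

lemma isInvertibleCl_pullCl {Y Y' : Scheme.{u}} (a : Y' ⟶ Y) {c : PicF.Cl Y}
    (hc : PicF.IsInvertibleCl c) : PicF.IsInvertibleCl (PicF.pullCl a c) := by
  obtain ⟨L, rfl, hL⟩ := hc
  exact ⟨_, rfl, Groth.Agent.Helper13.PbInv.isInvertible_pullback a L hL⟩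

variable {X S : Scheme.{u}} (f : X ⟶ S)

lemma XTmap_comp {T T' T'' : Over S} (a : T'' ⟶ T') (b : T' ⟶ T) :
    PicF.XTmap f (a ≫ b) = PicF.XTmap f a ≫ PicF.XTmap f b := by
  apply pullback.hom_ext
  · simp only [PicF.XTmap, pullback.map, Category.assoc]
    rw [pullback.lift_fst, pullback.lift_fst, pullback.lift_fst_assoc]
    simp
  · simp only [PicF.XTmap, pullback.map, Category.assoc]
    rw [pullback.lift_snd, pullback.lift_snd, pullback.lift_snd_assoc]
    simp

variable {S' : Scheme.{u}} (g : S' ⟶ S)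

lemma XTmap_eT {T T' : Over S'} (a : T' ⟶ T) (b : overS g T' ⟶ overS g T)
    (hb : b.left = a.left) :
    PicF.XTmap (pullback.snd f g) a ≫ (eT f g T).hom = (eT f g T').hom ≫ PicF.XTmap f b := by
  apply pullback.hom_ext
  · simp only [PicF.XTmap, pullback.map, Category.assoc, eT]
    rw [pullback.lift_fst]
    erw [pullbackLeftPullbackSndIso_hom_fst, pullbackLeftPullbackSndIso_hom_fst_assoc]
    rw [pullback.lift_fst_assoc]
    simp
  · simp only [PicF.XTmap, pullback.map, Category.assoc, eT]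
    rw [pullback.lift_snd]
    erw [pullbackLeftPullbackSndIso_hom_snd, pullbackLeftPullbackSndIso_hom_snd_assoc]
    rw [pullback.lift_snd, hb]

end Groth.Agent.Helper4.PicRelBC
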