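import Mathlib
import Groth.Agent.Lib.Helper4.SecDVR

/-!
# Extending a section at a normal point: the "every DVR" criterion (helper4; S3848)
-/

set_option autoImplicit false
universe u
open AlgebraicGeometry CategoryTheory CategoryTheory.Limits

namespace Groth.Agent.Helper4.SecDVR

/-- In a locally Noetherian scheme, every point of the closure of a locally closed set `U ∩ C` is
a specialization of a point of it. -/
theorem exists_specializes_of_mem_closure_inter {X : Scheme.{u}} [IsLocallyNoetherian X]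
    (U : X.Opens) (C : Set X) (hC : IsClosed C) (x : X)
    (hx : x ∈ closure ((U : Set X) ∩ C)) : ∃ t, t ∈ U ∧ t ∈ C ∧ t ⤳ x := by
  let I := Scheme.IdealSheafData.vanishingIdeal ⟨C, hC⟩
  have hrC : Set.range I.subschemeι = C := by
    rw [Scheme.IdealSheafData.range_subschemeι, Scheme.IdealSheafData.coe_support_vanishingIdeal]
    rfl
  let j : pullback U.ι I.subschemeι ⟶ X := pullback.fst U.ι I.subschemeι ≫ U.ι
  have hrj : Set.range j = (U : Set X) ∩ C := by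
    rw [Scheme.Pullback.range_fst_comp, hrC, Scheme.Opens.range_ι]
  rw [← hrj] at hx
  obtain ⟨p, hp⟩ := SpecCl.exists_specializes_of_mem_closure_range j x hx
  have : j p ∈ (U : Set X) ∩ C := by rw [← hrj]; exact ⟨p, rfl⟩
  exact ⟨j p, this.1, this.2, hp⟩

/-- Translating the "every DVR" hypothesis from fraction rings to valuation subrings. -/
theorem H_subtype {X Y : Scheme.{u}} (q : Y ⟶ X) (U : X.Opens) (h : (U : Scheme.{u}) ⟶ Y)
    (x : X) (y₀ : Y)
    (H : ∀ (R : Type u) [CommRing R] [IsDomain R] [IsDiscreteValuationRing R]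
        (a : Spec (CommRingCat.of R) ⟶ X), a (IsLocalRing.closedPoint R) = x →
        ∀ ub : Spec (CommRingCat.of (FractionRing R)) ⟶ (U : Scheme.{u}),
          ub ≫ U.ι = Spec.map (CommRingCat.ofHom (algebraMap R (FractionRing R))) ≫ a →
          ∃ h₁ : Spec (CommRingCat.of R) ⟶ Y, h₁ ≫ q = a ∧ h₁ (IsLocalRing.closedPoint R) = y₀ ∧
            Spec.map (CommRingCat.ofHom (algebraMap R (FractionRing R))) ≫ h₁ = ub ≫ h)
    {L : Type u} [Field L] (A : ValuationSubring L) [IsDiscreteValuationRing A]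
    (a : Spec (CommRingCat.of A) ⟶ X) (ha : a (IsLocalRing.closedPoint A) = x)
    (ubL : Spec (CommRingCat.of L) ⟶ (U : Scheme.{u}))
    (hub : ubL ≫ U.ι = Spec.map (CommRingCat.ofHom A.subtype) ≫ a) :
    ∃ h₁ : Spec (CommRingCat.of A) ⟶ Y, h₁ ≫ q = a ∧ h₁ (IsLocalRing.closedPoint A) = y₀ ∧
      Spec.map (CommRingCat.ofHom A.subtype) ≫ h₁ = ubL ≫ h := by
  obtain ⟨h₁, h1, h2, h3⟩ := H A a ha (fracToL A ≫ ubL)
    (by rw [Category.assoc, hub, alg_eq, Category.assoc])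
  refine ⟨h₁, h1, h2, ?_⟩
  rw [subtype_eq, Category.assoc, h3, ← Category.assoc, ← Category.assoc, lToFrac_fracToL,
    Category.id_comp]


set_option maxHeartbeats 1600000 in
/-- (⇐) of S3848 in valuation-subring form. -/
theorem exists_extension_of_forall_dvr {X Y : Scheme.{u}} [IsLocallyNoetherian X] (q : Y ⟶ X)
    [LocallyOfFiniteType q] (U : X.Opens) (hU : Dense (U : Set X)) (h : (U : Scheme.{u}) ⟶ Y)
    (hh : h ≫ q = U.ι) (x : X) (hxU : x ∉ U) [IsDomain (X.presheaf.stalk x)]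
    (hx : IsIntegrallyClosed (X.presheaf.stalk x)) (y₀ : Y) (hy₀ : q y₀ = x)
    (H : ∀ {L : Type u} [Field L] (A : ValuationSubring L) [IsDiscreteValuationRing A]
      (a : Spec (CommRingCat.of A) ⟶ X), a (IsLocalRing.closedPoint A) = x →
      ∀ ubL : Spec (CommRingCat.of L) ⟶ (U : Scheme.{u}),
        ubL ≫ U.ι = Spec.map (CommRingCat.ofHom A.subtype) ≫ a →
        ∃ h₁ : Spec (CommRingCat.of A) ⟶ Y, h₁ ≫ q = a ∧
          h₁ (IsLocalRing.closedPoint A) = y₀ ∧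
          Spec.map (CommRingCat.ofHom A.subtype) ≫ h₁ = ubL ≫ h) :
    ∃ (U' : X.Opens) (hUU' : U ≤ U') (hxU' : x ∈ U') (h' : (U' : Scheme.{u}) ⟶ Y),
      h' ≫ q = U'.ι ∧ X.homOfLE hUU' ≫ h' = h ∧ h' ⟨x, hxU'⟩ = y₀ := by
  -- an affine neighbourhood of `y₀`
  have hex : ∃ Y₀ : Y.Opens, IsAffineOpen Y₀ ∧ y₀ ∈ Y₀ := by
    obtain ⟨_, ⟨Y₀, hY₀, rfl⟩, hy₀Y₀, -⟩ :=
      Y.isBasis_affineOpens.exists_subset_of_mem_open (Set.mem_univ y₀) isOpen_univ
    exact ⟨Y₀, hY₀, hy₀Y₀⟩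
  obtain ⟨Y₀, hY₀, hy₀Y₀⟩ := hex
  haveI : IsAffine (Y₀ : Scheme.{u}) := hY₀
  let q₀ : (Y₀ : Scheme.{u}) ⟶ X := Y₀.ι ≫ q
  haveI : IsSeparated q₀ := inferInstance
  haveI : LocallyOfFiniteType q₀ := inferInstance
  haveI : IsLocallyNoetherian (Y₀ : Scheme.{u}) := LocallyOfFiniteType.isLocallyNoetherian q₀
  -- Step (a): near `x`, `h` maps into `Y₀`
  let U₀ : X.Opens := U.ι ''ᵁ (h ⁻¹ᵁ Y₀)
  have hclaim : x ∉ closure ((U : Set X) ∩ (U₀ : Set X)ᶜ) := by
    intro hcon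
    obtain ⟨t, htU, htC, htx⟩ :=
      exists_specializes_of_mem_closure_inter U _ U₀.isOpen.isClosed_compl x hcon
    let tU : (U : Scheme.{u}) := ⟨t, htU⟩
    have hne : x ≠ U.ι tU := fun e => hxU (e ▸ htU)
    obtain ⟨A, a, hA, haC, haG⟩ :=
      DVRSpec.exists_dvr_through_specialization U.ι tU x htx hne
    haveI := hA
    obtain ⟨h₁, h1, h2, h3⟩ := H A a haC ((U : Scheme.{u}).fromSpecResidueField tU) haG.symm
    apply htC
    have hmem : h tU ∈ Y₀ := by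
      let s₀ : Spec (CommRingCat.of ((U : Scheme.{u}).residueField tU)) :=
        IsLocalRing.closedPoint _
      have e1 : h₁ (Spec.map (CommRingCat.ofHom A.subtype) s₀) = h tU := by
        rw [← Scheme.Hom.comp_apply, h3, Scheme.Hom.comp_apply,
          Scheme.fromSpecResidueField_apply]
      rw [← e1]
      have e2 : Spec.map (CommRingCat.ofHom A.subtype) s₀ ⤳ IsLocalRing.closedPoint A :=
        IsLocalRing.specializes_closedPoint _
      exact (e2.map h₁.continuous).mem_open Y₀.2 (by rw [h2]; exact hy₀Y₀)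
    exact ⟨tU, hmem, rfl⟩
  let N : X.Opens := ⟨(closure ((U : Set X) ∩ (U₀ : Set X)ᶜ))ᶜ, isClosed_closure.isOpen_compl⟩
  have hxN : x ∈ N := hclaim
  have hN : ∀ (t : X) (htU : t ∈ U), t ∈ N → h ⟨t, htU⟩ ∈ Y₀ := by
    intro t htU htN
    have h1 : t ∈ (U₀ : Set X) := by
      by_contra hcon
      exact htN (subset_closure ⟨htU, hcon⟩)
    obtain ⟨t', ht', ht't⟩ := h1
    have : t' = ⟨t, htU⟩ := Subtype.ext ht't
    rw [← this]
    exact ht'
  obtain ⟨W₁, hW₁, hW₁int, hxW₁, hW₁N, η, hηU, hηW₁, hηsp⟩ :=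
    exists_generic_in_dense U x (hU x) N hxN
  -- the restricted section
  let U₂ : X.Opens := U ⊓ W₁
  have hrange : Set.range (X.homOfLE (inf_le_left : U₂ ≤ U) ≫ h) ⊆ Set.range Y₀.ι := by
    rw [Scheme.Opens.range_ι]
    rintro _ ⟨t, rfl⟩
    rw [Scheme.Hom.comp_apply]
    have : X.homOfLE (inf_le_left : U₂ ≤ U) t = ⟨t.1, t.2.1⟩ := Subtype.ext (by simp)
    rw [this]
    exact hN t.1 t.2.1 (hW₁N t.2.2)
  let h₂ : (U₂ : Scheme.{u}) ⟶ (Y₀ : Scheme.{u}) :=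
    IsOpenImmersion.lift Y₀.ι (X.homOfLE (inf_le_left : U₂ ≤ U) ≫ h) hrange
  have hh₂ : h₂ ≫ Y₀.ι = X.homOfLE (inf_le_left : U₂ ≤ U) ≫ h := IsOpenImmersion.lift_fac _ _ _
  have hh₂q : h₂ ≫ q₀ = U₂.ι := by
    simp only [q₀]
    rw [← Category.assoc, hh₂, Category.assoc, hh, Scheme.homOfLE_ι]
  haveI : LocallyOfFiniteType (h₂ ≫ q₀) := by rw [hh₂q]; infer_instance
  haveI : LocallyOfFiniteType h₂ := locallyOfFiniteType_of_comp h₂ q₀
  let η₂ : (U₂ : Scheme.{u}) := ⟨η, hηU, hηW₁⟩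
  let y₀' : (Y₀ : Scheme.{u}) := ⟨y₀, hy₀Y₀⟩
  have hq₀y₀' : q₀ y₀' = x := by
    simp only [q₀]
    rw [Scheme.Hom.comp_apply]
    exact hy₀
  have hηne : x ≠ U₂.ι η₂ := fun e => hxU (e ▸ hηU)
  -- Sublemma B
  have hB : ∀ (A : ValuationSubring ((U₂ : Scheme.{u}).residueField η₂))
      [IsDiscreteValuationRing A] (a : Spec (CommRingCat.of A) ⟶ X),
      a (IsLocalRing.closedPoint A) = x →
      Spec.map (CommRingCat.ofHom A.subtype) ≫ a =
        (U₂ : Scheme.{u}).fromSpecResidueField η₂ ≫ U₂.ι →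
      ∃ h₁' : Spec (CommRingCat.of A) ⟶ (Y₀ : Scheme.{u}), h₁' ≫ q₀ = a ∧
        h₁' (IsLocalRing.closedPoint A) = y₀' ∧
        Spec.map (CommRingCat.ofHom A.subtype) ≫ h₁' =
          (U₂ : Scheme.{u}).fromSpecResidueField η₂ ≫ h₂ := by
    intro A _ a haC haG
    obtain ⟨h₁, h1, h2, h3⟩ := H A a haC
      ((U₂ : Scheme.{u}).fromSpecResidueField η₂ ≫ X.homOfLE (inf_le_left : U₂ ≤ U))
      (by rw [Category.assoc, Scheme.homOfLE_ι, haG])
    obtain ⟨l, hl⟩ := exists_lift_open A h₁ Y₀ (by rw [h2]; exact hy₀Y₀)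
    refine ⟨l, ?_, ?_, ?_⟩
    · simp only [q₀]
      rw [← Category.assoc, hl, h1]
    · apply Subtype.ext
      have := congrArg (fun f => f (IsLocalRing.closedPoint A)) hl
      simp only [Scheme.Hom.comp_apply] at this
      exact this.trans h2
    · rw [← cancel_mono Y₀.ι, Category.assoc, hl, h3, Category.assoc, Category.assoc, hh₂]
  -- the closure of the image of `h₂` is the closure of a point
  have hcl : closure (Set.range h₂) ⊆ closure {h₂ η₂} := by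
    apply closure_minimal _ isClosed_closure
    rintro _ ⟨t, rfl⟩
    have h1 : η₂ ⤳ t := by
      rw [← U₂.ι.isEmbedding.isInducing.specializes_iff]
      exact hηsp t.1 t.2.2
    exact specializes_iff_mem_closure.mp (h1.map h₂.continuous)
  -- `y₀'` lies in the closure
  have hyΓ : y₀' ∈ closure (Set.range h₂) := by
    obtain ⟨A, a, hA, haC, haG⟩ :=
      DVRSpec.exists_dvr_through_specialization U₂.ι η₂ x (hηsp x hxW₁) hηne
    haveI := hA
    obtain ⟨h₁', h1, h2, h3⟩ := hB A a haC haG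
    have := mem_closure_range_of_lift h₂ A _ A.subtype h₁'
      ((U₂ : Scheme.{u}).fromSpecResidueField η₂) h3
    rwa [h2] at this
  -- uniqueness in the fibre
  have huniq : ∀ y : (Y₀ : Scheme.{u}), y ∈ closure (Set.range h₂) → q₀ y = x → y = y₀' := by
    intro y hyΓ' hyx
    have hζy : h₂ η₂ ⤳ y := specializes_iff_mem_closure.mpr (hcl hyΓ')
    have hne : y ≠ h₂ η₂ := by
      intro e
      apply hηne
      rw [← hyx, e, ← Scheme.Hom.comp_apply, hh₂q]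
    obtain ⟨A, a', hA, haC', haG'⟩ :=
      DVRSpec.exists_dvr_through_specialization h₂ η₂ y hζy hne
    haveI := hA
    obtain ⟨h₁', h1, h2, h3⟩ := hB A (a' ≫ q₀)
      (by rw [Scheme.Hom.comp_apply, haC', hyx])
      (by rw [← Category.assoc, haG', Category.assoc, hh₂q])
    have := DVRVal.lift_unique q₀ ((U₂ : Scheme.{u}).fromSpecResidueField η₂ ≫ h₂) A h₁' a'
      h1 h3 haG'
    rw [← haC', ← this, h2]
  have hiso : ∃ W : (Y₀ : Scheme.{u}).Opens,
      (W : Set (Y₀ : Scheme.{u})) ∩ closure (Set.range h₂) ∩ q₀ ⁻¹' {x} = {y₀'} := by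
    refine ⟨⊤, ?_⟩
    ext w
    constructor
    · rintro ⟨⟨-, hw2⟩, hw3⟩
      exact huniq w hw2 hw3
    · rintro rfl
      exact ⟨⟨trivial, hyΓ⟩, hq₀y₀'⟩
  have hxU₂ : x ∈ closure (U₂ : Set X) := by
    have : x ∈ (W₁ : Set X) ∩ closure (U : Set X) := ⟨hxW₁, hU x⟩
    have h2 := W₁.isOpen.inter_closure this
    rwa [Set.inter_comm] at h2
  obtain ⟨V, hxV, v, hv, hag, hvx⟩ :=
    exists_extension_of_isolated q₀ U₂ h₂ hh₂q x hxU₂ hx y₀' hq₀y₀' hyΓ hiso
  have hvx' : v ⟨x, hxV⟩ = y₀' := by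
    apply huniq _ hvx
    rw [← Scheme.Hom.comp_apply, hv]
    rfl
  -- shrink and glue
  let V' : X.Opens := V ⊓ W₁
  have hxV' : x ∈ V' := ⟨hxV, hxW₁⟩
  let v' : (V' : Scheme.{u}) ⟶ Y := X.homOfLE (inf_le_left : V' ≤ V) ≫ v ≫ Y₀.ι
  have hv' : v' ≫ q = V'.ι := by
    simp only [v', Category.assoc]
    have : v ≫ Y₀.ι ≫ q = V.ι := hv
    rw [this, Scheme.homOfLE_ι]
  have hag' : ∀ {Q : Scheme.{u}} (a : Q ⟶ (U : Scheme.{u})) (b : Q ⟶ (V' : Scheme.{u})),
      a ≫ U.ι = b ≫ V'.ι → b ≫ v' = a ≫ h := by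
    intro Q a b hab
    have hr : Set.range (a ≫ U.ι) ⊆ Set.range U₂.ι := by
      rw [Scheme.Opens.range_ι]
      rintro _ ⟨p, rfl⟩
      refine ⟨?_, ?_⟩
      · rw [Scheme.Hom.comp_apply]
        exact (a p).2
      · rw [hab, Scheme.Hom.comp_apply]
        exact (b p).2.2
    let a₂ : Q ⟶ (U₂ : Scheme.{u}) := IsOpenImmersion.lift U₂.ι (a ≫ U.ι) hr
    have ha₂ : a₂ ≫ U₂.ι = a ≫ U.ι := IsOpenImmersion.lift_fac _ _ _
    have ha₂' : a₂ ≫ X.homOfLE (inf_le_left : U₂ ≤ U) = a := by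
      rw [← cancel_mono U.ι, Category.assoc, Scheme.homOfLE_ι, ha₂]
    have h1 := hag a₂ (b ≫ X.homOfLE (inf_le_left : V' ≤ V))
      (by rw [ha₂, hab, Category.assoc, Scheme.homOfLE_ι])
    simp only [v']
    rw [← Category.assoc, ← Category.assoc, h1, Category.assoc, hh₂, ← Category.assoc, ha₂']
  obtain ⟨U', hUU', hV'U', f', hf', hres, hresV⟩ :=
    exists_glue' (𝟙 X) q U V' h (by rw [hh, Category.comp_id]) v'
      (by rw [hv', Category.comp_id]) hag'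
  rw [Category.comp_id] at hf'
  refine ⟨U', hUU', hV'U' hxV', f', hf', hres, ?_⟩
  have e1 : (⟨x, hV'U' hxV'⟩ : (U' : Scheme.{u})) = X.homOfLE hV'U' ⟨x, hxV'⟩ :=
    Subtype.ext (by simp)
  rw [e1, ← Scheme.Hom.comp_apply, hresV]
  simp only [v', Scheme.Hom.comp_apply]
  have e2 : X.homOfLE (inf_le_left : V' ≤ V) ⟨x, hxV'⟩ = ⟨x, hxV⟩ := Subtype.ext (by simp)
  rw [e2, hvx']
  rfl

end Groth.Agent.Helper4.SecDVR
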