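import Mathlib
import Groth.Agent.Lib.Helper4.SecDVR2
import Groth.Agent.Lib.Helper4.GermAgree
import Groth.Agent.Lib.Helper4.MonoRes

/-!
# Extending a section with prescribed values on the complement (helper4; S5111)
-/

set_option autoImplicit false
universe u
open AlgebraicGeometry CategoryTheory CategoryTheory.Limits

namespace Groth.Agent.Helper4.PrescRed

/-- Two morphisms out of a reduced scheme which agree on all residue-field points are equal
(no separatedness needed). -/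
theorem ext_of_forall_fromSpecResidueField {Z P : Scheme.{u}} [IsReduced Z] (α β : Z ⟶ P)
    (H : ∀ z : Z, Z.fromSpecResidueField z ≫ α = Z.fromSpecResidueField z ≫ β) : α = β := by
  have hpt : ∀ z : Z, α z = β z := by
    intro z
    have := congr($(H z) (IsLocalRing.closedPoint _))
    simpa only [Scheme.Hom.comp_apply, Scheme.fromSpecResidueField_apply] using this
  have hex : ∀ z : Z, ∃ P' : P.Opens, IsAffineOpen P' ∧ α z ∈ P' := by
    intro z
    obtain ⟨_, ⟨P', hP', rfl⟩, hz, -⟩ :=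
      P.isBasis_affineOpens.exists_subset_of_mem_open (Set.mem_univ (α z)) isOpen_univ
    exact ⟨P', hP', hz⟩
  choose P' hP' hzP' using hex
  let N : Z → Z.Opens := fun z => α ⁻¹ᵁ P' z ⊓ β ⁻¹ᵁ P' z
  have hcov : TopologicalSpace.IsOpenCover N := by
    refine TopologicalSpace.IsOpenCover.mk (eq_top_iff.mpr fun z _ => ?_)
    refine TopologicalSpace.Opens.mem_iSup.mpr ⟨z, hzP' z, ?_⟩
    change β z ∈ P' z
    rw [← hpt z]
    exact hzP' z
  refine Scheme.Cover.hom_ext (Z.openCoverOfIsOpenCover N hcov) _ _ fun z => ?_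
  change (N z).ι ≫ α = (N z).ι ≫ β
  haveI : IsAffine (P' z : Scheme.{u}) := hP' z
  let α' : (N z : Scheme.{u}) ⟶ (P' z : Scheme.{u}) :=
    IsOpenImmersion.lift (P' z).ι ((N z).ι ≫ α) (by
      rw [Scheme.Opens.range_ι]
      rintro _ ⟨n, rfl⟩
      rw [Scheme.Hom.comp_apply]
      exact n.2.1)
  let β' : (N z : Scheme.{u}) ⟶ (P' z : Scheme.{u}) :=
    IsOpenImmersion.lift (P' z).ι ((N z).ι ≫ β) (by
      rw [Scheme.Opens.range_ι]
      rintro _ ⟨n, rfl⟩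
      rw [Scheme.Hom.comp_apply]
      exact n.2.2)
  have hα' : α' ≫ (P' z).ι = (N z).ι ≫ α := IsOpenImmersion.lift_fac _ _ _
  have hβ' : β' ≫ (P' z).ι = (N z).ι ≫ β := IsOpenImmersion.lift_fac _ _ _
  have key : α' = β' := by
    refine ext_of_fromSpecResidueField_eq α' β' (terminal.from _) Set.univ dense_univ
      (fun n _ => ?_) (terminal.hom_ext _ _)
    rw [← cancel_mono (P' z).ι, Category.assoc, Category.assoc, hα', hβ',
      ← Scheme.Hom.SpecMap_residueFieldMap_fromSpecResidueField_assoc,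
      ← Scheme.Hom.SpecMap_residueFieldMap_fromSpecResidueField_assoc, H]
  rw [← hα', ← hβ', key]

/-- If `s` is a section of `q`, and `l₀ : Z ⟶ P` lies over `iZ` and agrees pointwise with
`iZ ≫ s`, then `iZ ≫ s = l₀` (for `Z` reduced). -/
theorem comp_eq_of_section {X P Z : Scheme.{u}} [IsReduced Z] (q : P ⟶ X) (s : X ⟶ P)
    (hs : s ≫ q = 𝟙 X) (iZ : Z ⟶ X) (l₀ : Z ⟶ P) (hl₀ : l₀ ≫ q = iZ)
    (hpt : ∀ z : Z, s (iZ z) = l₀ z) : iZ ≫ s = l₀ := by
  haveI : Mono s := mono_of_mono_fac hs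
  refine ext_of_forall_fromSpecResidueField _ _ fun z => ?_
  obtain ⟨l, hl⟩ := MonoRes.exists_lift_of_field s (Z.residueField z)
    (Z.fromSpecResidueField z ≫ l₀) (iZ z) (by
      rw [hpt z, Scheme.Hom.comp_apply, Scheme.fromSpecResidueField_apply])
  have hl2 : l = Z.fromSpecResidueField z ≫ iZ := by
    calc l = l ≫ s ≫ q := by rw [hs, Category.comp_id]
      _ = (Z.fromSpecResidueField z ≫ l₀) ≫ q := by rw [← Category.assoc, hl]
      _ = Z.fromSpecResidueField z ≫ iZ := by rw [Category.assoc, hl₀]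
  rw [← hl, hl2, Category.assoc]

open GermAgree in
/-- Two local morphisms which both extend `σ` and both map `p` into the same affine open agree
near `p`, when the local ring at `p` is a domain. -/
theorem good_near {X P : Scheme.{u}} [IsLocallyNoetherian X] (U : X.Opens)
    (hU : Dense (U : Set X)) (σ : (U : Scheme.{u}) ⟶ P)
    (V₁ V₂ : X.Opens) (s₁ : (V₁ : Scheme.{u}) ⟶ P) (s₂ : (V₂ : Scheme.{u}) ⟶ P)
    (h₁ : Good U V₁ σ s₁ (U ⊓ V₁)) (h₂ : Good U V₂ σ s₂ (U ⊓ V₂))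
    (p : X) (hp₁ : p ∈ V₁) (hp₂ : p ∈ V₂) [IsDomain (X.presheaf.stalk p)]
    (P' : P.Opens) (hP' : IsAffineOpen P') (h1 : s₁ ⟨p, hp₁⟩ ∈ P') (h2 : s₂ ⟨p, hp₂⟩ ∈ P') :
    ∃ N : X.Opens, p ∈ N ∧ Good V₁ V₂ s₁ s₂ N := by
  let N₀ : X.Opens := V₁.ι ''ᵁ (s₁ ⁻¹ᵁ P') ⊓ V₂.ι ''ᵁ (s₂ ⁻¹ᵁ P')
  have hpN₀ : p ∈ N₀ := ⟨⟨⟨p, hp₁⟩, h1, rfl⟩, ⟨⟨p, hp₂⟩, h2, rfl⟩⟩
  obtain ⟨N, -, hpN, hNN₀, hint⟩ := SecDVR.exists_integral_affine_nhd p N₀ hpN₀
  have hN₁ : N ≤ V₁ := fun n hn => by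
    obtain ⟨v, -, rfl⟩ := (hNN₀ hn).1
    exact v.2
  have hN₂ : N ≤ V₂ := fun n hn => by
    obtain ⟨v, -, rfl⟩ := (hNN₀ hn).2
    exact v.2
  refine ⟨N, hpN, hN₁, hN₂, ?_⟩
  haveI : IsAffine (P' : Scheme.{u}) := hP'
  have hr₁ : Set.range (X.homOfLE hN₁ ≫ s₁) ⊆ Set.range P'.ι := by
    rw [Scheme.Opens.range_ι]
    rintro _ ⟨n, rfl⟩
    obtain ⟨v, hv, hvn⟩ := (hNN₀ n.2).1
    have : X.homOfLE hN₁ n = v := V₁.ι.isOpenEmbedding.injective (by
      rw [← Scheme.Hom.comp_apply, Scheme.homOfLE_ι]; exact hvn.symm)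
    rw [Scheme.Hom.comp_apply, this]
    exact hv
  have hr₂ : Set.range (X.homOfLE hN₂ ≫ s₂) ⊆ Set.range P'.ι := by
    rw [Scheme.Opens.range_ι]
    rintro _ ⟨n, rfl⟩
    obtain ⟨v, hv, hvn⟩ := (hNN₀ n.2).2
    have : X.homOfLE hN₂ n = v := V₂.ι.isOpenEmbedding.injective (by
      rw [← Scheme.Hom.comp_apply, Scheme.homOfLE_ι]; exact hvn.symm)
    rw [Scheme.Hom.comp_apply, this]
    exact hv
  let a₁ : (N : Scheme.{u}) ⟶ (P' : Scheme.{u}) := IsOpenImmersion.lift P'.ι _ hr₁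
  let a₂ : (N : Scheme.{u}) ⟶ (P' : Scheme.{u}) := IsOpenImmersion.lift P'.ι _ hr₂
  have ha₁ : a₁ ≫ P'.ι = X.homOfLE hN₁ ≫ s₁ := IsOpenImmersion.lift_fac _ _ _
  have ha₂ : a₂ ≫ P'.ι = X.homOfLE hN₂ ≫ s₂ := IsOpenImmersion.lift_fac _ _ _
  -- the dense open `N ∩ U` of `N`
  let O : (N : Scheme.{u}).Opens := N.ι ⁻¹ᵁ U
  have hO : Dense (O : Set (N : Scheme.{u})) := hU.preimage N.ι.isOpenEmbedding.isOpenMap
  haveI : IsDominant O.ι := ⟨by rw [DenseRange, Scheme.Opens.range_ι]; exact hO⟩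
  haveI : IsReduced (N : Scheme.{u}) := inferInstance
  obtain ⟨g1, g1', e1⟩ := h₁
  obtain ⟨g2, g2', e2⟩ := h₂
  have hON : ∀ (V : X.Opens) (hNV : N ≤ V) (s : (V : Scheme.{u}) ⟶ P) (g : U ⊓ V ≤ U)
      (g' : U ⊓ V ≤ V) (e : X.homOfLE g' ≫ s = X.homOfLE g ≫ σ),
      O.ι ≫ X.homOfLE hNV ≫ s = (N.ι ∣_ U) ≫ σ := by
    intro V hNV s g g' e
    have hle : ∀ o : (O : Scheme.{u}), (O.ι ≫ N.ι) o ∈ U ⊓ V := fun o =>
      ⟨o.2, hNV (O.ι o).2⟩
    let θ : (O : Scheme.{u}) ⟶ ((U ⊓ V : X.Opens) : Scheme.{u}) :=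
      IsOpenImmersion.lift (U ⊓ V).ι (O.ι ≫ N.ι) (by
        rw [Scheme.Opens.range_ι]
        rintro _ ⟨o, rfl⟩
        exact hle o)
    have hθ : θ ≫ (U ⊓ V).ι = O.ι ≫ N.ι := IsOpenImmersion.lift_fac _ _ _
    have e3 : O.ι ≫ X.homOfLE hNV = θ ≫ X.homOfLE g' := by
      rw [← cancel_mono V.ι, Category.assoc, Category.assoc, Scheme.homOfLE_ι, Scheme.homOfLE_ι,
        hθ]
    have e4 : (N.ι ∣_ U) = θ ≫ X.homOfLE g := by
      rw [← cancel_mono U.ι, Category.assoc, Scheme.homOfLE_ι, hθ, morphismRestrict_ι]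
    rw [← Category.assoc, e3, Category.assoc, e, e4, Category.assoc]
  have key : a₁ = a₂ := by
    refine ext_of_isDominant_of_isSeparated (terminal.from _) (terminal.hom_ext _ _) O.ι ?_
    rw [← cancel_mono P'.ι, Category.assoc, Category.assoc, ha₁, ha₂,
      hON V₁ hN₁ s₁ g1 g1' e1, hON V₂ hN₂ s₂ g2 g2' e2]
  rw [← ha₁, ← ha₂, key]

section

open GermAgree

variable {X Y : Scheme.{u}}

theorem Good.symm' {U W : X.Opens} {a : (U : Scheme.{u}) ⟶ Y} {b : (W : Scheme.{u}) ⟶ Y}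
    {O : X.Opens} (h : Good U W a b O) : Good W U b a O := by
  obtain ⟨h1, h2, e⟩ := h
  exact ⟨h2, h1, e.symm⟩

theorem Good.trans' {U V W : X.Opens} {a : (U : Scheme.{u}) ⟶ Y} {b : (V : Scheme.{u}) ⟶ Y}
    {c : (W : Scheme.{u}) ⟶ Y} {O : X.Opens} (h1 : Good U V a b O) (h2 : Good V W b c O) :
    Good U W a c O := by
  obtain ⟨g1, g2, e⟩ := h1
  obtain ⟨g3, g4, e'⟩ := h2
  exact ⟨g1, g4, e'.trans e⟩

end

set_option maxHeartbeats 1600000 in
open GermAgree in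
/-- Extending a section `σ` of `q` over a dense open `U` to a global section with prescribed
restriction `l₀` to the reduced complement, given the discrete valuation ring criterion at every
point of the complement (no separatedness assumption on `q`). -/
theorem exists_section_of_forall_dvr {X P Z : Scheme.{u}} [IsLocallyNoetherian X] (q : P ⟶ X)
    [LocallyOfFiniteType q] (U : X.Opens) (hU : Dense (U : Set X)) (σ : (U : Scheme.{u}) ⟶ P)
    (hσ : σ ≫ q = U.ι) (iZ : Z ⟶ X) [IsClosedImmersion iZ] [IsReduced Z]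
    (hZ : Set.range iZ = ((U : Set X))ᶜ) (l₀ : Z ⟶ P) (hl₀ : l₀ ≫ q = iZ)
    (hnorm : ∀ z : Z, IsDomain (X.presheaf.stalk (iZ z)) ∧
      IsIntegrallyClosed (X.presheaf.stalk (iZ z)))
    (H : ∀ (z : Z) {L : Type u} [Field L] (A : ValuationSubring L) [IsDiscreteValuationRing A]
      (a : Spec (CommRingCat.of A) ⟶ X), a (IsLocalRing.closedPoint A) = iZ z →
      ∀ ubL : Spec (CommRingCat.of L) ⟶ (U : Scheme.{u}),
        ubL ≫ U.ι = Spec.map (CommRingCat.ofHom A.subtype) ≫ a →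
        ∃ h₁ : Spec (CommRingCat.of A) ⟶ P, h₁ ≫ q = a ∧
          h₁ (IsLocalRing.closedPoint A) = l₀ z ∧
          Spec.map (CommRingCat.ofHom A.subtype) ≫ h₁ = ubL ≫ σ) :
    ∃ s : X ⟶ P, s ≫ q = 𝟙 X ∧ U.ι ≫ s = σ ∧ iZ ≫ s = l₀ := by
  have hinj : Function.Injective iZ := iZ.isClosedEmbedding.injective
  -- local extensions
  have hloc : ∀ z : Z, ∃ (U' : X.Opens) (hUU' : U ≤ U') (hxU' : iZ z ∈ U')
      (s' : (U' : Scheme.{u}) ⟶ P),
      s' ≫ q = U'.ι ∧ X.homOfLE hUU' ≫ s' = σ ∧ s' ⟨iZ z, hxU'⟩ = l₀ z := by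
    intro z
    haveI := (hnorm z).1
    have hxU : iZ z ∉ U := by
      have : iZ z ∈ Set.range iZ := ⟨z, rfl⟩
      rw [hZ] at this
      exact this
    exact SecDVR.exists_extension_of_forall_dvr q U hU σ hσ (iZ z) hxU (hnorm z).2 (l₀ z)
      (by rw [← Scheme.Hom.comp_apply, hl₀]) (H z)
  choose U' hUU' hxU' s' hs'q hs'σ hs'pt using hloc
  have hex : ∀ z : Z, ∃ P' : P.Opens, IsAffineOpen P' ∧ l₀ z ∈ P' := by
    intro z
    obtain ⟨_, ⟨P', hP', rfl⟩, hz, -⟩ :=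
      P.isBasis_affineOpens.exists_subset_of_mem_open (Set.mem_univ (l₀ z)) isOpen_univ
    exact ⟨P', hP', hz⟩
  choose P' hP' hzP' using hex
  -- shrinking
  let C : Z → Set X := fun z => iZ '' ((l₀ ⁻¹ᵁ P' z : Set Z)ᶜ)
  have hC : ∀ z, IsClosed (C z) := fun z =>
    iZ.isClosedEmbedding.isClosedMap _ (l₀ ⁻¹ᵁ P' z).isOpen.isClosed_compl
  let V : Z → X.Opens := fun z =>
    (U' z).ι ''ᵁ ((s' z) ⁻¹ᵁ P' z) ⊓ ⟨(C z)ᶜ, (hC z).isOpen_compl⟩
  have hV_le : ∀ z, V z ≤ U' z := fun z n hn => by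
    obtain ⟨w, -, rfl⟩ := hn.1
    exact w.2
  let v : ∀ z, (V z : Scheme.{u}) ⟶ P := fun z => X.homOfLE (hV_le z) ≫ s' z
  have hxV : ∀ z, iZ z ∈ V z := by
    intro z
    refine ⟨⟨⟨iZ z, hxU' z⟩, ?_, rfl⟩, ?_⟩
    · change s' z ⟨iZ z, hxU' z⟩ ∈ P' z
      rw [hs'pt z]
      exact hzP' z
    · rintro ⟨z2, hz2, e⟩
      rw [hinj e] at hz2
      exact hz2 (hzP' z)
  have F1 : ∀ z (n : (V z : Scheme.{u})), v z n ∈ P' z := by
    intro z n
    obtain ⟨w, hw, hwn⟩ := n.2.1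
    have : X.homOfLE (hV_le z) n = w := (U' z).ι.isOpenEmbedding.injective (by
      rw [← Scheme.Hom.comp_apply, Scheme.homOfLE_ι]; exact hwn.symm)
    simp only [v]
    rw [Scheme.Hom.comp_apply, this]
    exact hw
  have F2 : ∀ z z', iZ z' ∈ V z → l₀ z' ∈ P' z := by
    intro z z' hz'
    by_contra hcon
    exact hz'.2 ⟨z', hcon, rfl⟩
  have F3 : ∀ z, v z ⟨iZ z, hxV z⟩ = l₀ z := by
    intro z
    have : X.homOfLE (hV_le z) ⟨iZ z, hxV z⟩ = ⟨iZ z, hxU' z⟩ :=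
      (U' z).ι.isOpenEmbedding.injective (by
        rw [← Scheme.Hom.comp_apply, Scheme.homOfLE_ι]; rfl)
    simp only [v]
    rw [Scheme.Hom.comp_apply, this, hs'pt z]
  have F4 : ∀ z, Good U (V z) σ (v z) (U ⊓ V z) := by
    intro z
    refine ⟨inf_le_left, inf_le_right, ?_⟩
    simp only [v]
    rw [← hs'σ z, Scheme.homOfLE_homOfLE_assoc, Scheme.homOfLE_homOfLE_assoc]
  have hvq : ∀ z, v z ≫ q = (V z).ι := by
    intro z
    simp only [v]
    rw [Category.assoc, hs'q z, Scheme.homOfLE_ι]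
  -- the family
  let F : Option Z → X.Opens := fun o => match o with
    | none => U
    | some z => V z
  let m : ∀ o : Option Z, (F o : Scheme.{u}) ⟶ P := fun o => match o with
    | none => σ
    | some z => v z
  have hσF : ∀ o, Good U (F o) σ (m o) (U ⊓ F o) := by
    intro o
    cases o with
    | none => exact ⟨inf_le_left, inf_le_right, rfl⟩
    | some z => exact F4 z
  have hmq : ∀ o, m o ≫ q = (F o).ι := by
    intro o
    cases o with
    | none => exact hσ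
    | some z => exact hvq z
  have hcov : TopologicalSpace.IsOpenCover F := by
    refine TopologicalSpace.IsOpenCover.mk (eq_top_iff.mpr fun x _ => ?_)
    by_cases hx : x ∈ U
    · exact TopologicalSpace.Opens.mem_iSup.mpr ⟨none, hx⟩
    · have : x ∈ Set.range iZ := by rw [hZ]; exact hx
      obtain ⟨z, rfl⟩ := this
      exact TopologicalSpace.Opens.mem_iSup.mpr ⟨some z, hxV z⟩
  -- local agreement on the complement
  have hZZ : ∀ z z' z'' : Z, iZ z'' ∈ V z → iZ z'' ∈ V z' →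
      ∃ N, Good (V z) (V z') (v z) (v z') N ∧ iZ z'' ∈ N := by
    intro z z' z'' h1 h2
    haveI := (hnorm z'').1
    obtain ⟨N₁, hN₁, g₁⟩ := good_near U hU σ (V z) (V z'') (v z) (v z'') (F4 z) (F4 z'')
      (iZ z'') h1 (hxV z'') (P' z) (hP' z) (F1 z _) (by rw [F3 z'']; exact F2 z z'' h1)
    obtain ⟨N₂, hN₂, g₂⟩ := good_near U hU σ (V z') (V z'') (v z') (v z'') (F4 z') (F4 z'')
      (iZ z'') h2 (hxV z'') (P' z') (hP' z') (F1 z' _) (by rw [F3 z'']; exact F2 z' z'' h2)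
    exact ⟨N₁ ⊓ N₂, Good.trans' (Good.mono g₁ inf_le_left) (Good.symm' (Good.mono g₂ inf_le_right)),
      hN₁, hN₂⟩
  have hgood : ∀ o o', Good (F o) (F o') (m o) (m o') (F o ⊓ F o') := by
    intro o o'
    refine good_of_local (F o ⊓ F o') inf_le_left inf_le_right fun c hc => ?_
    by_cases hcU : c ∈ U
    · refine ⟨U ⊓ F o ⊓ F o', ?_, ⟨hcU, hc.1⟩, hc.2⟩
      have e1 : Good U (F o) σ (m o) (U ⊓ F o ⊓ F o') := Good.mono (hσF o) inf_le_left
      have e2 : Good U (F o') σ (m o') (U ⊓ F o ⊓ F o') :=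
        Good.mono (hσF o') (le_inf (inf_le_left.trans inf_le_left) inf_le_right)
      exact Good.trans' (Good.symm' e1) e2
    · have : c ∈ Set.range iZ := by rw [hZ]; exact hcU
      obtain ⟨z'', rfl⟩ := this
      cases o with
      | none => exact absurd hc.1 hcU
      | some z =>
        cases o' with
        | none => exact absurd hc.2 hcU
        | some z' => exact hZZ z z' z'' hc.1 hc.2
  let 𝒰 : X.OpenCover := X.openCoverOfIsOpenCover F hcov
  have compat : ∀ o o' : Option Z,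
      pullback.fst (𝒰.f o) (𝒰.f o') ≫ m o = pullback.snd (𝒰.f o) (𝒰.f o') ≫ m o' := by
    intro o o'
    obtain ⟨h1, h2, e⟩ := hgood o o'
    exact (CurveExt.agree_of_homOfLE e (pullback.fst (𝒰.f o) (𝒰.f o'))
      (pullback.snd (𝒰.f o) (𝒰.f o')) pullback.condition).symm
  let s : X ⟶ P := 𝒰.glueMorphisms m compat
  have hs : ∀ o, (F o).ι ≫ s = m o := fun o => 𝒰.ι_glueMorphisms m compat o
  have hsq : s ≫ q = 𝟙 X := by
    refine Scheme.Cover.hom_ext 𝒰 _ _ fun o => ?_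
    change (F o).ι ≫ s ≫ q = (F o).ι ≫ 𝟙 X
    rw [← Category.assoc, hs o, hmq o, Category.comp_id]
  refine ⟨s, hsq, hs none, ?_⟩
  refine comp_eq_of_section q s hsq iZ l₀ hl₀ fun z => ?_
  have : iZ z = (V z).ι ⟨iZ z, hxV z⟩ := rfl
  rw [this, ← Scheme.Hom.comp_apply]
  have h3 : (V z).ι ≫ s = v z := hs (some z)
  rw [h3, F3 z]

end Groth.Agent.Helper4.PrescRed
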