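import Mathlib
import Groth.Agent.Lib.Helper4.PrescRed

/-!
# Prescribed reduction: translating the base-changed DVR criterion (helper4; S5111)
-/

set_option autoImplicit false
universe u
open AlgebraicGeometry CategoryTheory CategoryTheory.Limits

namespace Groth.Agent.Helper4.PrescRed

set_option maxHeartbeats 1600000 in
/-- From an extension after base change to a discrete valuation ring to a lift into the fibre
product `X ×_S Y`. -/
theorem lift_of_baseChange {X Y S Z : Scheme.{u}} (f : X ⟶ S) (g : Y ⟶ S) (U : S.Opens)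
    (h : ↑(f ⁻¹ᵁ U) ⟶ Y) (hh : h ≫ g = (f ⁻¹ᵁ U).ι ≫ f) (iZ : Z ⟶ X) (h₀ : Z ⟶ Y)
    (hh₀ : h₀ ≫ g = iZ ≫ f)
    {L : Type u} [Field L] (A : ValuationSubring L)
    (a : Spec (CommRingCat.of A) ⟶ X) (z : Z) (haC : a (IsLocalRing.closedPoint A) = iZ z)
    (ubL : Spec (CommRingCat.of L) ⟶ ↑(f ⁻¹ᵁ U))
    (hub : ubL ≫ (f ⁻¹ᵁ U).ι = Spec.map (CommRingCat.ofHom A.subtype) ≫ a)
    (u : Spec (CommRingCat.of A) ⟶ S) (hu : u = a ≫ f)
    (h₁ : pullback f u ⟶ pullback g u)
    (H1 : h₁ ≫ pullback.snd g u = pullback.snd f u)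
    (H2 : ((pullback.fst f u) ⁻¹ᵁ (f ⁻¹ᵁ U)).ι ≫ h₁ ≫ pullback.fst g u =
      (pullback.fst f u ∣_ (f ⁻¹ᵁ U)) ≫ h)
    (H3 : ∀ z₁ : ↥(pullback (iZ ≫ f) u),
            (pullback (iZ ≫ f) u).fromSpecResidueField z₁ ≫
                pullback.lift (pullback.fst (iZ ≫ f) u ≫ iZ) (pullback.snd (iZ ≫ f) u)
                  ((Category.assoc _ _ _).trans pullback.condition) ≫ h₁ ≫ pullback.fst g u =
              (pullback (iZ ≫ f) u).fromSpecResidueField z₁ ≫ pullback.fst (iZ ≫ f) u ≫ h₀) :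
    ∃ ℓ : Spec (CommRingCat.of A) ⟶ pullback f g, ℓ ≫ pullback.fst f g = a ∧
      ℓ (IsLocalRing.closedPoint A) = (pullback.lift iZ h₀ hh₀.symm) z ∧
      Spec.map (CommRingCat.ofHom A.subtype) ≫ ℓ =
        ubL ≫ pullback.lift (f ⁻¹ᵁ U).ι h hh.symm := by
  subst hu
  let sa : Spec (CommRingCat.of A) ⟶ pullback f (a ≫ f) :=
    pullback.lift a (𝟙 _) (by rw [Category.id_comp])
  have hsa1 : sa ≫ pullback.fst f (a ≫ f) = a := pullback.lift_fst _ _ _
  have hsa2 : sa ≫ pullback.snd f (a ≫ f) = 𝟙 _ := pullback.lift_snd _ _ _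
  let b : Spec (CommRingCat.of A) ⟶ Y := sa ≫ h₁ ≫ pullback.fst g (a ≫ f)
  have hb : b ≫ g = a ≫ f := by
    calc b ≫ g = sa ≫ h₁ ≫ pullback.fst g (a ≫ f) ≫ g := by
          simp only [b, Category.assoc]
      _ = sa ≫ (h₁ ≫ pullback.snd g (a ≫ f)) ≫ a ≫ f := by
          rw [pullback.condition, Category.assoc]
      _ = (sa ≫ pullback.snd f (a ≫ f)) ≫ a ≫ f := by rw [H1, Category.assoc]
      _ = a ≫ f := by rw [hsa2, Category.id_comp]
  let ℓ : Spec (CommRingCat.of A) ⟶ pullback f g := pullback.lift a b hb.symm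
  have hℓ1 : ℓ ≫ pullback.fst f g = a := pullback.lift_fst _ _ _
  have hℓ2 : ℓ ≫ pullback.snd f g = b := pullback.lift_snd _ _ _
  refine ⟨ℓ, hℓ1, ?_, ?_⟩
  · -- the closed point
    obtain ⟨t, ht1, ht2⟩ := Scheme.Pullback.exists_preimage_pullback (f := iZ) (g := a) z
      (IsLocalRing.closedPoint A) haC.symm
    let T : Scheme.{u} := pullback iZ a
    let τ : Spec (T.residueField t) ⟶ T := T.fromSpecResidueField t
    let ζ : T ⟶ pullback (iZ ≫ f) (a ≫ f) :=
      pullback.lift (pullback.fst iZ a) (pullback.snd iZ a) (by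
        rw [← Category.assoc, pullback.condition, Category.assoc])
    have hζ2 : ζ ≫ pullback.fst (iZ ≫ f) (a ≫ f) = pullback.fst iZ a := pullback.lift_fst _ _ _
    have hζ3 : ζ ≫ pullback.snd (iZ ≫ f) (a ≫ f) = pullback.snd iZ a := pullback.lift_snd _ _ _
    have hζ1 : ζ ≫ pullback.lift (pullback.fst (iZ ≫ f) (a ≫ f) ≫ iZ)
        (pullback.snd (iZ ≫ f) (a ≫ f)) ((Category.assoc _ _ _).trans pullback.condition) =
        pullback.snd iZ a ≫ sa := by
      apply pullback.hom_ext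
      · rw [Category.assoc, pullback.lift_fst, reassoc_of% hζ2, Category.assoc, hsa1,
          pullback.condition]
      · rw [Category.assoc, pullback.lift_snd, hζ3, Category.assoc, hsa2, Category.comp_id]
    have hτζ : τ ≫ ζ = Spec.map (ζ.residueFieldMap t) ≫
        (pullback (iZ ≫ f) (a ≫ f)).fromSpecResidueField (ζ t) :=
      (Scheme.Hom.SpecMap_residueFieldMap_fromSpecResidueField ζ t).symm
    have hstar : τ ≫ pullback.snd iZ a ≫ b = τ ≫ pullback.fst iZ a ≫ h₀ := by
      calc τ ≫ pullback.snd iZ a ≫ b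
          = (τ ≫ ζ) ≫ pullback.lift (pullback.fst (iZ ≫ f) (a ≫ f) ≫ iZ)
              (pullback.snd (iZ ≫ f) (a ≫ f)) ((Category.assoc _ _ _).trans pullback.condition) ≫
              h₁ ≫ pullback.fst g (a ≫ f) := by
            rw [Category.assoc, reassoc_of% hζ1]
        _ = (τ ≫ ζ) ≫ pullback.fst (iZ ≫ f) (a ≫ f) ≫ h₀ := by
            rw [hτζ]
            exact (Category.assoc _ _ _).trans
              ((congrArg (Spec.map (ζ.residueFieldMap t) ≫ ·) (H3 (ζ t))).trans
                (Category.assoc _ _ _).symm)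
        _ = τ ≫ pullback.fst iZ a ≫ h₀ := by
            rw [Category.assoc, reassoc_of% hζ2]
    have hfin : (τ ≫ pullback.snd iZ a) ≫ ℓ = (τ ≫ pullback.fst iZ a) ≫
        pullback.lift iZ h₀ hh₀.symm := by
      apply pullback.hom_ext
      · rw [Category.assoc, Category.assoc, hℓ1, Category.assoc, Category.assoc,
          pullback.lift_fst, pullback.condition]
      · rw [Category.assoc, Category.assoc, hℓ2, Category.assoc, Category.assoc,
          pullback.lift_snd, hstar]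
    have := congr($hfin (IsLocalRing.closedPoint _))
    simp only [Scheme.Hom.comp_apply] at this
    have e1 : τ (IsLocalRing.closedPoint _) = t := Scheme.fromSpecResidueField_apply _ _
    rw [e1, ht1, ht2] at this
    exact this
  · -- the generic point
    apply pullback.hom_ext
    · rw [Category.assoc, hℓ1, Category.assoc, pullback.lift_fst, hub]
    · rw [Category.assoc, hℓ2, Category.assoc, pullback.lift_snd]
      let O₁ : (pullback f (a ≫ f)).Opens := (pullback.fst f (a ≫ f)) ⁻¹ᵁ (f ⁻¹ᵁ U)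
      let e : Spec (CommRingCat.of L) ⟶ (O₁ : Scheme.{u}) :=
        IsOpenImmersion.lift O₁.ι (Spec.map (CommRingCat.ofHom A.subtype) ≫ sa) (by
          rw [Scheme.Opens.range_ι]
          rintro _ ⟨pt, rfl⟩
          change (pullback.fst f (a ≫ f)) ((Spec.map (CommRingCat.ofHom A.subtype) ≫ sa) pt) ∈
            f ⁻¹ᵁ U
          rw [← Scheme.Hom.comp_apply, Category.assoc, hsa1, ← hub, Scheme.Hom.comp_apply]
          exact (ubL pt).2)
      have he : e ≫ O₁.ι = Spec.map (CommRingCat.ofHom A.subtype) ≫ sa :=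
        IsOpenImmersion.lift_fac _ _ _
      have e2 : e ≫ (pullback.fst f (a ≫ f) ∣_ (f ⁻¹ᵁ U)) = ubL := by
        rw [← cancel_mono (f ⁻¹ᵁ U).ι, Category.assoc, morphismRestrict_ι, reassoc_of% he, hsa1,
          hub]
      calc Spec.map (CommRingCat.ofHom A.subtype) ≫ b
          = (e ≫ O₁.ι) ≫ h₁ ≫ pullback.fst g (a ≫ f) := by
            rw [he, Category.assoc]
        _ = e ≫ (pullback.fst f (a ≫ f) ∣_ (f ⁻¹ᵁ U)) ≫ h := by
            rw [Category.assoc, H2]
        _ = ubL ≫ h := by rw [reassoc_of% e2]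

end Groth.Agent.Helper4.PrescRed
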