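import Mathlib

/-!
# Images of closed sets under quasi-compact morphisms

For a quasi-compact morphism of schemes, the image of a closed set is closed as soon as it is
stable under specialization (Stacks 01K9-type).
-/

set_option autoImplicit false
universe u
open CategoryTheory CategoryTheory.Limits AlgebraicGeometry TopologicalSpace

namespace Groth.Agent.Helper4.QCImage

theorem isClosed_image_of_stableUnderSpecialization {X Y : Scheme.{u}} (f : X ⟶ Y) [QuasiCompact f]
    (Z : Set X) (hZ : IsClosed Z) (H : StableUnderSpecialization (f '' Z)) :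
    IsClosed (f '' Z) := by
  rw [← isOpen_compl_iff, isOpen_iff_forall_mem_open]
  intro y hy
  obtain ⟨U, hU, hyU, -⟩ := Opens.isBasis_iff_nbhd.mp Y.isBasis_affineOpens (Opens.mem_top y)
  have hU' : IsAffineOpen U := hU
  refine ⟨(U : Set Y) \ f '' Z, fun a ha => ha.2, ?_, ⟨hyU, hy⟩⟩
  have hc : IsCompact (f ⁻¹ᵁ U : Set X) :=
    QuasiCompact.isCompact_preimage _ U.isOpen hU'.isCompact
  obtain ⟨R, g, hg⟩ := isCompact_iff_exists.mp hc
  have hrange : Set.range (g ≫ f) ⊆ Set.range hU'.fromSpec := by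
    rw [hU'.range_fromSpec]
    rintro _ ⟨r, rfl⟩
    have : g r ∈ (f ⁻¹ᵁ U : Set X) := hg ▸ Set.mem_range_self r
    exact this
  let h : Spec R ⟶ Spec Γ(Y, U) := IsOpenImmersion.lift hU'.fromSpec (g ≫ f) hrange
  have hh : h ≫ hU'.fromSpec = g ≫ f := IsOpenImmersion.lift_fac _ _ _
  obtain ⟨φ, hφ⟩ := Spec.homEquiv.symm.surjective h
  have einj : Function.Injective hU'.fromSpec := hU'.fromSpec.isOpenEmbedding.injective
  -- the preimage of `f '' Z` in `Spec Γ(Y, U)` is the image of a closed set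
  have hpre : hU'.fromSpec ⁻¹' (f '' Z) = h '' (g ⁻¹' Z) := by
    ext b
    constructor
    · rintro ⟨z, hz, hzb⟩
      have hzU : z ∈ (f ⁻¹ᵁ U : Set X) := by
        show f z ∈ (U : Set Y)
        rw [hzb, ← hU'.range_fromSpec]
        exact Set.mem_range_self b
      rw [← hg] at hzU
      obtain ⟨r, rfl⟩ := hzU
      refine ⟨r, hz, einj ?_⟩
      rw [← hzb, ← Scheme.Hom.comp_apply, hh, Scheme.Hom.comp_apply]
    · rintro ⟨r, hr, rfl⟩
      refine ⟨g r, hr, ?_⟩
      rw [← Scheme.Hom.comp_apply, ← Scheme.Hom.comp_apply, hh]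
  have key : IsClosed (h '' (g ⁻¹' Z)) := by
    have hst : StableUnderSpecialization (h '' (g ⁻¹' Z)) := by
      rw [← hpre]
      intro a b hab ha
      exact H (hab.map hU'.fromSpec.continuous) ha
    rw [← hφ] at hst ⊢
    exact PrimeSpectrum.isClosed_image_of_stableUnderSpecialization φ.hom _
      (hZ.preimage g.continuous) hst
  have heq : (U : Set Y) \ f '' Z = hU'.fromSpec '' (hU'.fromSpec ⁻¹' (f '' Z))ᶜ := by
    ext a
    constructor
    · rintro ⟨haU, haZ⟩
      rw [← hU'.range_fromSpec] at haU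
      obtain ⟨b, rfl⟩ := haU
      exact ⟨b, haZ, rfl⟩
    · rintro ⟨b, hb, rfl⟩
      refine ⟨?_, hb⟩
      show hU'.fromSpec b ∈ (U : Set Y)
      rw [← hU'.range_fromSpec]
      exact Set.mem_range_self b
  rw [heq, hpre]
  exact hU'.fromSpec.isOpenEmbedding.isOpenMap _ key.isOpen_compl

end Groth.Agent.Helper4.QCImage
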