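import Mathlib
import Groth.Agent.Lib.Helper4.BCTower
import Groth.Agent.Lib.Helper4.CurveMor
import Groth.Agent.Lib.Helper4.GeomIrrSep
import Groth.Prelude.Def_Curv2

set_option autoImplicit false
universe u
open AlgebraicGeometry CategoryTheory CategoryTheory.Limits TopologicalSpace Topology

namespace Groth.Agent.Helper4.RatPts

open Groth.Agent.Helper4.BCTower

/-- over a rational point of a `k`-scheme there is exactly one point of `X_K` -/
theorem eq_of_fst_eq {k : Type u} [Field k] {X : Scheme.{u}} (f : X ⟶ Spec (CommRingCat.of k))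
    (K : Type u) [Field K] [Algebra k K] (x : X) (φ : k →+* X.residueField x)
    (hφ : Spec.map (CommRingCat.ofHom φ) = X.fromSpecResidueField x ≫ f)
    (hx : Function.Surjective φ)
    (z w : ↥(pullback f (yK K)))
    (hz : (pullback.fst f (yK K)) z = x) (hw : (pullback.fst f (yK K)) w = x) : z = w := by
  have hbij : Function.Bijective φ := ⟨φ.injective, hx⟩
  haveI : IsIso (CommRingCat.ofHom φ) :=
    (RingEquiv.ofBijective φ hbij).toCommRingCatIso.isIso_hom
  haveI hiso : IsIso (X.fromSpecResidueField x ≫ f) := by
    rw [← hφ]; infer_instance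
  set ι := X.fromSpecResidueField x with hι
  let e := pullbackRightPullbackFstIso f (yK K) ι
  haveI : IsIso (pullback.snd (ι ≫ f) (yK K)) := inferInstance
  have hsub : Subsingleton ↥(pullback ι (pullback.fst f (yK K))) := by
    let h1 := (e ≪≫ asIso (pullback.snd (ι ≫ f) (yK K)))
    have h2 : ↥(pullback ι (pullback.fst f (yK K))) ≃ₜ ↥(Spec (CommRingCat.of K)) :=
      Scheme.homeoOfIso h1
    exact h2.injective.subsingleton
  obtain ⟨a, ha⟩ : ∃ a : ↥(Spec (X.residueField x)), ι a = x :=
    ⟨IsLocalRing.closedPoint _, Scheme.fromSpecResidueField_apply x _⟩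
  obtain ⟨p, -, hp⟩ := Scheme.Pullback.exists_preimage_pullback (f := ι)
    (g := pullback.fst f (yK K)) a z (ha.trans hz.symm)
  obtain ⟨q, -, hq⟩ := Scheme.Pullback.exists_preimage_pullback (f := ι)
    (g := pullback.fst f (yK K)) a w (ha.trans hw.symm)
  rw [← hp, ← hq, Subsingleton.elim p q]

/-- an irreducible `k`-scheme with a dense set of rational points is geometrically irreducible -/
theorem geometricallyIrreducible_of_dense {k : Type u} [Field k] {X : Scheme.{u}}
    (f : X ⟶ Spec (CommRingCat.of k)) [IrreducibleSpace ↥X]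
    (D : Set ↥X) (hD : Dense D)
    (hrat : ∀ x ∈ D, ∃ φ : k →+* X.residueField x,
      Spec.map (CommRingCat.ofHom φ) = X.fromSpecResidueField x ≫ f ∧ Function.Surjective φ) :
    GeometricallyIrreducible f := by
  let K := SeparableClosure k
  set π := pullback.fst f (yK K) with hπ
  have hopen : IsOpenMap π.base := by
    haveI h : UniversallyOpen π :=
      MorphismProperty.pullback_fst (P := @UniversallyOpen) f (yK K) inferInstance
    exact π.isOpenMap
  have hdense : Dense (π.base ⁻¹' D) := hD.preimage hopen
  obtain ⟨x₀⟩ : Nonempty ↥X := inferInstance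
  obtain ⟨u₀, -⟩ := fst_surjective f K x₀
  have hT := irreducibleComponent_mem_irreducibleComponents u₀
  have himg := image_fst_mem_irreducibleComponents f K hT
  rw [irreducibleComponents_eq_singleton, Set.mem_singleton_iff] at himg
  have hsub : π.base ⁻¹' D ⊆ irreducibleComponent u₀ := by
    intro w hw
    have : π.base w ∈ π.base '' irreducibleComponent u₀ := by rw [himg]; trivial
    obtain ⟨z, hzT, hzw⟩ := this
    obtain ⟨φ, hφ, hsurj⟩ := hrat _ hw
    have := eq_of_fst_eq f K (π.base w) φ hφ hsurj z w hzw rfl
    rw [← this]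
    exact hzT
  have huniv : irreducibleComponent u₀ = Set.univ := by
    have h1 : closure (π.base ⁻¹' D) ⊆ irreducibleComponent u₀ :=
      closure_minimal hsub isClosed_irreducibleComponent
    rw [hdense.closure_eq] at h1
    exact Set.univ_subset_iff.mp h1
  haveI : IrreducibleSpace ↥(pullback f (yK K)) := by
    haveI : Nonempty ↥(pullback f (yK K)) := ⟨u₀⟩
    haveI : PreirreducibleSpace ↥(pullback f (yK K)) :=
      ⟨huniv ▸ (isIrreducible_irreducibleComponent (x := u₀)).isPreirreducible⟩
    exact ⟨inferInstance⟩
  haveI : IrreducibleSpace ↥(FBase.bc f K) := this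
  exact Groth.Agent.Helper4.GeomIrrSep.geometricallyIrreducible_of_irreducibleSpace_bc f K

end Groth.Agent.Helper4.RatPts
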