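import Mathlib
import Groth.Prelude.Def_CAlg2
import Groth.Agent.Lib.Helper1.TP3
import Groth.Agent.Lib.Helper1.UB4
import Groth.Agent.Lib.Helper1.GU4
import Groth.Agent.Lib.Helper1.GU5
import Groth.Agent.Lib.Helper14.PolyGU

/-!
# Geometric unibranchness ascends along smooth maps (EGA IV 17.5.7 / 18.8.12 style)

`B` smooth over `A`, `q` a prime of `B`: if `A_{q ∩ A}` is geometrically unibranch then so is `B_q`
(and `B_q` is a domain when `A` is a domain).
-/

set_option autoImplicit false
universe u

namespace Groth.Agent.Helper4.SmoothGU

open Groth.Agent.Helper1 Groth.Agent.Helper14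

/-- étale case, with the explicit `Localization.AtPrime` models -/
theorem isGeomUnibranch_atPrime_of_etale' {A C : Type u} [CommRing A] [CommRing C] [Algebra A C]
    [Algebra.Etale A C] (q : Ideal C) [q.IsPrime]
    (hA : CAlg2.IsGeomUnibranch (Localization.AtPrime (q.under A))) :
    CAlg2.IsGeomUnibranch (Localization.AtPrime q) := by
  haveI : q.LiesOver (q.under A) := ⟨rfl⟩
  letI : Algebra (Localization.AtPrime (q.under A)) (Localization.AtPrime q) :=
    (Localization.localRingHom (q.under A) q (algebraMap A C) (q.over_def (q.under A))).toAlgebra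
  haveI : IsScalarTower A (Localization.AtPrime (q.under A)) (Localization.AtPrime q) := by
    refine IsScalarTower.of_algebraMap_eq fun a => ?_
    show _ = Localization.localRingHom (q.under A) q (algebraMap A C) (q.over_def _)
      (algebraMap A _ a)
    rw [Localization.localRingHom_to_map, ← IsScalarTower.algebraMap_apply A C]
  haveI : IsLocalHom (algebraMap (Localization.AtPrime (q.under A)) (Localization.AtPrime q)) :=
    Localization.isLocalHom_localRingHom (q.under A) q _ _
  exact (GU.isGeomUnibranch_atPrime_of_etale (q.under A) q (Localization.AtPrime (q.under A))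
    (Localization.AtPrime q) hA).1

/-- **Geometric unibranchness ascends along smooth maps.** -/
theorem isGeomUnibranch_of_smooth {A B : Type u} [CommRing A] [CommRing B] [Algebra A B]
    [Algebra.Smooth A B] (q : Ideal B) [hqprime : q.IsPrime]
    (D : Type u) [CommRing D] [IsLocalRing D] [Algebra A D]
    [IsLocalization.AtPrime D (q.under A)]
    (hD : CAlg2.IsGeomUnibranch D) :
    CAlg2.IsGeomUnibranch (Localization.AtPrime q) ∧
      (IsDomain A → IsDomain (Localization.AtPrime q)) := by
  classical
  obtain ⟨s, hs, h⟩ := Algebra.Smooth.exists_span_eq_top_isStandardSmooth A B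
  obtain ⟨t, hts, htq⟩ : ∃ t ∈ s, t ∉ q := by
    by_contra hcon
    push_neg at hcon
    have h1 : Ideal.span s ≤ q := Ideal.span_le.mpr hcon
    rw [hs] at h1
    exact hqprime.ne_top (top_le_iff.mp h1)
  haveI hstd : Algebra.IsStandardSmooth A (Localization.Away t) := h t hts
  have hdisj : Disjoint (Submonoid.powers t : Set B) (q : Set B) := by
    rw [Set.disjoint_left]
    rintro _ ⟨k, rfl⟩ hmem
    exact htq (hqprime.mem_of_pow_mem k hmem)
  haveI hq'prime : (q.map (algebraMap B (Localization.Away t))).IsPrime :=
    IsLocalization.isPrime_of_isPrime_disjoint (Submonoid.powers t) _ q inferInstance hdisj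
  have hq'under : (q.map (algebraMap B (Localization.Away t))).under B = q :=
    IsLocalization.under_map_of_isPrime_disjoint (Submonoid.powers t) _ inferInstance hdisj
  have hmem_iff : ∀ b : B, algebraMap B (Localization.Away t) b ∈
      q.map (algebraMap B (Localization.Away t)) ↔ b ∈ q := by
    intro b
    constructor
    · intro h
      have h' : b ∈ ((q.map (algebraMap B (Localization.Away t))).under B) := h
      rwa [hq'under] at h'
    · intro h
      exact Ideal.mem_map_of_mem _ h
  -- étale factorization through a polynomial ring
  have hss : (algebraMap A (Localization.Away t)).IsStandardSmooth :=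
    RingHom.isStandardSmooth_algebraMap.mpr hstd
  obtain ⟨n, g, hgC, hg⟩ := hss.exists_etale_mvPolynomial
  let e : MvPolynomial (ULift.{u} (Fin n)) A ≃ₐ[A] MvPolynomial (Fin n) A :=
    MvPolynomial.renameEquiv A Equiv.ulift
  let g' : MvPolynomial (ULift.{u} (Fin n)) A →+* Localization.Away t :=
    g.comp e.toRingEquiv.toRingHom
  have hg' : g'.Etale := RingHom.Etale.respectsIso.2 g e.toRingEquiv hg
  have hg'C : g'.comp MvPolynomial.C = algebraMap A (Localization.Away t) := by
    rw [← hgC]
    ext a
    simp [g', e]
  letI : Algebra (MvPolynomial (ULift.{u} (Fin n)) A) (Localization.Away t) := g'.toAlgebra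
  haveI hetale : Algebra.Etale (MvPolynomial (ULift.{u} (Fin n)) A) (Localization.Away t) :=
    RingHom.etale_algebraMap.mp hg'
  haveI : IsScalarTower A (MvPolynomial (ULift.{u} (Fin n)) A) (Localization.Away t) :=
    IsScalarTower.of_algebraMap_eq' (by
      rw [RingHom.algebraMap_toAlgebra, MvPolynomial.algebraMap_eq, hg'C])
  have hQA : ((q.map (algebraMap B (Localization.Away t))).under
      (MvPolynomial (ULift.{u} (Fin n)) A)).comap (MvPolynomial.C (σ := ULift.{u} (Fin n))) =
      q.under A := by
    ext a
    have h1 : g' (MvPolynomial.C a) =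
        algebraMap B (Localization.Away t) (algebraMap A B a) := by
      rw [← IsScalarTower.algebraMap_apply A B, ← hg'C]
      rfl
    show g' (MvPolynomial.C a) ∈ q.map (algebraMap B (Localization.Away t)) ↔
      algebraMap A B a ∈ q
    rw [h1, hmem_iff]
  haveI : IsLocalization.AtPrime D
      (((q.map (algebraMap B (Localization.Away t))).under
      (MvPolynomial (ULift.{u} (Fin n)) A)).comap (MvPolynomial.C (σ := ULift.{u} (Fin n)))) :=
    PolyGU.isLocalizationAtPrime_congr D hQA.symm
  have hE : CAlg2.IsGeomUnibranch (Localization.AtPrime
      ((q.map (algebraMap B (Localization.Away t))).under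
      (MvPolynomial (ULift.{u} (Fin n)) A))) :=
    PolyGU.isGeomUnibranch_poly' A (ULift.{u} (Fin n))
      ((q.map (algebraMap B (Localization.Away t))).under
      (MvPolynomial (ULift.{u} (Fin n)) A)) D hD _
  have hT : CAlg2.IsGeomUnibranch
      (Localization.AtPrime (q.map (algebraMap B (Localization.Away t)))) :=
    isGeomUnibranch_atPrime_of_etale' (A := MvPolynomial (ULift.{u} (Fin n)) A)
      (q.map (algebraMap B (Localization.Away t))) hE
  -- transfer to `Localization.AtPrime q`
  haveI h0 : IsLocalization.AtPrime
      (Localization.AtPrime (q.map (algebraMap B (Localization.Away t))))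
      ((q.map (algebraMap B (Localization.Away t))).comap
        (algebraMap B (Localization.Away t))) :=
    IsLocalization.isLocalization_atPrime_localization_atPrime (Submonoid.powers t)
      (q.map (algebraMap B (Localization.Away t)))
  haveI : IsLocalization.AtPrime
      (Localization.AtPrime (q.map (algebraMap B (Localization.Away t)))) q :=
    PolyGU.isLocalizationAtPrime_congr
      (P := (q.map (algebraMap B (Localization.Away t))).comap
        (algebraMap B (Localization.Away t))) (Q := q) _ hq'under
  let ε : Localization.AtPrime q ≃ₐ[B]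
      Localization.AtPrime (q.map (algebraMap B (Localization.Away t))) :=
    IsLocalization.algEquiv q.primeCompl _ _
  refine ⟨GU.isGeomUnibranch_of_ringEquiv ε.symm.toRingEquiv hT, fun hA => ?_⟩
  haveI := hA
  haveI : IsReduced (Localization.Away t) :=
    GU.isReduced_of_etale_of_isDomain (MvPolynomial (ULift.{u} (Fin n)) A) (Localization.Away t)
  haveI : IsReduced (Localization.AtPrime (q.map (algebraMap B (Localization.Away t)))) :=
    isReduced_localizationPreserves (q.map (algebraMap B (Localization.Away t))).primeCompl _
      inferInstance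
  have hprime : (nilradical
      (Localization.AtPrime (q.map (algebraMap B (Localization.Away t))))).IsPrime :=
    (Ideal.Quotient.isDomain_iff_prime _).mp hT.1.1
  rw [nilradical_eq_zero] at hprime
  haveI : IsDomain (Localization.AtPrime (q.map (algebraMap B (Localization.Away t)))) :=
    IsDomain.of_bot_isPrime _
  exact ε.toMulEquiv.isDomain _

/-- A strictly henselian local domain is geometrically unibranch. -/
theorem isGeomUnibranch_of_strictlyHenselian_domain (R : Type u) [CommRing R] [IsDomain R]
    [HenselianLocalRing R] [IsSepClosed (IsLocalRing.ResidueField R)] :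
    CAlg2.IsGeomUnibranch R := by
  haveI : Hensel.IsStrictHenselization R R := TP.isStrictHenselization_self R
  exact ((UB.reduced_geomUnibranch_iff R R).mpr inferInstance).2

/-- a local ring is its own localization at the maximal ideal -/
theorem isLocalization_atPrime_self (R : Type u) [CommRing R] [IsLocalRing R] :
    IsLocalization.AtPrime R (IsLocalRing.maximalIdeal R) :=
  IsLocalization.of_le_isUnit (fun x hx => IsLocalRing.notMem_maximalIdeal.mp hx)

/-- smooth algebras over a geometrically unibranch local ring are geometrically unibranch at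
primes over the maximal ideal -/
theorem isGeomUnibranch_of_smooth_of_local (R R' : Type u) [CommRing R] [IsLocalRing R]
    [CommRing R'] [Algebra R R'] [Algebra.Smooth R R']
    (p : Ideal R') [p.IsPrime] (hp : (IsLocalRing.maximalIdeal R).map (algebraMap R R') ≤ p)
    (hR : CAlg2.IsGeomUnibranch R) :
    CAlg2.IsGeomUnibranch (Localization.AtPrime p) ∧
      (IsDomain R → IsDomain (Localization.AtPrime p)) := by
  have hunder : p.under R = IsLocalRing.maximalIdeal R := by
    have h1 : IsLocalRing.maximalIdeal R ≤ p.under R :=
      fun x hx => hp (Ideal.mem_map_of_mem _ hx)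
    exact ((IsLocalRing.maximalIdeal.isMaximal R).eq_of_le
      (Ideal.IsPrime.under R p).ne_top h1).symm
  haveI h0 := isLocalization_atPrime_self R
  haveI : IsLocalization.AtPrime R (p.under R) :=
    PolyGU.isLocalizationAtPrime_congr (P := IsLocalRing.maximalIdeal R) R hunder.symm
  exact isGeomUnibranch_of_smooth p R hR

end Groth.Agent.Helper4.SmoothGU
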