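import Mathlib
import Groth.Prelude.Def_CAlg2
import Groth.Prelude.Def_Hensel
import Groth.Agent.Lib.Helper4.SmoothGU
import Groth.Agent.Lib.Helper1.UB3
import Groth.Agent.Lib.Helper1.IH1
import Groth.Agent.Lib.Helper1.SH1

/-!
# Prime elements of a strictly henselian local ring stay prime in strict henselizations of
smooth algebras
-/

set_option autoImplicit false
universe u

namespace Groth.Agent.Helper4.SmoothGU

open Groth.Agent.Helper1 Groth.Agent.Helper14 IsLocalRing

/-- transfer of separable closedness along a ring isomorphism -/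
theorem isSepClosed_of_ringEquiv {K K' : Type*} [Field K] [Field K'] [IsSepClosed K]
    (e : K ≃+* K') : IsSepClosed K' := by
  refine ⟨fun p hp => ?_⟩
  have h1 : (p.map e.symm.toRingHom).Splits := IsSepClosed.splits_of_separable _ hp.map
  have h2 := h1.map e.toRingHom
  rw [Polynomial.map_map] at h2
  have h3 : e.toRingHom.comp e.symm.toRingHom = RingHom.id K' := by
    ext x
    exact e.apply_symm_apply x
  rw [h3, Polynomial.map_id] at h2
  exact h2

theorem surjective_localRingHom' {R S : Type u} [CommRing R] [CommRing S] (f : R →+* S)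
    (hf : Function.Surjective f) (P : Ideal S) [P.IsPrime] (I : Ideal R) [I.IsPrime]
    (h : I = P.comap f) : Function.Surjective (Localization.localRingHom I P f h) := by
  subst h
  exact RingHom.surjective_localRingHom_of_surjective f hf P

/-- quotient of a strictly henselian local ring by a prime ideal is strictly henselian -/
theorem strictlyHenselian_quotient (R : Type u) [CommRing R] [HenselianLocalRing R]
    [IsSepClosed (ResidueField R)] (I : Ideal R) [I.IsPrime] :
    ∃ (_ : HenselianLocalRing (R ⧸ I)), IsSepClosed (ResidueField (R ⧸ I)) := by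
  haveI : IsLocalRing (R ⧸ I) :=
    IsLocalRing.of_surjective' (Ideal.Quotient.mk I) Ideal.Quotient.mk_surjective
  haveI hH : HenselianLocalRing (R ⧸ I) :=
    IH.henselianLocalRing_of_integral_ringHom (Ideal.Quotient.mk I)
      (RingHom.isIntegral_of_surjective _ Ideal.Quotient.mk_surjective)
  refine ⟨hH, ?_⟩
  haveI : IsLocalHom (Ideal.Quotient.mk I) :=
    IsLocalHom.of_surjective _ Ideal.Quotient.mk_surjective
  have hsurj : Function.Surjective (ResidueField.map (Ideal.Quotient.mk I)) := by
    intro z
    obtain ⟨s', rfl⟩ := residue_surjective z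
    obtain ⟨s, rfl⟩ := Ideal.Quotient.mk_surjective s'
    exact ⟨residue R s, ResidueField.map_residue _ s⟩
  exact isSepClosed_of_ringEquiv (RingEquiv.ofBijective _
    ⟨(ResidueField.map (Ideal.Quotient.mk I)).injective, hsurj⟩)

/-- **Prime elements stay prime in strict henselizations of smooth algebras.** -/
theorem prime_map_strictHenselization
    (R R' T : Type u) [CommRing R] [HenselianLocalRing R]
    [IsSepClosed (ResidueField R)]
    [CommRing R'] [Algebra R R'] [Algebra.Smooth R R']
    (q : Ideal R') [hqprime : q.IsPrime] (hq : (maximalIdeal R).map (algebraMap R R') ≤ q)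
    [CommRing T] [IsLocalRing T] [Algebra (Localization.AtPrime q) T]
    [IsLocalHom (algebraMap (Localization.AtPrime q) T)]
    [Hensel.IsStrictHenselization (Localization.AtPrime q) T]
    (Δ : R) (hΔ : Prime Δ) :
    Prime (algebraMap (Localization.AtPrime q) T
      (algebraMap R' (Localization.AtPrime q) (algebraMap R R' Δ))) := by
  classical
  haveI hIprime : (Ideal.span {Δ} : Ideal R).IsPrime :=
    (Ideal.span_singleton_prime hΔ.ne_zero).mpr hΔ
  obtain ⟨hH, hSC⟩ := strictlyHenselian_quotient R (Ideal.span {Δ})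
  haveI := hH
  haveI := hSC
  haveI : Algebra.Smooth (R ⧸ (Ideal.span {Δ} : Ideal R))
      (R' ⧸ (Ideal.span {Δ} : Ideal R).map (algebraMap R R')) :=
    Algebra.Smooth.of_equiv
      (Algebra.TensorProduct.quotIdealMapEquivQuotTensor R' (Ideal.span {Δ} : Ideal R)).symm
  have hJq : (Ideal.span {Δ} : Ideal R).map (algebraMap R R') ≤ q :=
    (Ideal.map_mono (IsLocalRing.le_maximalIdeal hIprime.ne_top)).trans hq
  have hπ' : Function.Surjective
      (Ideal.Quotient.mk ((Ideal.span {Δ} : Ideal R).map (algebraMap R R'))) :=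
    Ideal.Quotient.mk_surjective
  haveI hqbar : (q.map
      (Ideal.Quotient.mk ((Ideal.span {Δ} : Ideal R).map (algebraMap R R')))).IsPrime :=
    Ideal.map_isPrime_of_surjective hπ' (by rw [Ideal.mk_ker]; exact hJq)
  have hcomap : (q.map
      (Ideal.Quotient.mk ((Ideal.span {Δ} : Ideal R).map (algebraMap R R')))).comap
      (Ideal.Quotient.mk ((Ideal.span {Δ} : Ideal R).map (algebraMap R R'))) = q := by
    rw [Ideal.comap_map_of_surjective _ hπ', ← RingHom.ker_eq_comap_bot, Ideal.mk_ker]
    exact sup_eq_left.mpr hJq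
  have hqbarm : (maximalIdeal (R ⧸ (Ideal.span {Δ} : Ideal R))).map
      (algebraMap (R ⧸ (Ideal.span {Δ} : Ideal R))
        (R' ⧸ (Ideal.span {Δ} : Ideal R).map (algebraMap R R'))) ≤
      q.map (Ideal.Quotient.mk ((Ideal.span {Δ} : Ideal R).map (algebraMap R R'))) := by
    rw [Ideal.map_le_iff_le_comap]
    intro x hx
    obtain ⟨r, rfl⟩ := Ideal.Quotient.mk_surjective x
    have hr : r ∈ maximalIdeal R := by
      rw [mem_maximalIdeal, mem_nonunits_iff] at hx ⊢
      exact fun hu => hx (hu.map _)
    show algebraMap (R ⧸ (Ideal.span {Δ} : Ideal R))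
        (R' ⧸ (Ideal.span {Δ} : Ideal R).map (algebraMap R R'))
        (Ideal.Quotient.mk _ r) ∈
        q.map (Ideal.Quotient.mk ((Ideal.span {Δ} : Ideal R).map (algebraMap R R')))
    have h1 : algebraMap (R ⧸ (Ideal.span {Δ} : Ideal R))
        (R' ⧸ (Ideal.span {Δ} : Ideal R).map (algebraMap R R'))
        (Ideal.Quotient.mk _ r) =
        Ideal.Quotient.mk ((Ideal.span {Δ} : Ideal R).map (algebraMap R R'))
          (algebraMap R R' r) := rfl
    rw [h1]
    exact Ideal.mem_map_of_mem _ (hq (Ideal.mem_map_of_mem _ hr))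
  have hGUR : CAlg2.IsGeomUnibranch (R ⧸ (Ideal.span {Δ} : Ideal R)) :=
    isGeomUnibranch_of_strictlyHenselian_domain _
  obtain ⟨hGU, hdom⟩ := isGeomUnibranch_of_smooth_of_local (R ⧸ (Ideal.span {Δ} : Ideal R))
    (R' ⧸ (Ideal.span {Δ} : Ideal R).map (algebraMap R R'))
    (q.map (Ideal.Quotient.mk ((Ideal.span {Δ} : Ideal R).map (algebraMap R R')))) hqbarm hGUR
  haveI hdomL : IsDomain (Localization.AtPrime
      (q.map (Ideal.Quotient.mk ((Ideal.span {Δ} : Ideal R).map (algebraMap R R'))))) :=
    hdom inferInstance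
  -- notation
  generalize hδ : algebraMap (Localization.AtPrime q) T
      (algebraMap R' (Localization.AtPrime q) (algebraMap R R' Δ)) = δ
  have hΔmemJ : algebraMap R R' Δ ∈ ((Ideal.span {Δ} : Ideal R).map (algebraMap R R')) := by
    exact Ideal.mem_map_of_mem _ (Ideal.subset_span rfl)
  -- δ is not a unit
  have hΔm : Δ ∈ maximalIdeal R := by
    rw [mem_maximalIdeal, mem_nonunits_iff]
    exact hΔ.not_unit
  have hδnu : ¬ IsUnit δ := by
    intro hu
    rw [← hδ] at hu
    have hu2 := isUnit_of_map_unit (algebraMap (Localization.AtPrime q) T) _ hu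
    have hmem : algebraMap R R' Δ ∈ q := hq (Ideal.mem_map_of_mem _ hΔm)
    exact ((IsLocalization.AtPrime.isUnit_to_map_iff (Localization.AtPrime q) q _).mp hu2) hmem
  have hKtop : (Ideal.span {δ} : Ideal T) ≠ ⊤ := by
    rw [Ne, Ideal.span_singleton_eq_top]
    exact hδnu
  haveI : Nontrivial (T ⧸ (Ideal.span {δ} : Ideal T)) := Ideal.Quotient.nontrivial_iff.mpr hKtop
  haveI : IsLocalRing (T ⧸ (Ideal.span {δ} : Ideal T)) :=
    IsLocalRing.of_surjective' (Ideal.Quotient.mk _) Ideal.Quotient.mk_surjective
  -- the map `R'/((Ideal.span {Δ} : Ideal R).map (algebraMap R R')) → T/δ`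
  let ψ₀ : R' →+* T ⧸ (Ideal.span {δ} : Ideal T) :=
    (Ideal.Quotient.mk _).comp ((algebraMap (Localization.AtPrime q) T).comp
      (algebraMap R' (Localization.AtPrime q)))
  have hψ₀kills : ∀ a ∈ ((Ideal.span {Δ} : Ideal R).map (algebraMap R R')), ψ₀ a = 0 := by
    intro a ha
    rw [Ideal.map_span, Set.image_singleton] at ha
    obtain ⟨c, rfl⟩ := Ideal.mem_span_singleton'.mp ha
    rw [map_mul]
    have : ψ₀ (algebraMap R R' Δ) = 0 := by
      show Ideal.Quotient.mk _ (algebraMap (Localization.AtPrime q) T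
        (algebraMap R' (Localization.AtPrime q) (algebraMap R R' Δ))) = 0
      rw [hδ, Ideal.Quotient.eq_zero_iff_mem]
      exact Ideal.subset_span rfl
    rw [this, mul_zero]
  let ψ₁ : R' ⧸ ((Ideal.span {Δ} : Ideal R).map (algebraMap R R')) →+* T ⧸ (Ideal.span {δ} : Ideal T) := Ideal.Quotient.lift ((Ideal.span {Δ} : Ideal R).map (algebraMap R R')) ψ₀ hψ₀kills
  have hψ₁units : ∀ y : (q.map (Ideal.Quotient.mk ((Ideal.span {Δ} : Ideal R).map (algebraMap R R')))).primeCompl, IsUnit (ψ₁ y) := by
    rintro ⟨y, hy⟩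
    obtain ⟨s, rfl⟩ := hπ' y
    have hs : s ∉ q := fun hs => hy (Ideal.mem_map_of_mem _ hs)
    show IsUnit (ψ₀ s)
    have h1 : IsUnit (algebraMap R' (Localization.AtPrime q) s) :=
      IsLocalization.map_units (Localization.AtPrime q) (⟨s, hs⟩ : q.primeCompl)
    exact (h1.map (algebraMap (Localization.AtPrime q) T)).map (Ideal.Quotient.mk _)
  let ψ : Localization.AtPrime (q.map (Ideal.Quotient.mk ((Ideal.span {Δ} : Ideal R).map (algebraMap R R')))) →+*
      T ⧸ (Ideal.span {δ} : Ideal T) := IsLocalization.lift hψ₁units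
  letI : Algebra (Localization.AtPrime (q.map (Ideal.Quotient.mk ((Ideal.span {Δ} : Ideal R).map (algebraMap R R')))))
      (T ⧸ (Ideal.span {δ} : Ideal T)) := ψ.toAlgebra
  let π : Localization.AtPrime q →+* Localization.AtPrime (q.map (Ideal.Quotient.mk ((Ideal.span {Δ} : Ideal R).map (algebraMap R R')))) :=
    Localization.localRingHom q (q.map (Ideal.Quotient.mk ((Ideal.span {Δ} : Ideal R).map (algebraMap R R')))) (Ideal.Quotient.mk ((Ideal.span {Δ} : Ideal R).map (algebraMap R R'))) hcomap.symm
  have hπ : Function.Surjective π := surjective_localRingHom' _ hπ' _ _ _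
  have hcomm : ∀ r, Ideal.Quotient.mk (Ideal.span {δ} : Ideal T)
      (algebraMap (Localization.AtPrime q) T r) =
      algebraMap (Localization.AtPrime (q.map (Ideal.Quotient.mk ((Ideal.span {Δ} : Ideal R).map (algebraMap R R')))))
        (T ⧸ (Ideal.span {δ} : Ideal T)) (π r) := by
    intro r
    have heq : ((Ideal.Quotient.mk (Ideal.span {δ} : Ideal T)).comp
        (algebraMap (Localization.AtPrime q) T)) = ψ.comp π := by
      refine IsLocalization.ringHom_ext q.primeCompl ?_
      ext x
      show _ = ψ (π (algebraMap R' (Localization.AtPrime q) x))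
      rw [Localization.localRingHom_to_map]
      show _ = IsLocalization.lift hψ₁units (algebraMap (R' ⧸ ((Ideal.span {Δ} : Ideal R).map (algebraMap R R'))) _ (Ideal.Quotient.mk ((Ideal.span {Δ} : Ideal R).map (algebraMap R R')) x))
      rw [IsLocalization.lift_eq]
      rfl
    exact RingHom.congr_fun heq r
  have hker : RingHom.ker (Ideal.Quotient.mk (Ideal.span {δ} : Ideal T)) ≤
      (RingHom.ker π).map (algebraMap (Localization.AtPrime q) T) := by
    rw [Ideal.mk_ker, Ideal.span_le, Set.singleton_subset_iff, ← hδ]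
    refine Ideal.mem_map_of_mem _ ?_
    rw [RingHom.mem_ker]
    show π (algebraMap R' (Localization.AtPrime q) (algebraMap R R' Δ)) = 0
    rw [Localization.localRingHom_to_map, (Ideal.Quotient.eq_zero_iff_mem).mpr hΔmemJ, map_zero]
  obtain ⟨hlh, hHs⟩ := UB.isStrictHenselization_of_surjective (Localization.AtPrime q) T
    (Localization.AtPrime (q.map (Ideal.Quotient.mk ((Ideal.span {Δ} : Ideal R).map (algebraMap R R'))))) (T ⧸ (Ideal.span {δ} : Ideal T))
    π hπ (Ideal.Quotient.mk _) Ideal.Quotient.mk_surjective hcomm hker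
  haveI := hlh
  haveI := hHs
  have hdomTK : IsDomain (T ⧸ (Ideal.span {δ} : Ideal T)) :=
    (UB.reduced_geomUnibranch_iff (Localization.AtPrime (q.map (Ideal.Quotient.mk ((Ideal.span {Δ} : Ideal R).map (algebraMap R R')))))
      (T ⧸ (Ideal.span {δ} : Ideal T))).mp ⟨inferInstance, hGU⟩
  have hKprime : (Ideal.span {δ} : Ideal T).IsPrime :=
    (Ideal.Quotient.isDomain_iff_prime _).mp hdomTK
  -- δ ≠ 0 by faithful flatness
  have hδ0 : δ ≠ 0 := by
    haveI hTH : HenselianLocalRing T :=
      Hensel.IsStrictHenselization.henselian (R := Localization.AtPrime q)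
    have hinj1 : Function.Injective (algebraMap (Localization.AtPrime q) T) :=
      (HFlat.IsSHensHom.of_isStrictHenselization (Localization.AtPrime q) T).injective
    haveI : Module.Flat R' (Localization.AtPrime q) := IsLocalization.flat _ q.primeCompl
    haveI : Module.Flat R (Localization.AtPrime q) := Module.Flat.trans R R' _
    haveI : IsLocalHom (algebraMap R (Localization.AtPrime q)) := by
      refine ⟨fun r hr => ?_⟩
      rw [IsScalarTower.algebraMap_apply R R' (Localization.AtPrime q)] at hr
      have h1 := (IsLocalization.AtPrime.isUnit_to_map_iff (Localization.AtPrime q) q _).mp hr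
      by_contra hnu
      exact h1 (hq (Ideal.mem_map_of_mem _ ((mem_maximalIdeal r).mpr hnu)))
    haveI : Module.FaithfullyFlat R (Localization.AtPrime q) :=
      Module.FaithfullyFlat.of_flat_of_isLocalHom
    have hinj2 : Function.Injective (algebraMap R (Localization.AtPrime q)) :=
      FaithfulSMul.algebraMap_injective R (Localization.AtPrime q)
    intro h0
    rw [← hδ, ← IsScalarTower.algebraMap_apply R R' (Localization.AtPrime q)] at h0
    have h1 := hinj1 (h0.trans (map_zero _).symm)
    exact hΔ.ne_zero (hinj2 (h1.trans (map_zero _).symm))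
  exact (Ideal.span_singleton_prime hδ0).mp hKprime

end Groth.Agent.Helper4.SmoothGU
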