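import Mathlib
import Groth.Prelude.Def_CAlg2
import Groth.Prelude.Def_Hensel
import Groth.Agent.Lib.Helper4.SmoothGU2
import Groth.Agent.Lib.Helper1.EL4
import Groth.Agent.Lib.Helper1.SHznUniv

/-!
# Étale-universally prime elements: from strict henselizations of the base to strict
henselizations of smooth algebras
-/

set_option autoImplicit false
universe u

namespace Groth.Agent.Helper4.SmoothGU

open Groth.Agent.Helper1 IsLocalRing TensorProduct

/-- If `T` is a strict henselization of `L`, `Ash` a strict henselization of `A`, and `L''` is a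
local ring between `L` and `T` "generated" by `L` and `Ash`, then `T` is a strict henselization of
`L''`. -/
theorem isStrictHenselization_of_epi
    {A Ash L L'' T : Type u} [CommRing A] [IsLocalRing A] [CommRing Ash] [IsLocalRing Ash]
    [Algebra A Ash] [IsLocalHom (algebraMap A Ash)] [Hensel.IsStrictHenselization A Ash]
    [CommRing L] [IsLocalRing L] [CommRing T] [IsLocalRing T] [Algebra L T]
    [IsLocalHom (algebraMap L T)] [Hensel.IsStrictHenselization L T]
    [CommRing L''] [IsLocalRing L''] [Algebra L L''] [Algebra L'' T] [IsScalarTower L L'' T]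
    [IsLocalHom (algebraMap L'' T)]
    (a : A →+* L) (ι : Ash →+* L'') (g : Ash →+* T) (τg : ResidueField Ash →+* ResidueField T)
    (hgres : ∀ x, residue T (g x) = τg (residue Ash x))
    (hg : g.comp (algebraMap A Ash) = (algebraMap L T).comp a)
    (hι : (algebraMap L'' T).comp ι = g)
    (hιa : ι.comp (algebraMap A Ash) = (algebraMap L L'').comp a)
    (hepi : ∀ (X : Type u) [CommRing X] (h₁ h₂ : L'' →+* X),
      h₁.comp (algebraMap L L'') = h₂.comp (algebraMap L L'') → h₁.comp ι = h₂.comp ι →
      h₁ = h₂) :
    Hensel.IsStrictHenselization L'' T := by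
  haveI hTH : HenselianLocalRing T := Hensel.IsStrictHenselization.henselian (R := L)
  haveI hLL'' : IsLocalHom (algebraMap L L'') := by
    apply EL.isLocalHom_of_comp' (algebraMap L L'') (algebraMap L'' T)
    rw [← IsScalarTower.algebraMap_eq]
    infer_instance
  have hsc := Hensel.IsStrictHenselization.isSepClosure (R := L) (S := T)
  refine ⟨hTH, ?_, ?_⟩
  · haveI := hsc.sep_closed
    haveI := hsc.separable
    exact ⟨inferInstance, Algebra.isSeparable_tower_top_of_isSeparable (ResidueField L)
      (ResidueField L'') (ResidueField T)⟩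
  · intro T' _ _ f _ τ hτ
    haveI : IsLocalHom (f.comp (algebraMap L L'')) := RingHom.isLocalHom_comp _ _
    have hτ₀ : τ.comp (ResidueField.map (algebraMap L T)) =
        ResidueField.map (f.comp (algebraMap L L'')) := by
      refine RingHom.ext fun y => ?_
      obtain ⟨l, rfl⟩ := residue_surjective y
      have h1 := RingHom.congr_fun hτ (residue L'' (algebraMap L L'' l))
      simp only [RingHom.comp_apply, ResidueField.map_residue] at h1 ⊢
      rw [IsScalarTower.algebraMap_apply L L'' T]
      exact h1
    obtain ⟨g', ⟨hg'1, hg'2⟩, hg'uniq⟩ := Hensel.IsStrictHenselization.universal (R := L) (S := T)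
      T' (f.comp (algebraMap L L'')) τ hτ₀
    have hkey : g'.comp (algebraMap L'' T) = f := by
      apply hepi T'
      · rw [RingHom.comp_assoc, ← IsScalarTower.algebraMap_eq, hg'1]
      · rw [RingHom.comp_assoc, hι]
        refine EL.map_ext_of_isStrictHenselization (A := A) (RS := Ash) T' (τ.comp τg) _ _ ?_ ?_ ?_
        · refine RingHom.ext fun x => ?_
          have e1 := RingHom.congr_fun hg x
          have e2 := RingHom.congr_fun hg'1 (a x)
          have e3 := RingHom.congr_fun hιa x
          simp only [RingHom.comp_apply] at e1 e2 e3 ⊢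
          rw [e1, e2, e3]
        · intro x
          rw [RingHom.comp_apply, hg'2, hgres]
          rfl
        · intro x
          have h1 := RingHom.congr_fun hτ (residue L'' (ι x))
          simp only [RingHom.comp_apply, ResidueField.map_residue] at h1
          rw [RingHom.comp_apply, RingHom.comp_apply, ← hgres, ← hι, ← h1]
          rfl
    refine ⟨g', ⟨hkey, hg'2⟩, fun g'' hg'' => ?_⟩
    apply hg'uniq
    refine ⟨?_, hg''.2⟩
    rw [← hg''.1, RingHom.comp_assoc, ← IsScalarTower.algebraMap_eq]

section B

variable {R R' A Ash L T : Type u} [CommRing R] [CommRing R'] [Algebra R R'] [Algebra.Smooth R R']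
  [CommRing A] [IsLocalRing A] [Algebra R A]
  [CommRing Ash] [IsLocalRing Ash] [Algebra A Ash] [IsLocalHom (algebraMap A Ash)]
  [Hensel.IsStrictHenselization A Ash] [Algebra R Ash] [IsScalarTower R A Ash]
  [CommRing L] [IsLocalRing L] [Algebra R' L] [Algebra R L] [IsScalarTower R R' L]
  [CommRing T] [IsLocalRing T] [Algebra L T] [IsLocalHom (algebraMap L T)]
  [Hensel.IsStrictHenselization L T]

set_option maxHeartbeats 1600000 in
/-- an element of `R` which becomes prime in the strict henselization `Ash` of `A = R_p` is prime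
in the strict henselization `T` of `L = R'_q`, for `R'` smooth over `R` and `q` over `p`. -/
theorem prime_of_prime_sh (q : Ideal R') [q.IsPrime] [IsLocalization.AtPrime L q]
    (M : Submonoid R) [IsLocalization M A]
    (a : A →+* L) [IsLocalHom a] (ha : a.comp (algebraMap R A) = algebraMap R L)
    (δ : R) (hδ : Prime (algebraMap R Ash δ)) :
    Prime (algebraMap L T (algebraMap R L δ)) := by
  classical
  haveI hTH : HenselianLocalRing T := Hensel.IsStrictHenselization.henselian (R := L)
  have hTsc : IsSepClosed (ResidueField T) :=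
    (Hensel.IsStrictHenselization.isSepClosure (R := L) (S := T)).sep_closed
  haveI hAH : HenselianLocalRing Ash := Hensel.IsStrictHenselization.henselian (R := A)
  haveI hAsc : IsSepClosed (ResidueField Ash) :=
    (Hensel.IsStrictHenselization.isSepClosure (R := A) (S := Ash)).sep_closed
  haveI : IsLocalHom ((algebraMap L T).comp a) := RingHom.isLocalHom_comp _ _
  obtain ⟨τg, g, -, hg, hgres⟩ := EL.exists_map_of_isStrictHenselization (A := A) (RS := Ash) T
    hTsc ((algebraMap L T).comp a)
  haveI hgloc : IsLocalHom g := EL.isLocalHom_of_residue g τg hgres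
  letI : Algebra R T := ((algebraMap L T).comp (algebraMap R L)).toAlgebra
  haveI : IsScalarTower R L T := IsScalarTower.of_algebraMap_eq' rfl
  let gAlg : Ash →ₐ[R] T :=
    { g with
      commutes' := fun r => by
        show g (algebraMap R Ash r) = algebraMap L T (algebraMap R L r)
        rw [IsScalarTower.algebraMap_apply R A Ash, ← ha]
        exact RingHom.congr_fun hg (algebraMap R A r) }
  let hAlg : R' →ₐ[R] T :=
    { (algebraMap L T).comp (algebraMap R' L) with
      commutes' := fun r => by
        show algebraMap L T (algebraMap R' L (algebraMap R R' r)) =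
          algebraMap L T (algebraMap R L r)
        rw [← IsScalarTower.algebraMap_apply R R' L] }
  let Φ : Ash ⊗[R] R' →ₐ[R] T :=
    Algebra.TensorProduct.lift gAlg hAlg (fun _ _ => Commute.all _ _)
  have hΦl : ∀ x : Ash, Φ (x ⊗ₜ[R] (1 : R')) = g x := fun x => by
    show gAlg x * hAlg 1 = g x
    rw [map_one, mul_one]
    rfl
  have hΦr : ∀ y : R', Φ ((1 : Ash) ⊗ₜ[R] y) = algebraMap L T (algebraMap R' L y) := fun y => by
    show gAlg 1 * hAlg y = _
    rw [map_one, one_mul]
    rfl
  let q'' : Ideal (Ash ⊗[R] R') := (maximalIdeal T).comap Φ.toRingHom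
  haveI hq''prime : q''.IsPrime := Ideal.comap_isPrime _ _
  have hunits : ∀ y : q''.primeCompl, IsUnit (Φ.toRingHom y) := fun y =>
    IsLocalRing.notMem_maximalIdeal.mp y.2
  let ψ : Localization.AtPrime q'' →+* T := IsLocalization.lift hunits
  have hψ : ∀ x, ψ (algebraMap (Ash ⊗[R] R') (Localization.AtPrime q'') x) = Φ x :=
    fun x => IsLocalization.lift_eq hunits x
  have hψloc : IsLocalHom ψ := by
    refine ⟨fun z hz => ?_⟩
    obtain ⟨⟨x, s⟩, hxs⟩ := IsLocalization.surj q''.primeCompl z
    have h1 : ψ z * Φ s = Φ x := by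
      have h0 := congrArg ψ hxs
      rwa [map_mul, hψ, hψ] at h0
    have h2 : IsUnit (Φ x) := h1 ▸ hz.mul (hunits s)
    have h3 : x ∈ q''.primeCompl := fun hx => (IsLocalRing.mem_maximalIdeal _).mp hx h2
    have h4 : IsUnit (algebraMap (Ash ⊗[R] R') (Localization.AtPrime q'') x) :=
      IsLocalization.map_units (Localization.AtPrime q'') ⟨x, h3⟩
    rw [← hxs] at h4
    exact isUnit_of_mul_isUnit_left h4
  letI : Algebra (Localization.AtPrime q'') T := ψ.toAlgebra
  haveI : IsLocalHom (algebraMap (Localization.AtPrime q'') T) := hψloc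
  let incR : R' →+* Localization.AtPrime q'' :=
    (algebraMap (Ash ⊗[R] R') (Localization.AtPrime q'')).comp
      (Algebra.TensorProduct.includeRight : R' →ₐ[R] Ash ⊗[R] R').toRingHom
  have hunits' : ∀ y : q.primeCompl, IsUnit (incR y) := by
    intro y
    have hy : ((1 : Ash) ⊗ₜ[R] (y : R')) ∈ q''.primeCompl := by
      show ¬ (Φ ((1 : Ash) ⊗ₜ[R] (y : R')) ∈ maximalIdeal T)
      rw [hΦr]
      exact fun hmem => (IsLocalRing.mem_maximalIdeal _).mp hmem
        ((IsLocalization.map_units L y).map _)
    exact IsLocalization.map_units (Localization.AtPrime q'') ⟨_, hy⟩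
  let lam : L →+* Localization.AtPrime q'' := IsLocalization.lift hunits'
  letI : Algebra L (Localization.AtPrime q'') := lam.toAlgebra
  have hlam : ∀ y : R', algebraMap L (Localization.AtPrime q'') (algebraMap R' L y) =
      algebraMap (Ash ⊗[R] R') (Localization.AtPrime q'') ((1 : Ash) ⊗ₜ[R] y) :=
    fun y => IsLocalization.lift_eq hunits' y
  haveI : IsScalarTower L (Localization.AtPrime q'') T := by
    refine IsScalarTower.of_algebraMap_eq' ?_
    refine IsLocalization.ringHom_ext q.primeCompl ?_
    ext y
    show algebraMap L T (algebraMap R' L y) =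
      ψ (algebraMap L (Localization.AtPrime q'') (algebraMap R' L y))
    rw [hlam, hψ, hΦr]
  let ι : Ash →+* Localization.AtPrime q'' :=
    (algebraMap (Ash ⊗[R] R') (Localization.AtPrime q'')).comp
      Algebra.TensorProduct.includeLeftRingHom
  have hι : (algebraMap (Localization.AtPrime q'') T).comp ι = g := by
    ext x
    show ψ (algebraMap (Ash ⊗[R] R') (Localization.AtPrime q'') (x ⊗ₜ[R] (1 : R'))) = g x
    rw [hψ, hΦl]
  have hιa : ι.comp (algebraMap A Ash) = (algebraMap L (Localization.AtPrime q'')).comp a := by
    refine IsLocalization.ringHom_ext M ?_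
    ext r
    show algebraMap (Ash ⊗[R] R') (Localization.AtPrime q'')
        ((algebraMap A Ash (algebraMap R A r)) ⊗ₜ[R] (1 : R')) =
      algebraMap L (Localization.AtPrime q'') (a (algebraMap R A r))
    have h1 : a (algebraMap R A r) = algebraMap R' L (algebraMap R R' r) := by
      rw [← IsScalarTower.algebraMap_apply R R' L, ← ha]
      rfl
    rw [h1, hlam, ← IsScalarTower.algebraMap_apply R A Ash]
    congr 1
    rw [Algebra.algebraMap_eq_smul_one, Algebra.algebraMap_eq_smul_one, TensorProduct.smul_tmul]
  have hepi : ∀ (X : Type u) [CommRing X] (h₁ h₂ : Localization.AtPrime q'' →+* X),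
      h₁.comp (algebraMap L (Localization.AtPrime q'')) =
        h₂.comp (algebraMap L (Localization.AtPrime q'')) →
      h₁.comp ι = h₂.comp ι → h₁ = h₂ := by
    intro X _ h₁ h₂ hL hA
    refine IsLocalization.ringHom_ext q''.primeCompl ?_
    refine RingHom.ext fun z => ?_
    induction z using TensorProduct.induction_on with
    | zero => simp
    | tmul x y =>
      have e : x ⊗ₜ[R] y = (x ⊗ₜ[R] (1 : R')) * ((1 : Ash) ⊗ₜ[R] y) := by
        rw [Algebra.TensorProduct.tmul_mul_tmul, mul_one, one_mul]
      have e1 : h₁ (algebraMap (Ash ⊗[R] R') (Localization.AtPrime q'') (x ⊗ₜ[R] (1 : R'))) =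
          h₂ (algebraMap (Ash ⊗[R] R') (Localization.AtPrime q'') (x ⊗ₜ[R] (1 : R'))) :=
        RingHom.congr_fun hA x
      have e2 : h₁ (algebraMap (Ash ⊗[R] R') (Localization.AtPrime q'') ((1 : Ash) ⊗ₜ[R] y)) =
          h₂ (algebraMap (Ash ⊗[R] R') (Localization.AtPrime q'') ((1 : Ash) ⊗ₜ[R] y)) := by
        have h0 := RingHom.congr_fun hL (algebraMap R' L y)
        simp only [RingHom.comp_apply] at h0
        rwa [hlam] at h0
      simp only [RingHom.comp_apply]
      rw [e, map_mul, map_mul, map_mul, e1, e2]
    | add x y hx hy =>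
      simp only [RingHom.comp_apply, map_add] at hx hy ⊢
      rw [hx, hy]
  haveI hSH : Hensel.IsStrictHenselization (Localization.AtPrime q'') T :=
    isStrictHenselization_of_epi (A := A) (Ash := Ash) (L := L) a ι g τg hgres hg hι hιa hepi
  have hq''m : (maximalIdeal Ash).map (algebraMap Ash (Ash ⊗[R] R')) ≤ q'' := by
    rw [Ideal.map_le_iff_le_comap]
    intro x hx
    show Φ (algebraMap Ash (Ash ⊗[R] R') x) ∈ maximalIdeal T
    have h0 : algebraMap Ash (Ash ⊗[R] R') x = x ⊗ₜ[R] (1 : R') := by
      rw [Algebra.TensorProduct.algebraMap_apply]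
      rfl
    rw [h0, hΦl]
    exact map_nonunit g x hx
  have key := prime_map_strictHenselization Ash (Ash ⊗[R] R') T q'' hq''m (algebraMap R Ash δ) hδ
  have e : algebraMap (Localization.AtPrime q'') T
      (algebraMap (Ash ⊗[R] R') (Localization.AtPrime q'')
        (algebraMap Ash (Ash ⊗[R] R') (algebraMap R Ash δ))) =
      algebraMap L T (algebraMap R L δ) := by
    have h0 : algebraMap Ash (Ash ⊗[R] R') (algebraMap R Ash δ) =
        (algebraMap R Ash δ) ⊗ₜ[R] (1 : R') := by
      rw [Algebra.TensorProduct.algebraMap_apply]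
      rfl
    rw [h0]
    show ψ (algebraMap (Ash ⊗[R] R') (Localization.AtPrime q'')
      ((algebraMap R Ash δ) ⊗ₜ[R] (1 : R'))) = _
    rw [hψ, hΦl, IsScalarTower.algebraMap_apply R A Ash]
    have h1 := RingHom.congr_fun hg (algebraMap R A δ)
    simp only [RingHom.comp_apply] at h1
    rw [h1, ← RingHom.comp_apply a, ha]
  rw [e] at key
  exact key

end B

/-- **(⇒)** of étale-universal primality. -/
theorem unit_or_prime_of_prime_sh (R : Type u) [CommRing R] (Δ : R)
    (h : ∀ (p : Ideal R) [p.IsPrime], Δ ∈ p →
        ∀ (T : Type u) [CommRing T] [IsLocalRing T] [Algebra (Localization.AtPrime p) T]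
          [IsLocalHom (algebraMap (Localization.AtPrime p) T)]
          [Hensel.IsStrictHenselization (Localization.AtPrime p) T],
          Prime (algebraMap (Localization.AtPrime p) T (algebraMap R (Localization.AtPrime p) Δ)))
    (R' : Type u) [CommRing R'] [Algebra R R'] [Algebra.Smooth R R'] (q : Ideal R') [q.IsPrime]
    (T : Type u) [CommRing T] [IsLocalRing T] [Algebra (Localization.AtPrime q) T]
    [IsLocalHom (algebraMap (Localization.AtPrime q) T)]
    [Hensel.IsStrictHenselization (Localization.AtPrime q) T] :
    IsUnit (algebraMap (Localization.AtPrime q) T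
        (algebraMap R' (Localization.AtPrime q) (algebraMap R R' Δ))) ∨
      Prime (algebraMap (Localization.AtPrime q) T
        (algebraMap R' (Localization.AtPrime q) (algebraMap R R' Δ))) := by
  classical
  by_cases hΔ : algebraMap R R' Δ ∈ q
  swap
  · left
    exact (IsLocalization.map_units (Localization.AtPrime q)
      (⟨_, hΔ⟩ : q.primeCompl)).map _
  right
  have hΔp : Δ ∈ q.under R := hΔ
  haveI := SHzn.isStrictHenselization (Localization.AtPrime (q.under R))
  have hprime := h (q.under R) hΔp (SHzn.S (Localization.AtPrime (q.under R)))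
  letI : Algebra R (SHzn.S (Localization.AtPrime (q.under R))) :=
    ((algebraMap (Localization.AtPrime (q.under R))
      (SHzn.S (Localization.AtPrime (q.under R)))).comp
      (algebraMap R (Localization.AtPrime (q.under R)))).toAlgebra
  haveI : IsScalarTower R (Localization.AtPrime (q.under R))
      (SHzn.S (Localization.AtPrime (q.under R))) := IsScalarTower.of_algebraMap_eq' rfl
  have hres := prime_of_prime_sh (R := R) (R' := R') (A := Localization.AtPrime (q.under R))
    (Ash := SHzn.S (Localization.AtPrime (q.under R))) (L := Localization.AtPrime q) (T := T)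
    q (q.under R).primeCompl
    (Localization.localRingHom (q.under R) q (algebraMap R R') rfl)
    (by
      ext r
      show Localization.localRingHom (q.under R) q (algebraMap R R') rfl
        (algebraMap R _ r) = _
      rw [Localization.localRingHom_to_map, ← IsScalarTower.algebraMap_apply R R'])
    Δ hprime
  rw [IsScalarTower.algebraMap_apply R R' (Localization.AtPrime q)] at hres
  exact hres

/-- **(⇐)** of étale-universal primality. -/
theorem prime_sh_of_unit_or_prime (R : Type u) [CommRing R] (Δ : R)
    (h : ∀ (R' : Type u) [CommRing R'] [Algebra R R'] [Algebra.Smooth R R'] (q : Ideal R')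
        [q.IsPrime] (T : Type u) [CommRing T] [IsLocalRing T] [Algebra (Localization.AtPrime q) T]
        [IsLocalHom (algebraMap (Localization.AtPrime q) T)]
        [Hensel.IsStrictHenselization (Localization.AtPrime q) T],
        IsUnit (algebraMap (Localization.AtPrime q) T
            (algebraMap R' (Localization.AtPrime q) (algebraMap R R' Δ))) ∨
          Prime (algebraMap (Localization.AtPrime q) T
            (algebraMap R' (Localization.AtPrime q) (algebraMap R R' Δ))))
    (p : Ideal R) [p.IsPrime] (hΔ : Δ ∈ p)
    (T : Type u) [CommRing T] [IsLocalRing T] [Algebra (Localization.AtPrime p) T]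
    [IsLocalHom (algebraMap (Localization.AtPrime p) T)]
    [Hensel.IsStrictHenselization (Localization.AtPrime p) T] :
    Prime (algebraMap (Localization.AtPrime p) T (algebraMap R (Localization.AtPrime p) Δ)) := by
  haveI : Algebra.Smooth R R := ⟨inferInstance, inferInstance⟩
  rcases h R p T with hu | hp
  · exfalso
    have hu2 := isUnit_of_map_unit (algebraMap (Localization.AtPrime p) T) _ hu
    exact ((IsLocalization.AtPrime.isUnit_to_map_iff (Localization.AtPrime p) p _).mp hu2) hΔ
  · exact hp

end Groth.Agent.Helper4.SmoothGU
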