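import Mathlib
import Groth.Prelude.Def_CAlg2
import Groth.Prelude.Def_Hensel
import Groth.Agent.Lib.Helper4.SmoothGU3

/-!
# Minimal primes of strict henselizations along smooth maps
-/

set_option autoImplicit false
universe u

namespace Groth.Agent.Helper4.SmoothGU

open Groth.Agent.Helper1 IsLocalRing TensorProduct

/-- **Prime ideals of a strictly henselian local ring extend to prime ideals in strict
henselizations of smooth algebras.** -/
theorem isPrime_map_strictHenselization
    (R R' T : Type u) [CommRing R] [HenselianLocalRing R]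
    [IsSepClosed (ResidueField R)]
    [CommRing R'] [Algebra R R'] [Algebra.Smooth R R']
    (q : Ideal R') [hqprime : q.IsPrime] (hq : (maximalIdeal R).map (algebraMap R R') ≤ q)
    [CommRing T] [IsLocalRing T] [Algebra (Localization.AtPrime q) T]
    [IsLocalHom (algebraMap (Localization.AtPrime q) T)]
    [Hensel.IsStrictHenselization (Localization.AtPrime q) T]
    (I : Ideal R) [hIprime : I.IsPrime] :
    (I.map ((algebraMap (Localization.AtPrime q) T).comp ((algebraMap R' (Localization.AtPrime q)).comp (algebraMap R R')))).IsPrime := by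
  classical
  obtain ⟨hH, hSC⟩ := strictlyHenselian_quotient R I
  haveI := hH
  haveI := hSC
  haveI : Algebra.Smooth (R ⧸ I) (R' ⧸ (I.map (algebraMap R R'))) :=
    Algebra.Smooth.of_equiv (Algebra.TensorProduct.quotIdealMapEquivQuotTensor R' I).symm
  have hIm : I ≤ maximalIdeal R := IsLocalRing.le_maximalIdeal hIprime.ne_top
  have hJq : (I.map (algebraMap R R')) ≤ q := (Ideal.map_mono hIm).trans hq
  have hπ' : Function.Surjective (Ideal.Quotient.mk (I.map (algebraMap R R'))) := Ideal.Quotient.mk_surjective
  haveI hqbar : (q.map (Ideal.Quotient.mk (I.map (algebraMap R R')))).IsPrime :=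
    Ideal.map_isPrime_of_surjective hπ' (by rw [Ideal.mk_ker]; exact hJq)
  have hcomap : (q.map (Ideal.Quotient.mk (I.map (algebraMap R R')))).comap (Ideal.Quotient.mk (I.map (algebraMap R R'))) = q := by
    rw [Ideal.comap_map_of_surjective _ hπ', ← RingHom.ker_eq_comap_bot, Ideal.mk_ker]
    exact sup_eq_left.mpr hJq
  have hqbarm : (maximalIdeal (R ⧸ I)).map (algebraMap (R ⧸ I) (R' ⧸ (I.map (algebraMap R R')))) ≤
      q.map (Ideal.Quotient.mk (I.map (algebraMap R R'))) := by
    rw [Ideal.map_le_iff_le_comap]
    intro x hx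
    obtain ⟨r, rfl⟩ := Ideal.Quotient.mk_surjective x
    have hr : r ∈ maximalIdeal R := by
      rw [mem_maximalIdeal, mem_nonunits_iff] at hx ⊢
      exact fun hu => hx (hu.map _)
    show algebraMap (R ⧸ I) (R' ⧸ (I.map (algebraMap R R'))) (Ideal.Quotient.mk _ r) ∈
        q.map (Ideal.Quotient.mk (I.map (algebraMap R R')))
    have h1 : algebraMap (R ⧸ I) (R' ⧸ (I.map (algebraMap R R'))) (Ideal.Quotient.mk _ r) =
        Ideal.Quotient.mk (I.map (algebraMap R R')) (algebraMap R R' r) := rfl
    rw [h1]
    exact Ideal.mem_map_of_mem _ (hq (Ideal.mem_map_of_mem _ hr))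
  have hGUR : CAlg2.IsGeomUnibranch (R ⧸ I) := isGeomUnibranch_of_strictlyHenselian_domain _
  obtain ⟨hGU, hdom⟩ := isGeomUnibranch_of_smooth_of_local (R ⧸ I) (R' ⧸ (I.map (algebraMap R R')))
    (q.map (Ideal.Quotient.mk (I.map (algebraMap R R')))) hqbarm hGUR
  haveI hdomL : IsDomain (Localization.AtPrime (q.map (Ideal.Quotient.mk (I.map (algebraMap R R'))))) := hdom inferInstance
  -- `K ≤ 𝔪_T`
  have hKm : (I.map ((algebraMap (Localization.AtPrime q) T).comp ((algebraMap R' (Localization.AtPrime q)).comp (algebraMap R R')))) ≤ maximalIdeal T := by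
    rw [Ideal.map_le_iff_le_comap]
    intro i hi
    rw [Ideal.mem_comap]
    show algebraMap (Localization.AtPrime q) T
      (algebraMap R' (Localization.AtPrime q) (algebraMap R R' i)) ∈ maximalIdeal T
    have hmem : algebraMap R R' i ∈ q := hq (Ideal.mem_map_of_mem _ (hIm hi))
    exact map_nonunit (algebraMap (Localization.AtPrime q) T) _
      ((IsLocalization.AtPrime.to_map_mem_maximal_iff (Localization.AtPrime q) q _).mpr hmem)
  have hKtop : (I.map ((algebraMap (Localization.AtPrime q) T).comp ((algebraMap R' (Localization.AtPrime q)).comp (algebraMap R R')))) ≠ ⊤ := fun h =>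
    (IsLocalRing.maximalIdeal.isMaximal T).ne_top (top_le_iff.mp (h ▸ hKm))
  haveI : Nontrivial (T ⧸ (I.map ((algebraMap (Localization.AtPrime q) T).comp ((algebraMap R' (Localization.AtPrime q)).comp (algebraMap R R'))))) := Ideal.Quotient.nontrivial_iff.mpr hKtop
  haveI : IsLocalRing (T ⧸ (I.map ((algebraMap (Localization.AtPrime q) T).comp ((algebraMap R' (Localization.AtPrime q)).comp (algebraMap R R'))))) :=
    IsLocalRing.of_surjective' (Ideal.Quotient.mk _) Ideal.Quotient.mk_surjective
  -- the map `R'/J → T/K`
  let ψ₀ : R' →+* T ⧸ (I.map ((algebraMap (Localization.AtPrime q) T).comp ((algebraMap R' (Localization.AtPrime q)).comp (algebraMap R R')))) :=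
    (Ideal.Quotient.mk _).comp ((algebraMap (Localization.AtPrime q) T).comp
      (algebraMap R' (Localization.AtPrime q)))
  have hψ₀kills : ∀ a ∈ (I.map (algebraMap R R')), ψ₀ a = 0 := by
    have hle : (I.map (algebraMap R R')) ≤ RingHom.ker ψ₀ := by
      rw [Ideal.map_le_iff_le_comap]
      intro i hi
      rw [Ideal.mem_comap, RingHom.mem_ker]
      show Ideal.Quotient.mk (I.map ((algebraMap (Localization.AtPrime q) T).comp ((algebraMap R' (Localization.AtPrime q)).comp (algebraMap R R')))) (((algebraMap (Localization.AtPrime q) T).comp ((algebraMap R' (Localization.AtPrime q)).comp (algebraMap R R'))) i) = 0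
      rw [Ideal.Quotient.eq_zero_iff_mem]
      exact Ideal.mem_map_of_mem _ hi
    exact fun a ha => hle ha
  let ψ₁ : R' ⧸ (I.map (algebraMap R R')) →+* T ⧸ (I.map ((algebraMap (Localization.AtPrime q) T).comp ((algebraMap R' (Localization.AtPrime q)).comp (algebraMap R R')))) := Ideal.Quotient.lift (I.map (algebraMap R R')) ψ₀ hψ₀kills
  have hψ₁units : ∀ y : (q.map (Ideal.Quotient.mk (I.map (algebraMap R R')))).primeCompl, IsUnit (ψ₁ y) := by
    rintro ⟨y, hy⟩
    obtain ⟨s, rfl⟩ := hπ' y
    have hs : s ∉ q := fun hs => hy (Ideal.mem_map_of_mem _ hs)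
    show IsUnit (ψ₀ s)
    have h1 : IsUnit (algebraMap R' (Localization.AtPrime q) s) :=
      IsLocalization.map_units (Localization.AtPrime q) (⟨s, hs⟩ : q.primeCompl)
    exact (h1.map (algebraMap (Localization.AtPrime q) T)).map (Ideal.Quotient.mk _)
  let ψ : (Localization.AtPrime (q.map (Ideal.Quotient.mk (I.map (algebraMap R R'))))) →+* T ⧸ (I.map ((algebraMap (Localization.AtPrime q) T).comp ((algebraMap R' (Localization.AtPrime q)).comp (algebraMap R R')))) := IsLocalization.lift hψ₁units
  letI : Algebra (Localization.AtPrime (q.map (Ideal.Quotient.mk (I.map (algebraMap R R'))))) (T ⧸ (I.map ((algebraMap (Localization.AtPrime q) T).comp ((algebraMap R' (Localization.AtPrime q)).comp (algebraMap R R'))))) := ψ.toAlgebra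
  let π : Localization.AtPrime q →+* (Localization.AtPrime (q.map (Ideal.Quotient.mk (I.map (algebraMap R R'))))) :=
    Localization.localRingHom q (q.map (Ideal.Quotient.mk (I.map (algebraMap R R')))) (Ideal.Quotient.mk (I.map (algebraMap R R')))
      hcomap.symm
  have hπ : Function.Surjective π := surjective_localRingHom' _ hπ' _ _ _
  have hcomm : ∀ r, Ideal.Quotient.mk (I.map ((algebraMap (Localization.AtPrime q) T).comp ((algebraMap R' (Localization.AtPrime q)).comp (algebraMap R R')))) (algebraMap (Localization.AtPrime q) T r) =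
      algebraMap (Localization.AtPrime (q.map (Ideal.Quotient.mk (I.map (algebraMap R R'))))) (T ⧸ (I.map ((algebraMap (Localization.AtPrime q) T).comp ((algebraMap R' (Localization.AtPrime q)).comp (algebraMap R R'))))) (π r) := by
    intro r
    have heq : ((Ideal.Quotient.mk (I.map ((algebraMap (Localization.AtPrime q) T).comp ((algebraMap R' (Localization.AtPrime q)).comp (algebraMap R R'))))).comp (algebraMap (Localization.AtPrime q) T)) =
        ψ.comp π := by
      refine IsLocalization.ringHom_ext q.primeCompl ?_
      ext x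
      show _ = ψ (π (algebraMap R' (Localization.AtPrime q) x))
      rw [Localization.localRingHom_to_map]
      show _ = IsLocalization.lift hψ₁units (algebraMap (R' ⧸ (I.map (algebraMap R R'))) _ (Ideal.Quotient.mk (I.map (algebraMap R R')) x))
      rw [IsLocalization.lift_eq]
      rfl
    exact RingHom.congr_fun heq r
  have hker : RingHom.ker (Ideal.Quotient.mk (I.map ((algebraMap (Localization.AtPrime q) T).comp ((algebraMap R' (Localization.AtPrime q)).comp (algebraMap R R'))))) ≤
      (RingHom.ker π).map (algebraMap (Localization.AtPrime q) T) := by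
    rw [Ideal.mk_ker, ← Ideal.map_map]
    apply Ideal.map_mono
    rw [Ideal.map_le_iff_le_comap]
    intro i hi
    rw [Ideal.mem_comap, RingHom.mem_ker]
    show π (algebraMap R' (Localization.AtPrime q) (algebraMap R R' i)) = 0
    rw [Localization.localRingHom_to_map,
      (Ideal.Quotient.eq_zero_iff_mem).mpr (Ideal.mem_map_of_mem _ hi), map_zero]
  obtain ⟨hlh, hHs⟩ := UB.isStrictHenselization_of_surjective (Localization.AtPrime q) T
    (Localization.AtPrime (q.map (Ideal.Quotient.mk (I.map (algebraMap R R'))))) (T ⧸ (I.map ((algebraMap (Localization.AtPrime q) T).comp ((algebraMap R' (Localization.AtPrime q)).comp (algebraMap R R'))))) π hπ (Ideal.Quotient.mk _) Ideal.Quotient.mk_surjective hcomm hker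
  haveI := hlh
  haveI := hHs
  have hdomTK : IsDomain (T ⧸ (I.map ((algebraMap (Localization.AtPrime q) T).comp ((algebraMap R' (Localization.AtPrime q)).comp (algebraMap R R'))))) :=
    (UB.reduced_geomUnibranch_iff (Localization.AtPrime (q.map (Ideal.Quotient.mk (I.map (algebraMap R R'))))) (T ⧸ (I.map ((algebraMap (Localization.AtPrime q) T).comp ((algebraMap R' (Localization.AtPrime q)).comp (algebraMap R R')))))).mp ⟨inferInstance, hGU⟩
  exact (Ideal.Quotient.isDomain_iff_prime _).mp hdomTK

section Star

variable (R R' T : Type u) [CommRing R] [HenselianLocalRing R]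
    [IsSepClosed (ResidueField R)]
    [CommRing R'] [Algebra R R'] [Algebra.Smooth R R']
    (q : Ideal R') [hqprime : q.IsPrime] (hq : (maximalIdeal R).map (algebraMap R R') ≤ q)
    [CommRing T] [IsLocalRing T] [Algebra (Localization.AtPrime q) T]
    [IsLocalHom (algebraMap (Localization.AtPrime q) T)]
    [Hensel.IsStrictHenselization (Localization.AtPrime q) T]

include hq in
theorem comap_map_strictHenselization (I : Ideal R) :
    (I.map ((algebraMap (Localization.AtPrime q) T).comp ((algebraMap R' (Localization.AtPrime q)).comp (algebraMap R R')))).comap ((algebraMap (Localization.AtPrime q) T).comp ((algebraMap R' (Localization.AtPrime q)).comp (algebraMap R R'))) = I := by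
  haveI hTH : HenselianLocalRing T :=
    Hensel.IsStrictHenselization.henselian (R := Localization.AtPrime q)
  have h1 := (HFlat.IsSHensHom.of_isStrictHenselization (Localization.AtPrime q) T).comap_map
  haveI : Module.Flat R' (Localization.AtPrime q) := IsLocalization.flat _ q.primeCompl
  haveI : Module.Flat R (Localization.AtPrime q) := Module.Flat.trans R R' _
  haveI : IsLocalHom (algebraMap R (Localization.AtPrime q)) := by
    refine ⟨fun r hr => ?_⟩
    rw [IsScalarTower.algebraMap_apply R R' (Localization.AtPrime q)] at hr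
    have h1 := (IsLocalization.AtPrime.isUnit_to_map_iff (Localization.AtPrime q) q _).mp hr
    by_contra hnu
    exact h1 (hq (Ideal.mem_map_of_mem _ ((mem_maximalIdeal r).mpr hnu)))
  haveI : Module.FaithfullyFlat R (Localization.AtPrime q) :=
    Module.FaithfullyFlat.of_flat_of_isLocalHom
  have h2 : (I.map (algebraMap R (Localization.AtPrime q))).comap
      (algebraMap R (Localization.AtPrime q)) = I :=
    Ideal.comap_map_eq_self_of_faithfullyFlat I
  have e : ((algebraMap (Localization.AtPrime q) T).comp ((algebraMap R' (Localization.AtPrime q)).comp (algebraMap R R'))) = (algebraMap (Localization.AtPrime q) T).comp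
      (algebraMap R (Localization.AtPrime q)) := by
    rw [IsScalarTower.algebraMap_eq R R' (Localization.AtPrime q)]
  rw [e, ← Ideal.map_map, ← Ideal.comap_comap, h1, h2]

include hq in
/-- the minimal primes of a strictly henselian local ring and of the strict henselization of a
local ring of a smooth algebra over it correspond bijectively -/
theorem encard_minimalPrimes_strictHenselization :
    (minimalPrimes R).encard = (minimalPrimes T).encard := by
  have himg : (fun I : Ideal R => I.map ((algebraMap (Localization.AtPrime q) T).comp ((algebraMap R' (Localization.AtPrime q)).comp (algebraMap R R')))) '' minimalPrimes R = minimalPrimes T := by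
    ext P
    constructor
    · rintro ⟨I, hI, rfl⟩
      haveI hIp : I.IsPrime := hI.1.1
      have hprime := isPrime_map_strictHenselization R R' T q hq I
      refine ⟨⟨hprime, bot_le⟩, fun P' hP' hle => ?_⟩
      haveI := hP'.1
      have h1 : P'.comap ((algebraMap (Localization.AtPrime q) T).comp ((algebraMap R' (Localization.AtPrime q)).comp (algebraMap R R'))) ≤ I := by
        have h0 := Ideal.comap_mono (f := ((algebraMap (Localization.AtPrime q) T).comp ((algebraMap R' (Localization.AtPrime q)).comp (algebraMap R R')))) hle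
        rwa [comap_map_strictHenselization R R' T q hq I] at h0
      have h2 : I ≤ P'.comap ((algebraMap (Localization.AtPrime q) T).comp ((algebraMap R' (Localization.AtPrime q)).comp (algebraMap R R'))) := hI.2 ⟨Ideal.comap_isPrime _ _, bot_le⟩ h1
      exact Ideal.map_le_iff_le_comap.mpr h2
    · intro hP
      haveI hPp : P.IsPrime := hP.1.1
      obtain ⟨I, hI, hIle⟩ := Ideal.exists_minimalPrimes_le (I := ⊥) (J := P.comap ((algebraMap (Localization.AtPrime q) T).comp ((algebraMap R' (Localization.AtPrime q)).comp (algebraMap R R')))) bot_le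
      haveI hIp : I.IsPrime := hI.1.1
      have hprime := isPrime_map_strictHenselization R R' T q hq I
      have hle : I.map ((algebraMap (Localization.AtPrime q) T).comp ((algebraMap R' (Localization.AtPrime q)).comp (algebraMap R R'))) ≤ P := Ideal.map_le_iff_le_comap.mpr hIle
      have hge : P ≤ I.map ((algebraMap (Localization.AtPrime q) T).comp ((algebraMap R' (Localization.AtPrime q)).comp (algebraMap R R'))) := hP.2 ⟨hprime, bot_le⟩ hle
      exact ⟨I, hI, le_antisymm hle hge⟩
  rw [← himg]
  refine (Set.InjOn.encard_image ?_).symm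
  intro I _ I' _ h
  have h0 := congrArg (Ideal.comap ((algebraMap (Localization.AtPrime q) T).comp ((algebraMap R' (Localization.AtPrime q)).comp (algebraMap R R')))) h
  simp only [comap_map_strictHenselization R R' T q hq] at h0
  exact h0

end Star

section B'

variable {R R' A Ash L T : Type u} [CommRing R] [CommRing R'] [Algebra R R'] [Algebra.Smooth R R']
  [CommRing A] [IsLocalRing A] [Algebra R A]
  [CommRing Ash] [IsLocalRing Ash] [Algebra A Ash] [IsLocalHom (algebraMap A Ash)]
  [Hensel.IsStrictHenselization A Ash] [Algebra R Ash] [IsScalarTower R A Ash]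
  [CommRing L] [IsLocalRing L] [Algebra R' L] [Algebra R L] [IsScalarTower R R' L]
  [CommRing T] [IsLocalRing T] [Algebra L T] [IsLocalHom (algebraMap L T)]
  [Hensel.IsStrictHenselization L T]

set_option maxHeartbeats 1600000 in
/-- the strict henselization `T` of `L = R'_q` is also a strict henselization of the local ring of
the smooth `Ash`-algebra `Ash ⊗[R] R'` at a prime over the maximal ideal. -/
theorem exists_sh_baseChange (q : Ideal R') [q.IsPrime] [IsLocalization.AtPrime L q]
    (M : Submonoid R) [IsLocalization M A]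
    (a : A →+* L) [IsLocalHom a] (ha : a.comp (algebraMap R A) = algebraMap R L) :
    ∃ (q'' : Ideal (Ash ⊗[R] R')) (_ : q''.IsPrime)
      (_ : (maximalIdeal Ash).map (algebraMap Ash (Ash ⊗[R] R')) ≤ q'')
      (_ : Algebra (Localization.AtPrime q'') T)
      (_ : IsLocalHom (algebraMap (Localization.AtPrime q'') T)),
      Hensel.IsStrictHenselization (Localization.AtPrime q'') T := by
  classical
  haveI hTH : HenselianLocalRing T := Hensel.IsStrictHenselization.henselian (R := L)
  have hTsc : IsSepClosed (ResidueField T) :=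
    (Hensel.IsStrictHenselization.isSepClosure (R := L) (S := T)).sep_closed
  haveI hAH : HenselianLocalRing Ash := Hensel.IsStrictHenselization.henselian (R := A)
  haveI hAsc : IsSepClosed (ResidueField Ash) :=
    (Hensel.IsStrictHenselization.isSepClosure (R := A) (S := Ash)).sep_closed
  haveI : IsLocalHom ((algebraMap L T).comp a) := RingHom.isLocalHom_comp _ _
  obtain ⟨τg, g, -, hg, hgres⟩ := EL.exists_map_of_isStrictHenselization (A := A) (RS := Ash) T
    hTsc ((algebraMap L T).comp a)
  haveI hgloc : IsLocalHom g := EL.isLocalHom_of_residue g τg hgres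
  letI : Algebra R T := ((algebraMap L T).comp (algebraMap R L)).toAlgebra
  haveI : IsScalarTower R L T := IsScalarTower.of_algebraMap_eq' rfl
  let gAlg : Ash →ₐ[R] T :=
    { g with
      commutes' := fun r => by
        show g (algebraMap R Ash r) = algebraMap L T (algebraMap R L r)
        rw [IsScalarTower.algebraMap_apply R A Ash, ← ha]
        exact RingHom.congr_fun hg (algebraMap R A r) }
  let hAlg : R' →ₐ[R] T :=
    { (algebraMap L T).comp (algebraMap R' L) with
      commutes' := fun r => by
        show algebraMap L T (algebraMap R' L (algebraMap R R' r)) =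
          algebraMap L T (algebraMap R L r)
        rw [← IsScalarTower.algebraMap_apply R R' L] }
  let Φ : Ash ⊗[R] R' →ₐ[R] T :=
    Algebra.TensorProduct.lift gAlg hAlg (fun _ _ => Commute.all _ _)
  have hΦl : ∀ x : Ash, Φ (x ⊗ₜ[R] (1 : R')) = g x := fun x => by
    show gAlg x * hAlg 1 = g x
    rw [map_one, mul_one]
    rfl
  have hΦr : ∀ y : R', Φ ((1 : Ash) ⊗ₜ[R] y) = algebraMap L T (algebraMap R' L y) := fun y => by
    show gAlg 1 * hAlg y = _
    rw [map_one, one_mul]
    rfl
  let q'' : Ideal (Ash ⊗[R] R') := (maximalIdeal T).comap Φ.toRingHom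
  haveI hq''prime : q''.IsPrime := Ideal.comap_isPrime _ _
  have hunits : ∀ y : q''.primeCompl, IsUnit (Φ.toRingHom y) := fun y =>
    IsLocalRing.notMem_maximalIdeal.mp y.2
  let ψ : Localization.AtPrime q'' →+* T := IsLocalization.lift hunits
  have hψ : ∀ x, ψ (algebraMap (Ash ⊗[R] R') (Localization.AtPrime q'') x) = Φ x :=
    fun x => IsLocalization.lift_eq hunits x
  have hψloc : IsLocalHom ψ := by
    refine ⟨fun z hz => ?_⟩
    obtain ⟨⟨x, s⟩, hxs⟩ := IsLocalization.surj q''.primeCompl z
    have h1 : ψ z * Φ s = Φ x := by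
      have h0 := congrArg ψ hxs
      rwa [map_mul, hψ, hψ] at h0
    have h2 : IsUnit (Φ x) := h1 ▸ hz.mul (hunits s)
    have h3 : x ∈ q''.primeCompl := fun hx => (IsLocalRing.mem_maximalIdeal _).mp hx h2
    have h4 : IsUnit (algebraMap (Ash ⊗[R] R') (Localization.AtPrime q'') x) :=
      IsLocalization.map_units (Localization.AtPrime q'') ⟨x, h3⟩
    rw [← hxs] at h4
    exact isUnit_of_mul_isUnit_left h4
  letI : Algebra (Localization.AtPrime q'') T := ψ.toAlgebra
  haveI : IsLocalHom (algebraMap (Localization.AtPrime q'') T) := hψloc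
  let incR : R' →+* Localization.AtPrime q'' :=
    (algebraMap (Ash ⊗[R] R') (Localization.AtPrime q'')).comp
      (Algebra.TensorProduct.includeRight : R' →ₐ[R] Ash ⊗[R] R').toRingHom
  have hunits' : ∀ y : q.primeCompl, IsUnit (incR y) := by
    intro y
    have hy : ((1 : Ash) ⊗ₜ[R] (y : R')) ∈ q''.primeCompl := by
      show ¬ (Φ ((1 : Ash) ⊗ₜ[R] (y : R')) ∈ maximalIdeal T)
      rw [hΦr]
      exact fun hmem => (IsLocalRing.mem_maximalIdeal _).mp hmem
        ((IsLocalization.map_units L y).map _)
    exact IsLocalization.map_units (Localization.AtPrime q'') ⟨_, hy⟩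
  let lam : L →+* Localization.AtPrime q'' := IsLocalization.lift hunits'
  letI : Algebra L (Localization.AtPrime q'') := lam.toAlgebra
  have hlam : ∀ y : R', algebraMap L (Localization.AtPrime q'') (algebraMap R' L y) =
      algebraMap (Ash ⊗[R] R') (Localization.AtPrime q'') ((1 : Ash) ⊗ₜ[R] y) :=
    fun y => IsLocalization.lift_eq hunits' y
  haveI : IsScalarTower L (Localization.AtPrime q'') T := by
    refine IsScalarTower.of_algebraMap_eq' ?_
    refine IsLocalization.ringHom_ext q.primeCompl ?_
    ext y
    show algebraMap L T (algebraMap R' L y) =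
      ψ (algebraMap L (Localization.AtPrime q'') (algebraMap R' L y))
    rw [hlam, hψ, hΦr]
  let ι : Ash →+* Localization.AtPrime q'' :=
    (algebraMap (Ash ⊗[R] R') (Localization.AtPrime q'')).comp
      Algebra.TensorProduct.includeLeftRingHom
  have hι : (algebraMap (Localization.AtPrime q'') T).comp ι = g := by
    ext x
    show ψ (algebraMap (Ash ⊗[R] R') (Localization.AtPrime q'') (x ⊗ₜ[R] (1 : R'))) = g x
    rw [hψ, hΦl]
  have hιa : ι.comp (algebraMap A Ash) = (algebraMap L (Localization.AtPrime q'')).comp a := by
    refine IsLocalization.ringHom_ext M ?_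
    ext r
    show algebraMap (Ash ⊗[R] R') (Localization.AtPrime q'')
        ((algebraMap A Ash (algebraMap R A r)) ⊗ₜ[R] (1 : R')) =
      algebraMap L (Localization.AtPrime q'') (a (algebraMap R A r))
    have h1 : a (algebraMap R A r) = algebraMap R' L (algebraMap R R' r) := by
      rw [← IsScalarTower.algebraMap_apply R R' L, ← ha]
      rfl
    rw [h1, hlam, ← IsScalarTower.algebraMap_apply R A Ash]
    congr 1
    rw [Algebra.algebraMap_eq_smul_one, Algebra.algebraMap_eq_smul_one, TensorProduct.smul_tmul]
  have hepi : ∀ (X : Type u) [CommRing X] (h₁ h₂ : Localization.AtPrime q'' →+* X),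
      h₁.comp (algebraMap L (Localization.AtPrime q'')) =
        h₂.comp (algebraMap L (Localization.AtPrime q'')) →
      h₁.comp ι = h₂.comp ι → h₁ = h₂ := by
    intro X _ h₁ h₂ hL hA
    refine IsLocalization.ringHom_ext q''.primeCompl ?_
    refine RingHom.ext fun z => ?_
    induction z using TensorProduct.induction_on with
    | zero => simp
    | tmul x y =>
      have e : x ⊗ₜ[R] y = (x ⊗ₜ[R] (1 : R')) * ((1 : Ash) ⊗ₜ[R] y) := by
        rw [Algebra.TensorProduct.tmul_mul_tmul, mul_one, one_mul]
      have e1 : h₁ (algebraMap (Ash ⊗[R] R') (Localization.AtPrime q'') (x ⊗ₜ[R] (1 : R'))) =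
          h₂ (algebraMap (Ash ⊗[R] R') (Localization.AtPrime q'') (x ⊗ₜ[R] (1 : R'))) :=
        RingHom.congr_fun hA x
      have e2 : h₁ (algebraMap (Ash ⊗[R] R') (Localization.AtPrime q'') ((1 : Ash) ⊗ₜ[R] y)) =
          h₂ (algebraMap (Ash ⊗[R] R') (Localization.AtPrime q'') ((1 : Ash) ⊗ₜ[R] y)) := by
        have h0 := RingHom.congr_fun hL (algebraMap R' L y)
        simp only [RingHom.comp_apply] at h0
        rwa [hlam] at h0
      simp only [RingHom.comp_apply]
      rw [e, map_mul, map_mul, map_mul, e1, e2]
    | add x y hx hy =>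
      simp only [RingHom.comp_apply, map_add] at hx hy ⊢
      rw [hx, hy]
  haveI hSH : Hensel.IsStrictHenselization (Localization.AtPrime q'') T :=
    isStrictHenselization_of_epi (A := A) (Ash := Ash) (L := L) a ι g τg hgres hg hι hιa hepi
  have hq''m : (maximalIdeal Ash).map (algebraMap Ash (Ash ⊗[R] R')) ≤ q'' := by
    rw [Ideal.map_le_iff_le_comap]
    intro x hx
    show Φ (algebraMap Ash (Ash ⊗[R] R') x) ∈ maximalIdeal T
    have h0 : algebraMap Ash (Ash ⊗[R] R') x = x ⊗ₜ[R] (1 : R') := by
      rw [Algebra.TensorProduct.algebraMap_apply]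
      rfl
    rw [h0, hΦl]
    exact map_nonunit g x hx
  exact ⟨q'', hq''prime, hq''m, ψ.toAlgebra, hψloc, hSH⟩

end B'

/-- **S2129**: strict henselizations of `R_p` and `S_q`, `S` smooth over `R`, have the same number
of minimal primes. -/
theorem card_minimalPrimes_sh_of_smooth {R S Ash Bsh : Type u} [CommRing R] [CommRing S]
    [Algebra R S] [Algebra.Smooth R S] (q : Ideal S) [q.IsPrime] (p : Ideal R) [p.IsPrime]
    [q.LiesOver p]
    [CommRing Ash] [IsLocalRing Ash] [Algebra (Localization.AtPrime p) Ash]
    [IsLocalHom (algebraMap (Localization.AtPrime p) Ash)]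
    [Hensel.IsStrictHenselization (Localization.AtPrime p) Ash]
    [CommRing Bsh] [IsLocalRing Bsh] [Algebra (Localization.AtPrime q) Bsh]
    [IsLocalHom (algebraMap (Localization.AtPrime q) Bsh)]
    [Hensel.IsStrictHenselization (Localization.AtPrime q) Bsh] :
    (minimalPrimes Ash).encard = (minimalPrimes Bsh).encard := by
  letI : Algebra R Ash := ((algebraMap (Localization.AtPrime p) Ash).comp
    (algebraMap R (Localization.AtPrime p))).toAlgebra
  haveI : IsScalarTower R (Localization.AtPrime p) Ash := IsScalarTower.of_algebraMap_eq' rfl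
  obtain ⟨q'', hq''prime, hq''m, alg, hloc, hSH⟩ := exists_sh_baseChange (R := R) (R' := S)
    (A := Localization.AtPrime p) (Ash := Ash) (L := Localization.AtPrime q) (T := Bsh)
    q p.primeCompl (Localization.localRingHom p q (algebraMap R S) (q.over_def p))
    (by
      ext r
      show Localization.localRingHom p q (algebraMap R S) (q.over_def p)
        (algebraMap R _ r) = _
      rw [Localization.localRingHom_to_map, ← IsScalarTower.algebraMap_apply R S])
  haveI := hq''prime
  letI := alg
  haveI := hloc
  haveI := hSH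
  haveI hAH : HenselianLocalRing Ash :=
    Hensel.IsStrictHenselization.henselian (R := Localization.AtPrime p)
  haveI hAsc : IsSepClosed (ResidueField Ash) :=
    (Hensel.IsStrictHenselization.isSepClosure (R := Localization.AtPrime p)
      (S := Ash)).sep_closed
  exact encard_minimalPrimes_strictHenselization Ash (Ash ⊗[R] S) Bsh q'' hq''m

end Groth.Agent.Helper4.SmoothGU
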