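import Mathlib
import Groth.Prelude.Def_Hensel
import Groth.Agent.Lib.Helper4.SmoothGU4
import Groth.Agent.Lib.Helper1.SHznMax
import Groth.Agent.Lib.Helper1.SHznUniv
import Groth.Agent.Lib.Helper18.HenselSubfield

/-!
# Strict henselizations of essentially finite type local rings as strict henselizations at closed
points over separably closed fields
-/

set_option autoImplicit false
universe u

namespace Groth.Agent.Helper4.SHClosedPt

open Groth.Agent.Helper1 IsLocalRing TensorProduct Polynomial
open Groth.Agent.Helper4.SmoothGU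

section B'

variable {R R' A Ash L T : Type u} [CommRing R] [CommRing R'] [Algebra R R']
  [CommRing A] [IsLocalRing A] [Algebra R A]
  [CommRing Ash] [IsLocalRing Ash] [Algebra A Ash] [IsLocalHom (algebraMap A Ash)]
  [Hensel.IsStrictHenselization A Ash] [Algebra R Ash] [IsScalarTower R A Ash]
  [CommRing L] [IsLocalRing L] [Algebra R' L] [Algebra R L] [IsScalarTower R R' L]
  [CommRing T] [IsLocalRing T] [Algebra L T] [IsLocalHom (algebraMap L T)]
  [Hensel.IsStrictHenselization L T]

set_option maxHeartbeats 1600000 in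
/-- the strict henselization `T` of `L = R'_q` is also a strict henselization of the local ring of
`Ash ⊗[R] R'` at the prime below the maximal ideal of `T`, where `Ash` is a strict henselization
of a localization `A` of `R` mapping to `L`. (No smoothness needed; any model of the
localization.) -/
theorem exists_sh_baseChange' (q : Ideal R') [q.IsPrime] [IsLocalization.AtPrime L q]
    (M : Submonoid R) [IsLocalization M A]
    (a : A →+* L) [IsLocalHom a] (ha : a.comp (algebraMap R A) = algebraMap R L) :
    ∃ (Φ : Ash ⊗[R] R' →+* T),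
      (∀ y : R', Φ ((1 : Ash) ⊗ₜ[R] y) = algebraMap L T (algebraMap R' L y)) ∧
      IsLocalHom (Φ.comp (Algebra.TensorProduct.includeLeftRingHom : Ash →+* Ash ⊗[R] R')) ∧
      ∀ (S : Type u) [CommRing S] [IsLocalRing S] [Algebra (Ash ⊗[R] R') S]
        [IsLocalization.AtPrime S ((maximalIdeal T).comap Φ)],
        ∃ (_ : Algebra S T) (_ : IsLocalHom (algebraMap S T)),
          (algebraMap S T).comp (algebraMap (Ash ⊗[R] R') S) = Φ ∧
          Hensel.IsStrictHenselization S T := by
  classical
  haveI hTH : HenselianLocalRing T := Hensel.IsStrictHenselization.henselian (R := L)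
  have hTsc : IsSepClosed (ResidueField T) :=
    (Hensel.IsStrictHenselization.isSepClosure (R := L) (S := T)).sep_closed
  haveI hAH : HenselianLocalRing Ash := Hensel.IsStrictHenselization.henselian (R := A)
  haveI hAsc : IsSepClosed (ResidueField Ash) :=
    (Hensel.IsStrictHenselization.isSepClosure (R := A) (S := Ash)).sep_closed
  haveI : IsLocalHom ((algebraMap L T).comp a) := RingHom.isLocalHom_comp _ _
  obtain ⟨τg, g, -, hg, hgres⟩ := EL.exists_map_of_isStrictHenselization (A := A) (RS := Ash) T
    hTsc ((algebraMap L T).comp a)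
  haveI hgloc : IsLocalHom g := EL.isLocalHom_of_residue g τg hgres
  letI : Algebra R T := ((algebraMap L T).comp (algebraMap R L)).toAlgebra
  haveI : IsScalarTower R L T := IsScalarTower.of_algebraMap_eq' rfl
  let gAlg : Ash →ₐ[R] T :=
    { g with
      commutes' := fun r => by
        show g (algebraMap R Ash r) = algebraMap L T (algebraMap R L r)
        rw [IsScalarTower.algebraMap_apply R A Ash, ← ha]
        exact RingHom.congr_fun hg (algebraMap R A r) }
  let hAlg : R' →ₐ[R] T :=
    { (algebraMap L T).comp (algebraMap R' L) with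
      commutes' := fun r => by
        show algebraMap L T (algebraMap R' L (algebraMap R R' r)) =
          algebraMap L T (algebraMap R L r)
        rw [← IsScalarTower.algebraMap_apply R R' L] }
  let Φ : Ash ⊗[R] R' →ₐ[R] T :=
    Algebra.TensorProduct.lift gAlg hAlg (fun _ _ => Commute.all _ _)
  have hΦl : ∀ x : Ash, Φ (x ⊗ₜ[R] (1 : R')) = g x := fun x => by
    show gAlg x * hAlg 1 = g x
    rw [map_one, mul_one]
    rfl
  have hΦr : ∀ y : R', Φ ((1 : Ash) ⊗ₜ[R] y) = algebraMap L T (algebraMap R' L y) := fun y => by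
    show gAlg 1 * hAlg y = _
    rw [map_one, one_mul]
    rfl
  refine ⟨Φ.toRingHom, hΦr, ⟨fun x hx => ?_⟩, ?_⟩
  · have hx' : IsUnit (g x) := by
      rw [← hΦl]
      exact hx
    exact hgloc.map_nonunit x hx'
  intro S _ _ _ _
  let q'' : Ideal (Ash ⊗[R] R') := (maximalIdeal T).comap Φ.toRingHom
  haveI hq''prime : q''.IsPrime := Ideal.comap_isPrime _ _
  haveI hSloc : IsLocalization.AtPrime S q'' := inferInstance
  have hunits : ∀ y : q''.primeCompl, IsUnit (Φ.toRingHom y) := fun y =>
    IsLocalRing.notMem_maximalIdeal.mp y.2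
  let ψ : S →+* T := IsLocalization.lift hunits
  have hψ : ∀ x, ψ (algebraMap (Ash ⊗[R] R') S x) = Φ x :=
    fun x => IsLocalization.lift_eq hunits x
  have hψloc : IsLocalHom ψ := by
    refine ⟨fun z hz => ?_⟩
    obtain ⟨⟨x, s⟩, hxs⟩ := IsLocalization.surj q''.primeCompl z
    have h1 : ψ z * Φ s = Φ x := by
      have h0 := congrArg ψ hxs
      rwa [map_mul, hψ, hψ] at h0
    have h2 : IsUnit (Φ x) := h1 ▸ hz.mul (hunits s)
    have h3 : x ∈ q''.primeCompl := fun hx => (IsLocalRing.mem_maximalIdeal _).mp hx h2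
    have h4 : IsUnit (algebraMap (Ash ⊗[R] R') S x) :=
      IsLocalization.map_units S ⟨x, h3⟩
    rw [← hxs] at h4
    exact isUnit_of_mul_isUnit_left h4
  letI : Algebra S T := ψ.toAlgebra
  haveI : IsLocalHom (algebraMap S T) := hψloc
  let incR : R' →+* S :=
    (algebraMap (Ash ⊗[R] R') S).comp
      (Algebra.TensorProduct.includeRight : R' →ₐ[R] Ash ⊗[R] R').toRingHom
  have hunits' : ∀ y : q.primeCompl, IsUnit (incR y) := by
    intro y
    have hy : ((1 : Ash) ⊗ₜ[R] (y : R')) ∈ q''.primeCompl := by
      show ¬ (Φ ((1 : Ash) ⊗ₜ[R] (y : R')) ∈ maximalIdeal T)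
      rw [hΦr]
      exact fun hmem => (IsLocalRing.mem_maximalIdeal _).mp hmem
        ((IsLocalization.map_units L y).map _)
    exact IsLocalization.map_units S ⟨_, hy⟩
  let lam : L →+* S := IsLocalization.lift hunits'
  letI : Algebra L S := lam.toAlgebra
  have hlam : ∀ y : R', algebraMap L S (algebraMap R' L y) =
      algebraMap (Ash ⊗[R] R') S ((1 : Ash) ⊗ₜ[R] y) :=
    fun y => IsLocalization.lift_eq hunits' y
  haveI : IsScalarTower L S T := by
    refine IsScalarTower.of_algebraMap_eq' ?_
    refine IsLocalization.ringHom_ext q.primeCompl ?_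
    ext y
    show algebraMap L T (algebraMap R' L y) =
      ψ (algebraMap L S (algebraMap R' L y))
    rw [hlam, hψ, hΦr]
  let ι : Ash →+* S :=
    (algebraMap (Ash ⊗[R] R') S).comp
      Algebra.TensorProduct.includeLeftRingHom
  have hι : (algebraMap S T).comp ι = g := by
    ext x
    show ψ (algebraMap (Ash ⊗[R] R') S (x ⊗ₜ[R] (1 : R'))) = g x
    rw [hψ, hΦl]
  have hιa : ι.comp (algebraMap A Ash) = (algebraMap L S).comp a := by
    refine IsLocalization.ringHom_ext M ?_
    ext r
    show algebraMap (Ash ⊗[R] R') S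
        ((algebraMap A Ash (algebraMap R A r)) ⊗ₜ[R] (1 : R')) =
      algebraMap L S (a (algebraMap R A r))
    have h1 : a (algebraMap R A r) = algebraMap R' L (algebraMap R R' r) := by
      rw [← IsScalarTower.algebraMap_apply R R' L, ← ha]
      rfl
    rw [h1, hlam, ← IsScalarTower.algebraMap_apply R A Ash]
    congr 1
    rw [Algebra.algebraMap_eq_smul_one, Algebra.algebraMap_eq_smul_one, TensorProduct.smul_tmul]
  have hepi : ∀ (X : Type u) [CommRing X] (h₁ h₂ : S →+* X),
      h₁.comp (algebraMap L S) =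
        h₂.comp (algebraMap L S) →
      h₁.comp ι = h₂.comp ι → h₁ = h₂ := by
    intro X _ h₁ h₂ hL hA
    refine IsLocalization.ringHom_ext q''.primeCompl ?_
    refine RingHom.ext fun z => ?_
    induction z using TensorProduct.induction_on with
    | zero => simp
    | tmul x y =>
      have e : x ⊗ₜ[R] y = (x ⊗ₜ[R] (1 : R')) * ((1 : Ash) ⊗ₜ[R] y) := by
        rw [Algebra.TensorProduct.tmul_mul_tmul, mul_one, one_mul]
      have e1 : h₁ (algebraMap (Ash ⊗[R] R') S (x ⊗ₜ[R] (1 : R'))) =
          h₂ (algebraMap (Ash ⊗[R] R') S (x ⊗ₜ[R] (1 : R'))) :=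
        RingHom.congr_fun hA x
      have e2 : h₁ (algebraMap (Ash ⊗[R] R') S ((1 : Ash) ⊗ₜ[R] y)) =
          h₂ (algebraMap (Ash ⊗[R] R') S ((1 : Ash) ⊗ₜ[R] y)) := by
        have h0 := RingHom.congr_fun hL (algebraMap R' L y)
        simp only [RingHom.comp_apply] at h0
        rwa [hlam] at h0
      simp only [RingHom.comp_apply]
      rw [e, map_mul, map_mul, map_mul, e1, e2]
    | add x y hx hy =>
      simp only [RingHom.comp_apply, map_add] at hx hy ⊢
      rw [hx, hy]
  haveI hSH : Hensel.IsStrictHenselization S T :=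
    isStrictHenselization_of_epi (A := A) (Ash := Ash) (L := L) a ι g τg hgres hg hι hιa hepi
  exact ⟨ψ.toAlgebra, hψloc, RingHom.ext hψ, hSH⟩

end B'

/-- A local algebra over a field `k` contains a field `K₀ ⊇ k` over which its residue field is
algebraic. -/
theorem exists_subfield_algebraic (k : Type u) [Field k] (L : Type u) [CommRing L] [IsLocalRing L]
    [Algebra k L] :
    ∃ (K₀ : Type u) (_ : Field K₀) (i₀ : K₀ →+* L), (algebraMap k L).range ≤ i₀.range ∧
      ∀ t : ResidueField L, ∃ g : K₀[X], g ≠ 0 ∧ (g.map ((residue L).comp i₀)).eval t = 0 := by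
  classical
  obtain ⟨S, hSf, hkS, -, hmax⟩ := Groth.Agent.Helper18.HenselSubfield.exists_maximal_subfield
    (algebraMap k L).range (Groth.Agent.Helper18.HenselSubfield.isField_range _)
    (fun _ => True) trivial (fun _ _ _ _ => trivial)
  letI : Field S := hSf.toField
  refine ⟨S, inferInstance, S.subtype, by rw [Subring.range_subtype]; exact hkS, fun t => ?_⟩
  by_contra hcon
  push_neg at hcon
  obtain ⟨S', hS'f, hSS', htS'⟩ :=
    Groth.Agent.Helper18.HenselSubfield.exists_adjoin_transcendental_subring S hSf t hcon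
  have hS'S : S' = S := hmax S' hS'f hSS' trivial
  rw [hS'S] at htS'
  obtain ⟨s, hs, rfl⟩ := htS'
  refine hcon (X - C ⟨s, hs⟩) (X_sub_C_ne_zero _) ?_
  simp

end Groth.Agent.Helper4.SHClosedPt
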