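import Mathlib
import Groth.Prelude.Def_Hensel
import Groth.Agent.Lib.Helper4.SHClosedPt

/-!
# Strict henselizations of essentially finite type local rings over a field, II: the core statement
-/

set_option autoImplicit false
universe u

namespace Groth.Agent.Helper4.SHClosedPt

open Groth.Agent.Helper1 IsLocalRing TensorProduct Polynomial
open Groth.Agent.Helper4.SmoothGU

/-- a ring hom from a field to a nontrivial ring is local -/
theorem isLocalHom_of_field {K L : Type*} [Field K] [CommRing L] [Nontrivial L] (f : K →+* L) :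
    IsLocalHom f := by
  refine ⟨fun x hx => ?_⟩
  have hx0 : x ≠ 0 := by
    rintro rfl
    rw [map_zero] at hx
    exact not_isUnit_zero hx
  exact isUnit_iff_ne_zero.mpr hx0

set_option maxHeartbeats 1600000 in
theorem core_field (k : Type u) [Field k] (B : Type u) [CommRing B] [Algebra k B]
    [Algebra.FiniteType k B] (p : Ideal B) [p.IsPrime] (L : Type u) [CommRing L] [IsLocalRing L]
    [Algebra B L] [IsLocalization.AtPrime L p] (T : Type u) [CommRing T] [IsLocalRing T]
    [Algebra L T] [IsLocalHom (algebraMap L T)] [Hensel.IsStrictHenselization L T] :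
    ∃ (K : Type u) (_ : Field K) (_ : IsSepClosed K) (C : Type u) (_ : CommRing C)
      (_ : Algebra K C) (_ : Algebra.FiniteType K C) (q : Ideal C) (_ : q.IsMaximal),
      ∀ (S : Type u) [CommRing S] [IsLocalRing S] [Algebra C S] [IsLocalization.AtPrime S q],
        ∃ (_ : Algebra S T) (_ : IsLocalHom (algebraMap S T)),
          Hensel.IsStrictHenselization S T := by
  classical
  letI : Algebra k L := ((algebraMap B L).comp (algebraMap k B)).toAlgebra
  haveI : IsScalarTower k B L := IsScalarTower.of_algebraMap_eq' rfl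
  obtain ⟨K₀, instK₀, i₀, hk₀, halg₀⟩ := exists_subfield_algebraic k L
  letI : Field K₀ := instK₀
  letI : Algebra K₀ L := i₀.toAlgebra
  obtain ⟨B₁, hB₁def⟩ : ∃ B₁ : Subalgebra K₀ L,
      B₁ = Algebra.adjoin K₀ (Set.range (algebraMap B L)) := ⟨_, rfl⟩
  have hmem : ∀ b : B, algebraMap B L b ∈ B₁ := fun b => by
    rw [hB₁def]
    exact Algebra.subset_adjoin ⟨b, rfl⟩
  let p₁ : Ideal B₁ := (maximalIdeal L).comap (algebraMap B₁ L)
  haveI hp₁ : p₁.IsPrime := Ideal.comap_isPrime _ _
  haveI hloc₁ : IsLocalization.AtPrime L p₁ := by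
    refine (isLocalization_iff _ _).mpr ⟨fun y => ?_, fun z => ?_, fun {x y} h => ?_⟩
    · exact IsLocalRing.notMem_maximalIdeal.mp y.2
    · obtain ⟨⟨x, s⟩, hxs⟩ := IsLocalization.surj p.primeCompl z
      have hs' : (⟨algebraMap B L s, hmem s⟩ : B₁) ∈ p₁.primeCompl := by
        show ¬ (algebraMap B L s ∈ maximalIdeal L)
        exact fun hm => (IsLocalRing.mem_maximalIdeal _).mp hm (IsLocalization.map_units L s)
      exact ⟨(⟨algebraMap B L x, hmem x⟩, ⟨⟨algebraMap B L s, hmem s⟩, hs'⟩), hxs⟩
    · exact ⟨1, by rw [Subtype.ext h]⟩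
  haveI hft₁ : Algebra.FiniteType K₀ B₁ := by
    obtain ⟨s, hs⟩ := (Algebra.FiniteType.out : (⊤ : Subalgebra k B).FG)
    have hB₁ : B₁ = Algebra.adjoin K₀ ((s.image (algebraMap B L) : Finset L) : Set L) := by
      rw [hB₁def]
      apply le_antisymm
      · apply Algebra.adjoin_le
        rintro _ ⟨b, rfl⟩
        have hb : b ∈ Algebra.adjoin k (s : Set B) := hs ▸ Algebra.mem_top
        induction hb using Algebra.adjoin_induction with
        | mem x hx =>
          refine Algebra.subset_adjoin ?_
          simp only [Finset.coe_image, Set.mem_image]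
          exact ⟨x, hx, rfl⟩
        | algebraMap r =>
          obtain ⟨c, hc⟩ := hk₀ ⟨r, rfl⟩
          rw [← IsScalarTower.algebraMap_apply k B L, ← hc]
          exact Subalgebra.algebraMap_mem _ c
        | add x y _ _ hx hy =>
          rw [map_add]
          exact add_mem hx hy
        | mul x y _ _ hx hy =>
          rw [map_mul]
          exact mul_mem hx hy
      · apply Algebra.adjoin_mono
        intro y hy
        simp only [Finset.coe_image, Set.mem_image] at hy
        obtain ⟨x, -, rfl⟩ := hy
        exact ⟨x, rfl⟩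
    rw [hB₁]
    exact (Subalgebra.fg_iff_finiteType _).mp (Subalgebra.fg_adjoin_finset _)
  -- the strict henselization of `K₀`
  let K : Type u := SHzn.S K₀
  haveI hKsh : Hensel.IsStrictHenselization K₀ K := SHzn.isStrictHenselization K₀
  haveI : IsLocalization (⊥ : Submonoid K₀) K₀ := IsLocalization.self bot_le
  haveI : IsLocalHom (algebraMap K₀ L) := isLocalHom_of_field _
  obtain ⟨Φ, hΦr, -, hΦS⟩ := exists_sh_baseChange' (R := K₀) (R' := B₁) (A := K₀) (Ash := K)
    (L := L) (T := T) p₁ (⊥ : Submonoid K₀) (algebraMap K₀ L) (by ext; rfl)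
  -- `K` is a separably closed field
  have hmK : maximalIdeal K = ⊥ := by
    rw [← SHzn.map_maximalIdeal_eq_of_isStrictHenselization K₀ K]
    have h0 : maximalIdeal K₀ = ⊥ :=
      IsLocalRing.isField_iff_maximalIdeal_eq.mp (Field.toIsField K₀)
    rw [h0, Ideal.map_bot]
  have hKf : IsField K := IsLocalRing.isField_iff_maximalIdeal_eq.mpr hmK
  have hKsc : @IsSepClosed K hKf.toField := by
    letI : Field K := hKf.toField
    haveI : IsSepClosed (ResidueField K) :=
      (Hensel.IsStrictHenselization.isSepClosure (R := K₀) (S := K)).sep_closed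
    have hbij : Function.Bijective (residue K) := by
      refine ⟨?_, residue_surjective⟩
      rw [injective_iff_map_eq_zero]
      intro x hx
      have : x ∈ maximalIdeal K := (residue_eq_zero_iff x).mp hx
      rwa [hmK] at this
    exact isSepClosed_of_ringEquiv (RingEquiv.ofBijective (residue K) hbij).symm
  -- maximality
  let C : Type u := K ⊗[K₀] B₁
  let q'' : Ideal C := (maximalIdeal T).comap Φ
  haveI hq''prime : q''.IsPrime := Ideal.comap_isPrime _ _
  let ψ : K₀ →+* ResidueField T := (residue T).comp ((algebraMap L T).comp i₀)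
  have halgT : ∀ y : ResidueField T, ∃ g : K₀[X], g.Monic ∧ g.eval₂ ψ y = 0 := by
    letI : Algebra K₀ (ResidueField L) := ((residue L).comp i₀).toAlgebra
    letI : Algebra K₀ (ResidueField T) := ψ.toAlgebra
    haveI : IsScalarTower K₀ (ResidueField L) (ResidueField T) :=
      IsScalarTower.of_algebraMap_eq' (RingHom.ext fun r => rfl)
    haveI : Algebra.IsAlgebraic K₀ (ResidueField L) := ⟨fun t => by
      obtain ⟨g, hg0, hg⟩ := halg₀ t
      exact ⟨g, hg0, by rw [aeval_def, ← eval_map]; exact hg⟩⟩
    haveI : Algebra.IsAlgebraic (ResidueField L) (ResidueField T) := by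
      haveI := (Hensel.IsStrictHenselization.isSepClosure (R := L) (S := T)).separable
      exact Algebra.IsSeparable.isAlgebraic _ _
    haveI := Algebra.IsAlgebraic.trans K₀ (ResidueField L) (ResidueField T)
    intro y
    have hy : IsIntegral K₀ y := (Algebra.IsAlgebraic.isAlgebraic y).isIntegral
    obtain ⟨g, hgm, hg⟩ := hy
    exact ⟨g, hgm, hg⟩
  have hcompat : (residue T).comp (Φ.comp (algebraMap K₀ C)) = ψ := by
    ext r
    show residue T (Φ (algebraMap K₀ C r)) = residue T (algebraMap L T (i₀ r))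
    congr 1
    have e1 : algebraMap K₀ C r = (1 : K) ⊗ₜ[K₀] (algebraMap K₀ B₁ r) := by
      rw [Algebra.TensorProduct.algebraMap_apply, Algebra.algebraMap_eq_smul_one,
        Algebra.algebraMap_eq_smul_one (A := B₁), TensorProduct.smul_tmul]
    rw [e1, hΦr]
    rfl
  have hq''max : q''.IsMaximal := by
    apply Ideal.Quotient.maximal_of_isField
    haveI : IsDomain (C ⧸ q'') := Ideal.Quotient.isDomain q''
    haveI : Algebra.IsIntegral K₀ (C ⧸ q'') := ⟨fun x => by
      obtain ⟨c, rfl⟩ := Ideal.Quotient.mk_surjective x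
      obtain ⟨g, hgm, hg⟩ := halgT (residue T (Φ c))
      refine ⟨g, hgm, ?_⟩
      have h1 : eval₂ (algebraMap K₀ (C ⧸ q'')) (Ideal.Quotient.mk q'' c) g =
          Ideal.Quotient.mk q'' (eval₂ (algebraMap K₀ C) c g) := by
        rw [Polynomial.hom_eval₂]
        rfl
      rw [h1, Ideal.Quotient.eq_zero_iff_mem]
      show Φ (eval₂ (algebraMap K₀ C) c g) ∈ maximalIdeal T
      rw [← residue_eq_zero_iff, Polynomial.hom_eval₂, Polynomial.hom_eval₂, hcompat]
      exact hg⟩
    exact isField_of_isIntegral_of_isField' (R := K₀) (S := C ⧸ q'') (Field.toIsField K₀)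
  refine ⟨K, hKf.toField, hKsc, C, inferInstance, (inferInstance : Algebra K C),
    (inferInstance : Algebra.FiniteType K C), q'', hq''max, fun S _ _ _ _ => ?_⟩
  obtain ⟨alg, hloc, -, hSH⟩ := hΦS S
  exact ⟨alg, hloc, hSH⟩

end Groth.Agent.Helper4.SHClosedPt
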