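import Mathlib
import Groth.Prelude.Def_Hensel
import Groth.Agent.Lib.Helper4.SHClosedPt2
import Groth.Agent.Lib.Helper1.SH5
import Groth.Agent.Lib.Helper14.ResExtD

/-!
# Strict henselizations of essentially finite type local rings over a discrete valuation ring
-/

set_option autoImplicit false
universe u

namespace Groth.Agent.Helper4.SHClosedPt

open Groth.Agent.Helper1 IsLocalRing TensorProduct
open Groth.Agent.Helper4.SmoothGU

theorem isLocalization_atPrime_subalgebra {P B L : Type u} [CommRing P] [CommRing B] [CommRing L]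
    [IsLocalRing L] [Algebra P L] [Algebra B L] (p : Ideal B) [p.IsPrime]
    [IsLocalization.AtPrime L p] (B₁ : Subalgebra P L) (hmem : ∀ b : B, algebraMap B L b ∈ B₁) :
    IsLocalization.AtPrime L ((maximalIdeal L).comap (algebraMap B₁ L)) := by
  refine (isLocalization_iff _ _).mpr ⟨fun y => ?_, fun z => ?_, fun {x y} h => ?_⟩
  · exact IsLocalRing.notMem_maximalIdeal.mp y.2
  · obtain ⟨⟨x, s⟩, hxs⟩ := IsLocalization.surj p.primeCompl z
    have hs' : (⟨algebraMap B L s, hmem s⟩ : B₁) ∈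
        ((maximalIdeal L).comap (algebraMap B₁ L)).primeCompl := by
      show ¬ (algebraMap B L s ∈ maximalIdeal L)
      exact fun hm => (IsLocalRing.mem_maximalIdeal _).mp hm (IsLocalization.map_units L s)
    exact ⟨(⟨algebraMap B L x, hmem x⟩, ⟨⟨algebraMap B L s, hmem s⟩, hs'⟩), hxs⟩
  · exact ⟨1, by rw [Subtype.ext h]⟩

theorem finiteType_adjoin_range {R₀ P B L : Type u} [CommRing R₀] [CommRing P] [CommRing B]
    [CommRing L] [Algebra R₀ B] [Algebra.FiniteType R₀ B] [Algebra P L] [Algebra B L]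
    (hR₀ : ∀ r : R₀, algebraMap B L (algebraMap R₀ B r) ∈ (algebraMap P L).range)
    (B₁ : Subalgebra P L) (hB₁def : B₁ = Algebra.adjoin P (Set.range (algebraMap B L))) :
    Algebra.FiniteType P B₁ := by
  classical
  obtain ⟨s, hs⟩ := (Algebra.FiniteType.out : (⊤ : Subalgebra R₀ B).FG)
  have hB₁ : B₁ = Algebra.adjoin P ((s.image (algebraMap B L) : Finset L) : Set L) := by
    rw [hB₁def]
    apply le_antisymm
    · apply Algebra.adjoin_le
      rintro _ ⟨b, rfl⟩
      have hb : b ∈ Algebra.adjoin R₀ (s : Set B) := hs ▸ Algebra.mem_top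
      induction hb using Algebra.adjoin_induction with
      | mem x hx =>
        refine Algebra.subset_adjoin ?_
        simp only [Finset.coe_image, Set.mem_image]
        exact ⟨x, hx, rfl⟩
      | algebraMap r =>
        obtain ⟨c, hc⟩ := hR₀ r
        rw [← hc]
        exact Subalgebra.algebraMap_mem _ c
      | add x y _ _ hx hy =>
        rw [map_add]
        exact add_mem hx hy
      | mul x y _ _ hx hy =>
        rw [map_mul]
        exact mul_mem hx hy
    · apply Algebra.adjoin_mono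
      intro y hy
      simp only [Finset.coe_image, Set.mem_image] at hy
      obtain ⟨x, -, rfl⟩ := hy
      exact ⟨x, rfl⟩
  rw [hB₁]
  exact (Subalgebra.fg_iff_finiteType _).mp (Subalgebra.fg_adjoin_finset _)

open MvPolynomial in
/-- The localization of a polynomial ring over a discrete valuation ring at the extension of the
maximal ideal is a discrete valuation ring (Gauss extension). -/
theorem isDVR_localization_mvPolynomial (R₀ : Type u) [CommRing R₀] [IsDomain R₀]
    [IsDiscreteValuationRing R₀] (σ : Type u) (𝔭 : Ideal (MvPolynomial σ R₀)) [𝔭.IsPrime]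
    (h𝔭 : 𝔭 = (maximalIdeal R₀).map (algebraMap R₀ (MvPolynomial σ R₀))) :
    IsDiscreteValuationRing (Localization.AtPrime 𝔭) := by
  classical
  obtain ⟨π, hπ⟩ := IsDiscreteValuationRing.exists_irreducible R₀
  have hmπ : maximalIdeal R₀ = Ideal.span {π} :=
    (IsDiscreteValuationRing.irreducible_iff_uniformizer π).mp hπ
  have h𝔭' : 𝔭 = Ideal.span {(C π : MvPolynomial σ R₀)} := by
    rw [h𝔭, hmπ, Ideal.map_span, Set.image_singleton]
    rfl
  have hfac : ∀ (k : ℕ) (f : MvPolynomial σ R₀), (∃ m, ¬ π ^ (k + 1) ∣ coeff m f) →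
      ∃ (n : ℕ) (f₀ : MvPolynomial σ R₀), f = (C π) ^ n * f₀ ∧ f₀ ∉ 𝔭 := by
    intro k
    induction k with
    | zero =>
      rintro f ⟨m, hm⟩
      by_cases hf : f ∈ 𝔭
      · exfalso
        rw [h𝔭', Ideal.mem_span_singleton'] at hf
        obtain ⟨f₁, rfl⟩ := hf
        apply hm
        rw [mul_comm f₁ (C π), coeff_C_mul, zero_add, pow_one]
        exact dvd_mul_right _ _
      · exact ⟨0, f, by rw [pow_zero, one_mul], hf⟩
    | succ k ih =>
      rintro f ⟨m, hm⟩
      by_cases hf : f ∈ 𝔭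
      · rw [h𝔭', Ideal.mem_span_singleton'] at hf
        obtain ⟨f₁, rfl⟩ := hf
        have hm₁ : ¬ π ^ (k + 1) ∣ coeff m f₁ := by
          intro hdvd
          apply hm
          rw [mul_comm f₁ (C π), coeff_C_mul, pow_succ' π (k + 1)]
          exact mul_dvd_mul_left π hdvd
        obtain ⟨n, f₀, hf₁, hf₀⟩ := ih f₁ ⟨m, hm₁⟩
        refine ⟨n + 1, f₀, ?_, hf₀⟩
        rw [hf₁]
        ring
      · exact ⟨0, f, by rw [pow_zero, one_mul], hf⟩
  have hfac' : ∀ f : MvPolynomial σ R₀, f ≠ 0 →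
      ∃ (n : ℕ) (f₀ : MvPolynomial σ R₀), f = (C π) ^ n * f₀ ∧ f₀ ∉ 𝔭 := by
    intro f hf
    obtain ⟨m, hm⟩ := ne_zero_iff.mp hf
    obtain ⟨k, hk⟩ : ∃ n : ℕ, ¬ π ^ (n + 1) ∣ coeff m f :=
      FiniteMultiplicity.of_not_isUnit hπ.not_isUnit hm
    exact hfac k f ⟨m, hk⟩
  have hinj : Function.Injective (algebraMap (MvPolynomial σ R₀) (Localization.AtPrime 𝔭)) :=
    IsLocalization.injective _ 𝔭.primeCompl_le_nonZeroDivisors
  have hϖ0 : algebraMap (MvPolynomial σ R₀) (Localization.AtPrime 𝔭) (C π) ≠ 0 := by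
    intro h0
    have h1 : (C π : MvPolynomial σ R₀) = 0 := hinj (by rw [h0, map_zero])
    exact hπ.ne_zero (C_eq_zero.mp h1)
  have hm : maximalIdeal (Localization.AtPrime 𝔭) =
      Ideal.span {algebraMap (MvPolynomial σ R₀) (Localization.AtPrime 𝔭) (C π)} := by
    have h1 := Localization.AtPrime.map_eq_maximalIdeal (I := 𝔭)
    have h2 : Ideal.map (algebraMap (MvPolynomial σ R₀) (Localization.AtPrime 𝔭)) 𝔭 =
        Ideal.map (algebraMap (MvPolynomial σ R₀) (Localization.AtPrime 𝔭))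
          (Ideal.span {(C π : MvPolynomial σ R₀)}) := congrArg _ h𝔭'
    rw [Ideal.map_span, Set.image_singleton] at h2
    exact h1.symm.trans h2
  have hϖp : Prime (algebraMap (MvPolynomial σ R₀) (Localization.AtPrime 𝔭) (C π)) := by
    rw [← Ideal.span_singleton_prime hϖ0, ← hm]
    infer_instance
  apply IsDiscreteValuationRing.ofHasUnitMulPowIrreducibleFactorization
  refine ⟨_, hϖp.irreducible, fun {x} hx => ?_⟩
  obtain ⟨f, s, rfl⟩ := IsLocalization.exists_mk'_eq 𝔭.primeCompl x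
  have hf0 : f ≠ 0 := by
    rintro rfl
    exact hx (IsLocalization.mk'_zero s)
  obtain ⟨n, f₀, rfl, hf₀⟩ := hfac' f hf0
  refine ⟨n, ?_⟩
  have hu : IsUnit (IsLocalization.mk' (Localization.AtPrime 𝔭) f₀ s) :=
    (IsLocalization.AtPrime.isUnit_mk'_iff (Localization.AtPrime 𝔭) 𝔭 f₀ s).mpr hf₀
  obtain ⟨u, hu'⟩ := hu
  refine ⟨u, ?_⟩
  rw [hu', ← map_pow, IsLocalization.mul_mk'_eq_mk'_of_mul]

set_option maxHeartbeats 3200000 in
theorem core_dvr (R₀ : Type u) [CommRing R₀] [IsDomain R₀] [IsDiscreteValuationRing R₀]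
    (B : Type u) [CommRing B] [Algebra R₀ B] [Algebra.FiniteType R₀ B] (p : Ideal B) [p.IsPrime]
    (L : Type u) [CommRing L] [IsLocalRing L] [Algebra B L] [IsLocalization.AtPrime L p]
    (hloc : IsLocalHom ((algebraMap B L).comp (algebraMap R₀ B)))
    (T : Type u) [CommRing T] [IsLocalRing T] [Algebra L T] [IsLocalHom (algebraMap L T)]
    [Hensel.IsStrictHenselization L T] :
    ∃ (R' : Type u) (_ : CommRing R') (_ : IsDomain R') (_ : IsDiscreteValuationRing R')
      (_ : HenselianLocalRing R') (_ : IsSepClosed (ResidueField R'))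
      (C : Type u) (_ : CommRing C) (_ : Algebra R' C) (_ : Algebra.FiniteType R' C)
      (q : Ideal C) (_ : q.IsMaximal),
      q.comap (algebraMap R' C) = maximalIdeal R' ∧
      ∀ (S : Type u) [CommRing S] [IsLocalRing S] [Algebra C S] [IsLocalization.AtPrime S q],
        ∃ (_ : Algebra S T) (_ : IsLocalHom (algebraMap S T)),
          Hensel.IsStrictHenselization S T := by
  classical
  letI algL : Algebra R₀ L := ((algebraMap B L).comp (algebraMap R₀ B)).toAlgebra
  haveI : IsScalarTower R₀ B L := IsScalarTower.of_algebraMap_eq' rfl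
  haveI hlocL : IsLocalHom (algebraMap R₀ L) := hloc
  obtain ⟨Tb, hTb⟩ := exists_isTranscendenceBasis (ResidueField R₀) (ResidueField L)
  choose ℓ hℓ using fun t : Tb => residue_surjective (t : ResidueField L)
  let θ₀ : (MvPolynomial Tb R₀) →ₐ[R₀] L := MvPolynomial.aeval ℓ
  letI algPL : Algebra (MvPolynomial Tb R₀) L := θ₀.toRingHom.toAlgebra
  haveI : IsScalarTower R₀ (MvPolynomial Tb R₀) L :=
    IsScalarTower.of_algebraMap_eq' (RingHom.ext fun r => (θ₀.commutes r).symm)
  obtain ⟨𝔭, h𝔭def⟩ : ∃ 𝔭 : Ideal (MvPolynomial Tb R₀), 𝔭 = RingHom.ker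
      (MvPolynomial.map (residue R₀) : (MvPolynomial Tb R₀) →+* MvPolynomial Tb (ResidueField R₀)) := ⟨_, rfl⟩
  haveI h𝔭prime : 𝔭.IsPrime := by
    rw [h𝔭def]
    exact RingHom.ker_isPrime _
  have h𝔭 : 𝔭 = (maximalIdeal R₀).map (algebraMap R₀ (MvPolynomial Tb R₀)) := by
    rw [h𝔭def, MvPolynomial.ker_map, ker_residue]
    rfl
  have hres : (residue L).comp (algebraMap R₀ L) =
      (algebraMap (ResidueField R₀) (ResidueField L)).comp (residue R₀) :=
    RingHom.ext fun r => rfl
  have hρ : ∀ f : (MvPolynomial Tb R₀), residue L (algebraMap (MvPolynomial Tb R₀) L f) =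
      MvPolynomial.aeval (R := ResidueField R₀) (fun t : Tb => (t : ResidueField L))
        (MvPolynomial.map (residue R₀) f) := by
    intro f
    show residue L (MvPolynomial.aeval ℓ f) = _
    rw [MvPolynomial.aeval_def, MvPolynomial.aeval_def, MvPolynomial.eval₂_map,
      MvPolynomial.eval₂_comp_left, hres]
    congr 1
    funext t
    exact hℓ t
  have hnot : ∀ f : (MvPolynomial Tb R₀), f ∉ 𝔭 → IsUnit (algebraMap (MvPolynomial Tb R₀) L f) := by
    intro f hf
    apply IsLocalRing.notMem_maximalIdeal.mp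
    rw [← residue_eq_zero_iff, hρ]
    intro h0
    apply hf
    rw [h𝔭def, RingHom.mem_ker]
    exact (injective_iff_map_eq_zero _).mp hTb.1 _ h0
  have hin : ∀ f : (MvPolynomial Tb R₀), f ∈ 𝔭 → algebraMap (MvPolynomial Tb R₀) L f ∈ maximalIdeal L := by
    intro f hf
    rw [← residue_eq_zero_iff, hρ]
    rw [h𝔭def, RingHom.mem_ker] at hf
    rw [hf, map_zero]
  have hunit : ∀ y : 𝔭.primeCompl, IsUnit (algebraMap (MvPolynomial Tb R₀) L y) := fun y => hnot y y.2
  let a : (Localization.AtPrime 𝔭) →+* L := IsLocalization.lift hunit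
  have ha : ∀ f, a (algebraMap (MvPolynomial Tb R₀) (Localization.AtPrime 𝔭) f) = algebraMap (MvPolynomial Tb R₀) L f :=
    fun f => IsLocalization.lift_eq hunit f
  have haloc : IsLocalHom a := by
    refine ⟨fun z hz => ?_⟩
    obtain ⟨⟨f, s⟩, hfs⟩ := IsLocalization.surj 𝔭.primeCompl z
    have h1 : a z * algebraMap (MvPolynomial Tb R₀) L s = algebraMap (MvPolynomial Tb R₀) L f := by
      have h0 := congrArg a hfs
      rwa [map_mul, ha, ha] at h0
    have h2 : IsUnit (algebraMap (MvPolynomial Tb R₀) L f) := h1 ▸ hz.mul (hunit s)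
    have h3 : f ∈ 𝔭.primeCompl := fun hf => (IsLocalRing.mem_maximalIdeal _).mp (hin f hf) h2
    have h4 : IsUnit (algebraMap (MvPolynomial Tb R₀) (Localization.AtPrime 𝔭) f) := IsLocalization.map_units (Localization.AtPrime 𝔭) ⟨f, h3⟩
    rw [← hfs] at h4
    exact isUnit_of_mul_isUnit_left h4
  letI algR1L : Algebra (Localization.AtPrime 𝔭) L := a.toAlgebra
  haveI : IsLocalHom (algebraMap (Localization.AtPrime 𝔭) L) := haloc
  haveI : IsScalarTower (MvPolynomial Tb R₀) (Localization.AtPrime 𝔭) L :=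
    IsScalarTower.of_algebraMap_eq' (RingHom.ext fun f => (ha f).symm)
  haveI hdvr1 : IsDiscreteValuationRing (Localization.AtPrime 𝔭) := isDVR_localization_mvPolynomial R₀ Tb 𝔭 h𝔭
  haveI hsh1 : Hensel.IsStrictHenselization (Localization.AtPrime 𝔭) (SHzn.S (Localization.AtPrime 𝔭)) := SHzn.isStrictHenselization (Localization.AtPrime 𝔭)
  have hdvr' : ∃ _ : IsDomain (SHzn.S (Localization.AtPrime 𝔭)), IsDiscreteValuationRing (SHzn.S (Localization.AtPrime 𝔭)) := by
    haveI : IsNoetherianRing (SHzn.S (Localization.AtPrime 𝔭)) :=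
      (HFlat.isNoetherianRing_iff_of_isStrictHenselization (Localization.AtPrime 𝔭) (SHzn.S (Localization.AtPrime 𝔭))).mp inferInstance
    rw [HFlat.dvr_iff_regular_dim_one (SHzn.S (Localization.AtPrime 𝔭)),
      ← HFlat.isRegularLocalRing_iff_of_isStrictHenselization (Localization.AtPrime 𝔭) (SHzn.S (Localization.AtPrime 𝔭)),
      HFlat.ringKrullDim_eq_of_isStrictHenselization (Localization.AtPrime 𝔭) (SHzn.S (Localization.AtPrime 𝔭)), ← HFlat.dvr_iff_regular_dim_one (Localization.AtPrime 𝔭)]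
    exact ⟨inferInstance, hdvr1⟩
  letI algPS : Algebra (MvPolynomial Tb R₀) (SHzn.S (Localization.AtPrime 𝔭)) := ((algebraMap (Localization.AtPrime 𝔭) (SHzn.S (Localization.AtPrime 𝔭))).comp (algebraMap (MvPolynomial Tb R₀) (Localization.AtPrime 𝔭))).toAlgebra
  haveI : IsScalarTower (MvPolynomial Tb R₀) (Localization.AtPrime 𝔭) (SHzn.S (Localization.AtPrime 𝔭)) := IsScalarTower.of_algebraMap_eq' rfl
  obtain ⟨B₁, hB₁def⟩ : ∃ B₁ : Subalgebra (MvPolynomial Tb R₀) L,
      B₁ = Algebra.adjoin (MvPolynomial Tb R₀) (Set.range (algebraMap B L)) := ⟨_, rfl⟩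
  have hmem : ∀ b : B, algebraMap B L b ∈ B₁ := fun b => by
    rw [hB₁def]
    exact Algebra.subset_adjoin ⟨b, rfl⟩
  haveI hloc₁ : IsLocalization.AtPrime L ((maximalIdeal L).comap (algebraMap B₁ L)) :=
    isLocalization_atPrime_subalgebra p B₁ hmem
  haveI hft₁ : Algebra.FiniteType (MvPolynomial Tb R₀) B₁ :=
    finiteType_adjoin_range (R₀ := R₀) (fun r => ⟨MvPolynomial.C r, by
      show MvPolynomial.aeval ℓ (MvPolynomial.C r) = _
      rw [MvPolynomial.aeval_C]
      rfl⟩) B₁ hB₁def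
  obtain ⟨Φ, hΦr, hΦloc, hΦS⟩ := exists_sh_baseChange' (R := (MvPolynomial Tb R₀)) (R' := B₁) (A := (Localization.AtPrime 𝔭))
    (Ash := (SHzn.S (Localization.AtPrime 𝔭))) (L := L) (T := T) ((maximalIdeal L).comap (algebraMap B₁ L)) 𝔭.primeCompl
    (algebraMap (Localization.AtPrime 𝔭) L) (RingHom.ext fun f => ha f)
  have hΦA : ∀ r₁ : (Localization.AtPrime 𝔭), Φ ((algebraMap (Localization.AtPrime 𝔭) (SHzn.S (Localization.AtPrime 𝔭)) r₁) ⊗ₜ[(MvPolynomial Tb R₀)] (1 : B₁)) =
      algebraMap L T (algebraMap (Localization.AtPrime 𝔭) L r₁) := by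
    have key : (Φ.comp (Algebra.TensorProduct.includeLeftRingHom :
        (SHzn.S (Localization.AtPrime 𝔭)) →+* (SHzn.S (Localization.AtPrime 𝔭)) ⊗[(MvPolynomial Tb R₀)] B₁)).comp (algebraMap (Localization.AtPrime 𝔭) (SHzn.S (Localization.AtPrime 𝔭))) =
        (algebraMap L T).comp (algebraMap (Localization.AtPrime 𝔭) L) := by
      refine IsLocalization.ringHom_ext 𝔭.primeCompl ?_
      refine RingHom.ext fun f => ?_
      show Φ ((algebraMap (MvPolynomial Tb R₀) (SHzn.S (Localization.AtPrime 𝔭)) f) ⊗ₜ[(MvPolynomial Tb R₀)] (1 : B₁)) =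
        algebraMap L T (algebraMap (Localization.AtPrime 𝔭) L (algebraMap (MvPolynomial Tb R₀) (Localization.AtPrime 𝔭) f))
      have e1 : (algebraMap (MvPolynomial Tb R₀) (SHzn.S (Localization.AtPrime 𝔭)) f) ⊗ₜ[(MvPolynomial Tb R₀)] (1 : B₁) =
          (1 : (SHzn.S (Localization.AtPrime 𝔭))) ⊗ₜ[(MvPolynomial Tb R₀)] (algebraMap (MvPolynomial Tb R₀) B₁ f) := by
        rw [Algebra.algebraMap_eq_smul_one, Algebra.algebraMap_eq_smul_one (A := B₁),
          TensorProduct.smul_tmul]
      rw [e1, hΦr, ← IsScalarTower.algebraMap_apply (MvPolynomial Tb R₀) B₁ L,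
        ← IsScalarTower.algebraMap_apply (MvPolynomial Tb R₀) (Localization.AtPrime 𝔭) L]
    exact fun r₁ => RingHom.congr_fun key r₁
  -- integrality of the residue field of `L` over `R₁`
  let θ : (Localization.AtPrime 𝔭) →+* ResidueField L := (residue L).comp a
  have hθinv : ∀ u, θ u ≠ 0 → ∃ v, θ v = (θ u)⁻¹ := by
    intro u hu
    have huu : IsUnit u := by
      apply haloc.map_nonunit
      apply IsLocalRing.notMem_maximalIdeal.mp
      rw [← residue_eq_zero_iff]
      exact hu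
    obtain ⟨w, rfl⟩ := huu
    refine ⟨((w⁻¹ : (Localization.AtPrime 𝔭)ˣ) : (Localization.AtPrime 𝔭)), ?_⟩
    have : θ (w : (Localization.AtPrime 𝔭)) * θ ((w⁻¹ : (Localization.AtPrime 𝔭)ˣ) : (Localization.AtPrime 𝔭)) = 1 := by
      rw [← map_mul, Units.mul_inv, map_one]
    exact eq_inv_of_mul_eq_one_right this
  have hθX : ∀ t : Tb, θ (algebraMap (MvPolynomial Tb R₀) (Localization.AtPrime 𝔭) (MvPolynomial.X t)) = t := by
    intro t
    show residue L (a (algebraMap (MvPolynomial Tb R₀) (Localization.AtPrime 𝔭) (MvPolynomial.X t))) = t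
    rw [ha]
    show residue L (MvPolynomial.aeval ℓ (MvPolynomial.X t)) = t
    rw [MvPolynomial.aeval_X]
    exact hℓ t
  have hθC : ∀ r : R₀, θ (algebraMap (MvPolynomial Tb R₀) (Localization.AtPrime 𝔭) (MvPolynomial.C r)) =
      algebraMap (ResidueField R₀) (ResidueField L) (residue R₀ r) := by
    intro r
    show residue L (a (algebraMap (MvPolynomial Tb R₀) (Localization.AtPrime 𝔭) (MvPolynomial.C r))) = _
    rw [ha]
    show residue L (MvPolynomial.aeval ℓ (MvPolynomial.C r)) = _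
    rw [MvPolynomial.aeval_C]
    rfl
  have hrange : ∀ y ∈ Algebra.adjoin (ResidueField R₀)
      (Set.range ((↑) : Tb → ResidueField L)), y ∈ Set.range θ := by
    intro y hy
    induction hy using Algebra.adjoin_induction with
    | mem x hx =>
      obtain ⟨t, rfl⟩ := hx
      exact ⟨_, hθX t⟩
    | algebraMap c =>
      obtain ⟨r, rfl⟩ := residue_surjective c
      exact ⟨_, hθC r⟩
    | add x y _ _ hx hy =>
      obtain ⟨x', rfl⟩ := hx
      obtain ⟨y', rfl⟩ := hy
      exact ⟨x' + y', map_add _ _ _⟩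
    | mul x y _ _ hx hy =>
      obtain ⟨x', rfl⟩ := hx
      obtain ⟨y', rfl⟩ := hy
      exact ⟨x' * y', map_mul _ _ _⟩
  have hintL : ∀ y : ResidueField L, θ.IsIntegralElem y := by
    intro y
    have := hTb.isAlgebraic
    obtain ⟨p₀, hp0, hpa⟩ := Algebra.IsAlgebraic.isAlgebraic
      (R := Algebra.adjoin (ResidueField R₀) (Set.range ((↑) : Tb → ResidueField L))) y
    refine Groth.Agent.Helper14.ResExt.isIntegralElem_of_lifts θ hθinv y
      (p₀.map (algebraMap (Algebra.adjoin (ResidueField R₀)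
        (Set.range ((↑) : Tb → ResidueField L))) (ResidueField L))) ?_ ?_ ?_
    · intro h0
      apply hp0
      exact (Polynomial.map_eq_zero_iff (FaithfulSMul.algebraMap_injective _ _)).mp h0
    · rw [Polynomial.lifts_iff_coeff_lifts]
      intro n
      rw [Polynomial.coeff_map]
      exact hrange _ (p₀.coeff n).2
    · rw [Polynomial.eval_map]
      exact hpa
  letI algR1T : Algebra (Localization.AtPrime 𝔭) T := ((algebraMap L T).comp (algebraMap (Localization.AtPrime 𝔭) L)).toAlgebra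
  haveI : IsScalarTower (Localization.AtPrime 𝔭) L T := IsScalarTower.of_algebraMap_eq' rfl
  haveI : IsLocalHom (algebraMap (Localization.AtPrime 𝔭) T) := by
    show IsLocalHom ((algebraMap L T).comp (algebraMap (Localization.AtPrime 𝔭) L))
    exact RingHom.isLocalHom_comp _ _
  haveI : IsScalarTower (ResidueField (Localization.AtPrime 𝔭)) (ResidueField L) (ResidueField T) :=
    IsScalarTower.of_algebraMap_eq' (RingHom.ext fun r => by
      obtain ⟨r, rfl⟩ := residue_surjective r
      rfl)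
  have eθ : (algebraMap (ResidueField (Localization.AtPrime 𝔭)) (ResidueField L)).comp (residue (Localization.AtPrime 𝔭)) = θ :=
    RingHom.ext fun r => rfl
  haveI : Algebra.IsIntegral (ResidueField (Localization.AtPrime 𝔭)) (ResidueField L) := ⟨fun y => by
    obtain ⟨g, hgm, hg⟩ := hintL y
    refine ⟨g.map (residue (Localization.AtPrime 𝔭)), hgm.map _, ?_⟩
    rw [Polynomial.eval₂_map, eθ]
    exact hg⟩
  haveI : Algebra.IsAlgebraic (ResidueField (Localization.AtPrime 𝔭)) (ResidueField L) :=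
    Algebra.IsIntegral.isAlgebraic
  haveI : Algebra.IsAlgebraic (ResidueField L) (ResidueField T) := by
    haveI := (Hensel.IsStrictHenselization.isSepClosure (R := L) (S := T)).separable
    exact Algebra.IsSeparable.isAlgebraic _ _
  haveI halgT : Algebra.IsAlgebraic (ResidueField (Localization.AtPrime 𝔭)) (ResidueField T) :=
    Algebra.IsAlgebraic.trans (ResidueField (Localization.AtPrime 𝔭)) (ResidueField L) (ResidueField T)
  -- the prime `q''` and its maximality
  let q'' : Ideal ((SHzn.S (Localization.AtPrime 𝔭)) ⊗[(MvPolynomial Tb R₀)] B₁) := (maximalIdeal T).comap Φ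
  haveI hq''prime : q''.IsPrime := Ideal.comap_isPrime _ _
  let γ : (SHzn.S (Localization.AtPrime 𝔭)) ⊗[(MvPolynomial Tb R₀)] B₁ →+* ResidueField T := (residue T).comp Φ
  let D : Subalgebra (ResidueField (Localization.AtPrime 𝔭)) (ResidueField T) :=
    { γ.range.toSubsemiring with
      algebraMap_mem' := fun r => by
        obtain ⟨r₁, rfl⟩ := residue_surjective r
        exact ⟨(algebraMap (Localization.AtPrime 𝔭) (SHzn.S (Localization.AtPrime 𝔭)) r₁) ⊗ₜ[(MvPolynomial Tb R₀)] (1 : B₁), by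
          show residue T (Φ _) = _
          rw [hΦA]
          rfl⟩ }
  have hDmem : ∀ y, y ∈ D ↔ ∃ c, γ c = y := fun y => Iff.rfl
  have hq''max : q''.IsMaximal := by
    rw [Ideal.isMaximal_iff]
    refine ⟨fun h1 => ?_, fun J x hJ hx hxJ => ?_⟩
    · have h2 : Φ 1 ∈ maximalIdeal T := h1
      rw [map_one] at h2
      exact (IsLocalRing.mem_maximalIdeal _).mp h2 isUnit_one
    · have hγx : γ x ≠ 0 := fun h0 => hx ((residue_eq_zero_iff _).mp h0)
      have hxD : γ x ∈ D := (hDmem _).mpr ⟨x, rfl⟩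
      have hinv : (γ x)⁻¹ ∈ D :=
        Subalgebra.inv_mem_of_algebraic D (x := ⟨γ x, hxD⟩) (Algebra.IsAlgebraic.isAlgebraic _)
      obtain ⟨d, hd⟩ := (hDmem _).mp hinv
      have h1 : x * d - 1 ∈ q'' := by
        show Φ (x * d - 1) ∈ maximalIdeal T
        rw [← residue_eq_zero_iff]
        show γ (x * d - 1) = 0
        rw [map_sub, map_mul, map_one, hd, mul_inv_cancel₀ hγx, sub_self]
      have h2 : x * d ∈ J := J.mul_mem_right d hxJ
      have h3 := J.sub_mem h2 (hJ h1)
      rwa [sub_sub_cancel] at h3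
  have hcomap : q''.comap (algebraMap (SHzn.S (Localization.AtPrime 𝔭)) ((SHzn.S (Localization.AtPrime 𝔭)) ⊗[(MvPolynomial Tb R₀)] B₁)) = maximalIdeal (SHzn.S (Localization.AtPrime 𝔭)) := by
    ext z
    constructor
    · intro hz
      have h1 : Φ (algebraMap (SHzn.S (Localization.AtPrime 𝔭)) ((SHzn.S (Localization.AtPrime 𝔭)) ⊗[(MvPolynomial Tb R₀)] B₁) z) ∈ maximalIdeal T := hz
      rw [IsLocalRing.mem_maximalIdeal, mem_nonunits_iff] at h1 ⊢
      intro hu
      exact h1 ((hu.map (algebraMap (SHzn.S (Localization.AtPrime 𝔭)) ((SHzn.S (Localization.AtPrime 𝔭)) ⊗[(MvPolynomial Tb R₀)] B₁))).map Φ)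
    · intro hz
      show Φ (algebraMap (SHzn.S (Localization.AtPrime 𝔭)) ((SHzn.S (Localization.AtPrime 𝔭)) ⊗[(MvPolynomial Tb R₀)] B₁) z) ∈ maximalIdeal T
      rw [IsLocalRing.mem_maximalIdeal, mem_nonunits_iff] at hz ⊢
      intro hu
      exact hz (hΦloc.map_nonunit z hu)
  obtain ⟨hdom', hdvr''⟩ := hdvr'
  refine ⟨(SHzn.S (Localization.AtPrime 𝔭)), inferInstance, hdom', hdvr'', inferInstance,
    (Hensel.IsStrictHenselization.isSepClosure (R := (Localization.AtPrime 𝔭)) (S := (SHzn.S (Localization.AtPrime 𝔭)))).sep_closed,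
    (SHzn.S (Localization.AtPrime 𝔭)) ⊗[(MvPolynomial Tb R₀)] B₁, inferInstance, inferInstance, inferInstance, q'', hq''max, hcomap,
    fun S _ _ _ _ => ?_⟩
  obtain ⟨alg, hloc', -, hSH⟩ := hΦS S
  exact ⟨alg, hloc', hSH⟩

end Groth.Agent.Helper4.SHClosedPt
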