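import Mathlib
import Groth.Agent.Lib.Helper4.CurveExt2

/-!
# Extending rational sections of a closed morphism over points of codimension one (helper4)
-/

set_option autoImplicit false
universe u
open AlgebraicGeometry CategoryTheory CategoryTheory.Limits

namespace Groth.Agent.Helper4.SecExt

/-- a local ring `C` mapping to the fraction field of a valuation ring `O` and dominating `O`
maps into `O` -/
theorem exists_ringHom_of_dominates {O K C : Type u} [CommRing O] [IsDomain O] [ValuationRing O]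
    [Field K] [Algebra O K] [IsFractionRing O K] [CommRing C] [IsLocalRing C]
    (σ : O →+* C) [IsLocalHom σ] (β : C →+* K) (h : β.comp σ = algebraMap O K) :
    ∃ ψ : C →+* O, (algebraMap O K).comp ψ = β := by
  have hmem : ∀ c : C, β c ∈ (algebraMap O K).range := by
    intro c
    by_contra hc
    rcases ValuationRing.isInteger_or_isInteger O (β c) with ⟨t, ht⟩ | ⟨t, ht⟩
    · exact hc ⟨t, ht⟩
    · have hbc : β c ≠ 0 := fun h0 => hc ⟨0, by simp [h0]⟩
      have htu : ¬ IsUnit t := by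
        rintro ⟨u, rfl⟩
        apply hc
        refine ⟨((u⁻¹ : Oˣ) : O), ?_⟩
        have h1 : algebraMap O K ((u⁻¹ : Oˣ) : O) * algebraMap O K (u : O) = 1 := by
          rw [← map_mul]; simp
        rw [ht] at h1
        have := eq_inv_of_mul_eq_one_left h1
        rw [this, inv_inv]
      have hσt : ¬ IsUnit (σ t) := fun hu => htu (IsLocalHom.map_nonunit t hu)
      have hu : ¬ IsUnit (c * σ t) := fun h => hσt (isUnit_of_mul_isUnit_right h)
      have h1 : β (c * σ t) = 1 := by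
        rw [map_mul, ← RingHom.comp_apply, h, ht]; exact mul_inv_cancel₀ hbc
      have hunit : IsUnit (1 - c * σ t) := IsLocalRing.isUnit_one_sub_self_of_mem_nonunits _ hu
      have h0 : β (1 - c * σ t) = 0 := by rw [map_sub, map_one, h1, sub_self]
      exact (hunit.map β).ne_zero h0
  have hinj : Function.Injective (algebraMap O K) := IsFractionRing.injective O K
  let e : O ≃+* (algebraMap O K).range := RingEquiv.ofBijective (algebraMap O K).rangeRestrict
    ⟨fun a b hab => hinj (congrArg Subtype.val hab), (algebraMap O K).rangeRestrict_surjective⟩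
  refine ⟨(e.symm : _ →+* O).comp (β.codRestrict _ hmem), ?_⟩
  ext c
  have : ((e (e.symm ⟨β c, hmem c⟩) : (algebraMap O K).range) : K) = β c := by
    rw [e.apply_symm_apply]
  exact this

set_option backward.isDefEq.respectTransparency false in
/-- existence part of the valuative criterion for a closed map, when the valuation ring is
a local ring of the base -/
theorem exists_lift_of_isClosedMap {X Y : Scheme.{u}} (f : X ⟶ Y) (hcl : IsClosedMap f.base)
    (y : Y) (R K : Type u) [CommRing R] [IsDomain R] [ValuationRing R] [Field K] [Algebra R K]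
    [IsFractionRing R K] (θ : Y.presheaf.stalk y ⟶ CommRingCat.of R) [IsIso θ]
    (i₁ : Spec (CommRingCat.of K) ⟶ X)
    (h : i₁ ≫ f = Spec.map (CommRingCat.ofHom (algebraMap R K)) ≫ Spec.map θ ≫
      Y.fromSpecStalk y) :
    ∃ ℓ : Spec (CommRingCat.of R) ⟶ X,
      Spec.map (CommRingCat.ofHom (algebraMap R K)) ≫ ℓ = i₁ ∧
        ℓ ≫ f = Spec.map θ ≫ Y.fromSpecStalk y := by
  let pt : Spec (CommRingCat.of K) := IsLocalRing.closedPoint K
  let ξ : X := i₁ pt
  have hfξ : f ξ ⤳ y := by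
    have h1 : f ξ ∈ Set.range (Y.fromSpecStalk y) := by
      refine ⟨(Spec.map (CommRingCat.ofHom (algebraMap R K)) ≫ Spec.map θ) pt, ?_⟩
      rw [← Scheme.Hom.comp_apply, Category.assoc, ← h, Scheme.Hom.comp_apply]
    rw [Scheme.range_fromSpecStalk] at h1
    exact h1
  have hy : y ∈ f.base '' closure {ξ} :=
    hfξ.mem_closed (hcl _ isClosed_closure) ⟨ξ, subset_closure rfl, rfl⟩
  obtain ⟨z, hz, rfl⟩ := hy
  have hξz : ξ ⤳ z := specializes_iff_mem_closure.mpr hz
  let α : X.presheaf.stalk ξ ⟶ CommRingCat.of K := Scheme.stalkClosedPointTo i₁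
  have hα : Spec.map α ≫ X.fromSpecStalk ξ = i₁ := Scheme.Spec_stalkClosedPointTo_fromSpecStalk i₁
  let β : X.presheaf.stalk z ⟶ CommRingCat.of K := X.presheaf.stalkSpecializes hξz ≫ α
  let σ : CommRingCat.of R ⟶ X.presheaf.stalk z := inv θ ≫ f.stalkMap z
  have hkey : f.stalkMap z ≫ β = θ ≫ CommRingCat.ofHom (algebraMap R K) := by
    apply Spec.map_injective
    rw [← cancel_mono (Y.fromSpecStalk (f z))]
    simp only [β, Spec.map_comp, Category.assoc]
    rw [Scheme.SpecMap_stalkMap_fromSpecStalk, Scheme.SpecMap_stalkSpecializes_fromSpecStalk_assoc,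
      reassoc_of% hα, h]
  have hβσ : σ ≫ β = CommRingCat.ofHom (algebraMap R K) := by
    simp only [σ, Category.assoc]
    rw [hkey, IsIso.inv_hom_id_assoc]
  have hl1 : IsLocalHom (inv θ).hom := isLocalHom_of_isIso _
  have hl2 : IsLocalHom (f.stalkMap z).hom := inferInstance
  have hl3 : IsLocalHom σ.hom := CommRingCat.isLocalHom_comp _ _
  obtain ⟨ψ, hψ⟩ := exists_ringHom_of_dominates (O := R) (K := K) σ.hom β.hom
    (congrArg CommRingCat.Hom.hom hβσ)
  have hψ' : CommRingCat.ofHom ψ ≫ CommRingCat.ofHom (algebraMap R K) = β :=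
    CommRingCat.hom_ext hψ
  refine ⟨Spec.map (CommRingCat.ofHom ψ) ≫ X.fromSpecStalk z, ?_, ?_⟩
  · rw [← Category.assoc, ← Spec.map_comp, hψ']
    simp only [β, Spec.map_comp, Category.assoc]
    rw [Scheme.SpecMap_stalkSpecializes_fromSpecStalk, hα]
  · rw [Category.assoc, ← Scheme.SpecMap_stalkMap_fromSpecStalk, ← Category.assoc,
      ← Spec.map_comp]
    congr 2
    have hmono : Function.Injective (algebraMap R K) := IsFractionRing.injective R K
    apply CommRingCat.hom_ext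
    apply RingHom.ext
    intro a
    apply hmono
    have h1 : (f.stalkMap z ≫ β).hom a = (θ ≫ CommRingCat.ofHom (algebraMap R K)).hom a := by
      rw [hkey]
    have h2 : (CommRingCat.ofHom ψ ≫ CommRingCat.ofHom (algebraMap R K)).hom
        ((f.stalkMap z).hom a) = β.hom ((f.stalkMap z).hom a) := by
      rw [hψ']
    simp only [CommRingCat.hom_comp, RingHom.comp_apply, CommRingCat.hom_ofHom] at h1 h2 ⊢
    rw [h2]
    exact h1

open Groth.Agent.Helper4.CurveExt

set_option backward.isDefEq.respectTransparency false in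
/-- local extension on an integral scheme at a point whose local ring is a valuation ring,
given the relevant lift in the valuative criterion -/
theorem exists_extension_of_valuationRing' {W Y S : Scheme.{u}} [IsIntegral W] (pW : W ⟶ S)
    (pY : Y ⟶ S) [LocallyOfFiniteType pY] [IsSeparated pY]
    (U : W.Opens) (hU : (U : Set W).Nonempty) (g : (U : Scheme.{u}) ⟶ Y)
    (hg : g ≫ pY = U.ι ≫ pW) (x : W)
    (hlift : ∀ i₁ : Spec (CommRingCat.of W.functionField) ⟶ Y,
      i₁ ≫ pY = Spec.map (CommRingCat.ofHom (algebraMap (W.presheaf.stalk x) W.functionField)) ≫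
        W.fromSpecStalk x ≫ pW →
      ∃ ℓ : Spec (W.presheaf.stalk x) ⟶ Y,
        Spec.map (CommRingCat.ofHom (algebraMap (W.presheaf.stalk x) W.functionField)) ≫ ℓ = i₁ ∧
          ℓ ≫ pY = W.fromSpecStalk x ≫ pW) :
    ∃ (V : W.Opens) (v : (V : Scheme.{u}) ⟶ Y), x ∈ V ∧ v ≫ pY = V.ι ≫ pW ∧
      W.homOfLE (inf_le_right : U ⊓ V ≤ V) ≫ v = W.homOfLE (inf_le_left : U ⊓ V ≤ U) ≫ g := by
  let ξ := genericPoint W
  have hξx : ξ ⤳ x := (genericPoint_spec W).specializes trivial
  have hξU : ξ ∈ U :=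
    ((genericPoint_spec W).mem_open_set_iff U.isOpen).mpr (by simpa using hU)
  have hrange : ∀ (T : W.Opens), ξ ∈ T → Set.range (W.fromSpecStalk ξ) ⊆ Set.range T.ι := by
    intro T hT
    rw [Scheme.Opens.range_ι, Scheme.range_fromSpecStalk]
    intro y hy
    exact hy.mem_open T.isOpen hT
  let j : Spec (W.presheaf.stalk ξ) ⟶ U := IsOpenImmersion.lift U.ι (W.fromSpecStalk ξ)
    (hrange U hξU)
  have hj : j ≫ U.ι = W.fromSpecStalk ξ := IsOpenImmersion.lift_fac _ _ _
  have hAK : Spec.map (CommRingCat.ofHom (algebraMap (W.presheaf.stalk x) W.functionField)) ≫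
      W.fromSpecStalk x = W.fromSpecStalk ξ :=
    Scheme.SpecMap_stalkSpecializes_fromSpecStalk hξx
  obtain ⟨ℓ, hℓ1, hℓ2⟩ := hlift (j ≫ g) (by
    rw [Category.assoc, hg, reassoc_of% hj, ← reassoc_of% hAK])
  obtain ⟨V, hxV, v, hv1, hv2⟩ := spread_out_of_isGermInjective' pW pY ℓ hℓ2
  refine ⟨V, v, hxV, hv2, ?_⟩
  have hξV : ξ ∈ V := hξx.mem_open V.isOpen hxV
  let T : W.Opens := U ⊓ V
  have hξT : ξ ∈ T := ⟨hξU, hξV⟩
  let ι : Spec (W.presheaf.stalk ξ) ⟶ T := IsOpenImmersion.lift T.ι (W.fromSpecStalk ξ)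
    (hrange T hξT)
  have hι : ι ≫ T.ι = W.fromSpecStalk ξ := IsOpenImmersion.lift_fac _ _ _
  have hdom : IsDominant (ι ≫ T.ι) := by
    rw [hι]
    refine ⟨?_⟩
    rw [DenseRange, Scheme.range_fromSpecStalk]
    refine Dense.mono ?_ (dense_iff_closure_eq.mpr (genericPoint_spec W))
    intro y hy
    rw [Set.mem_singleton_iff] at hy
    subst hy
    exact specializes_rfl
  haveI : IsDominant ι := IsDominant.of_comp_of_isOpenImmersion ι T.ι
  refine ext_of_isDominant_of_isSeparated pY ?_ ι ?_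
  · rw [Category.assoc, Category.assoc, hv2, hg]
    simp
  · have e1 : ι ≫ W.homOfLE (inf_le_right : U ⊓ V ≤ V) =
        Spec.map (CommRingCat.ofHom (algebraMap (W.presheaf.stalk x) W.functionField)) ≫
          V.fromSpecStalkOfMem x hxV := by
      rw [← cancel_mono V.ι]
      simp only [Category.assoc, Scheme.homOfLE_ι, Scheme.Opens.fromSpecStalkOfMem_ι]
      rw [hAK]
      exact hι
    have e2 : ι ≫ W.homOfLE (inf_le_left : U ⊓ V ≤ U) = j := by
      rw [← cancel_mono U.ι]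
      simp only [Category.assoc, Scheme.homOfLE_ι]
      rw [hj]
      exact hι
    rw [reassoc_of% e1, ← hv1, reassoc_of% e2]
    exact hℓ1

set_option backward.isDefEq.respectTransparency false in
/-- local extension of a rational section of a closed map at a point of a locally Noetherian
scheme whose local ring is a valuation ring -/
theorem exists_local_extension_sec {X Y : Scheme.{u}} [IsLocallyNoetherian X]
    (pY : Y ⟶ X) [LocallyOfFiniteType pY] [IsSeparated pY] (hcl : IsClosedMap pY.base)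
    (U : X.Opens) (hU : Dense (U : Set X)) (g : (U : Scheme.{u}) ⟶ Y)
    (hg : g ≫ pY = U.ι ≫ 𝟙 X) (x : X) [IsDomain (X.presheaf.stalk x)]
    [ValuationRing (X.presheaf.stalk x)] :
    ∃ (V : X.Opens) (v : (V : Scheme.{u}) ⟶ Y), x ∈ V ∧ v ≫ pY = V.ι ≫ 𝟙 X ∧
      ∀ {Q : Scheme.{u}} (a : Q ⟶ U) (b : Q ⟶ V), a ≫ U.ι = b ≫ V.ι → b ≫ v = a ≫ g := by
  obtain ⟨W, hxW, hW, hinj⟩ := X.exists_germ_injective x
  haveI : IsAffine (W : Scheme.{u}) := hW
  haveI : Nonempty (W : Scheme.{u}) := ⟨⟨x, hxW⟩⟩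
  haveI h1 : IsDomain Γ(X, W) := hinj.isDomain (X.presheaf.germ W x hxW).hom
  haveI h2 : IsDomain Γ((W : Scheme.{u}), ⊤) :=
    (W.topIso.commRingCatIsoToRingEquiv).injective.isDomain
      (W.topIso.commRingCatIsoToRingEquiv : Γ((W : Scheme.{u}), ⊤) →+* Γ(X, W))
  haveI : IsIntegral (W : Scheme.{u}) := isIntegral_of_isAffine_of_isDomain _
  let x' : (W : Scheme.{u}) := ⟨x, hxW⟩
  haveI : PreValuationRing (X.presheaf.stalk (W.ι x')) :=
    inferInstanceAs (PreValuationRing (X.presheaf.stalk x))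
  haveI : ValuationRing ((W : Scheme.{u}).presheaf.stalk x') :=
    Function.Surjective.valuationRing (W.ι.stalkMap x').hom
      (ConcreteCategory.bijective_of_isIso (W.ι.stalkMap x')).2
  let UW : (W : Scheme.{u}).Opens := W.ι ⁻¹ᵁ U
  have hUW : (UW : Set (W : Scheme.{u})).Nonempty := by
    obtain ⟨y, hyW, hyU⟩ := hU.inter_open_nonempty W W.isOpen ⟨x, hxW⟩
    exact ⟨⟨y, hyW⟩, hyU⟩
  let gW : (UW : Scheme.{u}) ⟶ Y := (W.ι ∣_ U) ≫ g
  have hgW : gW ≫ pY = UW.ι ≫ W.ι ≫ 𝟙 X := by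
    simp only [gW, Category.assoc, hg]
    rw [morphismRestrict_ι_assoc]
  obtain ⟨V', v', hxV', hv1, hv2⟩ :=
    exists_extension_of_valuationRing' (W.ι ≫ 𝟙 X) pY UW hUW gW hgW x' (by
      intro i₁ hi₁
      have hθ : (W : Scheme.{u}).fromSpecStalk x' ≫ W.ι ≫ 𝟙 X =
          Spec.map (W.ι.stalkMap x') ≫ X.fromSpecStalk (W.ι x') := by
        rw [Category.comp_id, Scheme.SpecMap_stalkMap_fromSpecStalk]
      rw [hθ] at hi₁ ⊢
      exact exists_lift_of_isClosedMap pY hcl (W.ι x') ((W : Scheme.{u}).presheaf.stalk x')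
        (W : Scheme.{u}).functionField (W.ι.stalkMap x') i₁ hi₁)
  let e := W.ι.isoImage V'
  refine ⟨W.ι ''ᵁ V', e.inv ≫ v', ⟨x', hxV', rfl⟩, ?_, ?_⟩
  · rw [Category.assoc, hv1]
    exact W.ι.isoImage_inv_ι_assoc V' (𝟙 X)
  · intro Q a b hab
    let b' : Q ⟶ (V' : Scheme.{u}) := b ≫ e.inv
    have hb' : b' ≫ V'.ι ≫ W.ι = b ≫ (W.ι ''ᵁ V').ι := by
      simp only [b', Category.assoc]
      rw [W.ι.isoImage_inv_ι V']
    let a' : Q ⟶ (UW : Scheme.{u}) := (isPullback_morphismRestrict W.ι U).lift a (b' ≫ V'.ι)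
      (by rw [Category.assoc, hb', hab])
    have ha'1 : a' ≫ (W.ι ∣_ U) = a := IsPullback.lift_fst _ _ _ _
    have ha'2 : a' ≫ UW.ι = b' ≫ V'.ι := IsPullback.lift_snd _ _ _ _
    have := agree_of_homOfLE hv2 a' b' ha'2
    rw [← Category.assoc, ← ha'1, Category.assoc]
    exact this

/-- a rational section of a separated closed morphism of finite type extends over the points of
codimension at most one where the base is regular -/
theorem exists_section_extension_codim_one {X Y : Scheme.{u}} [IsLocallyNoetherian Y] [IsReduced Y]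
    (hreg : ∀ y : Y, ringKrullDim (Y.presheaf.stalk y) ≤ 1 →
      IsRegularLocalRing (Y.presheaf.stalk y))
    (f : X ⟶ Y) [IsSeparated f] [LocallyOfFiniteType f] (hcl : IsClosedMap f.base)
    (V : Y.Opens) (hV : Dense (V : Set Y)) (s : (V : Scheme.{u}) ⟶ X) (hs : s ≫ f = V.ι) :
    ∃ (U : Y.Opens) (hVU : V ≤ U) (s' : (U : Scheme.{u}) ⟶ X), s' ≫ f = U.ι ∧
      Y.homOfLE hVU ≫ s' = s ∧ ∀ y : Y, ringKrullDim (Y.presheaf.stalk y) ≤ 1 → y ∈ U := by
  have hs' : s ≫ f = V.ι ≫ 𝟙 Y := by rw [hs, Category.comp_id]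
  have key : ∀ y : {y : Y // ringKrullDim (Y.presheaf.stalk y) ≤ 1},
      ∃ (V' : Y.Opens) (v : (V' : Scheme.{u}) ⟶ X), y.1 ∈ V' ∧ v ≫ f = V'.ι ≫ 𝟙 Y ∧
        ∀ {Q : Scheme.{u}} (a : Q ⟶ V) (b : Q ⟶ V'), a ≫ V.ι = b ≫ V'.ι → b ≫ v = a ≫ s := by
    rintro ⟨y, hy⟩
    haveI := hreg y hy
    obtain ⟨hdom, hval⟩ := valuationRing_of_regular (Y.presheaf.stalk y) hy
    exact exists_local_extension_sec f hcl V hV s hs' y
  choose V' v hyV' hv1 hv2 using key
  obtain ⟨U, hVU, g', h1, h2, h3⟩ := exists_extension_of_family (𝟙 Y) f V hV s hs' V' v hv1 hv2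
  exact ⟨U, hVU, g', by rw [h1, Category.comp_id], h2, fun y hy => h3 ⟨y, hy⟩ (hyV' ⟨y, hy⟩)⟩

end Groth.Agent.Helper4.SecExt
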