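import Mathlib
import Groth.Agent.Lib.Helper14.RegSmooth
import Groth.Agent.Lib.Helper17.KR2

/-!
# Regular local rings, essentially of finite type over a field, with separable residue field are
formally smooth (helper4)
-/

set_option autoImplicit false

universe u

open IsLocalRing

namespace Groth.Agent.Helper4.SepSmooth

theorem isSmoothAt_of_regular_of_sep (k S : Type u) [Field k] [CommRing S] [Algebra k S]
    [Algebra.FiniteType k S] (q : Ideal S) [q.IsPrime] [Algebra.IsSeparable k q.ResidueField]
    [IsRegularLocalRing (Localization.AtPrime q)] : Algebra.IsSmoothAt k q := by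
  obtain ⟨n, f₀, hf₀⟩ := Algebra.FiniteType.iff_quotient_mvPolynomial''.mp
    (inferInstance : Algebra.FiniteType k S)
  set Q : Ideal (MvPolynomial (Fin n) k) := q.comap f₀.toRingHom with hQ
  haveI : Q.IsPrime := Ideal.comap_isPrime _ _
  set fP : Localization.AtPrime Q →+* Localization.AtPrime q :=
    Localization.localRingHom Q q f₀.toRingHom rfl with hfP
  have hsurj : Function.Surjective fP :=
    RingHom.surjective_localRingHom_of_surjective f₀.toRingHom hf₀ q
  letI : Algebra (Localization.AtPrime Q) (Localization.AtPrime q) := fP.toAlgebra
  haveI : IsScalarTower k (Localization.AtPrime Q) (Localization.AtPrime q) := by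
    refine IsScalarTower.of_algebraMap_eq (fun x => ?_)
    rw [RingHom.algebraMap_toAlgebra, IsScalarTower.algebraMap_apply k (MvPolynomial (Fin n) k)
      (Localization.AtPrime Q), hfP, Localization.localRingHom_to_map,
      IsScalarTower.algebraMap_apply k S (Localization.AtPrime q)]
    simp
  haveI : Algebra.FormallyEtale (MvPolynomial (Fin n) k) (Localization.AtPrime Q) :=
    .of_isLocalization Q.primeCompl
  haveI : Algebra.FormallySmooth k (Localization.AtPrime Q) :=
    .comp _ (MvPolynomial (Fin n) k) _
  haveI : Module.Free (Localization.AtPrime Q) Ω[Localization.AtPrime Q⁄k] :=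
    .of_equiv (KaehlerDifferential.tensorKaehlerEquivOfFormallyEtale k (MvPolynomial (Fin n) k)
      (Localization.AtPrime Q))
  haveI : Module.Finite (Localization.AtPrime Q) Ω[Localization.AtPrime Q⁄k] :=
    Module.Finite.equiv (KaehlerDifferential.tensorKaehlerEquivOfFormallyEtale k
      (MvPolynomial (Fin n) k) (Localization.AtPrime Q))
  haveI : IsRegularLocalRing (Localization.AtPrime Q) :=
    IsRegularRing.isRegularLocalRing_localization Q
  have hκ : Algebra.FormallySmooth k (ResidueField (Localization.AtPrime q)) := by
    haveI : Algebra.FormallyEtale k q.ResidueField := Algebra.FormallyEtale.of_isSeparable k _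
    infer_instance
  exact Groth.Agent.Helper14.RegSmooth.formallySmooth_of_regular k (Localization.AtPrime Q)
    (Localization.AtPrime q) hsurj hκ

/-- regular, essentially of finite type over a field, separable residue field ⟹ formally smooth -/
theorem formallySmooth_of_regular_of_sep (k B : Type u) [Field k] [CommRing B] [Algebra k B]
    [IsLocalRing B] [Algebra.EssFiniteType k B] [IsRegularLocalRing B]
    [Algebra.IsSeparable k (ResidueField B)] : Algebra.FormallySmooth k B := by
  obtain ⟨S, hS, q, hq, hloc⟩ := Groth.Agent.Helper17.KR.exists_finiteType_localization k B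
  let e : Localization.AtPrime q ≃ₐ[S] B := IsLocalization.algEquiv q.primeCompl _ _
  have hreg' : IsRegularLocalRing (Localization.AtPrime q) :=
    IsRegularLocalRing.of_ringEquiv e.symm.toRingEquiv
  haveI : IsLocalHom ((e.restrictScalars k : Localization.AtPrime q ≃ₐ[k] B) :
      Localization.AtPrime q →+* B) := by
    constructor
    intro a ha
    have := ha.map (e.symm.restrictScalars k)
    simpa using this
  let φ : q.ResidueField →ₐ[k] ResidueField B :=
    { toRingHom := IsLocalRing.ResidueField.map
        ((e.restrictScalars k : Localization.AtPrime q ≃ₐ[k] B) : Localization.AtPrime q →+* B)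
      commutes' := fun c => by
        change IsLocalRing.ResidueField.map _ (IsLocalRing.residue _ (algebraMap k _ c)) = _
        rw [IsLocalRing.ResidueField.map_residue]
        change IsLocalRing.residue B ((e.restrictScalars k) (algebraMap k _ c)) = _
        rw [AlgEquiv.commutes]
        rfl }
  haveI : Algebra.IsSeparable k q.ResidueField := Algebra.IsSeparable.of_algHom k _ φ
  have hsm : Algebra.FormallySmooth k (Localization.AtPrime q) :=
    isSmoothAt_of_regular_of_sep k S q
  exact Algebra.FormallySmooth.of_equiv (e.restrictScalars k)

end Groth.Agent.Helper4.SepSmooth
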