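import Mathlib
import Groth.Agent.Lib.Helper2.SymSm5

/-!
# Symmetric algebras: finite type, and localization away from an element of the base
-/

set_option autoImplicit false
universe u

open TensorProduct KaehlerDifferential

namespace Groth.Agent.Helper4.SymLoc

section FT

variable (A M : Type u) [CommRing A] [AddCommGroup M] [Module A M]

theorem adjoin_ι_eq_top (s : Set M) (hs : Submodule.span A s = ⊤) :
    Algebra.adjoin A (SymmetricAlgebra.ι A M '' s) = ⊤ := by
  rw [eq_top_iff]
  rintro x -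
  induction x using SymmetricAlgebra.induction with
  | algebraMap r => exact Subalgebra.algebraMap_mem _ r
  | ι m =>
    have hm : m ∈ Submodule.span A s := hs ▸ Submodule.mem_top
    have hle : Submodule.span A s ≤ Submodule.comap (SymmetricAlgebra.ι A M)
        (Subalgebra.toSubmodule (Algebra.adjoin A (SymmetricAlgebra.ι A M '' s))) := by
      rw [Submodule.span_le]
      intro y hy
      exact Algebra.subset_adjoin ⟨y, hy, rfl⟩
    exact hle hm
  | mul a b ha hb => exact Subalgebra.mul_mem _ ha hb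
  | add a b ha hb => exact Subalgebra.add_mem _ ha hb

theorem finiteType_sym [Module.Finite A M] : Algebra.FiniteType A (SymmetricAlgebra A M) := by
  classical
  obtain ⟨s, hs⟩ := (Module.Finite.fg_top : (⊤ : Submodule A M).FG)
  refine ⟨⟨s.image (SymmetricAlgebra.ι A M), ?_⟩⟩
  rw [Finset.coe_image]
  exact adjoin_ι_eq_top A M s hs

end FT

section Loc

variable {A M : Type u} [CommRing A] [AddCommGroup M] [Module A M] (a : A)
variable (A' : Type u) [CommRing A'] [Algebra A A']

/-- `Sym_{A'}(A' ⊗ M)` as an `A`-algebra -/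
@[reducible] noncomputable def algS' : Algebra A (SymmetricAlgebra A' (A' ⊗[A] M)) :=
  ((algebraMap A' (SymmetricAlgebra A' (A' ⊗[A] M))).comp (algebraMap A A')).toAlgebra

theorem towerS' : @IsScalarTower A A' (SymmetricAlgebra A' (A' ⊗[A] M)) _ Algebra.toSMul
    (algS' (A := A) (M := M) A').toSMul :=
  letI := algS' (A := A) (M := M) A'
  IsScalarTower.of_algebraMap_eq fun _ => rfl

attribute [local instance] algS' towerS'

variable (C' : Type u) [CommRing C'] [Algebra (SymmetricAlgebra A M) C']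
  [Algebra A C'] [IsScalarTower A (SymmetricAlgebra A M) C']
  [Algebra A' C'] [IsScalarTower A A' C']

local notation "C" => SymmetricAlgebra A M
local notation "M'" => A' ⊗[A] M
local notation "S'" => SymmetricAlgebra A' (A' ⊗[A] M)

/-- `M → Sym_A(M)_a` -/
noncomputable def g₀ : M →ₗ[A] C' :=
  ((Algebra.linearMap C C').restrictScalars A).comp (SymmetricAlgebra.ι A M)

theorem g₀_apply (m : M) :
    g₀ (A := A) C' m = algebraMap C C' (SymmetricAlgebra.ι A M m) := rfl

/-- `Sym_{A_a}(A_a ⊗ M) → Sym_A(M)_a` -/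
noncomputable def φ : S' →ₐ[A'] C' :=
  SymmetricAlgebra.lift (LinearMap.liftBaseChange A' (g₀ (A := A) C'))

theorem φ_ι (t : A') (m : M) :
    φ (A := A) A' C' (SymmetricAlgebra.ι A' M' (t ⊗ₜ m)) =
      t • algebraMap C C' (SymmetricAlgebra.ι A M m) := by
  unfold φ
  rw [SymmetricAlgebra.lift_ι_apply, LinearMap.liftBaseChange_tmul, g₀_apply]

/-- `M → Sym_{A_a}(A_a ⊗ M)` -/
noncomputable def h₀ : M →ₗ[A] S' :=
  ((SymmetricAlgebra.ι A' M').restrictScalars A).comp (TensorProduct.mk A A' M 1)

theorem h₀_apply (m : M) : h₀ (A := A) A' m = SymmetricAlgebra.ι A' M' (1 ⊗ₜ m) := rfl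

/-- `Sym_A(M) → Sym_{A_a}(A_a ⊗ M)` -/
noncomputable def ψ₀ : C →ₐ[A] S' := SymmetricAlgebra.lift (h₀ (A := A) A')

theorem isUnit_ψ₀ [IsLocalization.Away a A'] :
    IsUnit ((ψ₀ (A := A) (M := M) A').toRingHom (algebraMap A C a)) := by
  have h1 : (ψ₀ (A := A) (M := M) A').toRingHom (algebraMap A C a) =
      algebraMap A' S' (algebraMap A A' a) := by
    change ψ₀ A' (algebraMap A C a) = _
    rw [AlgHom.commutes]
    rfl
  rw [h1]
  exact (IsLocalization.Away.algebraMap_isUnit a).map _

variable [IsLocalization.Away a A'] [IsLocalization.Away (algebraMap A (SymmetricAlgebra A M) a) C']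

/-- `Sym_A(M)_a → Sym_{A_a}(A_a ⊗ M)` -/
noncomputable def ψ : C' →+* S' :=
  IsLocalization.Away.lift (algebraMap A C a) (g := (ψ₀ (A := A) (M := M) A').toRingHom)
    (isUnit_ψ₀ a A')

theorem ψ_algebraMap (x : C) : ψ a A' C' (algebraMap C C' x) = ψ₀ A' x := by
  unfold ψ
  rw [IsLocalization.Away.lift_eq]
  rfl

theorem ψ_commutes (t : A') : ψ (M := M) a A' C' (algebraMap A' C' t) = algebraMap A' S' t := by
  have h : (ψ (M := M) a A' C').comp (algebraMap A' C') = algebraMap A' S' := by
    apply IsLocalization.ringHom_ext (Submonoid.powers a)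
    ext x
    simp only [RingHom.coe_comp, Function.comp_apply]
    rw [← IsScalarTower.algebraMap_apply A A' C', IsScalarTower.algebraMap_apply A C C',
      ψ_algebraMap, AlgHom.commutes]
    rfl
  exact congrArg (fun f => f t) h

/-- `ψ` as an `A_a`-algebra map -/
noncomputable def ψA : C' →ₐ[A'] S' :=
  { ψ (M := M) a A' C' with commutes' := ψ_commutes a A' C' }

theorem ψA_apply (x : C') : ψA (M := M) a A' C' x = ψ a A' C' x := rfl

theorem φ_comp_ψA : (φ (A := A) (M := M) A' C').comp (ψA a A' C') = AlgHom.id A' C' := by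
  have h2 : ((φ (A := A) (M := M) A' C').restrictScalars A).comp (ψ₀ A') =
      IsScalarTower.toAlgHom A C C' := by
    apply SymmetricAlgebra.algHom_ext
    ext m
    change φ A' C' (ψ₀ A' (SymmetricAlgebra.ι A M m)) = algebraMap C C' (SymmetricAlgebra.ι A M m)
    unfold ψ₀
    rw [SymmetricAlgebra.lift_ι_apply, h₀_apply, φ_ι, one_smul]
  have h3 : ((φ (A := A) (M := M) A' C').toRingHom.comp (ψ a A' C')) = RingHom.id C' := by
    apply IsLocalization.ringHom_ext (Submonoid.powers (algebraMap A C a))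
    ext x
    simp only [RingHom.coe_comp, Function.comp_apply, RingHom.id_apply]
    rw [ψ_algebraMap]
    exact congrArg (fun f => f x) h2
  ext x
  exact congrArg (fun f => f x) h3

theorem ψA_comp_φ : (ψA (M := M) a A' C').comp (φ A' C') = AlgHom.id A' S' := by
  apply SymmetricAlgebra.algHom_ext
  apply TensorProduct.AlgebraTensorModule.ext
  intro t m
  change ψA a A' C' (φ A' C' (SymmetricAlgebra.ι A' M' (t ⊗ₜ m))) =
    SymmetricAlgebra.ι A' M' (t ⊗ₜ m)
  rw [φ_ι, map_smul, ψA_apply, ψ_algebraMap]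
  unfold ψ₀
  rw [SymmetricAlgebra.lift_ι_apply, h₀_apply, ← map_smul, TensorProduct.smul_tmul', smul_eq_mul,
    mul_one]

/-- the isomorphism `Sym_{A_a}(A_a ⊗ M) ≃ Sym_A(M)_a` -/
noncomputable def e : S' ≃ₐ[A'] C' :=
  AlgEquiv.ofAlgHom (φ A' C') (ψA a A' C') (φ_comp_ψA a A' C') (ψA_comp_φ a A' C')

end Loc

end Groth.Agent.Helper4.SymLoc
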