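import Mathlib
import Groth.Agent.Lib.Helper4.SymLoc

/-!
# Elkik's retract: `Sym_A(I/I²)` has free differentials over the smooth locus
-/

set_option autoImplicit false
universe u

open TensorProduct KaehlerDifferential Groth.Agent.Helper2.SymSm

namespace Groth.Agent.Helper4.SymLoc

/-- transport freeness of Kähler differentials along an algebra isomorphism -/
theorem free_kaehler_of_algEquiv {R S T : Type u} [CommRing R] [CommRing S] [CommRing T]
    [Algebra R S] [Algebra R T] (e : S ≃ₐ[R] T) {n : ℕ}
    (h : Nonempty (Ω[S⁄R] ≃ₗ[S] (Fin n → S))) : Module.Free T Ω[T⁄R] := by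
  obtain ⟨eS⟩ := h
  letI : Algebra S T := e.toAlgHom.toRingHom.toAlgebra
  haveI : IsScalarTower R S T := IsScalarTower.of_algebraMap_eq fun r => (e.commutes r).symm
  haveI : Algebra.FormallyEtale S T :=
    Algebra.FormallyEtale.of_equiv (A := S) (AlgEquiv.ofBijective (Algebra.ofId S T) e.bijective)
  let eT : Ω[T⁄R] ≃ₗ[T] (Fin n → T) :=
    (KaehlerDifferential.tensorKaehlerEquivOfFormallyEtale R S T).symm ≪≫ₗ
      (TensorProduct.AlgebraTensorModule.congr (LinearEquiv.refl T T) eS) ≪≫ₗ
      TensorProduct.piScalarRight S T T (Fin n)
  exact Module.Free.of_equiv eT.symm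

section

variable {A M : Type u} [CommRing A] [AddCommGroup M] [Module A M] (a : A)

/-- the structure map `A_a → Sym_A(M)_a` -/
noncomputable def algMapLoc : Localization.Away a →+*
    Localization.Away (algebraMap A (SymmetricAlgebra A M) a) :=
  IsLocalization.Away.lift a
    (g := (algebraMap (SymmetricAlgebra A M)
      (Localization.Away (algebraMap A (SymmetricAlgebra A M) a))).comp
        (algebraMap A (SymmetricAlgebra A M)))
    (IsLocalization.Away.algebraMap_isUnit (algebraMap A (SymmetricAlgebra A M) a))

theorem algMapLoc_algebraMap (x : A) :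
    algMapLoc (M := M) a (algebraMap A (Localization.Away a) x) =
      algebraMap (SymmetricAlgebra A M) _ (algebraMap A (SymmetricAlgebra A M) x) := by
  unfold algMapLoc
  rw [IsLocalization.Away.lift_eq]
  rfl

end

theorem aux {R A : Type u} [CommRing R] [CommRing A] [Algebra R A]
    {M F : Type u} [AddCommGroup M] [Module A M] [Module.Finite A M] [AddCommGroup F] [Module A F]
    {n : ℕ} (bF : Module.Basis (Fin n) A F)
    (cc : M →ₗ[A] F) (π : F →ₗ[A] Ω[A⁄R])
    (hex : Function.Exact cc π) (hπ : Function.Surjective π)
    (hker : ∀ a : A, Algebra.Smooth R (Localization.Away a) →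
      Subsingleton (Localization.Away a ⊗[A] LinearMap.ker cc)) :
    ∃ (C : Type u) (_ : CommRing C) (_ : Algebra A C) (_ : Algebra R C) (_ : IsScalarTower R A C),
      Algebra.FiniteType A C ∧ Nonempty (C →ₐ[A] A) ∧
      ∀ a : A, Algebra.Smooth R (Localization.Away a) →
        Module.Free (Localization.Away (algebraMap A C a))
          Ω[Localization.Away (algebraMap A C a)⁄R] := by
  classical
  letI algRC : Algebra R (SymmetricAlgebra A M) :=
    ((algebraMap A (SymmetricAlgebra A M)).comp (algebraMap R A)).toAlgebra
  haveI towRC : IsScalarTower R A (SymmetricAlgebra A M) :=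
    IsScalarTower.of_algebraMap_eq (fun _ => rfl)
  refine ⟨SymmetricAlgebra A M, inferInstance, inferInstance, algRC, towRC, finiteType_sym A M,
    ⟨SymmetricAlgebra.algebraMapInv⟩, ?_⟩
  intro a hsm
  haveI : Algebra.FormallyEtale A (Localization.Away a) :=
    Algebra.FormallyEtale.of_isLocalization (Submonoid.powers a)
  haveI : Module.Flat A (Localization.Away a) :=
    IsLocalization.flat (Localization.Away a) (Submonoid.powers a)
  haveI : Algebra.FormallySmooth R (Localization.Away a) := hsm.formallySmooth
  let bF' := bF.baseChange (Localization.Away a)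
  let cc' : Localization.Away a ⊗[A] M →ₗ[Localization.Away a] Localization.Away a ⊗[A] F :=
    cc.baseChange (Localization.Away a)
  let eΩ := KaehlerDifferential.tensorKaehlerEquivOfFormallyEtale R A (Localization.Away a)
  let π' : Localization.Away a ⊗[A] F →ₗ[Localization.Away a] Ω[Localization.Away a⁄R] :=
    eΩ.toLinearMap ∘ₗ π.baseChange (Localization.Away a)
  have hex0 : Function.Exact (cc.baseChange (Localization.Away a))
      (π.baseChange (Localization.Away a)) :=
    Module.Flat.lTensor_exact (Localization.Away a) hex
  have hex' : Function.Exact cc' π' := by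
    intro y
    constructor
    · intro h
      have h1 : π.baseChange (Localization.Away a) y = 0 := by
        apply eΩ.injective
        rw [map_zero]
        exact h
      exact (hex0 y).mp h1
    · rintro ⟨x, rfl⟩
      change eΩ (π.baseChange (Localization.Away a) (cc.baseChange (Localization.Away a) x)) = 0
      rw [hex0.apply_apply_eq_zero, map_zero]
  have hπ' : Function.Surjective π' :=
    eΩ.surjective.comp (LinearMap.lTensor_surjective (Localization.Away a) hπ)
  have hinj : Function.Injective cc' := by
    have hexk : Function.Exact ((LinearMap.ker cc).subtype.lTensor (Localization.Away a))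
        (cc.lTensor (Localization.Away a)) :=
      Module.Flat.lTensor_exact (Localization.Away a) (LinearMap.exact_subtype_ker_map cc)
    rw [injective_iff_map_eq_zero]
    intro x hx
    obtain ⟨y, rfl⟩ := (hexk x).mp hx
    haveI := hker a hsm
    rw [Subsingleton.elim y 0, map_zero]
  obtain ⟨s, hs⟩ := Module.projective_lifting_property π' LinearMap.id hπ'
  obtain ⟨-, l', hl'⟩ := (hex'.split_tfae'.out 0 1 rfl rfl).mp ⟨hinj, s, hs⟩
  -- the symmetric algebra over `A_a`
  letI algAS' := algS' (A := A) (M := M) (Localization.Away a)
  haveI towAS' := towerS' (A := A) (M := M) (Localization.Away a)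
  letI algRS' : Algebra R
      (SymmetricAlgebra (Localization.Away a) (Localization.Away a ⊗[A] M)) :=
    ((algebraMap (Localization.Away a)
      (SymmetricAlgebra (Localization.Away a) (Localization.Away a ⊗[A] M))).comp
        (algebraMap R (Localization.Away a))).toAlgebra
  haveI towRS' := IsScalarTower.of_algebraMap_eq (R := R) (S := Localization.Away a)
    (A := SymmetricAlgebra (Localization.Away a) (Localization.Away a ⊗[A] M)) (fun _ => rfl)
  haveI : Module.Projective (Localization.Away a) (Localization.Away a ⊗[A] M) :=
    projective_of_retract bF' cc' l' hl'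
  haveI : Algebra.FormallySmooth (Localization.Away a)
      (SymmetricAlgebra (Localization.Away a) (Localization.Away a ⊗[A] M)) :=
    formallySmooth_sym (Localization.Away a) (Localization.Away a ⊗[A] M)
  have hfree := nonempty_kaehler_equiv_pi (R := R) bF' cc' l' π' hl' hex' hπ'
  -- the isomorphism with the localization of `Sym_A(M)`
  letI algA'C' : Algebra (Localization.Away a)
      (Localization.Away (algebraMap A (SymmetricAlgebra A M) a)) :=
    (algMapLoc (M := M) a).toAlgebra
  haveI : IsScalarTower A (Localization.Away a)
      (Localization.Away (algebraMap A (SymmetricAlgebra A M) a)) :=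
    IsScalarTower.of_algebraMap_eq fun x => by
      rw [RingHom.algebraMap_toAlgebra, algMapLoc_algebraMap,
        ← IsScalarTower.algebraMap_apply A (SymmetricAlgebra A M)]
  haveI : IsScalarTower R (Localization.Away a)
      (Localization.Away (algebraMap A (SymmetricAlgebra A M) a)) :=
    IsScalarTower.of_algebraMap_eq fun r => by
      rw [IsScalarTower.algebraMap_apply R A (Localization.Away a),
        ← IsScalarTower.algebraMap_apply A (Localization.Away a)
          (Localization.Away (algebraMap A (SymmetricAlgebra A M) a)),
        IsScalarTower.algebraMap_apply A (SymmetricAlgebra A M)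
          (Localization.Away (algebraMap A (SymmetricAlgebra A M) a)),
        IsScalarTower.algebraMap_apply R (SymmetricAlgebra A M)
          (Localization.Away (algebraMap A (SymmetricAlgebra A M) a)),
        IsScalarTower.algebraMap_apply R A (SymmetricAlgebra A M)]
  let E := e (M := M) a (Localization.Away a)
    (Localization.Away (algebraMap A (SymmetricAlgebra A M) a))
  exact free_kaehler_of_algEquiv (E.restrictScalars R) hfree

end Groth.Agent.Helper4.SymLoc
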