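import Groth.Agent.Lib.Helper4.DRank

/-!
# The functors `T_p(M) = H_p(P ⊗ M)` : exactness criteria (helper4)
-/

set_option autoImplicit false
universe u v
open CategoryTheory MonoidalCategory CategoryTheory.Limits TensorProduct

namespace Groth.Agent.Helper4.TFunLib

section LocalAlgebra


theorem exists_gi_of_local {A : Type u} [CommRing A] [IsLocalRing A]
    {M' M N : Type u} [AddCommGroup M'] [AddCommGroup M] [AddCommGroup N]
    [Module A M'] [Module A M] [Module A N]
    [Module.Finite A M] [Module.Finite A N] [Module.Free A N]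
    (d' : M' →ₗ[A] M) (d : M →ₗ[A] N) (hdd : d ∘ₗ d' = 0)
    (H : ∀ y : M ⊗[A] (IsLocalRing.ResidueField A), (d.rTensor (IsLocalRing.ResidueField A)) y = 0 →
      ∃ z ∈ LinearMap.ker d, ∃ w : M' ⊗[A] (IsLocalRing.ResidueField A),
        y = z ⊗ₜ 1 + (d'.rTensor (IsLocalRing.ResidueField A)) w) :
    ∃ e : N →ₗ[A] M, d ∘ₗ e ∘ₗ d = d := by
  set k := IsLocalRing.ResidueField A
  set I := LinearMap.range d with hI
  set π : M →ₗ[A] I := d.rangeRestrict with hπ
  have hπs : Function.Surjective π := d.surjective_rangeRestrict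
  have hιπ : I.subtype ∘ₗ π = d := d.subtype_comp_codRestrict _ _
  have hinj : Function.Injective (I.subtype.rTensor k) := by
    rw [injective_iff_map_eq_zero]
    intro t ht
    obtain ⟨y, rfl⟩ := LinearMap.rTensor_surjective k hπs t
    have hy : d.rTensor k y = 0 := by
      rw [← hιπ, LinearMap.rTensor_comp]
      exact ht
    obtain ⟨z, hz, w, rfl⟩ := H y hy
    have h1 : π z = 0 := Subtype.ext (LinearMap.mem_ker.mp hz)
    have h2 : π ∘ₗ d' = 0 := by
      apply LinearMap.ext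
      intro x
      apply Subtype.ext
      exact LinearMap.congr_fun hdd x
    rw [map_add, LinearMap.rTensor_tmul, h1, zero_tmul, zero_add, ← LinearMap.comp_apply,
      ← LinearMap.rTensor_comp, h2, LinearMap.rTensor_zero, LinearMap.zero_apply]
  have : Module.Finite A I := Module.Finite.range d
  have hfree : Module.Free A (N ⧸ I) :=
    Module.free_of_lTensor_residueField_injective I.subtype I.mkQ (Submodule.mkQ_surjective _)
      (LinearMap.exact_subtype_mkQ I) ((LinearMap.lTensor_inj_iff_rTensor_inj _ _).2 hinj)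
  obtain ⟨ρ, hρ⟩ : ∃ ρ : N →ₗ[A] I, ρ ∘ₗ I.subtype = LinearMap.id := by
    have := (Function.Exact.split_tfae (LinearMap.exact_subtype_mkQ I)
      Subtype.val_injective (Submodule.mkQ_surjective _)).out 0 1
    exact this.mp (Module.projective_lifting_property _ _ (Submodule.mkQ_surjective _))
  have : Module.Projective A I := Module.Projective.of_split _ _ hρ
  obtain ⟨σ, hσ⟩ := Module.projective_lifting_property π LinearMap.id hπs
  refine ⟨σ ∘ₗ ρ, ?_⟩
  ext x
  have e1 : d x = I.subtype (π x) := (LinearMap.congr_fun hιπ x).symm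
  have e2 : ∀ t, ρ (I.subtype t) = t := fun t => LinearMap.congr_fun hρ t
  have e3 : ∀ t, π (σ t) = t := fun t => LinearMap.congr_fun hσ t
  simp only [LinearMap.comp_apply]
  rw [e1, e2, ← LinearMap.comp_apply I.subtype π, hιπ] 
  rw [← hιπ, LinearMap.comp_apply, e3]
  rfl


theorem exists_homotopy_of_local {A : Type u} [CommRing A] [IsLocalRing A]
    {M' M N : Type u} [AddCommGroup M'] [AddCommGroup M] [AddCommGroup N]
    [Module A M'] [Module A M] [Module A N]
    [Module.Finite A M] [Module.Free A M] [Module.Finite A N] [Module.Free A N]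
    (d' : M' →ₗ[A] M) (d : M →ₗ[A] N) (hdd : d ∘ₗ d' = 0)
    (Hex : ∀ y : M ⊗[A] (IsLocalRing.ResidueField A),
      (d.rTensor (IsLocalRing.ResidueField A)) y = 0 →
      ∃ w : M' ⊗[A] (IsLocalRing.ResidueField A),
        (d'.rTensor (IsLocalRing.ResidueField A)) w = y) :
    ∃ (s : M →ₗ[A] M') (e : N →ₗ[A] M), d' ∘ₗ s + e ∘ₗ d = LinearMap.id := by
  set k := IsLocalRing.ResidueField A
  obtain ⟨e, he⟩ := exists_gi_of_local d' d hdd (fun y hy => by
    obtain ⟨w, hw⟩ := Hex y hy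
    exact ⟨0, Submodule.zero_mem _, w, by rw [zero_tmul, zero_add, hw]⟩)
  have hed : ∀ x, d (e (d x)) = d x := fun x => LinearMap.congr_fun he x
  set N' : Submodule A M := LinearMap.range d' ⊔ LinearMap.range (e ∘ₗ d) with hN'
  -- Nakayama: `N' = ⊤`
  have hsub : Subsingleton ((M ⧸ N') ⊗[A] k) := by
    have hsurj : Function.Surjective (N'.mkQ.rTensor k) :=
      LinearMap.rTensor_surjective k (Submodule.mkQ_surjective N')
    have h1 : N'.mkQ ∘ₗ d' = 0 := by
      apply LinearMap.ext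
      intro x
      exact (Submodule.Quotient.mk_eq_zero N').2 (Submodule.mem_sup_left ⟨x, rfl⟩)
    have h2 : N'.mkQ ∘ₗ (e ∘ₗ d) = 0 := by
      apply LinearMap.ext
      intro x
      exact (Submodule.Quotient.mk_eq_zero N').2 (Submodule.mem_sup_right ⟨x, rfl⟩)
    have hzero : ∀ y : M ⊗[A] k, (N'.mkQ.rTensor k) y = 0 := by
      intro y
      have hy : (d.rTensor k) (y - ((e ∘ₗ d).rTensor k) y) = 0 := by
        rw [map_sub, ← LinearMap.comp_apply, ← LinearMap.rTensor_comp, he, sub_self]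
      obtain ⟨w, hw⟩ := Hex _ hy
      have : y = (d'.rTensor k) w + ((e ∘ₗ d).rTensor k) y := by rw [hw]; abel
      rw [this, map_add, ← LinearMap.comp_apply, ← LinearMap.rTensor_comp, h1,
        ← LinearMap.comp_apply, ← LinearMap.rTensor_comp, h2]
      simp
    refine ⟨fun a b => ?_⟩
    obtain ⟨a', rfl⟩ := hsurj a
    obtain ⟨b', rfl⟩ := hsurj b
    rw [hzero, hzero]
  have hsub' : Subsingleton (k ⊗[A] (M ⧸ N')) :=
    (TensorProduct.comm A k (M ⧸ N')).toEquiv.subsingleton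
  have hsubq : Subsingleton (M ⧸ N') := IsLocalRing.subsingleton_tensorProduct.mp hsub'
  have htop : N' = ⊤ := Submodule.Quotient.subsingleton_iff.mp hsubq
  -- the idempotent `f = id - e ∘ d` has image in `range d'`
  set f : M →ₗ[A] M := LinearMap.id - e ∘ₗ d with hf
  have hfr : ∀ x, f x ∈ LinearMap.range d' := by
    intro x
    have hx : f x ∈ N' := htop ▸ Submodule.mem_top
    obtain ⟨_, ⟨a, rfl⟩, _, ⟨b, rfl⟩, hab⟩ := Submodule.mem_sup.mp hx
    have hff : f (f x) = f x := by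
      simp only [hf, LinearMap.sub_apply, LinearMap.id_apply, LinearMap.comp_apply, map_sub, hed]
      abel
    have hfd' : f (d' a) = d' a := by
      have : d (d' a) = 0 := LinearMap.congr_fun hdd a
      simp [hf, this]
    have hfed : f ((e ∘ₗ d) b) = 0 := by
      simp [hf, hed]
    refine ⟨a, ?_⟩
    rw [← hff, ← hab, map_add, hfd', hfed, add_zero]
  obtain ⟨s, hs⟩ := Module.projective_lifting_property d'.rangeRestrict
    (f.codRestrict (LinearMap.range d') hfr) d'.surjective_rangeRestrict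
  refine ⟨s, e, ?_⟩
  apply LinearMap.ext
  intro x
  have := congrArg Subtype.val (LinearMap.congr_fun hs x)
  simp only [LinearMap.comp_apply, LinearMap.codRestrict_apply] at this
  change d' (s x) = f x at this
  simp [this, hf]


end LocalAlgebra

section Abstract

/-- If both maps of a short complex have generalized inverses, the homology is a retract of the
middle term. -/
theorem homology_retract {C : Type u} [Category.{v} C] [Abelian C] (S : ShortComplex C)
    (e' : S.X₂ ⟶ S.X₁) (e : S.X₃ ⟶ S.X₂) (he' : S.f ≫ e' ≫ S.f = S.f)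
    (he : S.g ≫ e ≫ S.g = S.g) :
    ∃ (ι : S.homology ⟶ S.X₂) (ρ : S.X₂ ⟶ S.homology), ι ≫ ρ = 𝟙 _ := by
  have hu : (𝟙 S.X₂ - S.g ≫ e) ≫ S.g = 0 := by
    rw [Preadditive.sub_comp, Category.id_comp, Category.assoc, he, sub_self]
  have ht : S.toCycles ≫ (S.iCycles ≫ (𝟙 S.X₂ - e' ≫ S.f)) = 0 := by
    rw [← Category.assoc, S.toCycles_i, Preadditive.comp_sub, Category.comp_id, he', sub_self]
  refine ⟨S.descHomology _ ht, S.liftCycles _ hu ≫ S.homologyπ, ?_⟩
  rw [← cancel_epi S.homologyπ, ← Category.assoc, ← Category.assoc, S.π_descHomology,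
    Category.comp_id]
  have key : (S.iCycles ≫ (𝟙 S.X₂ - e' ≫ S.f)) ≫ S.liftCycles _ hu =
      𝟙 S.cycles - (S.iCycles ≫ e') ≫ S.toCycles := by
    rw [← cancel_mono S.iCycles]
    simp only [Category.assoc, S.liftCycles_i, Preadditive.sub_comp, Preadditive.comp_sub,
      Category.id_comp, Category.comp_id, S.toCycles_i, S.iCycles_g_assoc, zero_comp,
      S.zero_assoc, sub_zero]
  rw [key, Preadditive.sub_comp, Category.id_comp, Category.assoc, S.toCycles_comp_homologyπ,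
    comp_zero, sub_zero]


/-- If `g` has a generalized inverse, the middle term and the homology are projective, then `f` has a
generalized inverse. -/
theorem exists_gi_f_of_projective_homology {C : Type u} [Category.{v} C] [Abelian C]
    (S : ShortComplex C) [Projective S.X₂] [Projective S.homology]
    (e : S.X₃ ⟶ S.X₂) (he : S.g ≫ e ≫ S.g = S.g) :
    ∃ e' : S.X₂ ⟶ S.X₁, S.f ≫ e' ≫ S.f = S.f := by
  have hu : (𝟙 S.X₂ - S.g ≫ e) ≫ S.g = 0 := by
    rw [Preadditive.sub_comp, Category.id_comp, Category.assoc, he, sub_self]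
  let σ : S.homology ⟶ S.cycles := Projective.factorThru (𝟙 _) S.homologyπ
  have hσ : σ ≫ S.homologyπ = 𝟙 _ := Projective.factorThru_comp _ _
  let T : ShortComplex C := ShortComplex.mk S.toCycles S.homologyπ S.toCycles_comp_homologyπ
  have hT : T.Exact := ShortComplex.exact_of_g_is_cokernel T S.homologyIsCokernel
  have hw : (S.liftCycles _ hu ≫ (𝟙 S.cycles - S.homologyπ ≫ σ)) ≫ T.g = 0 := by
    change (S.liftCycles _ hu ≫ (𝟙 S.cycles - S.homologyπ ≫ σ)) ≫ S.homologyπ = 0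
    rw [Category.assoc, Preadditive.sub_comp, Category.id_comp, Category.assoc, hσ,
      Category.comp_id, sub_self, comp_zero]
  refine ⟨hT.liftFromProjective _ hw, ?_⟩
  have h1 : hT.liftFromProjective _ hw ≫ S.toCycles =
      S.liftCycles _ hu ≫ (𝟙 S.cycles - S.homologyπ ≫ σ) := hT.liftFromProjective_comp _ hw
  have h2 : S.f ≫ S.liftCycles _ hu = S.toCycles := by
    rw [← cancel_mono S.iCycles, Category.assoc, S.liftCycles_i, S.toCycles_i,
      Preadditive.comp_sub, Category.comp_id, S.zero_assoc, zero_comp, sub_zero]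
  calc S.f ≫ hT.liftFromProjective _ hw ≫ S.f
      = S.f ≫ (hT.liftFromProjective _ hw ≫ S.toCycles) ≫ S.iCycles := by
        rw [Category.assoc, S.toCycles_i]
    _ = (S.f ≫ S.liftCycles _ hu) ≫ (𝟙 S.cycles - S.homologyπ ≫ σ) ≫ S.iCycles := by
        rw [h1]; simp only [Category.assoc]
    _ = S.f := by
        rw [h2, Preadditive.sub_comp, Category.id_comp, Preadditive.comp_sub, S.toCycles_i,
          Category.assoc, S.toCycles_comp_homologyπ_assoc, zero_comp, sub_zero]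


end Abstract

section Complexes

variable {A : Type u} [CommRing A] {ι : Type} {c : ComplexShape ι}

theorem epi_whiskerLeft (L : ModuleCat.{u} A) {M N : ModuleCat.{u} A} (g : M ⟶ N) [Epi g] :
    Epi (L ◁ g) :=
  (ModuleCat.epi_iff_surjective _).2
    (LinearMap.lTensor_surjective _ ((ModuleCat.epi_iff_surjective g).1 inferInstance))

theorem mono_whiskerLeft (L : ModuleCat.{u} A) [Module.Flat A L] {M N : ModuleCat.{u} A}
    (g : M ⟶ N) [Mono g] : Mono (L ◁ g) :=
  (ModuleCat.mono_iff_injective _).2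
    (Module.Flat.lTensor_preserves_injective_linearMap _ ((ModuleCat.mono_iff_injective g).1 inferInstance))

theorem exact_whiskerLeft (L : ModuleCat.{u} A) {M' M M'' : ModuleCat.{u} A} (j : M' ⟶ M)
    (r : M ⟶ M'') (w : j ≫ r = 0) (hex : (ShortComplex.mk j r w).Exact) [Epi r] :
    (ShortComplex.mk (L ◁ j) (L ◁ r) (by rw [← MonoidalCategory.whiskerLeft_comp, w,
      MonoidalPreadditive.whiskerLeft_zero])).Exact := by
  rw [ShortComplex.ShortExact.moduleCat_exact_iff_function_exact] at hex ⊢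
  exact lTensor_exact L hex ((ModuleCat.epi_iff_surjective r).1 inferInstance)

theorem epi_TFun_map_iff (P : HomologicalComplex (ModuleCat.{u} A) c) (i j k : ι)
    (hi : c.prev j = i) (hk : c.next j = k)
    {M N : ModuleCat.{u} A} (g : M ⟶ N) :
    Epi ((CohIII.TFun P j).map g) ↔
      ∀ ⦃X : ModuleCat.{u} A⦄ (y₂ : X ⟶ P.X j ⊗ N), y₂ ≫ (P.d j k ▷ N) = 0 →
        ∃ (X' : ModuleCat.{u} A) (π : X' ⟶ X) (_ : Epi π) (x₂ : X' ⟶ P.X j ⊗ M)
          (_ : x₂ ≫ (P.d j k ▷ M) = 0) (y₁ : X' ⟶ P.X i ⊗ N),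
          π ≫ y₂ = x₂ ≫ (P.X j ◁ g) + y₁ ≫ (P.d i j ▷ N) :=
  HomologicalComplex.epi_homologyMap_iff_up_to_refinements (CohIII.tensorMap P g) i j k hi hk

theorem mono_TFun_map_iff (P : HomologicalComplex (ModuleCat.{u} A) c) (i j k : ι)
    (hi : c.prev j = i) (hk : c.next j = k)
    {M N : ModuleCat.{u} A} (g : M ⟶ N) :
    Mono ((CohIII.TFun P j).map g) ↔
      ∀ ⦃X : ModuleCat.{u} A⦄ (x₂ : X ⟶ P.X j ⊗ M), x₂ ≫ (P.d j k ▷ M) = 0 →
        ∀ (y₁ : X ⟶ P.X i ⊗ N), x₂ ≫ (P.X j ◁ g) = y₁ ≫ (P.d i j ▷ N) →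
        ∃ (X' : ModuleCat.{u} A) (π : X' ⟶ X) (_ : Epi π) (x₁ : X' ⟶ P.X i ⊗ M),
          π ≫ x₂ = x₁ ≫ (P.d i j ▷ M) :=
  HomologicalComplex.mono_homologyMap_iff_up_to_refinements (CohIII.tensorMap P g) i j k hi hk

/-- The connecting argument: if `T_p` preserves the monomorphism `j` of a short exact sequence
`0 → M' → M → M'' → 0` then `T_q(M) → T_q(M'')` is an epimorphism (`q` the predecessor of `p`). -/
theorem epi_TFun_map_of_mono (P : HomologicalComplex (ModuleCat.{u} A) c)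
    (hflat : ∀ i, Module.Flat A (P.X i)) (q p : ι) (hqp : c.Rel q p)
    {M' M M'' : ModuleCat.{u} A} (j : M' ⟶ M) (r : M ⟶ M'') (w : j ≫ r = 0)
    (hex : (ShortComplex.mk j r w).Exact) [Mono j] [Epi r]
    (hmono : Mono ((CohIII.TFun P p).map j)) : Epi ((CohIII.TFun P q).map r) := by
  rw [epi_TFun_map_iff P (c.prev q) q p rfl (c.next_eq' hqp)]
  rw [mono_TFun_map_iff P q p (c.next p) (c.prev_eq' hqp) rfl] at hmono
  intro X y₂ hy₂
  have := epi_whiskerLeft (P.X q) r
  obtain ⟨X₁, π₁, hπ₁, y, hy⟩ := surjective_up_to_refinements_of_epi (P.X q ◁ r) y₂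
  have ht : (y ≫ (P.d q p ▷ M)) ≫ (P.X p ◁ r) = 0 := by
    rw [Category.assoc, ← whisker_exchange, ← Category.assoc, ← hy, Category.assoc, hy₂, comp_zero]
  obtain ⟨X₂, π₂, hπ₂, v, hv⟩ :=
    (exact_whiskerLeft (P.X p) j r w hex).exact_up_to_refinements (y ≫ (P.d q p ▷ M)) ht
  dsimp at hv
  have := hflat (c.next p)
  have := mono_whiskerLeft (P.X (c.next p)) j
  have hvc : v ≫ (P.d p (c.next p) ▷ M') = 0 := by
    rw [← cancel_mono (P.X (c.next p) ◁ j), zero_comp, Category.assoc, ← whisker_exchange,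
      ← Category.assoc, ← hv, Category.assoc, Category.assoc, ← comp_whiskerRight,
      P.d_comp_d, MonoidalPreadditive.zero_whiskerRight, comp_zero, comp_zero]
  obtain ⟨X₃, π₃, hπ₃, x₁, hx₁⟩ := hmono v hvc (π₂ ≫ y) (by rw [← hv, Category.assoc])
  refine ⟨X₃, π₃ ≫ π₂ ≫ π₁, inferInstance, π₃ ≫ π₂ ≫ y - x₁ ≫ (P.X q ◁ j), ?_, 0, ?_⟩
  · rw [Preadditive.sub_comp, Category.assoc, Category.assoc, Category.assoc, whisker_exchange,
      ← Category.assoc x₁, ← hx₁, hv]
    simp
  · have h0 : (x₁ ≫ P.X q ◁ j) ≫ P.X q ◁ r = 0 := by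
      rw [Category.assoc, ← MonoidalCategory.whiskerLeft_comp, w,
        MonoidalPreadditive.whiskerLeft_zero, comp_zero]
    rw [zero_comp, add_zero, Preadditive.sub_comp, h0, sub_zero]
    simp only [Category.assoc]
    rw [← hy]

/-- If `d_p` has a generalized inverse then `T_p` preserves epimorphisms. -/
theorem epi_TFun_map_of_gi (P : HomologicalComplex (ModuleCat.{u} A) c) (p k : ι)
    (hk : c.next p = k) (e : P.X k ⟶ P.X p)
    (he : P.d p k ≫ e ≫ P.d p k = P.d p k)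
    {M N : ModuleCat.{u} A} (g : M ⟶ N) [Epi g] : Epi ((CohIII.TFun P p).map g) := by
  subst hk
  rw [epi_TFun_map_iff P (c.prev p) p (c.next p) rfl rfl]
  intro X y₂ hy₂
  have := epi_whiskerLeft (P.X p) g
  obtain ⟨X', π, hπ, y, hy⟩ := surjective_up_to_refinements_of_epi (P.X p ◁ g) y₂
  refine ⟨X', π, hπ, y - y ≫ ((P.d p (c.next p) ≫ e) ▷ M), ?_, 0, ?_⟩
  · rw [Preadditive.sub_comp, Category.assoc, ← comp_whiskerRight, Category.assoc, he, sub_self]
  · rw [zero_comp, add_zero, Preadditive.sub_comp, Category.assoc, ← whisker_exchange,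
      ← Category.assoc, ← hy, Category.assoc, comp_whiskerRight, ← Category.assoc y₂, hy₂,
      zero_comp, comp_zero, sub_zero]

/-- If `d_{p+1}` has a generalized inverse then `T_p` preserves monomorphisms. -/
theorem mono_TFun_map_of_gi (P : HomologicalComplex (ModuleCat.{u} A) c) (i p : ι)
    (hi : c.prev p = i) [Module.Flat A (P.X p)]
    (e : P.X p ⟶ P.X i)
    (he : P.d i p ≫ e ≫ P.d i p = P.d i p)
    {M N : ModuleCat.{u} A} (g : M ⟶ N) [Mono g] : Mono ((CohIII.TFun P p).map g) := by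
  subst hi
  rw [mono_TFun_map_iff P (c.prev p) p (c.next p) rfl rfl]
  intro X x₂ _ y₁ h
  have := mono_whiskerLeft (P.X p) g
  refine ⟨X, 𝟙 X, inferInstance, x₂ ≫ (e ▷ M) , ?_⟩
  rw [Category.id_comp, ← cancel_mono (P.X p ◁ g)]
  symm
  calc (x₂ ≫ e ▷ M ≫ P.d (c.prev p) p ▷ M) ≫ P.X p ◁ g
      = x₂ ≫ ((e ≫ P.d (c.prev p) p) ▷ M ≫ P.X p ◁ g) := by
        rw [comp_whiskerRight]; simp only [Category.assoc]
    _ = (x₂ ≫ P.X p ◁ g) ≫ (e ≫ P.d (c.prev p) p) ▷ N := by
        rw [← whisker_exchange, Category.assoc]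
    _ = y₁ ≫ (P.d (c.prev p) p ≫ e ≫ P.d (c.prev p) p) ▷ N := by
        rw [h, Category.assoc, ← comp_whiskerRight]
    _ = x₂ ≫ P.X p ◁ g := by rw [he, h]

/-- element-wise consequence of surjectivity of `T_j(A) → T_j(k)`. -/
theorem cycle_lift_of_epi [IsLocalRing A] (P : HomologicalComplex (ModuleCat.{u} A) c) (i j k : ι)
    (hi : c.prev j = i) (hk : c.next j = k)
    (hepi : Epi ((CohIII.TFun P j).map
      (ModuleCat.ofHom (Algebra.linearMap A (IsLocalRing.ResidueField A))))) :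
    ∀ y : P.X j ⊗[A] (IsLocalRing.ResidueField A),
      ((P.d j k).hom.rTensor (IsLocalRing.ResidueField A)) y = 0 →
      ∃ z ∈ LinearMap.ker (P.d j k).hom, ∃ w : P.X i ⊗[A] (IsLocalRing.ResidueField A),
        y = z ⊗ₜ 1 + ((P.d i j).hom.rTensor (IsLocalRing.ResidueField A)) w := by
  intro y hy
  rw [epi_TFun_map_iff P i j k hi hk] at hepi
  let y₂ : ModuleCat.of A A ⟶ P.X j ⊗ ModuleCat.of A (IsLocalRing.ResidueField A) :=
    ModuleCat.ofHom (LinearMap.toSpanSingleton A (P.X j ⊗[A] (IsLocalRing.ResidueField A)) y)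
  have hy₂ : y₂ ≫ (P.d j k ▷ ModuleCat.of A (IsLocalRing.ResidueField A)) = 0 := by
    apply ModuleCat.hom_ext
    apply LinearMap.ext_ring
    change ((P.d j k).hom.rTensor (IsLocalRing.ResidueField A))
      (LinearMap.toSpanSingleton A _ y 1) = 0
    rw [LinearMap.toSpanSingleton_apply, one_smul, hy]
  obtain ⟨X', π, hπ, x₂, hx₂, y₁, heq⟩ := hepi y₂ hy₂
  obtain ⟨t, ht⟩ := (ModuleCat.epi_iff_surjective π).1 hπ (1 : A)
  set z₀ : P.X j ⊗[A] A := x₂.hom t with hz₀
  set z : P.X j := TensorProduct.rid A (P.X j) z₀ with hz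
  have hz₀' : z₀ = z ⊗ₜ[A] (1 : A) := by
    rw [← TensorProduct.rid_symm_apply, hz, LinearEquiv.symm_apply_apply]
  have h1 : ((P.d j k).hom.rTensor A) z₀ = 0 := by
    have := congrArg (fun f => f.hom t) hx₂
    exact this
  refine ⟨z, ?_, y₁.hom t, ?_⟩
  · rw [LinearMap.mem_ker]
    rw [hz₀', LinearMap.rTensor_tmul] at h1
    have := congrArg (TensorProduct.rid A (P.X k)) h1
    rwa [TensorProduct.rid_tmul, one_smul, map_zero] at this
  · have h2 := congrArg (fun f => f.hom t) heq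
    change y₂.hom (π.hom t) = ((Algebra.linearMap A (IsLocalRing.ResidueField A)).lTensor (P.X j)) z₀ +
      ((P.d i j).hom.rTensor (IsLocalRing.ResidueField A)) (y₁.hom t) at h2
    have h3 : π.hom t = (1 : A) := ht
    rw [h3] at h2
    change LinearMap.toSpanSingleton A _ y 1 = _ at h2
    rw [LinearMap.toSpanSingleton_apply, one_smul, hz₀', LinearMap.lTensor_tmul] at h2
    rw [h2]
    simp


/-- The connecting argument, other direction: if `T_p(M) → T_p(M'')` is an epimorphism for a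
short exact sequence `0 → M' → M → M'' → 0` then `T_q(M') → T_q(M)` is a monomorphism
(`q` the successor of `p`). -/
theorem mono_TFun_map_of_epi (P : HomologicalComplex (ModuleCat.{u} A) c)
    (hflat : ∀ i, Module.Flat A (P.X i)) (p q : ι) (hpq : c.Rel p q)
    {M' M M'' : ModuleCat.{u} A} (j : M' ⟶ M) (r : M ⟶ M'') (w : j ≫ r = 0)
    (hex : (ShortComplex.mk j r w).Exact) [Mono j] [Epi r]
    (hepi : Epi ((CohIII.TFun P p).map r)) : Mono ((CohIII.TFun P q).map j) := by
  rw [mono_TFun_map_iff P p q (c.next q) (c.prev_eq' hpq) rfl]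
  rw [epi_TFun_map_iff P (c.prev p) p q rfl (c.next_eq' hpq)] at hepi
  intro X x₂ hx₂ y₁ h
  -- `y₁ ≫ P_p ◁ r` is a cycle
  have hc : (y₁ ≫ P.X p ◁ r) ≫ (P.d p q ▷ M'') = 0 := by
    rw [Category.assoc, whisker_exchange, ← Category.assoc, ← h, Category.assoc,
      ← MonoidalCategory.whiskerLeft_comp, w, MonoidalPreadditive.whiskerLeft_zero, comp_zero]
  obtain ⟨X₁, π₁, hπ₁, x₂', hx₂', y₁', h1⟩ := hepi (y₁ ≫ P.X p ◁ r) hc
  have := epi_whiskerLeft (P.X (c.prev p)) r
  obtain ⟨X₂, π₂, hπ₂, y, hy⟩ :=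
    surjective_up_to_refinements_of_epi (P.X (c.prev p) ◁ r) y₁'
  -- the difference lies in the kernel of `P_p ◁ r`
  have hu : (π₂ ≫ π₁ ≫ y₁ - π₂ ≫ x₂' - y ≫ (P.d (c.prev p) p ▷ M)) ≫ (P.X p ◁ r) = 0 := by
    rw [Preadditive.sub_comp, Preadditive.sub_comp]
    simp only [Category.assoc]
    rw [← whisker_exchange, ← Category.assoc y, ← hy, Category.assoc, h1]
    simp only [Preadditive.comp_add]
    abel
  obtain ⟨X₃, π₃, hπ₃, v, hv⟩ :=
    (exact_whiskerLeft (P.X p) j r w hex).exact_up_to_refinements _ hu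
  dsimp at hv
  have := hflat q
  have := mono_whiskerLeft (P.X q) j
  refine ⟨X₃, π₃ ≫ π₂ ≫ π₁, inferInstance, v, ?_⟩
  rw [← cancel_mono (P.X q ◁ j)]
  have e1 : (v ≫ P.d p q ▷ M') ≫ P.X q ◁ j = (v ≫ P.X p ◁ j) ≫ (P.d p q ▷ M) := by
    simp only [Category.assoc]
    rw [whisker_exchange]
  rw [e1, ← hv]
  simp only [Category.assoc, Preadditive.sub_comp, Preadditive.comp_sub]
  rw [hx₂', ← comp_whiskerRight, P.d_comp_d, MonoidalPreadditive.zero_whiskerRight, h]
  simp


theorem isZero_TFun_obj_iff (P : HomologicalComplex (ModuleCat.{u} A) c) (i j k : ι)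
    (hi : c.prev j = i) (hk : c.next j = k) (M : ModuleCat.{u} A) :
    IsZero ((CohIII.TFun P j).obj M) ↔
      (ShortComplex.mk (P.d i j ▷ M) (P.d j k ▷ M)
        (by rw [← comp_whiskerRight, P.d_comp_d, MonoidalPreadditive.zero_whiskerRight])).Exact := by
  change IsZero ((CohIII.tensorObj P M).homology j) ↔ _
  rw [← HomologicalComplex.exactAt_iff_isZero_homology,
    HomologicalComplex.exactAt_iff' _ i j k hi hk]
  rfl

theorem isZero_TFun_of_homotopy (P : HomologicalComplex (ModuleCat.{u} A) c) (i j k : ι)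
    (hi : c.prev j = i) (hk : c.next j = k) (s : P.X j ⟶ P.X i) (e : P.X k ⟶ P.X j)
    (h : s ≫ P.d i j + P.d j k ≫ e = 𝟙 (P.X j)) (M : ModuleCat.{u} A) :
    IsZero ((CohIII.TFun P j).obj M) := by
  rw [isZero_TFun_obj_iff P i j k hi hk, ShortComplex.exact_iff_exact_up_to_refinements]
  intro X x₂ hx₂
  dsimp at x₂ hx₂ ⊢
  refine ⟨X, 𝟙 X, inferInstance, x₂ ≫ (s ▷ M), ?_⟩
  have h2 : x₂ ≫ (𝟙 (P.X j) ▷ M) = x₂ := by simp
  rw [Category.id_comp, Category.assoc, ← comp_whiskerRight]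
  conv_lhs => rw [← h2, ← h, MonoidalPreadditive.add_whiskerRight, Preadditive.comp_add,
    comp_whiskerRight (P.d j k) e, ← Category.assoc, hx₂, zero_comp, add_zero]


theorem free_TFun_obj_of_gi [IsLocalRing A] (P : HomologicalComplex (ModuleCat.{u} A) c)
    (i j k : ι) (hi : c.prev j = i) (hk : c.next j = k)
    [Module.Finite A (P.X j)] [Module.Projective A (P.X j)]
    (e' : P.X j ⟶ P.X i) (e : P.X k ⟶ P.X j) (he' : P.d i j ≫ e' ≫ P.d i j = P.d i j)
    (he : P.d j k ≫ e ≫ P.d j k = P.d j k) :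
    Module.Free A ((CohIII.TFun P j).obj (ModuleCat.of A A)) := by
  subst hi hk
  obtain ⟨ι', ρ, h⟩ := homology_retract ((CohIII.tensorObj P (ModuleCat.of A A)).sc j)
    (e' ▷ ModuleCat.of A A) (e ▷ ModuleCat.of A A)
    (by
      change (P.d (c.prev j) j ▷ _) ≫ (e' ▷ _) ≫ (P.d (c.prev j) j ▷ _) = (P.d (c.prev j) j ▷ _)
      rw [← comp_whiskerRight, ← comp_whiskerRight, he'])
    (by
      change (P.d j (c.next j) ▷ _) ≫ (e ▷ _) ≫ (P.d j (c.next j) ▷ _) = (P.d j (c.next j) ▷ _)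
      rw [← comp_whiskerRight, ← comp_whiskerRight, he])
  change (CohIII.TFun P j).obj (ModuleCat.of A A) ⟶ P.X j ⊗ ModuleCat.of A A at ι'
  change P.X j ⊗ ModuleCat.of A A ⟶ (CohIII.TFun P j).obj (ModuleCat.of A A) at ρ
  have hρι : ρ.hom ∘ₗ ι'.hom = LinearMap.id := by
    rw [← ModuleCat.hom_comp]
    have : ι' ≫ ρ = 𝟙 _ := h
    rw [this]
    rfl
  have hproj : Module.Projective A (P.X j ⊗[A] A) := inferInstance
  have hfin : Module.Finite A (P.X j ⊗[A] A) := inferInstance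
  have h1 : Module.Projective A ((CohIII.TFun P j).obj (ModuleCat.of A A)) :=
    Module.Projective.of_split (M := (P.X j ⊗[A] A)) ι'.hom ρ.hom hρι
  have h2 : Module.Finite A ((CohIII.TFun P j).obj (ModuleCat.of A A)) :=
    Module.Finite.of_surjective (M := (P.X j ⊗[A] A)) ρ.hom (fun x => ⟨ι'.hom x, LinearMap.congr_fun hρι x⟩)
  exact Module.free_of_flat_of_isLocalRing


/-- Over a local ring: if `T_j(k) = 0` then the complex admits a contracting homotopy in degree `j`. -/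
theorem exists_homotopy_of_isZero [IsLocalRing A] (P : HomologicalComplex (ModuleCat.{u} A) c)
    (hP : ∀ i, Module.Finite A (P.X i) ∧ Module.Flat A (P.X i))
    (i j k : ι) (hi : c.prev j = i) (hk : c.next j = k)
    (hz : IsZero ((CohIII.TFun P j).obj (ModuleCat.of A (IsLocalRing.ResidueField A)))) :
    ∃ (s : P.X j ⟶ P.X i) (e : P.X k ⟶ P.X j), s ≫ P.d i j + P.d j k ≫ e = 𝟙 (P.X j) := by
  have hfin : ∀ i, Module.Finite A (P.X i) := fun i => (hP i).1
  have hflat : ∀ i, Module.Flat A (P.X i) := fun i => (hP i).2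
  have hfree : ∀ i, Module.Free A (P.X i) := fun i => Module.free_of_flat_of_isLocalRing
  rw [isZero_TFun_obj_iff P i j k hi hk, ShortComplex.moduleCat_exact_iff] at hz
  have hdd : (P.d j k).hom ∘ₗ (P.d i j).hom = 0 := by
    have := P.d_comp_d i j k
    rw [← ModuleCat.hom_comp, this]
    rfl
  obtain ⟨s, e, hse⟩ := exists_homotopy_of_local (P.d i j).hom (P.d j k).hom hdd
    (fun y hy => hz y hy)
  refine ⟨ModuleCat.ofHom s, ModuleCat.ofHom e, ?_⟩
  apply ModuleCat.hom_ext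
  rw [ModuleCat.hom_add, ModuleCat.hom_comp, ModuleCat.hom_comp, ModuleCat.hom_ofHom,
    ModuleCat.hom_ofHom, ModuleCat.hom_id]
  exact hse


theorem exists_gi_prev_of_projective_TFun_obj (P : HomologicalComplex (ModuleCat.{u} A) c)
    (i j k : ι) (hi : c.prev j = i) (hk : c.next j = k) [Module.Projective A (P.X j)]
    (hH : Module.Projective A ((CohIII.TFun P j).obj (ModuleCat.of A A)))
    (e : P.X k ⟶ P.X j) (he : P.d j k ≫ e ≫ P.d j k = P.d j k) :
    ∃ e' : P.X j ⟶ P.X i, P.d i j ≫ e' ≫ P.d i j = P.d i j := by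
  subst hi hk
  let S := (CohIII.tensorObj P (ModuleCat.of A A)).sc j
  have : Projective S.X₂ := by
    change Projective (ModuleCat.of A (P.X j ⊗[A] A))
    exact (IsProjective.iff_projective _).1 inferInstance
  have : Projective S.homology := by
    change Projective (ModuleCat.of A ((CohIII.TFun P j).obj (ModuleCat.of A A)))
    exact (IsProjective.iff_projective _).1 hH
  obtain ⟨e', he'⟩ := exists_gi_f_of_projective_homology S (e ▷ ModuleCat.of A A) (by
    change (P.d j (c.next j) ▷ _) ≫ (e ▷ _) ≫ (P.d j (c.next j) ▷ _) = (P.d j (c.next j) ▷ _)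
    rw [← comp_whiskerRight, ← comp_whiskerRight, he])
  change P.X j ⊗ 𝟙_ (ModuleCat.{u} A) ⟶ P.X (c.prev j) ⊗ 𝟙_ (ModuleCat.{u} A) at e'
  change (P.d (c.prev j) j ▷ 𝟙_ (ModuleCat.{u} A)) ≫ e' ≫ (P.d (c.prev j) j ▷ 𝟙_ (ModuleCat.{u} A)) =
    P.d (c.prev j) j ▷ 𝟙_ (ModuleCat.{u} A) at he'
  refine ⟨(ρ_ (P.X j)).inv ≫ e' ≫ (ρ_ (P.X (c.prev j))).hom, ?_⟩
  have n1 : P.d (c.prev j) j ≫ (ρ_ (P.X j)).inv =
      (ρ_ (P.X (c.prev j))).inv ≫ (P.d (c.prev j) j ▷ 𝟙_ (ModuleCat.{u} A)) :=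
    rightUnitor_inv_naturality _
  have n2 : (ρ_ (P.X (c.prev j))).hom ≫ P.d (c.prev j) j =
      (P.d (c.prev j) j ▷ 𝟙_ (ModuleCat.{u} A)) ≫ (ρ_ (P.X j)).hom :=
    (rightUnitor_naturality _).symm
  calc P.d (c.prev j) j ≫ ((ρ_ (P.X j)).inv ≫ e' ≫ (ρ_ (P.X (c.prev j))).hom) ≫ P.d (c.prev j) j
      = (P.d (c.prev j) j ≫ (ρ_ (P.X j)).inv) ≫ e' ≫ ((ρ_ (P.X (c.prev j))).hom ≫ P.d (c.prev j) j) := by
        simp only [Category.assoc]
    _ = (ρ_ (P.X (c.prev j))).inv ≫ ((P.d (c.prev j) j ▷ 𝟙_ (ModuleCat.{u} A)) ≫ e' ≫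
          (P.d (c.prev j) j ▷ 𝟙_ (ModuleCat.{u} A))) ≫ (ρ_ (P.X j)).hom := by
        rw [n1, n2]; simp only [Category.assoc]
    _ = P.d (c.prev j) j := by
        rw [he', ← n2, Iso.inv_hom_id_assoc]


/-- Over a local ring: surjectivity of `T_j(A) → T_j(k)` gives a generalized inverse of `d_j`. -/
theorem exists_gi_of_surjective [IsLocalRing A] (P : HomologicalComplex (ModuleCat.{u} A) c)
    (hP : ∀ i, Module.Finite A (P.X i) ∧ Module.Flat A (P.X i))
    (j k : ι) (hk : c.next j = k)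
    (hj : Function.Surjective ((CohIII.TFun P j).map
      (ModuleCat.ofHom (Algebra.linearMap A (IsLocalRing.ResidueField A)))).hom) :
    ∃ e : P.X k ⟶ P.X j, P.d j k ≫ e ≫ P.d j k = P.d j k := by
  have hfin : ∀ i, Module.Finite A (P.X i) := fun i => (hP i).1
  have hflat : ∀ i, Module.Flat A (P.X i) := fun i => (hP i).2
  have hfree : ∀ i, Module.Free A (P.X i) := fun i => Module.free_of_flat_of_isLocalRing
  have hepi : Epi ((CohIII.TFun P j).map
      (ModuleCat.ofHom (Algebra.linearMap A (IsLocalRing.ResidueField A)))) :=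
    (ModuleCat.epi_iff_surjective _).2 hj
  have H := cycle_lift_of_epi P (c.prev j) j k rfl hk hepi
  have hdd : (P.d j k).hom ∘ₗ (P.d (c.prev j) j).hom = 0 := by
    have := P.d_comp_d (c.prev j) j k
    rw [← ModuleCat.hom_comp, this]
    rfl
  obtain ⟨e, he⟩ := exists_gi_of_local _ _ hdd H
  refine ⟨ModuleCat.ofHom e, ?_⟩
  apply ModuleCat.hom_ext
  rw [ModuleCat.hom_comp, ModuleCat.hom_comp, ModuleCat.hom_ofHom]
  rw [← LinearMap.comp_assoc] at he
  exact he


end Complexes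

end Groth.Agent.Helper4.TFunLib
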