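import Groth.Agent.Lib.Helper4.TFunLib

/-!
# Generalized inverses and projectivity of cokernels (helper4)
-/

set_option autoImplicit false
universe u v
open CategoryTheory MonoidalCategory CategoryTheory.Limits TensorProduct

namespace Groth.Agent.Helper4.TFunLib

section GI

variable {A : Type u} [CommRing A] {M N : Type v} [AddCommGroup M] [AddCommGroup N]
  [Module A M] [Module A N]

/-- A linear map into a projective module with projective cokernel has a generalized inverse. -/
theorem exists_gi_of_projective_coker [Module.Projective A N] (d : M →ₗ[A] N)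
    (h : Module.Projective A (N ⧸ LinearMap.range d)) :
    ∃ e : N →ₗ[A] M, d ∘ₗ e ∘ₗ d = d := by
  set I := LinearMap.range d with hI
  set π : M →ₗ[A] I := d.rangeRestrict with hπ
  have hπs : Function.Surjective π := d.surjective_rangeRestrict
  have hιπ : I.subtype ∘ₗ π = d := d.subtype_comp_codRestrict _ _
  obtain ⟨ρ, hρ⟩ : ∃ ρ : N →ₗ[A] I, ρ ∘ₗ I.subtype = LinearMap.id := by
    have := (Function.Exact.split_tfae (LinearMap.exact_subtype_mkQ I)
      Subtype.val_injective (Submodule.mkQ_surjective _)).out 0 1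
    exact this.mp (Module.projective_lifting_property _ _ (Submodule.mkQ_surjective _))
  have : Module.Projective A I := Module.Projective.of_split _ _ hρ
  obtain ⟨σ, hσ⟩ := Module.projective_lifting_property π LinearMap.id hπs
  refine ⟨σ ∘ₗ ρ, ?_⟩
  ext x
  have e1 : d x = I.subtype (π x) := (LinearMap.congr_fun hιπ x).symm
  have e2 : ∀ t, ρ (I.subtype t) = t := fun t => LinearMap.congr_fun hρ t
  have e3 : ∀ t, π (σ t) = t := fun t => LinearMap.congr_fun hσ t
  simp only [LinearMap.comp_apply]
  rw [e1, e2, ← LinearMap.comp_apply I.subtype π, hιπ]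
  rw [← hιπ, LinearMap.comp_apply, e3]
  rfl

/-- If a linear map into a projective module has a generalized inverse, its cokernel is projective. -/
theorem projective_coker_of_gi [Module.Projective A N] (d : M →ₗ[A] N) (e : N →ₗ[A] M)
    (he : d ∘ₗ e ∘ₗ d = d) : Module.Projective A (N ⧸ LinearMap.range d) := by
  have hed : ∀ x, d (e (d x)) = d x := fun x => LinearMap.congr_fun he x
  let i : (N ⧸ LinearMap.range d) →ₗ[A] N :=
    (LinearMap.range d).liftQ (LinearMap.id - d ∘ₗ e) (by
      rintro _ ⟨x, rfl⟩
      simp [hed])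
  refine Module.Projective.of_split i (LinearMap.range d).mkQ ?_
  apply LinearMap.ext
  intro y
  obtain ⟨n, rfl⟩ := Submodule.mkQ_surjective _ y
  change (LinearMap.range d).mkQ ((LinearMap.id - d ∘ₗ e : N →ₗ[A] N) n) = (LinearMap.range d).mkQ n
  rw [LinearMap.sub_apply, map_sub, LinearMap.id_apply, sub_eq_self]
  exact (Submodule.Quotient.mk_eq_zero _).2 ⟨e n, rfl⟩

end GI

section Local

open Groth.Agent.Helper4.DRank

variable {A : Type u} [CommRing A] {ι : Type} {c : ComplexShape ι}

/-- Over a local ring, `T_p` preserves epimorphisms iff the cokernel of `d_p` is projective. -/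
theorem preservesEpi_iff_projective_coker_of_local [IsLocalRing A]
    (Q : HomologicalComplex (ModuleCat.{u} A) c)
    (hQ : ∀ i, Module.Finite A (Q.X i) ∧ Module.Flat A (Q.X i)) (p k : ι) (hk : c.next p = k) :
    (CohIII.TFun Q p).PreservesEpimorphisms ↔
      Module.Projective A (Q.X k ⧸ LinearMap.range (Q.d p k).hom) := by
  have := (hQ k).1
  have := (hQ k).2
  have hfreeQ : Module.Free A (Q.X k) := Module.free_of_flat_of_isLocalRing
  constructor
  · intro hepi
    have hres_epi : Epi (ModuleCat.ofHom (Algebra.linearMap A (IsLocalRing.ResidueField A))) :=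
      (ModuleCat.epi_iff_surjective _).2 IsLocalRing.residue_surjective
    have h1 := hepi.preserves (ModuleCat.ofHom (Algebra.linearMap A (IsLocalRing.ResidueField A)))
    obtain ⟨e, he⟩ := exists_gi_of_surjective Q hQ p k hk ((ModuleCat.epi_iff_surjective _).1 h1)
    have he' : (Q.d p k).hom ∘ₗ e.hom ∘ₗ (Q.d p k).hom = (Q.d p k).hom := by
      have := congrArg ModuleCat.Hom.hom he
      rw [ModuleCat.hom_comp, ModuleCat.hom_comp] at this
      rw [← LinearMap.comp_assoc]
      exact this
    exact projective_coker_of_gi (Q.d p k).hom e.hom he'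
  · intro hproj
    obtain ⟨e, he⟩ := exists_gi_of_projective_coker (Q.d p k).hom hproj
    refine ⟨fun {M N} g hg => ?_⟩
    refine epi_TFun_map_of_gi Q p k hk (ModuleCat.ofHom e) ?_ g
    apply ModuleCat.hom_ext
    rw [ModuleCat.hom_comp, ModuleCat.hom_comp, ModuleCat.hom_ofHom]
    rw [← LinearMap.comp_assoc] at he
    exact he

theorem finite_flat_bcCx {B : Type u} [CommRing B] [Algebra A B]
    (P : HomologicalComplex (ModuleCat.{u} A) c)
    (hP : ∀ i, Module.Finite A (P.X i) ∧ Module.Flat A (P.X i)) (i : ι) :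
    Module.Finite B ((CohIII.bcCx (algebraMap A B) P).X i) ∧
      Module.Flat B ((CohIII.bcCx (algebraMap A B) P).X i) := by
  have := (hP i).1
  have := (hP i).2
  exact ⟨Module.Finite.equiv (extendScalarsEquiv (k := B) (P.X i)).symm,
    Module.Flat.of_linearEquiv (extendScalarsEquiv (k := B) (P.X i))⟩

/-- Over a local base ring `B`, `T_p` of the base-changed complex preserves epimorphisms iff the
base change of the cokernel of `d_p` is free. -/
theorem preservesEpi_bcCx_iff_free {B : Type u} [CommRing B] [Algebra A B] [IsLocalRing B]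
    (P : HomologicalComplex (ModuleCat.{u} A) c)
    (hP : ∀ i, Module.Finite A (P.X i) ∧ Module.Flat A (P.X i)) (p k : ι) (hk : c.next p = k) :
    (CohIII.TFun (CohIII.bcCx (algebraMap A B) P) p).PreservesEpimorphisms ↔
      Module.Free B (B ⊗[A] (P.X k ⧸ LinearMap.range (P.d p k).hom)) := by
  rw [preservesEpi_iff_projective_coker_of_local _ (finite_flat_bcCx P hP) p k hk]
  have := (hP k).1
  have ce := cokerEquiv B (P.d p k)
  constructor
  · intro hproj
    have hproj' : Module.Projective B (((ModuleCat.extendScalars (algebraMap A B)).obj (P.X k)) ⧸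
      LinearMap.range ((ModuleCat.extendScalars (algebraMap A B)).map (P.d p k)).hom) := hproj
    have : Module.Projective B (B ⊗[A] (P.X k ⧸ LinearMap.range (P.d p k).hom)) :=
      Module.Projective.of_equiv' ce
    exact Module.free_of_flat_of_isLocalRing
  · intro hfree
    exact Module.Projective.of_equiv' ce.symm


end Local

end Groth.Agent.Helper4.TFunLib

namespace Groth.Agent.Helper4.TFunLib

section Opcycles

open Groth.Agent.Helper4.DRank

variable {A : Type u} [CommRing A] {ι : Type} {c : ComplexShape ι}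

theorem exact_whiskerRight (L : ModuleCat.{u} A) {M' M M'' : ModuleCat.{u} A} (j : M' ⟶ M)
    (r : M ⟶ M'') (w : j ≫ r = 0) (hex : (ShortComplex.mk j r w).Exact) [Epi r] :
    (ShortComplex.mk (j ▷ L) (r ▷ L) (by rw [← comp_whiskerRight, w,
      MonoidalPreadditive.zero_whiskerRight])).Exact := by
  rw [ShortComplex.ShortExact.moduleCat_exact_iff_function_exact] at hex ⊢
  exact rTensor_exact L hex ((ModuleCat.epi_iff_surjective r).1 inferInstance)

theorem epi_whiskerRight (L : ModuleCat.{u} A) {M N : ModuleCat.{u} A} (g : M ⟶ N) [Epi g] :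
    Epi (g ▷ L) :=
  (ModuleCat.epi_iff_surjective _).2
    (LinearMap.rTensor_surjective _ ((ModuleCat.epi_iff_surjective g).1 inferInstance))

/-- `T_p` preserves monomorphisms iff the cokernel `W` of `d_{p+1}` is flat. -/
theorem preservesMono_iff_flat_opcycles (P : HomologicalComplex (ModuleCat.{u} A) c)
    (hflat : ∀ i, Module.Flat A (P.X i)) (p : ι) :
    (CohIII.TFun P p).PreservesMonomorphisms ↔ Module.Flat A (P.opcycles p) := by
  set i := c.prev p with hi
  set k := c.next p with hk
  set W := P.opcycles p with hW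
  have hπ : Epi (P.pOpcycles p) := inferInstance
  have hexW : (ShortComplex.mk (P.d i p) (P.pOpcycles p) (P.d_pOpcycles i p)).Exact :=
    ShortComplex.exact_of_g_is_cokernel _ (P.opcyclesIsCokernel i p rfl)
  have hex : ∀ M : ModuleCat.{u} A, (ShortComplex.mk (P.d i p ▷ M) (P.pOpcycles p ▷ M)
      (by rw [← comp_whiskerRight, P.d_pOpcycles, MonoidalPreadditive.zero_whiskerRight])).Exact :=
    fun M => exact_whiskerRight M _ _ _ hexW
  constructor
  · intro hmono
    rw [Module.Flat.iff_lTensor_preserves_injective_linearMap]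
    intro N N' _ _ _ _ f hf
    let j : ModuleCat.of A N ⟶ ModuleCat.of A N' := ModuleCat.ofHom f
    have hj : Mono j := (ModuleCat.mono_iff_injective j).2 hf
    suffices Mono (W ◁ j) from (ModuleCat.mono_iff_injective (W ◁ j)).1 this
    have hm := hmono.preserves j
    rw [mono_TFun_map_iff P i p k rfl rfl] at hm
    rw [Preadditive.mono_iff_cancel_zero]
    intro X t ht
    have := epi_whiskerRight (ModuleCat.of A N) (P.pOpcycles p)
    obtain ⟨X₁, π₁, hπ₁, y, hy⟩ :=
      surjective_up_to_refinements_of_epi (P.pOpcycles p ▷ ModuleCat.of A N) t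
    have h1 : (y ≫ P.X p ◁ j) ≫ (P.pOpcycles p ▷ ModuleCat.of A N') = 0 := by
      rw [Category.assoc, whisker_exchange, ← Category.assoc, ← hy, Category.assoc, ht, comp_zero]
    obtain ⟨X₂, π₂, hπ₂, w, hw⟩ := (hex (ModuleCat.of A N')).exact_up_to_refinements _ h1
    dsimp at hw
    have := hflat k
    have := mono_whiskerLeft (P.X k) j
    have hc : (π₂ ≫ y) ≫ (P.d p k ▷ ModuleCat.of A N) = 0 := by
      rw [← cancel_mono (P.X k ◁ j), zero_comp]
      calc ((π₂ ≫ y) ≫ P.d p k ▷ ModuleCat.of A N) ≫ P.X k ◁ j
          = (π₂ ≫ y ≫ P.X p ◁ j) ≫ P.d p k ▷ ModuleCat.of A N' := by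
            simp only [Category.assoc]
            rw [whisker_exchange]
        _ = 0 := by
            rw [hw, Category.assoc, ← comp_whiskerRight, P.d_comp_d,
              MonoidalPreadditive.zero_whiskerRight, comp_zero]
    obtain ⟨X₃, π₃, hπ₃, x₁, hx₁⟩ := hm (π₂ ≫ y) hc w (by rw [Category.assoc, hw])
    have : (π₃ ≫ π₂ ≫ π₁) ≫ t = 0 := by
      rw [Category.assoc, Category.assoc, hy, ← Category.assoc π₂, ← Category.assoc π₃, hx₁,
        Category.assoc, ← comp_whiskerRight, P.d_pOpcycles, MonoidalPreadditive.zero_whiskerRight,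
        comp_zero]
    rwa [← cancel_epi (π₃ ≫ π₂ ≫ π₁), comp_zero]
  · intro hW
    refine ⟨fun {M' M} j hj => ?_⟩
    rw [mono_TFun_map_iff P i p k rfl rfl]
    intro X x₂ _ y₁ h
    have hmW : Mono (W ◁ j) := mono_whiskerLeft W j
    have h1 : x₂ ≫ (P.pOpcycles p ▷ M') = 0 := by
      rw [← cancel_mono (W ◁ j), zero_comp, Category.assoc, ← whisker_exchange, ← Category.assoc,
        h, Category.assoc, ← comp_whiskerRight, P.d_pOpcycles,
        MonoidalPreadditive.zero_whiskerRight, comp_zero]
    obtain ⟨X₁, π₁, hπ₁, x₁, hx₁⟩ := (hex M').exact_up_to_refinements x₂ h1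
    exact ⟨X₁, π₁, hπ₁, x₁, hx₁⟩


end Opcycles

end Groth.Agent.Helper4.TFunLib
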