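import Mathlib
import Groth.Agent.Lib.Helper4.UOpen6
import Groth.Agent.Lib.Helper16.Sch.GenSurj4

/-!
# Universal openness from dominance of irreducible components after finite type base change
(EGA IV 14.3.? / helper4)
-/

set_option autoImplicit false
universe u
open CategoryTheory CategoryTheory.Limits AlgebraicGeometry EGA43

namespace Groth.Agent.Helper4.UOpen

/-- a closed immersion with irreducible range has an irreducible source -/
theorem irreducibleSpace_of_isClosedImmersion {T Y' : Scheme.{u}} (ι : Y' ⟶ T) [IsClosedImmersion ι]
    (h : IsIrreducible (Set.range ι.base)) : IrreducibleSpace Y' := by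
  have hemb : Topology.IsEmbedding ι.base := ι.isEmbedding
  let e : Y' ≃ₜ Set.range ι.base := hemb.toHomeomorph
  haveI : IrreducibleSpace (Set.range ι.base) := isIrreducible_iff_irreducibleSpace.mp h
  have h0 : IsIrreducible (Set.univ : Set (Set.range ι.base)) :=
    IrreducibleSpace.isIrreducible_univ _
  have h1 : IsIrreducible (e.symm '' (Set.univ : Set (Set.range ι.base))) :=
    h0.image e.symm e.symm.continuous.continuousOn
  rw [Set.image_univ, e.symm.surjective.range_eq] at h1
  exact (irreducibleSpace_def _).mpr h1

theorem universallyOpen_of_components_dominate {X Y : Scheme.{u}} (f : X ⟶ Y)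
    [LocallyOfFinitePresentation f]
    (h : ∀ (Y' : Scheme.{u}) (g : Y' ⟶ Y) [IrreducibleSpace Y'] [LocallyOfFiniteType g]
      [QuasiCompact g],
      ∀ Z ∈ irreducibleComponents (↥(pullback f g) : Type u),
        Dense ((pullback.snd f g).base '' Z)) :
    UniversallyOpen f := by
  apply universallyOpen_of_affineSpace
  intro n hn
  rw [isOpenMap_iff_isOpenAt]
  intro z
  apply isOpenAt_of_genAt
  intro t₁ ht₁
  obtain ⟨Y', ι, hι, hrange⟩ :=
    Groth.Agent.Helper16.GenSurj.exists_closedImmersion_range_eq (closure {t₁}) isClosed_closure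
  haveI : IrreducibleSpace Y' := irreducibleSpace_of_isClosedImmersion ι (by
    rw [show Set.range ι.base = closure {t₁} from hrange]
    exact isIrreducible_singleton.closure)
  let π : 𝔸(ULift.{u} (Fin n); Y) ⟶ Y := 𝔸(ULift.{u} (Fin n); Y) ↘ Y
  let p := pullback.snd f π
  have hd := h Y' (ι ≫ π)
  let a := pullback.fst f (ι ≫ π)
  let q' := pullback.snd f (ι ≫ π)
  have hbig : IsPullback a q' f (ι ≫ π) := IsPullback.of_hasPullback f (ι ≫ π)
  have hright : IsPullback (pullback.fst f π) p f π := IsPullback.of_hasPullback f π
  have hleft := IsPullback.of_right' hbig hright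
  set j' := hright.lift a (q' ≫ ι) (by rw [hbig.w, Category.assoc]) with hj'
  -- a point of `Y'` over `p z`
  have hpz : p.base z ∈ Set.range ι.base := by
    rw [show Set.range ι.base = closure {t₁} from hrange]
    exact specializes_iff_mem_closure.mp ht₁
  obtain ⟨t', ht'⟩ := hpz
  obtain ⟨z₀, hz₀1, hz₀2⟩ := Scheme.Pullback.exists_preimage_pullback (f := p) (g := ι) z t' ht'.symm
  let e := hleft.isoPullback
  let z' : ↥(pullback f (ι ≫ π)) := e.inv.base z₀
  have hz'1 : j'.base z' = z := by
    have : e.inv ≫ j' = pullback.fst p ι := hleft.isoPullback_inv_fst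
    rw [← hz₀1, ← this, Scheme.Hom.comp_apply]
  let Z : Set ↥(pullback f (ι ≫ π)) := irreducibleComponent z'
  have hZirr : IsIrreducible Z := isIrreducible_irreducibleComponent
  have hZcl : IsClosed Z := isClosed_irreducibleComponent
  let w := hZirr.genericPoint
  have hw : closure {w} = Z := hZirr.closure_genericPoint hZcl
  have hdense : Dense (q'.base '' Z) := hd Z (irreducibleComponent_mem_irreducibleComponents z')
  have hwz' : w ⤳ z' := by
    rw [specializes_iff_mem_closure, hw]
    exact mem_irreducibleComponent
  refine ⟨j'.base w, ?_, ?_⟩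
  · rw [← hz'1]
    exact hwz'.map j'.continuous
  · have hcomm : p.base (j'.base w) = ι.base (q'.base w) := by
      rw [← Scheme.Hom.comp_apply, ← Scheme.Hom.comp_apply, hleft.w]
    rw [hcomm]
    -- closure of `q' w` is everything
    have h1 : closure {q'.base w} = Set.univ := by
      rw [← Set.univ_subset_iff, ← hdense.closure_eq]
      apply closure_minimal _ isClosed_closure
      rw [← hw]
      exact image_closure_subset_closure_image q'.continuous |>.trans (by rw [Set.image_singleton])
    have h2 : ι.base (q'.base w) ⤳ t₁ := by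
      have hmem : t₁ ∈ Set.range ι.base := by
        rw [show Set.range ι.base = closure {t₁} from hrange]
        exact subset_closure rfl
      obtain ⟨s₁, hs₁⟩ := hmem
      rw [← hs₁]
      apply Specializes.map _ ι.continuous
      rw [specializes_iff_mem_closure, h1]
      trivial
    have h3 : t₁ ⤳ ι.base (q'.base w) := by
      rw [specializes_iff_mem_closure, ← hrange]
      exact ⟨_, rfl⟩
    exact (h2.antisymm h3).eq

end Groth.Agent.Helper4.UOpen
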