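import Mathlib
import Groth.Agent.Lib.Helper4.UOpen6

/-!
# Universal openness of `Spec B ⟶ Spec A`: ring-level criterion, and the generic linear form for finite
algebras
-/

set_option autoImplicit false

universe u

open TensorProduct CategoryTheory CategoryTheory.Limits AlgebraicGeometry

namespace Groth.Agent.Helper4.UOpen

section Prime

variable (R S T : Type u) [CommRing R] [CommRing S] [CommRing T] [Algebra R S] [Algebra R T]

/-- Points of `Spec (S ⊗[R] T)` with prescribed images in `Spec S` and `Spec T`. -/
theorem exists_prime_tensorProduct (p : PrimeSpectrum S) (q : PrimeSpectrum T)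
    (hpq : PrimeSpectrum.comap (algebraMap R S) p = PrimeSpectrum.comap (algebraMap R T) q) :
    ∃ P : PrimeSpectrum (S ⊗[R] T),
      PrimeSpectrum.comap (Algebra.TensorProduct.includeLeftRingHom : S →+* S ⊗[R] T) P = p ∧
      PrimeSpectrum.comap
        (Algebra.TensorProduct.includeRight : T →ₐ[R] S ⊗[R] T).toRingHom P = q := by
  obtain ⟨z, hz₁, hz₂⟩ := Scheme.Pullback.exists_preimage_pullback
    (f := Spec.map (CommRingCat.ofHom (algebraMap R S)))
    (g := Spec.map (CommRingCat.ofHom (algebraMap R T))) p q hpq
  refine ⟨(pullbackSpecIso R S T).hom.base z, ?_, ?_⟩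
  · have h := pullbackSpecIso_hom_fst R S T
    have h2 := congrArg (fun φ => φ.base z) h
    exact h2.trans hz₁
  · have h := pullbackSpecIso_hom_snd R S T
    have h2 := congrArg (fun φ => φ.base z) h
    exact h2.trans hz₂

end Prime

section SpecMap

variable {A B : Type u} [CommRing A] [CommRing B] [Algebra A B]

/-- The base change of `Spec B ⟶ Spec A` to an affine scheme is the spectrum of `includeRight`. -/
theorem isOpenMap_snd_specMap_iff (A' : Type u) [CommRing A'] [Algebra A A'] :
    IsOpenMap (pullback.snd (Spec.map (CommRingCat.ofHom (algebraMap A B)))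
      (Spec.map (CommRingCat.ofHom (algebraMap A A')))).base ↔
    IsOpenMap (PrimeSpectrum.comap
      (Algebra.TensorProduct.includeRight : A' →ₐ[A] B ⊗[A] A').toRingHom) := by
  have h1 := pullbackSpecIso_inv_snd A B A'
  have h2 := pullbackSpecIso_hom_snd A B A'
  constructor
  · intro h
    have h3 : IsOpenMap ((pullbackSpecIso A B A').inv ≫ pullback.snd _ _).base :=
      h.comp (pullbackSpecIso A B A').inv.homeomorph.isOpenMap
    rw [h1] at h3
    exact h3
  · intro h
    rw [← h2]
    exact IsOpenMap.comp (g := (Spec.map (CommRingCat.ofHom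
      (Algebra.TensorProduct.includeRight : A' →ₐ[A] B ⊗[A] A').toRingHom)).base) h
      (pullbackSpecIso A B A').hom.homeomorph.isOpenMap

set_option maxHeartbeats 800000 in
/-- Universal openness of `Spec B ⟶ Spec A` in ring-theoretic terms. -/
theorem universallyOpen_specMap_iff :
    UniversallyOpen (Spec.map (CommRingCat.ofHom (algebraMap A B))) ↔
      ∀ (A' : Type u) [CommRing A'] [Algebra A A'], IsOpenMap (PrimeSpectrum.comap
        (Algebra.TensorProduct.includeRight : A' →ₐ[A] B ⊗[A] A').toRingHom) := by
  constructor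
  · intro h A' _ _
    rw [← isOpenMap_snd_specMap_iff]
    exact (pullback.snd (Spec.map (CommRingCat.ofHom (algebraMap A B)))
      (Spec.map (CommRingCat.ofHom (algebraMap A A')))).isOpenMap
  · intro h
    set f := Spec.map (CommRingCat.ofHom (algebraMap A B)) with hf
    rw [UniversallyOpen.eq]
    apply MorphismProperty.universally_mk'
    intro T g _
    rw [IsZariskiLocalAtTarget.iff_of_openCover (P := topologically @IsOpenMap) T.affineCover]
    intro k
    change IsOpenMap (pullback.snd (pullback.fst g f) (T.affineCover.f k)).base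
    -- the affine piece
    let Tk := T.affineCover.X k
    let φ : CommRingCat.of A ⟶ Γ(Tk, ⊤) := Spec.preimage (Tk.isoSpec.inv ≫ T.affineCover.f k ≫ g)
    have hφ : T.affineCover.f k ≫ g = Tk.isoSpec.hom ≫ Spec.map φ := by
      rw [Spec.map_preimage, Iso.hom_inv_id_assoc]
    letI : Algebra A Γ(Tk, ⊤) := φ.hom.toAlgebra
    have h1 : IsOpenMap (pullback.snd f (Spec.map φ)).base :=
      (isOpenMap_snd_specMap_iff (A := A) (B := B) Γ(Tk, ⊤)).mpr (h Γ(Tk, ⊤))
    have h1' : IsOpenMap (pullback.snd f (Tk.isoSpec.hom ≫ Spec.map φ)).base :=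
      isOpenMap_snd_comp_of_isOpenImmersion f _ Tk.isoSpec.hom h1
    rw [← hφ] at h1'
    let e1 : pullback (pullback.fst g f) (T.affineCover.f k) ≅
        pullback (T.affineCover.f k) (pullback.fst g f) := pullbackSymmetry _ _
    let e2 : pullback (T.affineCover.f k) (pullback.fst g f) ≅
        pullback (T.affineCover.f k ≫ g) f := pullbackRightPullbackFstIso g f (T.affineCover.f k)
    let e3 : pullback (T.affineCover.f k ≫ g) f ≅ pullback f (T.affineCover.f k ≫ g) :=
      pullbackSymmetry _ _
    have h2 : pullback.snd (pullback.fst g f) (T.affineCover.f k) =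
        (e1 ≪≫ e2 ≪≫ e3).hom ≫ pullback.snd f (T.affineCover.f k ≫ g) := by
      simp only [Iso.trans_hom, Category.assoc, e1, e2, e3, pullbackSymmetry_hom_comp_snd,
        pullbackRightPullbackFstIso_hom_fst, pullbackSymmetry_hom_comp_fst]
    rw [h2]
    change IsOpenMap ((pullback.snd f (T.affineCover.f k ≫ g)).base ∘ (e1 ≪≫ e2 ≪≫ e3).hom.base)
    exact IsOpenMap.comp h1' (e1 ≪≫ e2 ≪≫ e3).hom.homeomorph.isOpenMap

end SpecMap

end Groth.Agent.Helper4.UOpen
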