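import Mathlib
import Groth.Agent.Lib.Helper4.UOpen8

/-!
# Universal openness of a finite algebra via the generic linear form
-/

set_option autoImplicit false

universe u

open TensorProduct CategoryTheory CategoryTheory.Limits AlgebraicGeometry PrimeSpectrum

namespace Groth.Agent.Helper4.UOpen

variable {A B : Type u} [CommRing A] [CommRing B] [Algebra A B] {d : ℕ} (b : Fin d → B)

/-- The generic linear form `Σ xᵢ bᵢ`. -/
noncomputable abbrev linForm : MvPolynomial (Fin d) B :=
  ∑ i : Fin d, MvPolynomial.X i * MvPolynomial.C (b i)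

/-- The image of `D(Σ xᵢ bᵢ)` in `Spec A[x]`. -/
abbrev linImage : Set (PrimeSpectrum (MvPolynomial (Fin d) A)) :=
  comap (MvPolynomial.map (σ := Fin d) (algebraMap A B)) ''
    (basicOpen (linForm b) : Set (PrimeSpectrum (MvPolynomial (Fin d) B)))

theorem isOpen_linImage_of_universallyOpen
    (h : UniversallyOpen (Spec.map (CommRingCat.ofHom (algebraMap A B)))) :
    IsOpen (linImage (A := A) b) := by
  have h1 := universallyOpen_specMap_iff.mp h (MvPolynomial (Fin d) A)
  let τ := MvPolynomial.algebraTensorAlgEquiv (σ := Fin d) A B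
  have hμ : MvPolynomial.map (σ := Fin d) (algebraMap A B) =
      (τ : B ⊗[A] MvPolynomial (Fin d) A →+* MvPolynomial (Fin d) B).comp
        (Algebra.TensorProduct.includeRight :
          MvPolynomial (Fin d) A →ₐ[A] B ⊗[A] MvPolynomial (Fin d) A).toRingHom := by
    apply RingHom.ext
    intro p
    change _ = τ ((1 : B) ⊗ₜ p)
    rw [MvPolynomial.algebraTensorAlgEquiv_tmul, one_smul]
  have hopen : IsOpenMap (comap (MvPolynomial.map (σ := Fin d) (algebraMap A B))) := by
    rw [hμ]
    have : comap ((τ : B ⊗[A] MvPolynomial (Fin d) A →+* MvPolynomial (Fin d) B).comp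
        (Algebra.TensorProduct.includeRight :
          MvPolynomial (Fin d) A →ₐ[A] B ⊗[A] MvPolynomial (Fin d) A).toRingHom) =
        comap (Algebra.TensorProduct.includeRight :
          MvPolynomial (Fin d) A →ₐ[A] B ⊗[A] MvPolynomial (Fin d) A).toRingHom ∘
        comap (τ : B ⊗[A] MvPolynomial (Fin d) A →+* MvPolynomial (Fin d) B) := by
      ext1 q
      rfl
    rw [this]
    refine h1.comp ?_
    exact (PrimeSpectrum.homeomorphOfRingEquiv τ.toRingEquiv).symm.isOpenMap
  exact hopen _ (basicOpen (linForm b)).isOpen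

variable {b}

theorem exists_eq_sum_tmul (hb : Submodule.span A (Set.range b) = ⊤) {A' : Type u} [CommRing A']
    [Algebra A A'] (g : B ⊗[A] A') : ∃ a' : Fin d → A', g = ∑ i, b i ⊗ₜ[A] a' i := by
  induction g using TensorProduct.induction_on with
  | zero => exact ⟨0, by simp⟩
  | tmul β α =>
    have hβ : β ∈ Submodule.span A (Set.range b) := hb ▸ Submodule.mem_top
    obtain ⟨c, rfl⟩ := (Submodule.mem_span_range_iff_exists_fun A).mp hβ
    refine ⟨fun i => c i • α, ?_⟩
    rw [TensorProduct.sum_tmul]
    refine Finset.sum_congr rfl fun i _ => ?_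
    rw [TensorProduct.smul_tmul]
  | add x y hx hy =>
    obtain ⟨a₁, rfl⟩ := hx
    obtain ⟨a₂, rfl⟩ := hy
    refine ⟨a₁ + a₂, ?_⟩
    rw [← Finset.sum_add_distrib]
    refine Finset.sum_congr rfl fun i _ => ?_
    rw [Pi.add_apply, TensorProduct.tmul_add]

set_option maxHeartbeats 1600000 in
theorem isOpenMap_comap_includeRight_of_isOpen_linImage
    (hb : Submodule.span A (Set.range b) = ⊤) (hopen : IsOpen (linImage (A := A) b))
    (A' : Type u) [CommRing A'] [Algebra A A'] :
    IsOpenMap (comap (Algebra.TensorProduct.includeRight : A' →ₐ[A] B ⊗[A] A').toRingHom) := by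
  rw [isBasis_basic_opens.isOpenMap_iff]
  rintro _ ⟨_, ⟨g, rfl⟩, rfl⟩
  obtain ⟨a', rfl⟩ := exists_eq_sum_tmul hb g
  set incl : A' →+* B ⊗[A] A' :=
    (Algebra.TensorProduct.includeRight : A' →ₐ[A] B ⊗[A] A').toRingHom with hincl
  let ev : MvPolynomial (Fin d) A →ₐ[A] A' := MvPolynomial.aeval a'
  let μ : MvPolynomial (Fin d) A →+* MvPolynomial (Fin d) B :=
    MvPolynomial.map (algebraMap A B)
  let Ψ : MvPolynomial (Fin d) B →+* B ⊗[A] A' :=
    MvPolynomial.eval₂Hom (Algebra.TensorProduct.includeLeftRingHom : B →+* B ⊗[A] A')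
      (fun i => (1 : B) ⊗ₜ[A] a' i)
  have hΨh : Ψ (linForm b) = ∑ i, b i ⊗ₜ[A] a' i := by
    simp only [linForm, map_sum, map_mul, Ψ, MvPolynomial.coe_eval₂Hom, MvPolynomial.eval₂_X,
      MvPolynomial.eval₂_C, Algebra.TensorProduct.includeLeftRingHom_apply,
      Algebra.TensorProduct.tmul_mul_tmul, one_mul, mul_one]
  have hΨμ : Ψ.comp μ = incl.comp (ev : MvPolynomial (Fin d) A →+* A') := by
    apply MvPolynomial.ringHom_ext
    · intro a
      simp only [RingHom.comp_apply, μ, Ψ, MvPolynomial.map_C, MvPolynomial.coe_eval₂Hom,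
        MvPolynomial.eval₂_C, Algebra.TensorProduct.includeLeftRingHom_apply, hincl]
      change algebraMap A B a ⊗ₜ[A] (1 : A') = (1 : B) ⊗ₜ[A] (ev (MvPolynomial.C a))
      rw [show ev (MvPolynomial.C a) = algebraMap A A' a from MvPolynomial.aeval_C _ _,
        Algebra.algebraMap_eq_smul_one, Algebra.algebraMap_eq_smul_one, TensorProduct.smul_tmul]
    · intro i
      simp only [RingHom.comp_apply, μ, Ψ, MvPolynomial.map_X, MvPolynomial.coe_eval₂Hom,
        MvPolynomial.eval₂_X, hincl]
      change (1 : B) ⊗ₜ[A] a' i = (1 : B) ⊗ₜ[A] (ev (MvPolynomial.X i))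
      rw [show ev (MvPolynomial.X i) = a' i from MvPolynomial.aeval_X _ _]
  have hset : comap incl '' (basicOpen (∑ i, b i ⊗ₜ[A] a' i) : Set (PrimeSpectrum (B ⊗[A] A'))) =
      comap (ev : MvPolynomial (Fin d) A →+* A') ⁻¹' linImage (A := A) b := by
    ext p'
    constructor
    · rintro ⟨q', hq', rfl⟩
      refine ⟨comap Ψ q', ?_, ?_⟩
      · change Ψ (linForm b) ∉ q'.asIdeal
        rw [hΨh]
        exact hq'
      · change comap μ (comap Ψ q') = comap (ev : MvPolynomial (Fin d) A →+* A') (comap incl q')
        rw [← comap_comp_apply, ← comap_comp_apply, hΨμ]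
    · rintro ⟨Q, hQ, hQp'⟩
      -- the finer tensor product
      letI algBx : Algebra (MvPolynomial (Fin d) A) (MvPolynomial (Fin d) B) := μ.toAlgebra
      letI algA' : Algebra (MvPolynomial (Fin d) A) A' := (ev : MvPolynomial (Fin d) A →+* A').toAlgebra
      obtain ⟨P, hP₁, hP₂⟩ := exists_prime_tensorProduct (MvPolynomial (Fin d) A)
        (MvPolynomial (Fin d) B) A' Q p' hQp'
      let C' := MvPolynomial (Fin d) B ⊗[MvPolynomial (Fin d) A] A'
      let inclL : MvPolynomial (Fin d) B →+* C' := Algebra.TensorProduct.includeLeftRingHom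
      let inclR : A' →+* C' :=
        (Algebra.TensorProduct.includeRight : A' →ₐ[MvPolynomial (Fin d) A] C').toRingHom
      letI : Algebra A C' := Algebra.compHom C' (algebraMap A (MvPolynomial (Fin d) A))
      let fB : B →ₐ[A] C' :=
        { toRingHom := inclL.comp MvPolynomial.C
          commutes' := by
            intro a
            change (MvPolynomial.C (algebraMap A B a) : MvPolynomial (Fin d) B) ⊗ₜ (1 : A') =
              algebraMap (MvPolynomial (Fin d) A) C' (MvPolynomial.C a)
            rw [Algebra.TensorProduct.algebraMap_apply]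
            change _ = μ (MvPolynomial.C a) ⊗ₜ (1 : A')
            rw [MvPolynomial.map_C] }
      let gA' : A' →ₐ[A] C' :=
        { toRingHom := inclR
          commutes' := by
            intro a
            change (1 : MvPolynomial (Fin d) B) ⊗ₜ (algebraMap A A' a) =
              algebraMap (MvPolynomial (Fin d) A) C' (MvPolynomial.C a)
            rw [Algebra.TensorProduct.algebraMap_apply]
            have h1 : algebraMap A A' a = (MvPolynomial.C a : MvPolynomial (Fin d) A) • (1 : A') := by
              rw [Algebra.smul_def, mul_one]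
              exact (MvPolynomial.aeval_C _ _).symm
            rw [h1, ← TensorProduct.smul_tmul, Algebra.smul_def, mul_one] }
      let θ : B ⊗[A] A' →ₐ[A] C' :=
        Algebra.TensorProduct.lift fB gA' (fun _ _ => Commute.all _ _)
      have hθincl : (θ : B ⊗[A] A' →+* C').comp incl = inclR := by
        apply RingHom.ext
        intro α
        change θ ((1 : B) ⊗ₜ α) = inclR α
        rw [Algebra.TensorProduct.lift_tmul, map_one, one_mul]
        rfl
      have hθΨ : (θ : B ⊗[A] A' →+* C').comp Ψ = inclL := by
        apply MvPolynomial.ringHom_ext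
        · intro β
          simp only [RingHom.comp_apply, Ψ, MvPolynomial.coe_eval₂Hom, MvPolynomial.eval₂_C,
            Algebra.TensorProduct.includeLeftRingHom_apply]
          change θ (β ⊗ₜ (1 : A')) = inclL (MvPolynomial.C β)
          rw [Algebra.TensorProduct.lift_tmul, map_one, mul_one]
          rfl
        · intro i
          simp only [RingHom.comp_apply, Ψ, MvPolynomial.coe_eval₂Hom, MvPolynomial.eval₂_X]
          change θ ((1 : B) ⊗ₜ a' i) = inclL (MvPolynomial.X i)
          rw [Algebra.TensorProduct.lift_tmul, map_one, one_mul]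
          change (1 : MvPolynomial (Fin d) B) ⊗ₜ[MvPolynomial (Fin d) A] (a' i) =
            (MvPolynomial.X i : MvPolynomial (Fin d) B) ⊗ₜ[MvPolynomial (Fin d) A] (1 : A')
          have h1 : a' i = (MvPolynomial.X i : MvPolynomial (Fin d) A) • (1 : A') := by
            rw [Algebra.smul_def, mul_one]
            exact (MvPolynomial.aeval_X _ _).symm
          have h2 : (MvPolynomial.X i : MvPolynomial (Fin d) B) =
              (MvPolynomial.X i : MvPolynomial (Fin d) A) • (1 : MvPolynomial (Fin d) B) := by
            rw [Algebra.smul_def, mul_one]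
            exact (MvPolynomial.map_X _ _).symm
          rw [h1, h2, TensorProduct.smul_tmul]
      let q' : PrimeSpectrum (B ⊗[A] A') := comap (θ : B ⊗[A] A' →+* C') P
      have hq'Ψ : comap Ψ q' = Q := by
        change comap Ψ (comap (θ : B ⊗[A] A' →+* C') P) = Q
        rw [← comap_comp_apply, hθΨ]
        exact hP₁
      refine ⟨q', ?_, ?_⟩
      · change (∑ i, b i ⊗ₜ[A] a' i) ∉ q'.asIdeal
        rw [← hΨh]
        change linForm b ∉ (comap Ψ q').asIdeal
        rw [hq'Ψ]
        exact hQ
      · change comap incl (comap (θ : B ⊗[A] A' →+* C') P) = p'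
        rw [← comap_comp_apply, hθincl]
        exact hP₂
  rw [hset]
  exact hopen.preimage (continuous_comap _)

/-- **Stacks-type criterion**: universal openness of a finite algebra via the generic linear form. -/
theorem universallyOpen_iff_isOpen_linImage (hb : Submodule.span A (Set.range b) = ⊤) :
    UniversallyOpen (Spec.map (CommRingCat.ofHom (algebraMap A B))) ↔ IsOpen (linImage (A := A) b) :=
  ⟨isOpen_linImage_of_universallyOpen b, fun h => universallyOpen_specMap_iff.mpr
    fun A' _ _ => isOpenMap_comap_includeRight_of_isOpen_linImage hb h A'⟩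

end Groth.Agent.Helper4.UOpen
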