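import Mathlib
import Groth.Agent.Lib.Helper4.GraphCl2
import Groth.Agent.Lib.Helper4.CurveExt

/-!
# A rational map is defined at `x` iff its pullback by a universally open morphism is defined at a
point over `x` (EGA IV 20.4.x; helper4, S3837)
-/

set_option autoImplicit false
universe u
open AlgebraicGeometry CategoryTheory CategoryTheory.Limits

namespace Groth.Agent.Helper4.UOpenExt

variable {X X' Y S : Scheme.{u}} (pX : X ⟶ S) (pY : Y ⟶ S)

set_option maxHeartbeats 1600000 in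
theorem exists_extension_of_pullback_extension
    [LocallyOfFiniteType pY] [IsSeparated pY]
    (hX : ∀ y : ↥X, ∃ W : X.Opens, y ∈ W ∧ IsIntegral (W : Scheme.{u}))
    (hXn : ∀ y : ↥X, IsIntegrallyClosed (X.presheaf.stalk y))
    (U : X.Opens) (hU : Dense (U : Set ↥X)) (h : (U : Scheme.{u}) ⟶ Y) (hh : h ≫ pY = U.ι ≫ pX)
    (f : X' ⟶ X) [UniversallyOpen f] (x' : ↥X')
    (V' : X'.Opens) (v' : (V' : Scheme.{u}) ⟶ Y) (hx'V' : x' ∈ V')
    (hv'S : v' ≫ pY = V'.ι ≫ f ≫ pX)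
    (hv' : X'.homOfLE (inf_le_right : f ⁻¹ᵁ U ⊓ V' ≤ V') ≫ v' =
          X'.homOfLE (inf_le_left : f ⁻¹ᵁ U ⊓ V' ≤ f ⁻¹ᵁ U) ≫ (f ∣_ U) ≫ h) :
    ∃ (V : X.Opens) (v : (V : Scheme.{u}) ⟶ Y), f x' ∈ V ∧ v ≫ pY = V.ι ≫ pX ∧
        X.homOfLE (inf_le_right : U ⊓ V ≤ V) ≫ v = X.homOfLE (inf_le_left : U ⊓ V ≤ U) ≫ h := by
  have hh' : U.ι ≫ pX = h ≫ pY := hh.symm
  let P := pullback pX pY
  let fP : P ⟶ X := pullback.fst pX pY
  let γ : (U : Scheme.{u}) ⟶ P := pullback.lift U.ι h hh'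
  have hγf : γ ≫ fP = U.ι := pullback.lift_fst _ _ _
  have hγs : γ ≫ pullback.snd pX pY = h := pullback.lift_snd _ _ _
  let P'' := pullback f fP
  let π : P'' ⟶ X' := pullback.fst f fP
  let ρ : P'' ⟶ P := pullback.snd f fP
  have hπρ : π ≫ f = ρ ≫ fP := pullback.condition
  haveI : IsSeparated fP := inferInstance
  haveI : IsSeparated π := inferInstance
  haveI : UniversallyOpen ρ := inferInstance
  let U' : X'.Opens := f ⁻¹ᵁ U
  let γ'' : (U' : Scheme.{u}) ⟶ P'' := pullback.lift U'.ι ((f ∣_ U) ≫ γ)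
    (by rw [Category.assoc, hγf, morphismRestrict_ι])
  have hγ''π : γ'' ≫ π = U'.ι := pullback.lift_fst _ _ _
  have hγ''ρ : γ'' ≫ ρ = (f ∣_ U) ≫ γ := pullback.lift_snd _ _ _
  let σρ : (V' : Scheme.{u}) ⟶ P := pullback.lift (V'.ι ≫ f) v'
    (by rw [Category.assoc]; exact hv'S.symm)
  let σ : (V' : Scheme.{u}) ⟶ P'' := pullback.lift V'.ι σρ (by
    simp only [σρ, fP]; rw [pullback.lift_fst])
  have hσπ : σ ≫ π = V'.ι := pullback.lift_fst _ _ _
  have hσρ : σ ≫ ρ = σρ := pullback.lift_snd _ _ _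
  -- Step 1
  have step1 : ρ ⁻¹' Set.range γ ⊆ Set.range γ'' := by
    rintro w ⟨u₀, hu₀⟩
    obtain ⟨t, ht1, ht2⟩ := Scheme.Pullback.exists_preimage_pullback (f := ρ) (g := γ) w u₀ hu₀.symm
    have hcond : pullback.fst ρ γ ≫ π ≫ f = pullback.snd ρ γ ≫ U.ι := by
      rw [hπρ, ← Category.assoc, pullback.condition, Category.assoc, hγf]
    have hr : Set.range (pullback.fst ρ γ ≫ π) ⊆ Set.range U'.ι := by
      rw [Scheme.Opens.range_ι]
      rintro _ ⟨p, rfl⟩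
      change f ((pullback.fst ρ γ ≫ π) p) ∈ U
      rw [← Scheme.Hom.comp_apply, Category.assoc, hcond, Scheme.Hom.comp_apply]
      exact (pullback.snd ρ γ p).2
    let τ : pullback ρ γ ⟶ (U' : Scheme.{u}) := IsOpenImmersion.lift U'.ι (pullback.fst ρ γ ≫ π) hr
    have hτ : τ ≫ U'.ι = pullback.fst ρ γ ≫ π := IsOpenImmersion.lift_fac _ _ _
    have hτ2 : τ ≫ (f ∣_ U) = pullback.snd ρ γ := by
      rw [← cancel_mono U.ι, Category.assoc, morphismRestrict_ι, ← Category.assoc, hτ,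
        Category.assoc, hcond]
    have key : pullback.fst ρ γ = τ ≫ γ'' := by
      apply pullback.hom_ext
      · change _ ≫ π = _ ≫ π
        rw [Category.assoc, hγ''π, hτ]
      · change _ ≫ ρ = _ ≫ ρ
        rw [Category.assoc, hγ''ρ, ← Category.assoc, hτ2, pullback.condition]
    refine ⟨τ t, ?_⟩
    rw [← Scheme.Hom.comp_apply, ← key, ht1]
  -- Step 2
  have step2 : ρ ⁻¹' closure (Set.range γ) ⊆ closure (Set.range γ'') := by
    rw [ρ.isOpenMap.preimage_closure_eq_closure_preimage ρ.continuous]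
    exact closure_mono step1
  -- Step 3a
  have step3a : X'.homOfLE (inf_le_left : U' ⊓ V' ≤ U') ≫ γ'' =
      X'.homOfLE (inf_le_right : U' ⊓ V' ≤ V') ≫ σ := by
    apply pullback.hom_ext
    · change _ ≫ π = _ ≫ π
      rw [Category.assoc, Category.assoc, hγ''π, hσπ, Scheme.homOfLE_ι, Scheme.homOfLE_ι]
    · change _ ≫ ρ = _ ≫ ρ
      rw [Category.assoc, Category.assoc, hγ''ρ, hσρ]
      apply pullback.hom_ext
      · change _ ≫ fP = _ ≫ fP
        simp only [Category.assoc, hγf, σρ, fP]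
        rw [pullback.lift_fst, morphismRestrict_ι, Scheme.homOfLE_ι_assoc,
          Scheme.homOfLE_ι_assoc]
      · simp only [Category.assoc, hγs, σρ]
        rw [pullback.lift_snd]
        exact hv'.symm
  have step3a' : ∀ (t : X') (htU : t ∈ U') (htV : t ∈ V'),
      γ'' ⟨t, htU⟩ = σ ⟨t, htV⟩ := by
    intro t htU htV
    have htUV : t ∈ U' ⊓ V' := ⟨htU, htV⟩
    have h4 := congrArg (fun g => g (⟨t, htUV⟩ : ((U' ⊓ V' : X'.Opens) : Scheme.{u}))) step3a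
    simp only [Scheme.Hom.comp_apply] at h4
    rw [Scheme.homOfLE_apply' _ _ htUV, Scheme.homOfLE_apply' _ _ htUV] at h4
    exact h4
  -- Step 3b
  let B := pullback V'.ι π
  let pr₁ : B ⟶ (V' : Scheme.{u}) := pullback.fst V'.ι π
  let pr₂ : B ⟶ P'' := pullback.snd V'.ι π
  let σ'' : (V' : Scheme.{u}) ⟶ B := pullback.lift (𝟙 _) σ (by rw [Category.id_comp, hσπ])
  have hσ''1 : σ'' ≫ pr₁ = 𝟙 _ := pullback.lift_fst _ _ _
  have hσ''2 : σ'' ≫ pr₂ = σ := pullback.lift_snd _ _ _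
  haveI : IsSeparated pr₁ := inferInstance
  haveI : IsClosedImmersion (σ'' ≫ pr₁) := by rw [hσ''1]; infer_instance
  haveI : IsClosedImmersion σ'' := IsClosedImmersion.of_comp σ'' pr₁
  have hpr₂ : Set.range pr₂ = π ⁻¹' (V' : Set X') := by
    rw [Scheme.Pullback.range_snd, Scheme.Opens.range_ι]
  have step3 : ∀ w : P'', w ∈ closure (Set.range γ'') → π w ∈ V' → w ∈ Set.range σ := by
    intro w hw hwV
    have hO : IsOpen (π ⁻¹' (V' : Set X')) := V'.2.preimage π.continuous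
    have h1 : w ∈ closure (π ⁻¹' (V' : Set X') ∩ Set.range γ'') := hO.inter_closure ⟨hwV, hw⟩
    have h2 : π ⁻¹' (V' : Set X') ∩ Set.range γ'' ⊆ Set.range σ := by
      rintro _ ⟨hv, ⟨t, rfl⟩⟩
      have hv' : π (γ'' t) ∈ V' := hv
      have e1 : π (γ'' t) = t.1 := by
        rw [← Scheme.Hom.comp_apply, hγ''π]; rfl
      rw [e1] at hv'
      exact ⟨⟨t.1, hv'⟩, (step3a' t.1 t.2 hv').symm⟩
    have h3 : w ∈ closure (Set.range σ) := closure_mono h2 h1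
    obtain ⟨b, rfl⟩ : w ∈ Set.range pr₂ := by rw [hpr₂]; exact hwV
    have h4 : Set.range σ = pr₂ '' Set.range σ'' := by
      rw [← hσ''2]
      ext w
      constructor
      · rintro ⟨t, rfl⟩
        exact ⟨σ'' t, ⟨t, rfl⟩, (Scheme.Hom.comp_apply _ _ _).symm⟩
      · rintro ⟨_, ⟨t, rfl⟩, rfl⟩
        exact ⟨t, Scheme.Hom.comp_apply _ _ _⟩
    have h5 : b ∈ closure (Set.range σ'') := by
      rw [pr₂.isOpenEmbedding.isEmbedding.closure_eq_preimage_closure_image, ← h4]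
      exact h3
    rw [σ''.isClosedEmbedding.isClosed_range.closure_eq] at h5
    obtain ⟨t, rfl⟩ := h5
    exact ⟨t, by rw [← hσ''2, Scheme.Hom.comp_apply]⟩
  -- Step 4
  let x'V : (V' : Scheme.{u}) := ⟨x', hx'V'⟩
  have hU'dense : Dense (U' : Set X') := hU.preimage f.isOpenMap
  have step4 : σ x'V ∈ closure (Set.range γ'') := by
    let D : Set (V' : Scheme.{u}) := V'.ι ⁻¹' (U' : Set X')
    have hD : Dense D := hU'dense.preimage V'.ι.isOpenEmbedding.isOpenMap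
    have h1 : σ x'V ∈ closure (σ '' D) :=
      image_closure_subset_closure_image σ.continuous ⟨_, hD x'V, rfl⟩
    refine closure_mono ?_ h1
    rintro _ ⟨d, hd, rfl⟩
    exact ⟨⟨d.1, hd⟩, step3a' d.1 hd d.2⟩
  -- Step 5
  let z : P := ρ (σ x'V)
  have hz : fP z = f x' := by
    change fP (ρ (σ x'V)) = f x'
    rw [← Scheme.Hom.comp_apply, ← hπρ, Scheme.Hom.comp_apply, ← Scheme.Hom.comp_apply σ π, hσπ]
    rfl
  have hρimg : ρ '' Set.range γ'' ⊆ Set.range γ := by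
    rintro _ ⟨_, ⟨t, rfl⟩, rfl⟩
    refine ⟨(f ∣_ U) t, ?_⟩
    rw [← Scheme.Hom.comp_apply, ← Scheme.Hom.comp_apply, hγ''ρ]
  have hzΓ : z ∈ closure (Set.range γ) := by
    have h1 : z ∈ closure (ρ '' Set.range γ'') :=
      image_closure_subset_closure_image ρ.continuous ⟨_, step4, rfl⟩
    exact closure_mono hρimg h1
  have huniq : ∀ z₂ : P, z₂ ∈ closure (Set.range γ) → fP z₂ = f x' → z₂ = z := by
    intro z₂ hz₂ hz₂x
    obtain ⟨w₂, hw1, hw2⟩ := Scheme.Pullback.exists_preimage_pullback (f := f) (g := fP) x' z₂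
      hz₂x.symm
    have hρw : ρ w₂ = z₂ := hw2
    have h1 : w₂ ∈ closure (Set.range γ'') :=
      step2 (Set.mem_preimage.mpr (by rw [hρw]; exact hz₂))
    have hπw : π w₂ = x' := hw1
    obtain ⟨t, ht⟩ := step3 w₂ h1 (by rw [hπw]; exact hx'V')
    have ht' : t = x'V := by
      apply Subtype.ext
      have : π (σ t) = t.1 := by
        rw [← Scheme.Hom.comp_apply, hσπ]; rfl
      rw [← this, ht, hπw]
    have : ρ w₂ = z₂ := hw2
    rw [← this, ← ht, ht']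
  have hiso : ∃ W : P.Opens, (W : Set P) ∩ closure (Set.range γ) ∩ fP ⁻¹' {f x'} = {z} := by
    refine ⟨⊤, ?_⟩
    ext w
    constructor
    · rintro ⟨⟨-, hw2⟩, hw3⟩
      exact huniq w hw2 hw3
    · rintro rfl
      exact ⟨⟨trivial, hzΓ⟩, hz⟩
  exact GraphCl.exists_extension_of_dense pX pY hX U hU h hh' (f x') (hXn _) z hz hzΓ hiso

/-- the easy direction -/
theorem exists_pullback_extension_of_extension
    (U : X.Opens) (h : (U : Scheme.{u}) ⟶ Y)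
    (f : X' ⟶ X) (x' : ↥X')
    (V : X.Opens) (v : (V : Scheme.{u}) ⟶ Y) (hxV : f x' ∈ V) (hvS : v ≫ pY = V.ι ≫ pX)
    (hv : X.homOfLE (inf_le_right : U ⊓ V ≤ V) ≫ v = X.homOfLE (inf_le_left : U ⊓ V ≤ U) ≫ h) :
    ∃ (V' : X'.Opens) (v' : (V' : Scheme.{u}) ⟶ Y), x' ∈ V' ∧ v' ≫ pY = V'.ι ≫ f ≫ pX ∧
        X'.homOfLE (inf_le_right : f ⁻¹ᵁ U ⊓ V' ≤ V') ≫ v' =
          X'.homOfLE (inf_le_left : f ⁻¹ᵁ U ⊓ V' ≤ f ⁻¹ᵁ U) ≫ (f ∣_ U) ≫ h := by
  refine ⟨f ⁻¹ᵁ V, (f ∣_ V) ≫ v, hxV, ?_, ?_⟩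
  · rw [Category.assoc, hvS, morphismRestrict_ι_assoc]
  · have := CurveExt.agree_of_homOfLE hv
      (X'.homOfLE (inf_le_left : f ⁻¹ᵁ U ⊓ f ⁻¹ᵁ V ≤ f ⁻¹ᵁ U) ≫ (f ∣_ U))
      (X'.homOfLE (inf_le_right : f ⁻¹ᵁ U ⊓ f ⁻¹ᵁ V ≤ f ⁻¹ᵁ V) ≫ (f ∣_ V))
      (by simp only [Category.assoc, morphismRestrict_ι, Scheme.homOfLE_ι_assoc])
    simpa only [Category.assoc] using this

end Groth.Agent.Helper4.UOpenExt
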