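import Mathlib

/-!
# Valuation rings through finite chains of specializations
-/

set_option autoImplicit false
universe u
open CategoryTheory CategoryTheory.Limits AlgebraicGeometry

namespace Groth.Agent.Helper4.ValChain

/-- Composite valuation ring: the preimage in a valuation ring `W` of a valuation subring of its
residue field is a valuation ring. -/
theorem valuationRing_comap_residue (W : Type u) [CommRing W] [IsDomain W] [ValuationRing W]
    (A : ValuationSubring (IsLocalRing.ResidueField W)) :
    ValuationRing ↥(A.toSubring.comap (IsLocalRing.residue W)) := by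
  rw [ValuationRing.iff_dvd_total]
  refine ⟨fun a b => ?_⟩
  -- key: for a b in W' with b = a * c in W, either c ∈ W' or c⁻¹ ∈ W'
  have key : ∀ a b : ↥(A.toSubring.comap (IsLocalRing.residue W)), (a : W) ∣ (b : W) →
      a ∣ b ∨ b ∣ a := by
    rintro a b ⟨c, hc⟩
    by_cases hcA : IsLocalRing.residue W c ∈ A
    · left
      exact ⟨⟨c, hcA⟩, Subtype.ext hc⟩
    · right
      have hne : IsLocalRing.residue W c ≠ 0 := fun h0 => hcA (h0 ▸ A.zero_mem)
      have hunit : IsUnit c := by
        by_contra hnu
        exact hne ((IsLocalRing.residue_eq_zero_iff c).2 ((IsLocalRing.mem_maximalIdeal c).2 hnu))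
      obtain ⟨u, rfl⟩ := hunit
      have hinv : IsLocalRing.residue W (↑u⁻¹ : W) ∈ A := by
        have h1 : IsLocalRing.residue W (↑u⁻¹ : W) = (IsLocalRing.residue W (u : W))⁻¹ := by
          apply eq_inv_of_mul_eq_one_left
          rw [← map_mul, Units.inv_mul, map_one]
        rw [h1]
        exact (A.mem_or_inv_mem _).resolve_left hcA
      refine ⟨⟨(↑u⁻¹ : W), hinv⟩, Subtype.ext ?_⟩
      show (a : W) = (b : W) * ↑u⁻¹
      rw [hc, mul_assoc, Units.mul_inv, mul_one]
  rcases ValuationRing.dvd_total (a : W) (b : W) with h | h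
  · exact key a b h
  · exact (key b a h).symm

open IsLocalRing in
/-- Extension step: a valuation ring mapping to `Y` with closed point going to `y`, and a
specialization `y ⤳ y'`, give a smaller valuation ring whose closed point goes to `y'`. -/
theorem exists_valuationRing_extend {Y : Scheme.{u}} (W : Type u) [CommRing W] [IsDomain W]
    [ValuationRing W] (g : Spec (CommRingCat.of W) ⟶ Y) {y' : Y}
    (h : g (IsLocalRing.closedPoint W) ⤳ y') :
    ∃ (W' : Type u) (_ : CommRing W') (_ : IsDomain W') (_ : ValuationRing W')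
      (ι : W' →+* W) (g' : Spec (CommRingCat.of W') ⟶ Y),
      Spec.map (CommRingCat.ofHom ι) ≫ g' = g ∧ g' (IsLocalRing.closedPoint W') = y' := by
  let ψ : Y.presheaf.stalk (g (closedPoint W)) ⟶ CommRingCat.of W := Scheme.stalkClosedPointTo g
  have hψ : Spec.map ψ ≫ Y.fromSpecStalk (g (closedPoint W)) = g :=
    Scheme.Spec_stalkClosedPointTo_fromSpecStalk g
  let θ : Y.presheaf.stalk y' ⟶ Y.presheaf.stalk (g (closedPoint W)) :=
    Y.presheaf.stalkSpecializes h
  let χ : Y.presheaf.stalk y' →+* ResidueField W := (residue W).comp (ψ.hom.comp θ.hom)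
  obtain ⟨A, hA, hA_local⟩ := IsLocalRing.exists_factor_valuationRing χ
  let W' : Subring W := A.toSubring.comap (residue W)
  haveI : ValuationRing ↥W' := valuationRing_comap_residue W A
  let ψ' : Y.presheaf.stalk y' →+* ↥W' :=
    (ψ.hom.comp θ.hom).codRestrict W' (fun x => hA x)
  have hψ'loc : IsLocalHom ψ' := by
    constructor
    intro x hx
    -- residue restricted to W' → A
    let ρ : ↥W' →+* ↥A.toSubring :=
      ((residue W).comp W'.subtype).codRestrict A.toSubring (fun w => w.2)
    have h1 : IsUnit (ρ (ψ' x)) := hx.map ρ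
    have h2 : ρ (ψ' x) = (χ.codRestrict A.toSubring hA) x := rfl
    rw [h2] at h1
    exact hA_local.map_nonunit x h1
  refine ⟨↥W', inferInstance, inferInstance, inferInstance, W'.subtype,
    Spec.map (CommRingCat.ofHom ψ') ≫ Y.fromSpecStalk y', ?_, ?_⟩
  · rw [← Category.assoc, ← Spec.map_comp]
    have h3 : CommRingCat.ofHom ψ' ≫ CommRingCat.ofHom W'.subtype = θ ≫ ψ := by
      ext x; rfl
    rw [h3, Spec.map_comp, Category.assoc, Scheme.SpecMap_stalkSpecializes_fromSpecStalk]
    exact hψ
  · rw [Scheme.Hom.comp_apply]
    have h1 : Spec.map (CommRingCat.ofHom ψ') (closedPoint ↥W') =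
        closedPoint (Y.presheaf.stalk y') := comap_closedPoint ψ'
    rw [h1, Y.fromSpecStalk_closedPoint]

/-- Every finite chain of specializations in a scheme is the image of a chain in the spectrum of
a valuation ring, the last point being the closed point. -/
theorem exists_valuationRing_chain {Y : Scheme.{u}} (y : ℕ → Y) :
    ∀ n : ℕ, (∀ k < n, y k ⤳ y (k + 1)) →
    ∃ (W : Type u) (_ : CommRing W) (_ : IsDomain W) (_ : ValuationRing W)
      (g : Spec (CommRingCat.of W) ⟶ Y) (p : ℕ → Spec (CommRingCat.of W)),
      (∀ k < n, p k ⤳ p (k + 1)) ∧ (∀ k ≤ n, g (p k) = y k) ∧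
        p n = IsLocalRing.closedPoint W := by
  intro n
  induction n with
  | zero =>
    intro _
    let K := IsLocalRing.ResidueField (Y.presheaf.stalk (y 0))
    let g : Spec (CommRingCat.of K) ⟶ Y := Y.fromSpecResidueField (y 0)
    refine ⟨K, inferInstance, inferInstance, inferInstance, g,
      fun _ => IsLocalRing.closedPoint K, ?_, ?_, rfl⟩
    · intro k hk; exact absurd hk (Nat.not_lt_zero k)
    · intro k hk
      obtain rfl : k = 0 := Nat.le_zero.1 hk
      exact Scheme.fromSpecResidueField_apply _ _
  | succ n ih =>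
    intro hy
    obtain ⟨W, _, _, _, g, p, hp1, hp2, hp3⟩ := ih (fun k hk => hy k (Nat.lt_succ_of_lt hk))
    have hsp : g (IsLocalRing.closedPoint W) ⤳ y (n + 1) := by
      rw [← hp3, hp2 n le_rfl]
      exact hy n (Nat.lt_succ_self n)
    obtain ⟨W', _, _, _, ι, g', hg', hcl⟩ := exists_valuationRing_extend W g hsp
    let r : Spec (CommRingCat.of W) ⟶ Spec (CommRingCat.of W') := Spec.map (CommRingCat.ofHom ι)
    refine ⟨W', inferInstance, inferInstance, inferInstance, g',
      fun k => if k ≤ n then r (p k) else IsLocalRing.closedPoint W', ?_, ?_, ?_⟩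
    · intro k hk
      by_cases hkn : k + 1 ≤ n
      · have hk' : k ≤ n := Nat.le_of_succ_le hkn
        simp only [hk', hkn, if_true]
        exact (hp1 k hkn).map r.continuous
      · simp only [hkn, if_false]
        exact IsLocalRing.specializes_closedPoint _
    · intro k hk
      by_cases hkn : k ≤ n
      · simp only [hkn, if_true]
        rw [← Scheme.Hom.comp_apply, hg']
        exact hp2 k hkn
      · have : k = n + 1 := by omega
        subst this
        simp only [hkn, if_false]
        exact hcl
    · simp

end Groth.Agent.Helper4.ValChain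

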