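import Groth.Agent.Lib.Helper4.CurveVal

/-!
# Valuation rings dominating local rings, for universally closed morphisms (helper4)
-/

set_option autoImplicit false
universe u
open AlgebraicGeometry CategoryTheory CategoryTheory.Limits

namespace Groth.Agent.Helper4.ValDom

set_option backward.isDefEq.respectTransparency false in
/-- for a universally closed morphism `f : X ⟶ Y` of integral schemes, a valuation ring of the
function field of `X` containing the image of a local ring of `Y` dominates a local ring
of `X` -/
theorem exists_dominated {X Y : Scheme.{u}} [IsIntegral X] (f : X ⟶ Y) [UniversallyClosed f]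
    (R : ValuationSubring X.functionField) (y : Y) (hy : f.base (genericPoint X) ⤳ y)
    (hdom : ∀ a : Y.presheaf.stalk y,
      (Y.presheaf.stalkSpecializes hy ≫ f.stalkMap (genericPoint X)).hom a ∈ R) :
    ∃ (x : X) (θ : X.presheaf.stalk x →+* R), IsLocalHom θ ∧
      ∀ a, ((θ a : R) : X.functionField) = algebraMap (X.presheaf.stalk x) X.functionField a := by
  have hex : ValuativeCriterion.Existence f := by
    have h : UniversallyClosed f := inferInstance
    rw [UniversallyClosed.eq_valuativeCriterion] at h
    exact h.1
  let κ : Y.presheaf.stalk y →+* R :=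
    (Y.presheaf.stalkSpecializes hy ≫ f.stalkMap (genericPoint X)).hom.codRestrict R.toSubring hdom
  let sq : ValuativeCommSq f :=
    { R := R
      K := X.functionField
      i₁ := X.fromSpecStalk (genericPoint X)
      i₂ := Spec.map (CommRingCat.ofHom κ) ≫ Y.fromSpecStalk y
      commSq := ⟨by
        rw [← Category.assoc, ← Spec.map_comp]
        have h1 : CommRingCat.ofHom κ ≫ CommRingCat.ofHom (algebraMap R X.functionField) =
            Y.presheaf.stalkSpecializes hy ≫ f.stalkMap (genericPoint X) := rfl
        rw [h1, Spec.map_comp, Category.assoc, Scheme.SpecMap_stalkSpecializes_fromSpecStalk,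
          Scheme.SpecMap_stalkMap_fromSpecStalk]⟩ }
  obtain ⟨⟨ℓ, hℓ1, hℓ2⟩⟩ := (hex sq).exists_lift
  change Spec (CommRingCat.of R) ⟶ X at ℓ
  change Spec.map (CommRingCat.ofHom (algebraMap R X.functionField)) ≫ ℓ =
    X.fromSpecStalk (genericPoint X) at hℓ1
  have hξx : genericPoint X ⤳ ℓ (IsLocalRing.closedPoint R) :=
    (genericPoint_spec X).specializes trivial
  refine ⟨ℓ (IsLocalRing.closedPoint R), (Scheme.stalkClosedPointTo ℓ).hom, inferInstance, ?_⟩
  have h1 : Spec.map (CommRingCat.ofHom (algebraMap R X.functionField)) ≫
      Spec.map (Scheme.stalkClosedPointTo ℓ) ≫ X.fromSpecStalk (ℓ (IsLocalRing.closedPoint R)) =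
      Spec.map (X.presheaf.stalkSpecializes hξx) ≫
        X.fromSpecStalk (ℓ (IsLocalRing.closedPoint R)) := by
    rw [Scheme.Spec_stalkClosedPointTo_fromSpecStalk, hℓ1,
      Scheme.SpecMap_stalkSpecializes_fromSpecStalk]
  rw [← Category.assoc, cancel_mono, ← Spec.map_comp] at h1
  have h2 := Spec.map_injective h1
  intro a
  exact congrArg (fun f => f.hom a) h2

end Groth.Agent.Helper4.ValDom
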