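import Mathlib

/-!
# A closed birational morphism from an integral separated scheme to the spectrum of a valuation ring
is an isomorphism (EGA II 7.3.x-type)
-/

set_option autoImplicit false

universe u

open CategoryTheory CategoryTheory.Limits AlgebraicGeometry

namespace Groth.Agent.Helper4.ValIso

/-- A local injective homomorphism from a valuation ring to a domain which is "birational" is
surjective. -/
theorem surjective_of_valuationRing {A B : Type*} [CommRing A] [IsDomain A] [ValuationRing A]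
    [CommRing B] [IsDomain B] (ψ : A →+* B) (hinj : Function.Injective ψ)
    (hloc : ∀ a, IsUnit (ψ a) → IsUnit a)
    (hbir : ∀ b : B, ∃ a₁ a₂ : A, a₂ ≠ 0 ∧ ψ a₂ * b = ψ a₁) : Function.Surjective ψ := by
  intro b
  obtain ⟨a₁, a₂, ha₂, h⟩ := hbir b
  have hψa₂ : ψ a₂ ≠ 0 := fun h0 => ha₂ (hinj (by rw [h0, map_zero]))
  rcases ValuationRing.dvd_total a₁ a₂ with ⟨c, hc⟩ | ⟨c, hc⟩
  · -- `a₂ = a₁ c`
    have ha₁ : a₁ ≠ 0 := by
      rintro rfl
      exact ha₂ (by rw [hc, zero_mul])
    have hψa₁ : ψ a₁ ≠ 0 := fun h0 => ha₁ (hinj (by rw [h0, map_zero]))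
    have h1 : ψ a₁ * (ψ c * b - 1) = 0 := by
      rw [mul_sub, mul_one, ← mul_assoc, ← map_mul, ← hc, h, sub_self]
    have h2 : ψ c * b = 1 := by
      rcases mul_eq_zero.mp h1 with h0 | h0
      · exact absurd h0 hψa₁
      · exact sub_eq_zero.mp h0
    have hcu : IsUnit c := hloc c (IsUnit.of_mul_eq_one _ h2)
    obtain ⟨u, rfl⟩ := hcu
    refine ⟨(u⁻¹ : Aˣ), ?_⟩
    have h3 : ψ (u : A) * ψ ((u⁻¹ : Aˣ) : A) = 1 := by
      rw [← map_mul, Units.mul_inv, map_one]
    have h4 : ψ (u : A) ≠ 0 := left_ne_zero_of_mul_eq_one h2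
    exact mul_left_cancel₀ h4 (h3.trans h2.symm)
  · -- `a₁ = a₂ c`
    refine ⟨c, ?_⟩
    have h1 : ψ a₂ * (b - ψ c) = 0 := by
      rw [mul_sub, h, ← map_mul, ← hc, sub_self]
    rcases mul_eq_zero.mp h1 with h0 | h0
    · exact absurd h0 hψa₂
    · exact (sub_eq_zero.mp h0).symm

set_option maxHeartbeats 1600000 in
/-- **EGA II 7.3.x**. -/
theorem isIso_of_isClosedMap (A : Type u) [CommRing A] [IsDomain A] [ValuationRing A]
    (X : Scheme.{u}) [IsIntegral X] [X.IsSeparated] (f : X ⟶ Spec (CommRingCat.of A))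
    (hf : IsClosedMap f.base)
    (x : X) (hx : f.base ⁻¹' {genericPoint (Spec (CommRingCat.of A))} = {x})
    (hres : Function.Bijective (f.residueFieldMap x).hom) : IsIso f := by
  have hgenY0 : ∀ t : Spec (CommRingCat.of A), genericPoint (Spec (CommRingCat.of A)) ⤳ t :=
    fun t => (genericPoint_spec (Spec (CommRingCat.of A))).specializes (Set.mem_univ t)
  revert hx
  generalize hη : genericPoint (Spec (CommRingCat.of A)) = η at hgenY0
  intro hx
  let Y : Scheme.{u} := Spec (CommRingCat.of A)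
  have hgenY : ∀ t : Y, η ⤳ t := hgenY0
  have hgenX : ∀ t : X, genericPoint X ⤳ t :=
    fun t => (genericPoint_spec X).specializes (Set.mem_univ t)
  have hfx : f.base x = η := by
    have : x ∈ f.base ⁻¹' {η} := by rw [hx]; rfl
    exact this
  -- Step a: `x` is the generic point of `X`
  obtain rfl : x = genericPoint X := by
    have h1 : f.base (genericPoint X) ⤳ η := by
      rw [← hfx]
      exact (hgenX x).map f.continuous
    have h2 : f.base (genericPoint X) = η := (h1.antisymm (hgenY _)).eq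
    have h3 : genericPoint X ∈ f.base ⁻¹' {η} := h2
    rw [hx] at h3
    exact h3.symm
  -- Step b: a point over the closed point
  obtain ⟨z, hz⟩ : ∃ z : X, f.base z = IsLocalRing.closedPoint A := by
    have hcl : IsClosed (Set.range f.base) := hf.isClosed_range
    have h1 : η ∈ Set.range f.base := ⟨_, hfx⟩
    have h2 : IsLocalRing.closedPoint A ∈ closure ({η} : Set Y) :=
      specializes_iff_mem_closure.mp (hgenY _)
    exact closure_minimal (Set.singleton_subset_iff.mpr h1) hcl h2
  -- Step c: the ring map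
  let B := X.presheaf.stalk z
  let ψΓ : Γ(Y, ⊤) ⟶ B := f.appTop ≫ X.presheaf.germ ⊤ z trivial
  let ψ : CommRingCat.of A ⟶ B := (Scheme.ΓSpecIso (CommRingCat.of A)).inv ≫ ψΓ
  have hψ : Spec.map ψ = X.fromSpecStalk z ≫ f := by
    have h1 : X.fromSpecStalk z ≫ f ≫ Y.toSpecΓ = Spec.map ψΓ := by
      rw [Scheme.toSpecΓ_naturality, Scheme.fromSpecStalk_toSpecΓ_assoc, ← Spec.map_comp]
    have h2 : Y.toSpecΓ ≫ Spec.map (Scheme.ΓSpecIso (CommRingCat.of A)).inv = 𝟙 _ :=
      toSpecΓ_SpecMap_ΓSpecIso_inv _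
    calc Spec.map ψ = Spec.map ψΓ ≫ Spec.map (Scheme.ΓSpecIso (CommRingCat.of A)).inv :=
          Spec.map_comp _ _
      _ = X.fromSpecStalk z ≫ f ≫ (Y.toSpecΓ ≫
            Spec.map (Scheme.ΓSpecIso (CommRingCat.of A)).inv) := by
          rw [← h1, Category.assoc, Category.assoc]
      _ = X.fromSpecStalk z ≫ f := by rw [h2, Category.comp_id]
  -- the generic point of `Spec B`
  let βB : Spec B := ⟨⊥, Ideal.isPrime_bot⟩
  have hβB : (X.fromSpecStalk z).base βB = genericPoint X := by
    have h1 : genericPoint X ∈ Set.range (X.fromSpecStalk z).base := by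
      rw [Scheme.range_fromSpecStalk]
      exact hgenX z
    obtain ⟨p, hp⟩ := h1
    have h2 : βB ⤳ p := by
      refine (PrimeSpectrum.le_iff_specializes (R := B) βB p).mp ?_
      change (⊥ : Ideal B) ≤ p.asIdeal
      exact bot_le
    have h3 := h2.map (X.fromSpecStalk z).continuous
    rw [hp] at h3
    exact (h3.antisymm (hgenX _)).eq
  have hηbot : η = (⟨⊥, Ideal.isPrime_bot⟩ : PrimeSpectrum A) :=
    hη ▸ genericPoint_eq_bot_of_affine (CommRingCat.of A)
  have hψβ : (Spec.map ψ).base βB = η := by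
    rw [hψ, Scheme.Hom.comp_apply, hβB, hfx]
  have hinj : Function.Injective ψ.hom := by
    rw [RingHom.injective_iff_ker_eq_bot, RingHom.ker_eq_comap_bot]
    have h1 : ((Spec.map ψ).base βB).asIdeal = (⊥ : Ideal A) := by
      rw [hψβ, hηbot]
    exact h1
  have hloc : ∀ a, IsUnit (ψ.hom a) → IsUnit a := by
    intro a ha
    have h1 : (Spec.map ψ).base (IsLocalRing.closedPoint B) = IsLocalRing.closedPoint A := by
      rw [hψ, Scheme.Hom.comp_apply, Scheme.fromSpecStalk_closedPoint, hz]
    have h2 : Ideal.comap ψ.hom (IsLocalRing.maximalIdeal B) = IsLocalRing.maximalIdeal A :=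
      congrArg PrimeSpectrum.asIdeal h1
    by_contra hna
    have h3 : a ∈ IsLocalRing.maximalIdeal A := (IsLocalRing.mem_maximalIdeal a).mpr hna
    rw [← h2, Ideal.mem_comap] at h3
    exact (IsLocalRing.mem_maximalIdeal _).mp h3 ha
  -- birationality
  let sp : B ⟶ X.presheaf.stalk (genericPoint X) := X.presheaf.stalkSpecializes (hgenX z)
  let ρ : B ⟶ X.residueField (genericPoint X) := sp ≫ X.residue (genericPoint X)
  have hρinj : Function.Injective ρ.hom := by
    have h1 : Function.Injective sp.hom :=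
      IsFractionRing.injective (X.presheaf.stalk z) X.functionField
    have h2 : Function.Injective (X.residue (genericPoint X)).hom :=
      RingHom.injective (X.residue (genericPoint X)).hom
    exact h2.comp h1
  have hρψ : ψΓ ≫ ρ = Y.Γevaluation (f.base (genericPoint X)) ≫
      f.residueFieldMap (genericPoint X) := by
    rw [Scheme.Γevaluation_naturality]
    change (f.appTop ≫ X.presheaf.germ ⊤ z trivial) ≫ sp ≫ X.residue (genericPoint X) = _
    rw [Category.assoc, ← Category.assoc (X.presheaf.germ ⊤ z trivial),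
      X.presheaf.germ_stalkSpecializes]
    rfl
  have hbir : ∀ b : B, ∃ a₁ a₂ : A, a₂ ≠ 0 ∧ ψ.hom a₂ * b = ψ.hom a₁ := by
    intro b
    obtain ⟨c, hc⟩ := hres.2 (ρ.hom b)
    obtain ⟨t, rfl⟩ := Y.residue_surjective (f.base (genericPoint X)) c
    have hU : IsAffineOpen (⊤ : Y.Opens) := isAffineOpen_top Y
    let y' : (⊤ : Y.Opens) := ⟨f.base (genericPoint X), trivial⟩
    letI := Y.presheaf.algebra_section_stalk y'
    have hloc' := hU.isLocalization_stalk y'
    obtain ⟨⟨g₁, g₂⟩, hg⟩ := IsLocalization.surj (hU.primeIdealOf y').asIdeal.primeCompl t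
    have hg₂ : (g₂ : Γ(Y, ⊤)) ≠ 0 := by
      intro h0
      exact g₂.2 (by rw [h0]; exact zero_mem _)
    -- `hg : t * germ g₂ = germ g₁`
    have hg' : t * (Y.presheaf.germ ⊤ (f.base (genericPoint X)) trivial).hom g₂ =
        (Y.presheaf.germ ⊤ (f.base (genericPoint X)) trivial).hom g₁ := hg
    have hev : ∀ g : Γ(Y, ⊤), ρ.hom (ψΓ.hom g) =
        (f.residueFieldMap (genericPoint X)).hom ((Y.residue (f.base (genericPoint X))).hom
          ((Y.presheaf.germ ⊤ (f.base (genericPoint X)) trivial).hom g)) := by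
      intro g
      have := congrArg (fun φ => φ.hom g) hρψ
      exact this
    have hkey : ρ.hom (ψΓ.hom g₂ * b) = ρ.hom (ψΓ.hom g₁) := by
      rw [map_mul, hev, hev, ← hc, ← map_mul, ← map_mul, mul_comm, hg']
    have hkey' : ψΓ.hom g₂ * b = ψΓ.hom g₁ := hρinj hkey
    refine ⟨(Scheme.ΓSpecIso (CommRingCat.of A)).hom.hom g₁,
      (Scheme.ΓSpecIso (CommRingCat.of A)).hom.hom g₂, ?_, ?_⟩
    · intro h0
      apply hg₂
      have hi : Function.Injective (Scheme.ΓSpecIso (CommRingCat.of A)).hom.hom :=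
        (ConcreteCategory.bijective_of_isIso (Scheme.ΓSpecIso (CommRingCat.of A)).hom).1
      exact hi (by rw [h0, map_zero])
    · have hinv : ∀ g : Γ(Y, ⊤), ψ.hom ((Scheme.ΓSpecIso (CommRingCat.of A)).hom.hom g) =
          ψΓ.hom g := by
        intro g
        change ((Scheme.ΓSpecIso (CommRingCat.of A)).hom ≫
          (Scheme.ΓSpecIso (CommRingCat.of A)).inv ≫ ψΓ).hom g = _
        rw [Iso.hom_inv_id_assoc]
      rw [hinv, hinv]
      exact hkey'
  have hsurj : Function.Surjective ψ.hom :=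
    surjective_of_valuationRing ψ.hom hinj hloc hbir
  haveI : IsIso ψ := (ConcreteCategory.isIso_iff_bijective ψ).mpr ⟨hinj, hsurj⟩
  -- Step d: the section
  let σ : Y ⟶ X := inv (Spec.map ψ) ≫ X.fromSpecStalk z
  have hσf : σ ≫ f = 𝟙 Y := by
    change (inv (Spec.map ψ) ≫ X.fromSpecStalk z) ≫ f = 𝟙 Y
    rw [Category.assoc, ← hψ, IsIso.inv_hom_id]
  haveI : IsSeparated f := by
    have h1 : f ≫ terminal.from Y = terminal.from X := terminal.comp_from f
    haveI : IsSeparated (f ≫ terminal.from Y) := by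
      rw [h1]
      infer_instance
    exact IsSeparated.of_comp f (terminal.from Y)
  haveI : IsClosedImmersion (σ ≫ f) := by
    rw [hσf]
    infer_instance
  haveI : IsClosedImmersion σ := IsClosedImmersion.of_comp σ f
  haveI : Surjective σ := by
    constructor
    have hcl : IsClosed (Set.range σ.base) := σ.isClosedEmbedding.isClosed_range
    have h1 : genericPoint X ∈ Set.range σ.base := by
      refine ⟨(Spec.map ψ).base βB, ?_⟩
      change (inv (Spec.map ψ) ≫ X.fromSpecStalk z).base ((Spec.map ψ).base βB) = _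
      rw [← Scheme.Hom.comp_apply, IsIso.hom_inv_id_assoc]
      exact hβB
    intro t
    have h2 : t ∈ closure ({genericPoint X} : Set X) :=
      specializes_iff_mem_closure.mp (hgenX t)
    exact closure_minimal (Set.singleton_subset_iff.mpr h1) hcl h2
  haveI : IsIso σ := isIso_of_isClosedImmersion_of_surjective σ
  have hfσ : f = inv σ := by
    rw [← Category.id_comp f, ← IsIso.inv_hom_id σ, Category.assoc, hσf, Category.comp_id]
  rw [hfσ]
  infer_instance

end Groth.Agent.Helper4.ValIso
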