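import Mathlib

/-!
# Sections of a closed separated morphism to the spectrum of a valuation ring (helper4)
-/

set_option autoImplicit false
universe u
open CategoryTheory CategoryTheory.Limits AlgebraicGeometry

namespace Groth.Agent.Helper4.ValSec

set_option maxHeartbeats 800000 in
theorem exists_section (A : Type u) [CommRing A] [IsDomain A] [ValuationRing A] (K : Type u)
    [Field K] [Algebra A K] [IsFractionRing A K] (X : Scheme.{u})
    (f : X ⟶ Spec (CommRingCat.of A)) (hf : IsClosedMap f.base)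
    (x : Spec (CommRingCat.of K) ⟶ X)
    (hx : x ≫ f = Spec.map (CommRingCat.ofHom (algebraMap A K))) :
    ∃ s : Spec (CommRingCat.of A) ⟶ X, s ≫ f = 𝟙 _ ∧
      Spec.map (CommRingCat.ofHom (algebraMap A K)) ≫ s = x := by
  let Y : Scheme.{u} := Spec (CommRingCat.of A)
  let pt : Spec (CommRingCat.of K) := IsLocalRing.closedPoint K
  let ξ : X := x.base pt
  let η : Y := (⟨⊥, Ideal.isPrime_bot⟩ : PrimeSpectrum A)
  have hinjAK : Function.Injective (algebraMap A K) := IsFractionRing.injective A K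
  have hfξ : f.base ξ = η := by
    have h1 : (x ≫ f).base pt = (Spec.map (CommRingCat.ofHom (algebraMap A K))).base pt := by
      rw [hx]
    have h2 : (Spec.map (CommRingCat.ofHom (algebraMap A K))).base pt = η := by
      apply PrimeSpectrum.ext
      change Ideal.comap (algebraMap A K) (IsLocalRing.maximalIdeal K) = ⊥
      rw [IsLocalRing.maximalIdeal_eq_bot, ← RingHom.ker_eq_comap_bot,
        (RingHom.injective_iff_ker_eq_bot _).mp hinjAK]
    rw [← h2, ← h1]; rfl
  have hη : ∀ t : Y, η ⤳ t := by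
    intro t
    refine (PrimeSpectrum.le_iff_specializes (R := A) η t).mp ?_
    change (⊥ : Ideal A) ≤ t.asIdeal
    exact bot_le
  obtain ⟨z, hξz, hz⟩ : ∃ z : X, ξ ⤳ z ∧ f.base z = IsLocalRing.closedPoint A := by
    have hcl : IsClosed (f.base '' closure {ξ}) := hf _ isClosed_closure
    have h1 : η ∈ f.base '' closure {ξ} := ⟨ξ, subset_closure rfl, hfξ⟩
    have h2 : IsLocalRing.closedPoint A ∈ closure ({η} : Set Y) :=
      specializes_iff_mem_closure.mp (hη _)
    obtain ⟨z, hz1, hz2⟩ := closure_minimal (Set.singleton_subset_iff.mpr h1) hcl h2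
    exact ⟨z, specializes_iff_mem_closure.mpr hz1, hz2⟩
  let B := X.presheaf.stalk z
  let ψΓ : Γ(Y, ⊤) ⟶ B := f.appTop ≫ X.presheaf.germ ⊤ z trivial
  let ψ : CommRingCat.of A ⟶ B := (Scheme.ΓSpecIso (CommRingCat.of A)).inv ≫ ψΓ
  have hψ : Spec.map ψ = X.fromSpecStalk z ≫ f := by
    have h1 : X.fromSpecStalk z ≫ f ≫ Y.toSpecΓ = Spec.map ψΓ := by
      rw [Scheme.toSpecΓ_naturality, Scheme.fromSpecStalk_toSpecΓ_assoc, ← Spec.map_comp]
    have h2 : Y.toSpecΓ ≫ Spec.map (Scheme.ΓSpecIso (CommRingCat.of A)).inv = 𝟙 _ :=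
      toSpecΓ_SpecMap_ΓSpecIso_inv _
    calc Spec.map ψ = Spec.map ψΓ ≫ Spec.map (Scheme.ΓSpecIso (CommRingCat.of A)).inv :=
          Spec.map_comp _ _
      _ = X.fromSpecStalk z ≫ f ≫ (Y.toSpecΓ ≫
            Spec.map (Scheme.ΓSpecIso (CommRingCat.of A)).inv) := by
          rw [← h1, Category.assoc, Category.assoc]
      _ = X.fromSpecStalk z ≫ f := by rw [h2, Category.comp_id]
  let θ : B ⟶ CommRingCat.of K := X.presheaf.stalkSpecializes hξz ≫ Scheme.stalkClosedPointTo x
  have hθ : Spec.map θ ≫ X.fromSpecStalk z = x := by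
    rw [Spec.map_comp, Category.assoc, Scheme.SpecMap_stalkSpecializes_fromSpecStalk,
      Scheme.Spec_stalkClosedPointTo_fromSpecStalk]
  have hψθ : ψ ≫ θ = CommRingCat.ofHom (algebraMap A K) := by
    apply Spec.map_injective
    rw [Spec.map_comp, hψ, ← Category.assoc, hθ, hx]
  have hψθ' : ∀ a : A, θ.hom (ψ.hom a) = algebraMap A K a := fun a => congr($(hψθ).hom a)
  have hloc : ∀ a, IsUnit (ψ.hom a) → IsUnit a := by
    intro a ha
    have h1 : (Spec.map ψ).base (IsLocalRing.closedPoint B) = IsLocalRing.closedPoint A := by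
      rw [hψ]
      change f.base ((X.fromSpecStalk z).base _) = _
      rw [Scheme.fromSpecStalk_closedPoint, hz]
    have h2 : Ideal.comap ψ.hom (IsLocalRing.maximalIdeal B) = IsLocalRing.maximalIdeal A :=
      congrArg PrimeSpectrum.asIdeal h1
    by_contra hna
    have h3 : a ∈ IsLocalRing.maximalIdeal A := (IsLocalRing.mem_maximalIdeal a).mpr hna
    rw [← h2, Ideal.mem_comap] at h3
    exact (IsLocalRing.mem_maximalIdeal _).mp h3 ha
  have key : ∀ b : B, ∃ a : A, algebraMap A K a = θ.hom b := by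
    intro b
    rcases ValuationRing.isInteger_or_isInteger A (θ.hom b) with ⟨a, ha⟩ | ⟨a, ha⟩
    · exact ⟨a, ha⟩
    · by_cases hk : θ.hom b = 0
      · exact ⟨0, by rw [map_zero, hk]⟩
      · by_cases hau : IsUnit a
        · obtain ⟨u, rfl⟩ := hau
          refine ⟨((u⁻¹ : Aˣ) : A), ?_⟩
          have h1 : algebraMap A K (u : A) * algebraMap A K ((u⁻¹ : Aˣ) : A) = 1 := by
            rw [← map_mul, Units.mul_inv, map_one]
          have h2 : algebraMap A K (u : A) * θ.hom b = 1 := by
            rw [ha]; exact inv_mul_cancel₀ hk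
          have h3 : algebraMap A K (u : A) ≠ 0 := left_ne_zero_of_mul_eq_one h2
          exact mul_left_cancel₀ h3 (h1.trans h2.symm)
        · exfalso
          have h1 : θ.hom (ψ.hom a * b) = 1 := by
            rw [map_mul, hψθ', ha]; exact inv_mul_cancel₀ hk
          have h2 : ψ.hom a * b - 1 ∈ RingHom.ker θ.hom := by
            rw [RingHom.mem_ker, map_sub, h1, map_one, sub_self]
          have h3 : RingHom.ker θ.hom ≤ IsLocalRing.maximalIdeal B :=
            IsLocalRing.le_maximalIdeal (RingHom.ker_ne_top _)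
          have h4 : ψ.hom a ∈ IsLocalRing.maximalIdeal B :=
            (IsLocalRing.mem_maximalIdeal _).mpr fun hu => hau (hloc a hu)
          have h5 : ψ.hom a * b ∈ IsLocalRing.maximalIdeal B := Ideal.mul_mem_right _ _ h4
          have h6 : (1 : B) ∈ IsLocalRing.maximalIdeal B := by
            have := Ideal.sub_mem _ h5 (h3 h2)
            simpa using this
          exact (IsLocalRing.mem_maximalIdeal _).mp h6 isUnit_one
  choose σf hσf using key
  let σ : B →+* A :=
    { toFun := σf
      map_one' := hinjAK (by rw [hσf, map_one, map_one])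
      map_mul' := fun a b => hinjAK (by rw [hσf, map_mul, map_mul, hσf, hσf])
      map_zero' := hinjAK (by rw [hσf, map_zero, map_zero])
      map_add' := fun a b => hinjAK (by rw [hσf, map_add, map_add, hσf, hσf]) }
  let σc : B ⟶ CommRingCat.of A := CommRingCat.ofHom σ
  have hσ1 : ψ ≫ σc = 𝟙 _ := by
    ext a
    apply hinjAK
    change algebraMap A K (σf (ψ.hom a)) = algebraMap A K a
    rw [hσf, hψθ']
  have hσ2 : σc ≫ CommRingCat.ofHom (algebraMap A K) = θ := by
    ext b
    exact hσf b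
  refine ⟨Spec.map σc ≫ X.fromSpecStalk z, ?_, ?_⟩
  · rw [Category.assoc, ← hψ, ← Spec.map_comp, hσ1, Spec.map_id]
  · rw [← Category.assoc, ← Spec.map_comp, hσ2, hθ]

theorem existsUnique_section (A : Type u) [CommRing A] [IsDomain A] [ValuationRing A]
    (K : Type u) [Field K] [Algebra A K] [IsFractionRing A K] (X : Scheme.{u})
    (f : X ⟶ Spec (CommRingCat.of A)) [IsSeparated f] (hf : IsClosedMap f.base)
    (x : Spec (CommRingCat.of K) ⟶ X)
    (hx : x ≫ f = Spec.map (CommRingCat.ofHom (algebraMap A K))) :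
    ∃! s : Spec (CommRingCat.of A) ⟶ X, s ≫ f = 𝟙 _ ∧
      Spec.map (CommRingCat.ofHom (algebraMap A K)) ≫ s = x := by
  obtain ⟨s, hs1, hs2⟩ := exists_section A K X f hf x hx
  refine ⟨s, ⟨hs1, hs2⟩, ?_⟩
  rintro s' ⟨hs1', hs2'⟩
  let S : ValuativeCommSq f :=
    { R := A, K := K, i₁ := x, i₂ := 𝟙 _, commSq := ⟨by rw [hx, Category.comp_id]⟩ }
  have hsub : Subsingleton S.commSq.LiftStruct := IsSeparated.valuativeCriterion f S
  let l : S.commSq.LiftStruct := ⟨s, hs2, hs1⟩
  let l' : S.commSq.LiftStruct := ⟨s', hs2', hs1'⟩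
  have : l' = l := Subsingleton.elim _ _
  exact congrArg CommSq.LiftStruct.l this

end Groth.Agent.Helper4.ValSec
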