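import Mathlib
import Groth.Agent.Lib.Helper4.HopfH0
import Groth.Agent.Lib.Helper4.IntNumBC
import Groth.Agent.Lib.Helper13.TensorPow
import Groth.Agent.Lib.Helper13.InvTensor
import Groth.Agent.Lib.Helper13.IntInv

/-!
# `h⁰(A) ≤ h⁰(A ⊗ B)` when `B` has a nonzero section, on an integral proper scheme (helper4)

Multiplication by a nonzero section of a finite locally free module `B` on an integral scheme is
injective on the global sections of a finite locally free module `A`.
-/

set_option autoImplicit false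
universe u
open CategoryTheory CategoryTheory.Limits AlgebraicGeometry Opposite TopologicalSpace TensorProduct
open Groth.Agent.Helper13.Tensor Groth.Agent.Helper13.FieldBC Groth.Agent.Helper4.HopfH0

namespace Groth.Agent.Helper4.VolMono

variable {X : Scheme.{u}}

/-- the tensor powers of an invertible module with a nonzero section on an integral scheme have
nonzero sections. -/
theorem exists_section_tensorPow_ne_zero [IsIntegral X] (E : X.Modules) (hE : PicF.IsInvertible E)
    (s : Coh.structureModule X ⟶ E) (hs : s ≠ 0) (m : ℕ) :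
    ∃ σ : Γ(CohB1.tensorPow E m, ⊤), σ ≠ 0 := by
  induction m with
  | zero =>
    exact ⟨Groth.Agent.Helper13.GenLoc.sec (Coh.structureModule X) (𝟙 _),
      Groth.Agent.Helper13.IntInv.sec_ne_zero _ _
        (fun h => hs (by rw [← Category.id_comp s, h, zero_comp]))⟩
  | succ n ih =>
    obtain ⟨σ, hσ⟩ := ih
    refine ⟨tmul (CohB1.tensorPow E n) E σ (Groth.Agent.Helper13.GenLoc.sec E s), fun h => ?_⟩
    rcases tmul_eq_zero _ _
      (isFinLocFree_of_isInvertible _ (Groth.Agent.Helper13.Inv.isInvertible_tensorPow E hE n))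
      (isFinLocFree_of_isInvertible _ hE) _ _ h with h1 | h1
    · exact hσ h1
    · exact Groth.Agent.Helper13.IntInv.sec_ne_zero E s hs h1

/-- `h⁰(A) ≤ h⁰(A ⊗ B)` if `B` has a nonzero section. -/
theorem finrank_h0_le_tensor (k : Type u) [Field k] (X : Scheme.{u})
    [X.Over (Spec (CommRingCat.of k))] [IsIntegral X] [IsProper (X ↘ (Spec (CommRingCat.of k)))]
    (A B : X.Modules) (hA : FlatMod.IsFinLocFree A) (hB : FlatMod.IsFinLocFree B)
    (σ : Γ(B, ⊤)) (hσ : σ ≠ 0) :
    Module.finrank k (Coh.HH X A 0) ≤ Module.finrank k (Coh.HH X (CohB1.tensorMod A B) 0) := by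
  have := Groth.Agent.Helper13.FinProj.finite_HH_of_isProper k X (CohB1.tensorMod A B)
    (Groth.Agent.Helper9.ResVan.isCoh_of_isFinLocFree _
      (Groth.Agent.Helper13.TensorFinLocFree.isFinLocFree_tensorMod A B hA hB)) 0
  refine LinearMap.finrank_le_finrank_of_injective (f := (mulH0 k A B).flip ((E B).symm σ)) ?_
  rw [injective_iff_map_eq_zero]
  intro x hx
  have hx' : mulH0 k A B x ((E B).symm σ) = 0 := hx
  rw [mulH0_apply, AddEquiv.apply_symm_apply] at hx'
  have h' : tmul A B (E A x) σ = 0 := by
    have := congrArg (E (CohB1.tensorMod A B)) hx'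
    rwa [AddEquiv.apply_symm_apply, map_zero] at this
  rcases tmul_eq_zero A B hA hB _ _ h' with h2 | h2
  · exact (E A).injective (h2.trans (map_zero _).symm)
  · exact absurd h2 hσ

/-- `h⁰(L^m) ≤ h⁰((L ⊗ E)^m)` if `E` has a nonzero section. -/
theorem finrank_h0_pow_le (k : Type u) [Field k] (X : Scheme.{u})
    [X.Over (Spec (CommRingCat.of k))] [IsIntegral X] [IsProper (X ↘ (Spec (CommRingCat.of k)))]
    (L : X.Modules) (hL : PicF.IsInvertible L)
    (E : X.Modules) (hE : PicF.IsInvertible E) (s : Coh.structureModule X ⟶ E) (hs : s ≠ 0)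
    (m : ℕ) :
    Module.finrank k (Coh.HH X (CohB1.tensorPow L m) 0) ≤
      Module.finrank k (Coh.HH X (CohB1.tensorPow (CohB1.tensorMod L E) m) 0) := by
  obtain ⟨σ, hσ⟩ := exists_section_tensorPow_ne_zero E hE s hs m
  rw [(Groth.Agent.Helper4.IntNumBC.HHequiv k (powTensor L E m) 0).finrank_eq]
  exact finrank_h0_le_tensor k X _ _
    (isFinLocFree_of_isInvertible _ (Groth.Agent.Helper13.Inv.isInvertible_tensorPow L hL m))
    (isFinLocFree_of_isInvertible _ (Groth.Agent.Helper13.Inv.isInvertible_tensorPow E hE m)) σ hσ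

end Groth.Agent.Helper4.VolMono
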