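import Mathlib
import Groth.Agent.Lib.Helper14.WeilConnDef
import Groth.Agent.Lib.Helper4.LiftArtinian
import Groth.Agent.Lib.Helper6.AlgHomACF

/-!
# A formally smooth nonempty affine `k'`-scheme has a `k' ⊗[k] K`-point (helper4, for helper14)
-/

set_option autoImplicit false

universe u

open TensorProduct Groth.Agent.Helper14.WeilConn

namespace Groth.Agent.Helper4.WeilConnPt

section Tensor

variable (k k' K : Type u) [Field k] [Field k'] [Field K] [Algebra k k'] [Algebra k K]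

/-- `k' ⊗[k] K` is Artinian for `k'` finite over `k`. -/
theorem isArtinianRing_tensor [Module.Finite k k'] : IsArtinianRing (k' ⊗[k] K) := by
  let e : (K ⊗[k] k') ≃ₐ[k] (k' ⊗[k] K) := Algebra.TensorProduct.comm k K k'
  have : IsArtinianRing (K ⊗[k] k') := IsArtinianRing.of_finite K _
  exact Function.Surjective.isArtinianRing (f := (e : (K ⊗[k] k') →+* (k' ⊗[k] K))) e.surjective

theorem nontrivial_tensor : Nontrivial (k' ⊗[k] K) :=
  (Algebra.TensorProduct.includeRight_injective (R := k) (A := k') (B := K)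
    (algebraMap k k').injective).nontrivial

/-- the residue fields of `k' ⊗[k] K` are algebraically closed if `K` is. -/
theorem isAlgClosed_quotient [IsAlgClosed K] [Module.Finite k k'] (n : Ideal (k' ⊗[k] K))
    [n.IsMaximal] : @IsAlgClosed ((k' ⊗[k] K) ⧸ n) (Ideal.Quotient.field n) := by
  letI := Ideal.Quotient.field n
  let e : (K ⊗[k] k') ≃ₐ[k] (k' ⊗[k] K) := Algebra.TensorProduct.comm k K k'
  let q : (K ⊗[k] k') →+* (k' ⊗[k] K) ⧸ n :=
    (Ideal.Quotient.mk n).comp (e : (K ⊗[k] k') →+* (k' ⊗[k] K))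
  have qsurj : Function.Surjective q := Ideal.Quotient.mk_surjective.comp e.surjective
  let ι : K →+* (k' ⊗[k] K) ⧸ n := q.comp (algebraMap K (K ⊗[k] k'))
  letI : Algebra K ((k' ⊗[k] K) ⧸ n) := ι.toAlgebra
  let qA : (K ⊗[k] k') →ₐ[K] (k' ⊗[k] K) ⧸ n := { q with commutes' := fun l => rfl }
  have : Algebra.IsIntegral K ((k' ⊗[k] K) ⧸ n) := ⟨fun x => by
    obtain ⟨y, rfl⟩ := qsurj x
    exact (Algebra.IsIntegral.isIntegral (R := K) y).map qA⟩
  have hbij := IsAlgClosed.algebraMap_bijective_of_isIntegral (k := K) (K := (k' ⊗[k] K) ⧸ n)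
  exact IsAlgClosed.of_ringEquiv (k := K) _ (RingEquiv.ofBijective _ hbij)

end Tensor

variable {k k' K C' : Type u} [Field k] [Field k'] [Field K] [CommRing C']
  [Algebra k k'] [Algebra k K] [Algebra k' C']

theorem nonempty_point [Module.Finite k k'] [IsAlgClosed K] [Algebra.FiniteType k' C']
    [Algebra.FormallySmooth k' C'] [Nontrivial C'] : Nonempty (C' →ₐ[k'] k' ⊗[k] K) := by
  haveI : IsArtinianRing (k' ⊗[k] K) := isArtinianRing_tensor k k' K
  haveI : Nontrivial (k' ⊗[k] K) := nontrivial_tensor k k' K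
  have hsurj : Function.Surjective (PrimeSpectrum.comap (algebraMap k' C')) := by
    intro p
    obtain ⟨q⟩ := (inferInstance : Nonempty (PrimeSpectrum C'))
    exact ⟨q, Subsingleton.elim _ _⟩
  have hpt : ∀ n : Ideal (k' ⊗[k] K), n.IsMaximal → Nonempty (C' →ₐ[k'] (k' ⊗[k] K) ⧸ n) := by
    intro n hn
    haveI := hn
    exact @Groth.Agent.Helper6.AlgHomACF.nonempty_algHom_of_comap_surjective k' C'
      ((k' ⊗[k] K) ⧸ n) _ _ (Ideal.Quotient.field n) (isAlgClosed_quotient k k' K n) _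
      inferInstance _ hsurj
  obtain ⟨n₀, hn₀⟩ := Ideal.exists_maximal (k' ⊗[k] K)
  haveI := hn₀
  obtain ⟨c₀⟩ := hpt n₀ hn₀
  obtain ⟨θ, -⟩ := Groth.Agent.Helper4.LiftArtinian.exists_lift_artinian k' C' (k' ⊗[k] K) n₀ c₀ hpt
  exact ⟨θ⟩

end Groth.Agent.Helper4.WeilConnPt
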